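import Cfsg.Agent.DCoset.Emit

/-! Data of the certificates for the third Conway group (generated). -/

set_option autoImplicit false
set_option maxRecDepth 100000
set_option linter.all false

namespace Cfsg.Agent.Co3Rec.Data

open Cfsg.Agent.CosetCert

/-- data -/
def ruleLetters : List ℕ := [13, 15, 17, 19, 14, 16, 18, 20]

/-- data -/
def relD : List (List (List ℕ)) := [[[8,10,7,10,10,10,7,7,7,7],[8,10]],[[10,8,8,8,10,10,8,10,7,7],[8,8,8,10]]]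

/-- data -/
def relTlD : List (List ℕ) := [[7,9,8,9,7,10,10,7],[8,10,8,10,8,8,10,7]]

/-- data -/
def nLetters : List ℕ := [7, 9, 33]

/-- data -/
def coWords : List (List ℕ) := [[0,33,0,0,1,0,0,33,0,33,0,2,0,1,0,2,2,33,0,33,0,2,33,0,1,1,1,33,1,1,1,0,2,33,0,1,0,1,33,0,33,2,0,1,33,0,33,2,0,1,33,0,33,2,33,0,1,0,2,0,33,0,1,0,33,1,0,2,2,0,33,0,33,2,33,2,0,2,33,0,2,2,0,2,2,33,0,2,33,1,0,33,0,33,2,33,1,33,0,33,0,2,0,33,2,0,2,2,33,1,1,0,1,33,0,2,2,0,33,0,33,1,0,2,0,1,33,1,33,0,33,1,0,2,2,33,1,0,1,0,33,1,0,2,33,1,0,2,0,1,1,1,0,2,0,2],[0,2,0,2,0,1,0,2,2,0,1,0,1,1,0,2,0,1,1,0,1,1,1,0,2,0,1,0,2,0,0,1,0,1,0,1,1,1,0,2,2,2,2,0,1,33,0,1,1,0,1,0,2,2,0,2,33,2,2,0,1,0,33,0,0,33,2,2,33,0,2,0,2,0,2,0,33,0,1,0,33,2,0,2,2,33,1,0,33,0,2,33,2,0,1,0,33,1,33,0,2,0,33,1,0,1,1,1,0,1,1,1,33,0,1,33,0,2,33,0,33,0,1,0,33,1,1,1,0,2,0,2,33,0,2,0,33,0,1,1,1,0,1,0,2,0,2,0,33,1,0,33,1,0,33,2,0,33,1,0,33,0,2,33,1,1,33,0,33,0,2,2]]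

end Cfsg.Agent.Co3Rec.Data
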