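import Cfsg.Agent.DCoset.Emit

/-! Data of the certificates for the third Conway group (generated). -/

set_option autoImplicit false
set_option maxRecDepth 100000
set_option linter.all false

namespace Cfsg.Agent.Co3Rec.Data

open Cfsg.Agent.CosetCert

/-- data -/
def pts : List ℕ := [65, 136, 232, 105, 196, 43, 100, 148]

/-- data -/
def fixA : List ℕ := [65, 76, 119, 136, 151, 155, 167, 237, 240, 256, 257, 263]

/-- data -/
def fixB : List ℕ := [13, 23, 100, 105, 124, 141, 148, 180, 211, 232, 251, 267]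

/-- data -/
def fixC : List ℕ := [6, 43, 66, 82, 120, 122, 125, 135, 164, 177, 196, 219]

/-- data -/
def masks : List ℕ := [0xfffffffffffffffffffffffffffffffffffffffffffffffffffffffffffffffffffff, 0xffffffffffffffffffffffffffffffffffffffffffffffffffffdffffffffffffffff, 0x47f202a901762566d62488c9d42016412b622901d9adcc06b88c0630244bb73842c3b, 0x46f202a90164256696008849400016412802290189adcc02308804000443251840c3b, 0x2480081900030220004108001008069202503000400080001800400234004, 0x80000000000, 0x1200200140040000000009400000000000010000890000000000000001011800c01, 0x10000000000000000000000000000000000000]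

/-- data -/
def lvGens0 : List ℕ := [1, 2, 64, 65, 66, 67, 68, 69, 70, 71, 72, 73, 74, 75, 76, 77]

def lvWords0_1 : Store := (.node 8 (.node 4 (.node 2 (.node 1 (.leaf 0x0) (.leaf 0x10001)) (.node 3 (.leaf 0x20001) (.leaf 0x1010002))) (.node 6 (.node 5 (.leaf 0x40010002) (.leaf 0x41010002)) (.node 7 (.leaf 0x42010002) (.leaf 0x43010002)))) (.node 12 (.node 10 (.node 9 (.leaf 0x45010002) (.leaf 0x46010002)) (.node 11 (.leaf 0x47010002) (.leaf 0x48010002))) (.node 14 (.node 13 (.leaf 0x49010002) (.leaf 0x4a010002)) (.node 15 (.leaf 0x4c010002) (.node 16 (.leaf 0x4d010002) (.leaf 0x2020002))))))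

def lvWords0_2 : Store := (.node 25 (.node 21 (.node 19 (.node 18 (.leaf 0x40020002) (.leaf 0x41020002)) (.node 20 (.leaf 0x42020002) (.leaf 0x43020002))) (.node 23 (.node 22 (.leaf 0x44020002) (.leaf 0x46020002)) (.node 24 (.leaf 0x47020002) (.leaf 0x48020002)))) (.node 29 (.node 27 (.node 26 (.leaf 0x49020002) (.leaf 0x4a020002)) (.node 28 (.leaf 0x4b020002) (.leaf 0x4c020002))) (.node 31 (.node 30 (.leaf 0x4d020002) (.leaf 0x101010003)) (.node 32 (.leaf 0x4001010003) (.node 33 (.leaf 0x4101010003) (.leaf 0x4201010003))))))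

def lvWords0_3 : Store := (.node 42 (.node 38 (.node 36 (.node 35 (.leaf 0x4301010003) (.leaf 0x4401010003)) (.node 37 (.leaf 0x4501010003) (.leaf 0x4601010003))) (.node 40 (.node 39 (.leaf 0x4701010003) (.leaf 0x4801010003)) (.node 41 (.leaf 0x4901010003) (.leaf 0x4d01010003)))) (.node 46 (.node 44 (.node 43 (.leaf 0x140010003) (.leaf 0x240010003)) (.node 45 (.leaf 0x4240010003) (.leaf 0x4340010003))) (.node 48 (.node 47 (.leaf 0x4440010003) (.leaf 0x4640010003)) (.node 49 (.leaf 0x4740010003) (.node 50 (.leaf 0x4a40010003) (.leaf 0x4b40010003))))))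

def lvWords0_4 : Store := (.node 60 (.node 55 (.node 53 (.node 52 (.leaf 0x4c40010003) (.leaf 0x4d40010003)) (.node 54 (.leaf 0x141010003) (.leaf 0x4241010003))) (.node 57 (.node 56 (.leaf 0x4341010003) (.leaf 0x4441010003)) (.node 58 (.leaf 0x4641010003) (.node 59 (.leaf 0x4841010003) (.leaf 0x4941010003))))) (.node 64 (.node 62 (.node 61 (.leaf 0x142010003) (.leaf 0x242010003)) (.node 63 (.leaf 0x4142010003) (.leaf 0x4242010003))) (.node 66 (.node 65 (.leaf 0x4642010003) (.leaf 0x4842010003)) (.node 67 (.leaf 0x4a42010003) (.node 68 (.leaf 0x4b42010003) (.leaf 0x4c42010003))))))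

def lvWords0_5 : Store := (.node 77 (.node 73 (.node 71 (.node 70 (.leaf 0x4d42010003) (.leaf 0x143010003)) (.node 72 (.leaf 0x243010003) (.leaf 0x4143010003))) (.node 75 (.node 74 (.leaf 0x4443010003) (.leaf 0x4543010003)) (.node 76 (.leaf 0x4643010003) (.leaf 0x4743010003)))) (.node 81 (.node 79 (.node 78 (.leaf 0x4b43010003) (.leaf 0x145010003)) (.node 80 (.leaf 0x245010003) (.leaf 0x4045010003))) (.node 83 (.node 82 (.leaf 0x4245010003) (.leaf 0x4345010003)) (.node 84 (.leaf 0x4745010003) (.node 85 (.leaf 0x4945010003) (.leaf 0x4a45010003))))))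

def lvWords0_6 : Store := (.node 94 (.node 90 (.node 88 (.node 87 (.leaf 0x4b45010003) (.leaf 0x4d45010003)) (.node 89 (.leaf 0x4046010003) (.leaf 0x4246010003))) (.node 92 (.node 91 (.leaf 0x4346010003) (.leaf 0x4446010003)) (.node 93 (.leaf 0x4546010003) (.leaf 0x4646010003)))) (.node 98 (.node 96 (.node 95 (.leaf 0x4846010003) (.leaf 0x4946010003)) (.node 97 (.leaf 0x4a46010003) (.leaf 0x4b46010003))) (.node 100 (.node 99 (.leaf 0x4c46010003) (.leaf 0x147010003)) (.node 101 (.leaf 0x247010003) (.node 102 (.leaf 0x4047010003) (.leaf 0x4147010003))))))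

def lvWords0_7 : Store := (.node 111 (.node 107 (.node 105 (.node 104 (.leaf 0x4247010003) (.leaf 0x4347010003)) (.node 106 (.leaf 0x4447010003) (.leaf 0x4547010003))) (.node 109 (.node 108 (.leaf 0x4747010003) (.leaf 0x4847010003)) (.node 110 (.leaf 0x4947010003) (.leaf 0x4a47010003)))) (.node 115 (.node 113 (.node 112 (.leaf 0x4b47010003) (.leaf 0x4c47010003)) (.node 114 (.leaf 0x4d47010003) (.leaf 0x148010003))) (.node 117 (.node 116 (.leaf 0x248010003) (.leaf 0x4348010003)) (.node 118 (.leaf 0x4548010003) (.node 119 (.leaf 0x4648010003) (.leaf 0x149010003))))))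

def lvWords0_8 : Store := (.node 129 (.node 124 (.node 122 (.node 121 (.leaf 0x249010003) (.leaf 0x4049010003)) (.node 123 (.leaf 0x4249010003) (.leaf 0x4349010003))) (.node 126 (.node 125 (.leaf 0x4449010003) (.leaf 0x4749010003)) (.node 127 (.leaf 0x4a49010003) (.node 128 (.leaf 0x14a010003) (.leaf 0x404a010003))))) (.node 133 (.node 131 (.node 130 (.leaf 0x464a010003) (.leaf 0x484a010003)) (.node 132 (.leaf 0x494a010003) (.leaf 0x4c4a010003))) (.node 135 (.node 134 (.leaf 0x4d4a010003) (.leaf 0x404c010003)) (.node 136 (.leaf 0x414c010003) (.node 137 (.leaf 0x474c010003) (.leaf 0x484c010003))))))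

def lvWords0_9 : Store := (.node 146 (.node 142 (.node 140 (.node 139 (.leaf 0x414d010003) (.leaf 0x424d010003)) (.node 141 (.leaf 0x444d010003) (.leaf 0x464d010003))) (.node 144 (.node 143 (.leaf 0x484d010003) (.leaf 0x4202020003)) (.node 145 (.leaf 0x4602020003) (.leaf 0x140020003)))) (.node 150 (.node 148 (.node 147 (.leaf 0x240020003) (.leaf 0x4340020003)) (.node 149 (.leaf 0x4540020003) (.leaf 0x4640020003))) (.node 152 (.node 151 (.leaf 0x4740020003) (.leaf 0x4840020003)) (.node 153 (.leaf 0x4a40020003) (.node 154 (.leaf 0x4b40020003) (.leaf 0x4c40020003))))))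

def lvWords0_10 : Store := (.node 163 (.node 159 (.node 157 (.node 156 (.leaf 0x4d40020003) (.leaf 0x141020003)) (.node 158 (.leaf 0x241020003) (.leaf 0x4241020003))) (.node 161 (.node 160 (.leaf 0x4341020003) (.leaf 0x4541020003)) (.node 162 (.leaf 0x4641020003) (.leaf 0x4941020003)))) (.node 167 (.node 165 (.node 164 (.leaf 0x4a41020003) (.leaf 0x4b41020003)) (.node 166 (.leaf 0x142020003) (.leaf 0x242020003))) (.node 169 (.node 168 (.leaf 0x4042020003) (.leaf 0x4142020003)) (.node 170 (.leaf 0x4242020003) (.node 171 (.leaf 0x4742020003) (.leaf 0x4942020003))))))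

def lvWords0_11 : Store := (.node 180 (.node 176 (.node 174 (.node 173 (.leaf 0x4d42020003) (.leaf 0x143020003)) (.node 175 (.leaf 0x243020003) (.leaf 0x4143020003))) (.node 178 (.node 177 (.leaf 0x4543020003) (.leaf 0x4643020003)) (.node 179 (.leaf 0x4743020003) (.leaf 0x4943020003)))) (.node 184 (.node 182 (.node 181 (.leaf 0x4c43020003) (.leaf 0x4d43020003)) (.node 183 (.leaf 0x4644020003) (.leaf 0x4744020003))) (.node 186 (.node 185 (.leaf 0x4844020003) (.leaf 0x4d44020003)) (.node 187 (.leaf 0x246020003) (.node 188 (.leaf 0x4346020003) (.leaf 0x247020003))))))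

def lvWords0_12 : Store := (.node 198 (.node 193 (.node 191 (.node 190 (.leaf 0x4047020003) (.leaf 0x4547020003)) (.node 192 (.leaf 0x4b47020003) (.leaf 0x4348020003))) (.node 195 (.node 194 (.leaf 0x4748020003) (.leaf 0x4a48020003)) (.node 196 (.leaf 0x4b48020003) (.node 197 (.leaf 0x4c48020003) (.leaf 0x14a020003))))) (.node 202 (.node 200 (.node 199 (.leaf 0x24a020003) (.leaf 0x424a020003)) (.node 201 (.leaf 0x434a020003) (.leaf 0x4c4a020003))) (.node 204 (.node 203 (.leaf 0x414b020003) (.leaf 0x444b020003)) (.node 205 (.leaf 0x474b020003) (.node 206 (.leaf 0x24c020003) (.leaf 0x414c020003))))))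

def lvWords0_13 : Store := (.node 215 (.node 211 (.node 209 (.node 208 (.leaf 0x424c020003) (.leaf 0x434c020003)) (.node 210 (.leaf 0x464c020003) (.leaf 0x4a4c020003))) (.node 213 (.node 212 (.leaf 0x4b4c020003) (.leaf 0x4c4c020003)) (.node 214 (.leaf 0x424d020003) (.leaf 0x474d020003)))) (.node 219 (.node 217 (.node 216 (.leaf 0x420101010004) (.leaf 0x450101010004)) (.node 218 (.leaf 0x4a0101010004) (.leaf 0x4c0101010004))) (.node 221 (.node 220 (.leaf 0x4d0101010004) (.leaf 0x434001010004)) (.node 222 (.leaf 0x474001010004) (.node 223 (.leaf 0x424101010004) (.leaf 0x464101010004))))))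

def lvWords0_14 : Store := (.node 232 (.node 228 (.node 226 (.node 225 (.leaf 0x474101010004) (.leaf 0x404201010004)) (.node 227 (.leaf 0x14301010004) (.leaf 0x494301010004))) (.node 230 (.node 229 (.leaf 0x464401010004) (.leaf 0x474401010004)) (.node 231 (.leaf 0x4c4401010004) (.leaf 0x24501010004)))) (.node 236 (.node 234 (.node 233 (.leaf 0x4c4501010004) (.leaf 0x4d4501010004)) (.node 235 (.leaf 0x14601010004) (.leaf 0x484601010004))) (.node 238 (.node 237 (.leaf 0x4b4601010004) (.leaf 0x24701010004)) (.node 239 (.leaf 0x424701010004) (.node 240 (.leaf 0x484701010004) (.leaf 0x494701010004))))))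

def lvWords0_15 : Store := (.node 249 (.node 245 (.node 243 (.node 242 (.leaf 0x4c4701010004) (.leaf 0x4a4d01010004)) (.node 244 (.leaf 0x460140010004) (.leaf 0x4b0140010004))) (.node 247 (.node 246 (.leaf 0x410240010004) (.leaf 0x450240010004)) (.node 248 (.leaf 0x4d4240010004) (.leaf 0x454340010004)))) (.node 253 (.node 251 (.node 250 (.leaf 0x14640010004) (.leaf 0x404640010004)) (.node 252 (.leaf 0x414640010004) (.leaf 0x424640010004))) (.node 255 (.node 254 (.leaf 0x454640010004) (.leaf 0x494640010004)) (.node 256 (.leaf 0x4c4640010004) (.node 257 (.leaf 0x404740010004) (.leaf 0x444740010004))))))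

def lvWords0_16 : Store := (.node 267 (.node 262 (.node 260 (.node 259 (.leaf 0x14b40010004) (.leaf 0x424b40010004)) (.node 261 (.leaf 0x474b40010004) (.leaf 0x4a4c40010004))) (.node 264 (.node 263 (.leaf 0x494d40010004) (.leaf 0x470141010004)) (.node 265 (.leaf 0x14341010004) (.node 266 (.leaf 0x494341010004) (.leaf 0x4a4341010004))))) (.node 271 (.node 269 (.node 268 (.leaf 0x494641010004) (.leaf 0x474242010004)) (.node 270 (.leaf 0x464842010004) (.leaf 0x4d4842010004))) (.node 273 (.node 272 (.leaf 0x440143010004) (.leaf 0x4c4143010004)) (.node 274 (.leaf 0x474245010004) (.node 275 (.leaf 0x14345010004) (.leaf 0x494d47010004))))))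

/-- data -/
def lvWords0 : Store := (.node 138 (.node 69 (.node 34 (.node 17 lvWords0_1 lvWords0_2) (.node 51 lvWords0_3 lvWords0_4)) (.node 103 (.node 86 lvWords0_5 lvWords0_6) (.node 120 lvWords0_7 lvWords0_8))) (.node 207 (.node 172 (.node 155 lvWords0_9 lvWords0_10) (.node 189 lvWords0_11 lvWords0_12)) (.node 241 (.node 224 lvWords0_13 lvWords0_14) (.node 258 lvWords0_15 lvWords0_16))))

/-- size -/
def lvSize0 : ℕ := 276

/-- data -/
def lvGens1 : List ℕ := [64, 65, 66, 67, 68, 69, 70, 71, 72, 73, 74, 75, 76, 77]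

def lvWords1_1 : Store := (.node 8 (.node 4 (.node 2 (.node 1 (.leaf 0x0) (.leaf 0x460001)) (.node 3 (.leaf 0x470001) (.leaf 0x40460002))) (.node 6 (.node 5 (.leaf 0x41460002) (.leaf 0x42460002)) (.node 7 (.leaf 0x43460002) (.leaf 0x46460002)))) (.node 12 (.node 10 (.node 9 (.leaf 0x48460002) (.leaf 0x49460002)) (.node 11 (.leaf 0x4b460002) (.leaf 0x4c460002))) (.node 14 (.node 13 (.leaf 0x4d460002) (.leaf 0x42470002)) (.node 15 (.leaf 0x43470002) (.node 16 (.leaf 0x45470002) (.leaf 0x47470002))))))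

def lvWords1_2 : Store := (.node 25 (.node 21 (.node 19 (.node 18 (.leaf 0x48470002) (.leaf 0x49470002)) (.node 20 (.leaf 0x4c470002) (.leaf 0x4d470002))) (.node 23 (.node 22 (.leaf 0x4040460003) (.leaf 0x4240460003)) (.node 24 (.leaf 0x4340460003) (.leaf 0x4540460003)))) (.node 29 (.node 27 (.node 26 (.leaf 0x4640460003) (.leaf 0x4740460003)) (.node 28 (.leaf 0x4840460003) (.leaf 0x4c40460003))) (.node 31 (.node 30 (.leaf 0x4d40460003) (.leaf 0x4241460003)) (.node 32 (.leaf 0x4641460003) (.node 33 (.leaf 0x4741460003) (.leaf 0x4b41460003))))))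

def lvWords1_3 : Store := (.node 42 (.node 38 (.node 36 (.node 35 (.leaf 0x4c41460003) (.leaf 0x4d41460003)) (.node 37 (.leaf 0x4242460003) (.leaf 0x4542460003))) (.node 40 (.node 39 (.leaf 0x4642460003) (.leaf 0x4742460003)) (.node 41 (.leaf 0x4a42460003) (.leaf 0x4b42460003)))) (.node 46 (.node 44 (.node 43 (.leaf 0x4c42460003) (.leaf 0x4d42460003)) (.node 45 (.leaf 0x4643460003) (.leaf 0x4743460003))) (.node 48 (.node 47 (.leaf 0x4c43460003) (.leaf 0x4046460003)) (.node 49 (.leaf 0x4246460003) (.node 50 (.leaf 0x4346460003) (.leaf 0x4546460003))))))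

def lvWords1_4 : Store := (.node 59 (.node 55 (.node 53 (.node 52 (.leaf 0x4646460003) (.leaf 0x4846460003)) (.node 54 (.leaf 0x4946460003) (.leaf 0x4c46460003))) (.node 57 (.node 56 (.leaf 0x4d46460003) (.leaf 0x4048460003)) (.node 58 (.leaf 0x4348460003) (.leaf 0x4648460003)))) (.node 63 (.node 61 (.node 60 (.leaf 0x4748460003) (.leaf 0x4d48460003)) (.node 62 (.leaf 0x4649460003) (.leaf 0x4749460003))) (.node 65 (.node 64 (.leaf 0x4d49460003) (.leaf 0x464b460003)) (.node 66 (.leaf 0x474b460003) (.node 67 (.leaf 0x4c4b460003) (.leaf 0x404c460003))))))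

def lvWords1_5 : Store := (.node 76 (.node 72 (.node 70 (.node 69 (.leaf 0x444c460003) (.leaf 0x454c460003)) (.node 71 (.leaf 0x464c460003) (.leaf 0x484c460003))) (.node 74 (.node 73 (.leaf 0x494c460003) (.leaf 0x4a4c460003)) (.node 75 (.leaf 0x4b4c460003) (.leaf 0x4c4c460003)))) (.node 80 (.node 78 (.node 77 (.leaf 0x404d460003) (.leaf 0x434d460003)) (.node 79 (.leaf 0x454d460003) (.leaf 0x464d460003))) (.node 82 (.node 81 (.leaf 0x484d460003) (.leaf 0x4a4d460003)) (.node 83 (.leaf 0x4d4d460003) (.node 84 (.leaf 0x4642470003) (.leaf 0x4842470003))))))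

def lvWords1_6 : Store := (.node 93 (.node 89 (.node 87 (.node 86 (.leaf 0x4c42470003) (.leaf 0x4543470003)) (.node 88 (.leaf 0x4643470003) (.leaf 0x4743470003))) (.node 91 (.node 90 (.leaf 0x4c43470003) (.leaf 0x4645470003)) (.node 92 (.leaf 0x4745470003) (.leaf 0x4c45470003)))) (.node 97 (.node 95 (.node 94 (.leaf 0x4d45470003) (.leaf 0x4047470003)) (.node 96 (.leaf 0x4447470003) (.leaf 0x4547470003))) (.node 99 (.node 98 (.leaf 0x4747470003) (.leaf 0x4847470003)) (.node 100 (.leaf 0x4947470003) (.node 101 (.leaf 0x4648470003) (.leaf 0x4748470003))))))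

def lvWords1_7 : Store := (.node 110 (.node 106 (.node 104 (.node 103 (.leaf 0x4d48470003) (.leaf 0x4649470003)) (.node 105 (.leaf 0x4d49470003) (.leaf 0x444c470003))) (.node 108 (.node 107 (.leaf 0x454c470003) (.leaf 0x464c470003)) (.node 109 (.leaf 0x494c470003) (.leaf 0x4a4c470003)))) (.node 114 (.node 112 (.node 111 (.leaf 0x4c4c470003) (.leaf 0x404d470003)) (.node 113 (.leaf 0x464d470003) (.leaf 0x474d470003))) (.node 116 (.node 115 (.leaf 0x4a4d470003) (.leaf 0x464040460004)) (.node 117 (.leaf 0x474040460004) (.node 118 (.leaf 0x4c4040460004) (.leaf 0x464240460004))))))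

def lvWords1_8 : Store := (.node 128 (.node 123 (.node 121 (.node 120 (.leaf 0x474240460004) (.leaf 0x4d4240460004)) (.node 122 (.leaf 0x4c4340460004) (.leaf 0x464540460004))) (.node 125 (.node 124 (.leaf 0x474540460004) (.leaf 0x404640460004)) (.node 126 (.leaf 0x424640460004) (.node 127 (.leaf 0x434640460004) (.leaf 0x444640460004))))) (.node 132 (.node 130 (.node 129 (.leaf 0x454640460004) (.leaf 0x484640460004)) (.node 131 (.leaf 0x4a4640460004) (.leaf 0x4b4640460004))) (.node 134 (.node 133 (.leaf 0x4c4640460004) (.leaf 0x404740460004)) (.node 135 (.leaf 0x424740460004) (.node 136 (.leaf 0x434740460004) (.leaf 0x444740460004))))))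

def lvWords1_9 : Store := (.node 145 (.node 141 (.node 139 (.node 138 (.leaf 0x484740460004) (.leaf 0x494740460004)) (.node 140 (.leaf 0x4a4740460004) (.leaf 0x4b4740460004))) (.node 143 (.node 142 (.leaf 0x4c4740460004) (.leaf 0x4d4740460004)) (.node 144 (.leaf 0x4c4840460004) (.leaf 0x414c40460004)))) (.node 149 (.node 147 (.node 146 (.leaf 0x444c40460004) (.leaf 0x454c40460004)) (.node 148 (.leaf 0x464c40460004) (.leaf 0x474c40460004))) (.node 151 (.node 150 (.leaf 0x484c40460004) (.leaf 0x494c40460004)) (.node 152 (.leaf 0x4b4c40460004) (.node 153 (.leaf 0x4c4c40460004) (.leaf 0x414d40460004))))))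

def lvWords1_10 : Store := (.node 162 (.node 158 (.node 156 (.node 155 (.leaf 0x464d40460004) (.leaf 0x474d40460004)) (.node 157 (.leaf 0x484d40460004) (.leaf 0x4d4d40460004))) (.node 160 (.node 159 (.leaf 0x474241460004) (.leaf 0x414641460004)) (.node 161 (.leaf 0x424641460004) (.leaf 0x464641460004)))) (.node 166 (.node 164 (.node 163 (.leaf 0x484641460004) (.leaf 0x4c4641460004)) (.node 165 (.leaf 0x4d4641460004) (.leaf 0x414741460004))) (.node 168 (.node 167 (.leaf 0x434741460004) (.leaf 0x454741460004)) (.node 169 (.leaf 0x494741460004) (.node 170 (.leaf 0x4a4741460004) (.leaf 0x4b4741460004))))))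

def lvWords1_11 : Store := (.node 179 (.node 175 (.node 173 (.node 172 (.leaf 0x4c4741460004) (.leaf 0x4d4741460004)) (.node 174 (.leaf 0x484c41460004) (.leaf 0x494c41460004))) (.node 177 (.node 176 (.leaf 0x4a4c41460004) (.leaf 0x434d41460004)) (.node 178 (.leaf 0x464d41460004) (.leaf 0x474d41460004)))) (.node 183 (.node 181 (.node 180 (.leaf 0x4d4d41460004) (.leaf 0x4c4242460004)) (.node 182 (.leaf 0x414642460004) (.leaf 0x454642460004))) (.node 185 (.node 184 (.leaf 0x484642460004) (.leaf 0x494642460004)) (.node 186 (.leaf 0x414742460004) (.node 187 (.leaf 0x424742460004) (.leaf 0x434742460004))))))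

def lvWords1_12 : Store := (.node 197 (.node 192 (.node 190 (.node 189 (.leaf 0x474742460004) (.leaf 0x4b4742460004)) (.node 191 (.leaf 0x4c4742460004) (.leaf 0x4d4742460004))) (.node 194 (.node 193 (.leaf 0x464a42460004) (.leaf 0x464b42460004)) (.node 195 (.leaf 0x474c42460004) (.node 196 (.leaf 0x484c42460004) (.leaf 0x444d42460004))))) (.node 201 (.node 199 (.node 198 (.leaf 0x464d42460004) (.leaf 0x4d4d42460004)) (.node 200 (.leaf 0x484643460004) (.leaf 0x4c4643460004))) (.node 203 (.node 202 (.leaf 0x444743460004) (.leaf 0x474743460004)) (.node 204 (.leaf 0x494743460004) (.node 205 (.leaf 0x4b4743460004) (.leaf 0x4d4743460004))))))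

def lvWords1_13 : Store := (.node 214 (.node 210 (.node 208 (.node 207 (.leaf 0x404c43460004) (.leaf 0x424c43460004)) (.node 209 (.leaf 0x494c43460004) (.leaf 0x4c4c43460004))) (.node 212 (.node 211 (.leaf 0x4d4046460004) (.leaf 0x4a4246460004)) (.node 213 (.leaf 0x4c4246460004) (.leaf 0x4d4246460004)))) (.node 218 (.node 216 (.node 215 (.leaf 0x404346460004) (.leaf 0x444346460004)) (.node 217 (.leaf 0x464346460004) (.leaf 0x484346460004))) (.node 220 (.node 219 (.leaf 0x494346460004) (.leaf 0x404546460004)) (.node 221 (.leaf 0x494546460004) (.node 222 (.leaf 0x4d4546460004) (.leaf 0x434646460004))))))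

def lvWords1_14 : Store := (.node 231 (.node 227 (.node 225 (.node 224 (.leaf 0x494646460004) (.leaf 0x484846460004)) (.node 226 (.leaf 0x4d4846460004) (.leaf 0x424946460004))) (.node 229 (.node 228 (.leaf 0x464946460004) (.leaf 0x494946460004)) (.node 230 (.leaf 0x414c46460004) (.leaf 0x484c46460004)))) (.node 235 (.node 233 (.node 232 (.leaf 0x494c46460004) (.leaf 0x414d46460004)) (.node 234 (.leaf 0x474048460004) (.leaf 0x4a4648460004))) (.node 237 (.node 236 (.leaf 0x424748460004) (.leaf 0x444748460004)) (.node 238 (.leaf 0x454748460004) (.node 239 (.leaf 0x494748460004) (.leaf 0x4c4748460004))))))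

def lvWords1_15 : Store := (.node 248 (.node 244 (.node 242 (.node 241 (.leaf 0x484d48460004) (.leaf 0x4a4d48460004)) (.node 243 (.leaf 0x484649460004) (.leaf 0x4c4649460004))) (.node 246 (.node 245 (.leaf 0x414749460004) (.leaf 0x46404c460004)) (.node 247 (.leaf 0x42464c460004) (.leaf 0x43464c460004)))) (.node 252 (.node 250 (.node 249 (.leaf 0x4a464c460004) (.leaf 0x4d464c460004)) (.node 251 (.leaf 0x44484c460004) (.leaf 0x47484c460004))) (.node 254 (.node 253 (.leaf 0x474b4c460004) (.leaf 0x46404d460004)) (.node 255 (.leaf 0x48434d460004) (.node 256 (.leaf 0x464a4d460004) (.leaf 0x484642470004))))))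

def lvWords1_16 : Store := (.node 266 (.node 261 (.node 259 (.node 258 (.leaf 0x4c4643470004) (.leaf 0x424743470004)) (.node 260 (.leaf 0x4c4743470004) (.leaf 0x4d4947470004))) (.node 263 (.node 262 (.leaf 0x494748470004) (.leaf 0x4d464c470004)) (.node 264 (.leaf 0x47474d470004) (.node 265 (.leaf 0x48474d470004) (.leaf 0x48464040460005))))) (.node 270 (.node 268 (.node 267 (.leaf 0x40424640460005) (.leaf 0x40434640460005)) (.node 269 (.leaf 0x44434640460005) (.leaf 0x45434640460005))) (.node 272 (.node 271 (.leaf 0x4c434640460005) (.leaf 0x4c454640460005)) (.node 273 (.leaf 0x484c4640460005) (.node 274 (.leaf 0x48424740460005) (.leaf 0x44484740460005))))))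

/-- data -/
def lvWords1 : Store := (.node 137 (.node 68 (.node 34 (.node 17 lvWords1_1 lvWords1_2) (.node 51 lvWords1_3 lvWords1_4)) (.node 102 (.node 85 lvWords1_5 lvWords1_6) (.node 119 lvWords1_7 lvWords1_8))) (.node 206 (.node 171 (.node 154 lvWords1_9 lvWords1_10) (.node 188 lvWords1_11 lvWords1_12)) (.node 240 (.node 223 lvWords1_13 lvWords1_14) (.node 257 lvWords1_15 lvWords1_16))))

/-- size -/
def lvSize1 : ℕ := 275

/-- data -/
def lvGens2 : List ℕ := [64, 65, 66, 67, 68, 69, 72, 73, 74, 75, 76, 77]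

def lvWords2_1 : Store := (.node 14 (.node 7 (.node 3 (.node 1 (.leaf 0x0) (.node 2 (.leaf 0x4c0001) (.leaf 0x4d0001))) (.node 5 (.node 4 (.leaf 0x404c0002) (.leaf 0x414c0002)) (.node 6 (.leaf 0x424c0002) (.leaf 0x434c0002)))) (.node 10 (.node 8 (.leaf 0x444c0002) (.node 9 (.leaf 0x454c0002) (.leaf 0x484c0002))) (.node 12 (.node 11 (.leaf 0x494c0002) (.leaf 0x4a4c0002)) (.node 13 (.leaf 0x4b4c0002) (.leaf 0x4c4c0002))))) (.node 21 (.node 17 (.node 15 (.leaf 0x404d0002) (.node 16 (.leaf 0x414d0002) (.leaf 0x424d0002))) (.node 19 (.node 18 (.leaf 0x434d0002) (.leaf 0x444d0002)) (.node 20 (.leaf 0x454d0002) (.leaf 0x484d0002)))) (.node 24 (.node 22 (.leaf 0x494d0002) (.node 23 (.leaf 0x4a4d0002) (.leaf 0x4d4d0002))) (.node 26 (.node 25 (.leaf 0x40404c0003) (.leaf 0x42404c0003)) (.node 27 (.leaf 0x43404c0003) (.leaf 0x44404c0003))))))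

def lvWords2_2 : Store := (.node 42 (.node 35 (.node 31 (.node 29 (.leaf 0x45404c0003) (.node 30 (.leaf 0x48404c0003) (.leaf 0x49404c0003))) (.node 33 (.node 32 (.leaf 0x4a404c0003) (.leaf 0x4b404c0003)) (.node 34 (.leaf 0x42414c0003) (.leaf 0x43414c0003)))) (.node 38 (.node 36 (.leaf 0x45414c0003) (.node 37 (.leaf 0x48414c0003) (.leaf 0x49414c0003))) (.node 40 (.node 39 (.leaf 0x4b414c0003) (.leaf 0x40424c0003)) (.node 41 (.leaf 0x41424c0003) (.leaf 0x42424c0003))))) (.node 49 (.node 45 (.node 43 (.leaf 0x48424c0003) (.node 44 (.leaf 0x4a424c0003) (.leaf 0x4b424c0003))) (.node 47 (.node 46 (.leaf 0x45434c0003) (.leaf 0x48434c0003)) (.node 48 (.leaf 0x4b434c0003) (.leaf 0x4c434c0003)))) (.node 52 (.node 50 (.leaf 0x4d434c0003) (.node 51 (.leaf 0x41444c0003) (.leaf 0x42444c0003))) (.node 54 (.node 53 (.leaf 0x43444c0003) (.leaf 0x44444c0003)) (.node 55 (.leaf 0x49444c0003) (.leaf 0x4a444c0003))))))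

def lvWords2_3 : Store := (.node 70 (.node 63 (.node 59 (.node 57 (.leaf 0x40454c0003) (.node 58 (.leaf 0x48454c0003) (.leaf 0x4a454c0003))) (.node 61 (.node 60 (.leaf 0x4b454c0003) (.leaf 0x4c454c0003)) (.node 62 (.leaf 0x40484c0003) (.leaf 0x42484c0003)))) (.node 66 (.node 64 (.leaf 0x43484c0003) (.node 65 (.leaf 0x45484c0003) (.leaf 0x4d484c0003))) (.node 68 (.node 67 (.leaf 0x40494c0003) (.leaf 0x42494c0003)) (.node 69 (.leaf 0x43494c0003) (.leaf 0x414a4c0003))))) (.node 77 (.node 73 (.node 71 (.leaf 0x424a4c0003) (.node 72 (.leaf 0x444a4c0003) (.leaf 0x454a4c0003))) (.node 75 (.node 74 (.leaf 0x4c4a4c0003) (.leaf 0x454b4c0003)) (.node 76 (.leaf 0x484b4c0003) (.leaf 0x4c4b4c0003)))) (.node 80 (.node 78 (.leaf 0x404c4c0003) (.node 79 (.leaf 0x424c4c0003) (.leaf 0x434c4c0003))) (.node 82 (.node 81 (.leaf 0x444c4c0003) (.leaf 0x454c4c0003)) (.node 83 (.leaf 0x484c4c0003) (.leaf 0x4b4c4c0003))))))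

def lvWords2_4 : Store := (.node 98 (.node 91 (.node 87 (.node 85 (.leaf 0x42414d0003) (.node 86 (.leaf 0x49414d0003) (.leaf 0x4c414d0003))) (.node 89 (.node 88 (.leaf 0x45424d0003) (.leaf 0x49424d0003)) (.node 90 (.leaf 0x4d444d0003) (.leaf 0x49454d0003)))) (.node 94 (.node 92 (.leaf 0x4c484d0003) (.node 93 (.leaf 0x4c494d0003) (.leaf 0x4c4a4d0003))) (.node 96 (.node 95 (.leaf 0x414d4d0003) (.leaf 0x424d4d0003)) (.node 97 (.leaf 0x444d4d0003) (.leaf 0x4840404c0004))))) (.node 105 (.node 101 (.node 99 (.leaf 0x4a43404c0004) (.node 100 (.leaf 0x4d43404c0004) (.leaf 0x4c48404c0004))) (.node 103 (.node 102 (.leaf 0x484a404c0004) (.leaf 0x4d4a404c0004)) (.node 104 (.leaf 0x4c40424c0004) (.leaf 0x4d48434c0004)))) (.node 108 (.node 106 (.leaf 0x4d4d434c0004) (.node 107 (.leaf 0x4d43444c0004) (.leaf 0x4d40454c0004))) (.node 110 (.node 109 (.leaf 0x434c454c0004) (.leaf 0x424d484c0004)) (.node 111 (.leaf 0x4c454a4c0004) (.leaf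 0x4d424c4c0004))))))

/-- data -/
def lvWords2 : Store := (.node 56 (.node 28 lvWords2_1 lvWords2_2) (.node 84 lvWords2_3 lvWords2_4))

/-- size -/
def lvSize2 : ℕ := 112

/-- data -/
def lvGens3 : List ℕ := [64, 65, 66, 67, 68, 69, 72, 73]

def lvWords3_1 : Store := (.node 10 (.node 5 (.node 2 (.node 1 (.leaf 0x0) (.leaf 0x480001)) (.node 3 (.leaf 0x490001) (.node 4 (.leaf 0x41480002) (.leaf 0x42480002)))) (.node 7 (.node 6 (.leaf 0x43480002) (.leaf 0x48480002)) (.node 8 (.leaf 0x40490002) (.node 9 (.leaf 0x42490002) (.leaf 0x43490002))))) (.node 15 (.node 12 (.node 11 (.leaf 0x45490002) (.leaf 0x49490002)) (.node 13 (.leaf 0x4241480003) (.node 14 (.leaf 0x4841480003) (.leaf 0x4941480003)))) (.node 17 (.node 16 (.leaf 0x4042480003) (.leaf 0x4142480003)) (.node 18 (.leaf 0x4442480003) (.node 19 (.leaf 0x4842480003) (.leaf 0x4942480003))))))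

def lvWords3_2 : Store := (.node 30 (.node 25 (.node 22 (.node 21 (.leaf 0x4343480003) (.leaf 0x4543480003)) (.node 23 (.leaf 0x4843480003) (.node 24 (.leaf 0x4943480003) (.leaf 0x4048480003)))) (.node 27 (.node 26 (.leaf 0x4148480003) (.leaf 0x4248480003)) (.node 28 (.leaf 0x4348480003) (.node 29 (.leaf 0x4448480003) (.leaf 0x4240490003))))) (.node 35 (.node 32 (.node 31 (.leaf 0x4940490003) (.leaf 0x4042490003)) (.node 33 (.leaf 0x4442490003) (.node 34 (.leaf 0x4842490003) (.leaf 0x4942490003)))) (.node 37 (.node 36 (.leaf 0x4043490003) (.leaf 0x4843490003)) (.node 38 (.leaf 0x4943490003) (.node 39 (.leaf 0x4845490003) (.leaf 0x4049490003))))))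

def lvWords3_3 : Store := (.node 50 (.node 45 (.node 42 (.node 41 (.leaf 0x4249490003) (.leaf 0x4349490003)) (.node 43 (.leaf 0x4449490003) (.node 44 (.leaf 0x4549490003) (.leaf 0x494241480004)))) (.node 47 (.node 46 (.leaf 0x414841480004) (.leaf 0x424841480004)) (.node 48 (.leaf 0x484841480004) (.node 49 (.leaf 0x404941480004) (.leaf 0x434941480004))))) (.node 55 (.node 52 (.node 51 (.leaf 0x444941480004) (.leaf 0x454941480004)) (.node 53 (.leaf 0x494941480004) (.node 54 (.leaf 0x484042480004) (.leaf 0x494142480004)))) (.node 57 (.node 56 (.leaf 0x424442480004) (.leaf 0x484442480004)) (.node 58 (.leaf 0x404842480004) (.node 59 (.leaf 0x424842480004) (.leaf 0x484842480004))))))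

def lvWords3_4 : Store := (.node 70 (.node 65 (.node 62 (.node 61 (.leaf 0x404942480004) (.leaf 0x414942480004)) (.node 63 (.leaf 0x424942480004) (.node 64 (.leaf 0x454942480004) (.leaf 0x484343480004)))) (.node 67 (.node 66 (.leaf 0x494343480004) (.leaf 0x414843480004)) (.node 68 (.leaf 0x404048480004) (.node 69 (.leaf 0x454048480004) (.leaf 0x434148480004))))) (.node 75 (.node 72 (.node 71 (.leaf 0x404248480004) (.leaf 0x404348480004)) (.node 73 (.leaf 0x444348480004) (.node 74 (.leaf 0x404940490004) (.leaf 0x424940490004)))) (.node 78 (.node 76 (.leaf 0x454940490004) (.node 77 (.leaf 0x494942490004) (.leaf 0x424845490004))) (.node 79 (.leaf 0x48414841480005) (.node 80 (.leaf 0x49414841480005) (.leaf 0x44494941480005))))))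

/-- data -/
def lvWords3 : Store := (.node 40 (.node 20 lvWords3_1 lvWords3_2) (.node 60 lvWords3_3 lvWords3_4))

/-- size -/
def lvSize3 : ℕ := 81

/-- data -/
def lvGens4 : List ℕ := [64, 65, 66, 67, 68, 69]

def lvWords4_1 : Store := (.node 9 (.node 4 (.node 2 (.node 1 (.leaf 0x0) (.leaf 0x420001)) (.node 3 (.leaf 0x430001) (.leaf 0x41420002))) (.node 6 (.node 5 (.leaf 0x42420002) (.leaf 0x44420002)) (.node 7 (.leaf 0x45420002) (.node 8 (.leaf 0x43430002) (.leaf 0x4241420003))))) (.node 13 (.node 11 (.node 10 (.leaf 0x4341420003) (.leaf 0x4042420003)) (.node 12 (.leaf 0x4142420003) (.leaf 0x4442420003))) (.node 15 (.node 14 (.leaf 0x4542420003) (.leaf 0x4244420003)) (.node 16 (.leaf 0x4344420003) (.node 17 (.leaf 0x4245420003) (.leaf 0x4443430003))))))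

def lvWords4_2 : Store := (.node 27 (.node 22 (.node 20 (.node 19 (.leaf 0x4543430003) (.leaf 0x414241420004)) (.node 21 (.leaf 0x424241420004) (.leaf 0x444241420004))) (.node 24 (.node 23 (.leaf 0x454241420004) (.leaf 0x434341420004)) (.node 25 (.leaf 0x444341420004) (.node 26 (.leaf 0x454341420004) (.leaf 0x434042420004))))) (.node 31 (.node 29 (.node 28 (.leaf 0x444142420004) (.leaf 0x434442420004)) (.node 30 (.leaf 0x424542420004) (.leaf 0x434542420004))) (.node 33 (.node 32 (.leaf 0x424244420004) (.leaf 0x424443430004)) (.node 34 (.leaf 0x434543430004) (.node 35 (.leaf 0x42414241420005) (.leaf 0x43414241420005))))))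

/-- data -/
def lvWords4 : Store := (.node 18 lvWords4_1 lvWords4_2)

/-- size -/
def lvSize4 : ℕ := 36

/-- data -/
def lvGens5 : List ℕ := [64, 65, 68, 69]

/-- data -/
def lvWords5 : Store := (.leaf 0x0)

/-- size -/
def lvSize5 : ℕ := 1

/-- data -/
def lvGens6 : List ℕ := [64, 65, 68, 69]

/-- data -/
def lvWords6 : Store := (.node 10 (.node 5 (.node 2 (.node 1 (.leaf 0x0) (.leaf 0x400001)) (.node 3 (.leaf 0x410001) (.node 4 (.leaf 0x440001) (.leaf 0x450001)))) (.node 7 (.node 6 (.leaf 0x40400002) (.leaf 0x44400002)) (.node 8 (.leaf 0x45400002) (.node 9 (.leaf 0x44410002) (.leaf 0x45410002))))) (.node 15 (.node 12 (.node 11 (.leaf 0x41440002) (.leaf 0x44440002)) (.node 13 (.leaf 0x40450002) (.node 14 (.leaf 0x4440400003) (.leaf 0x4540400003)))) (.node 17 (.node 16 (.leaf 0x4144400003) (.leaf 0x4444400003)) (.node 18 (.leaf 0x4045400003) (.node 19 (.leaf 0x4144410003) (.leaf 0x414440400004))))))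

/-- size -/
def lvSize6 : ℕ := 20

/-- data -/
def lvGens7 : List ℕ := []

/-- data -/
def lvWords7 : Store := (.leaf 0x0)

/-- size -/
def lvSize7 : ℕ := 1

def candS_1 : Store := (.node 10 (.node 5 (.node 2 (.node 1 (.leaf 0x283200001) (.leaf 0x283200001)) (.node 3 (.leaf 0x283200001) (.node 4 (.leaf 0x283200001) (.leaf 0x283200001)))) (.node 7 (.node 6 (.leaf 0x283200001) (.leaf 0x283200001)) (.node 8 (.leaf 0x283200001) (.node 9 (.leaf 0x283200001) (.leaf 0x283200001))))) (.node 15 (.node 12 (.node 11 (.leaf 0x283200001) (.leaf 0x283200001)) (.node 13 (.leaf 0x2283200001) (.node 14 (.leaf 0x2283200001) (.leaf 0x2283200001)))) (.node 17 (.node 16 (.leaf 0x2283200001) (.leaf 0x2283200001)) (.node 18 (.leaf 0x2283200001) (.node 19 (.leaf 0x2283200001) (.leaf 0x2283200001))))))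

def candS_2 : Store := (.node 30 (.node 25 (.node 22 (.node 21 (.leaf 0x2283200001) (.leaf 0x2283200001)) (.node 23 (.leaf 0x2283200001) (.node 24 (.leaf 0x2283200001) (.leaf 0x283200001)))) (.node 27 (.node 26 (.leaf 0x283200001) (.leaf 0x283200001)) (.node 28 (.leaf 0x283200001) (.node 29 (.leaf 0x283200001) (.leaf 0x283200001))))) (.node 35 (.node 32 (.node 31 (.leaf 0x283200001) (.leaf 0x283200001)) (.node 33 (.leaf 0x283200001) (.node 34 (.leaf 0x283200001) (.leaf 0x283200001)))) (.node 37 (.node 36 (.leaf 0x283200001) (.leaf 0x10283200001)) (.node 38 (.leaf 0x10283200001) (.node 39 (.leaf 0x10283200001) (.leaf 0x10283200001))))))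

def candS_3 : Store := (.node 50 (.node 45 (.node 42 (.node 41 (.leaf 0x10283200001) (.leaf 0x10283200001)) (.node 43 (.leaf 0x10283200001) (.node 44 (.leaf 0x10283200001) (.leaf 0x10283200001)))) (.node 47 (.node 46 (.leaf 0x10283200001) (.leaf 0x10283200001)) (.node 48 (.leaf 0x10283200001) (.node 49 (.leaf 0x283200001) (.leaf 0x283200001))))) (.node 55 (.node 52 (.node 51 (.leaf 0x283200001) (.leaf 0x283200001)) (.node 53 (.leaf 0x283200001) (.node 54 (.leaf 0x283200001) (.leaf 0x283200001)))) (.node 57 (.node 56 (.leaf 0x283200001) (.leaf 0x283200001)) (.node 58 (.leaf 0x283200001) (.node 59 (.leaf 0x283200001) (.leaf 0x283200001))))))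

def candS_4 : Store := (.node 70 (.node 65 (.node 62 (.node 61 (.leaf 0x283200001) (.leaf 0x283200001)) (.node 63 (.leaf 0x283200001) (.node 64 (.leaf 0x283200001) (.leaf 0x283200001)))) (.node 67 (.node 66 (.leaf 0x283200001) (.leaf 0x283200001)) (.node 68 (.leaf 0x283200001) (.node 69 (.leaf 0x283200001) (.leaf 0x283200001))))) (.node 75 (.node 72 (.node 71 (.leaf 0x283200001) (.leaf 0x283200001)) (.node 73 (.leaf 0x8283200001) (.node 74 (.leaf 0x8283200001) (.leaf 0x8283200001)))) (.node 78 (.node 76 (.leaf 0x8283200001) (.node 77 (.leaf 0x8283200001) (.leaf 0x8283200001))) (.node 79 (.leaf 0x8283200001) (.node 80 (.leaf 0x8283200001) (.leaf 0x8283200001))))))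

def candS_5 : Store := (.node 91 (.node 86 (.node 83 (.node 82 (.leaf 0x8283200001) (.leaf 0x8283200001)) (.node 84 (.leaf 0x8283200001) (.node 85 (.leaf 0x1c283200001) (.leaf 0x1c283200001)))) (.node 88 (.node 87 (.leaf 0x1c283200001) (.leaf 0x1c283200001)) (.node 89 (.leaf 0x1c283200001) (.node 90 (.leaf 0x1c283200001) (.leaf 0x1c283200001))))) (.node 96 (.node 93 (.node 92 (.leaf 0x1c283200001) (.leaf 0x1c283200001)) (.node 94 (.leaf 0x1c283200001) (.node 95 (.leaf 0x1c283200001) (.leaf 0x1c283200001)))) (.node 98 (.node 97 (.leaf 0x20283200001) (.leaf 0x20283200001)) (.node 99 (.leaf 0x20283200001) (.node 100 (.leaf 0x20283200001) (.leaf 0x20283200001))))))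

def candS_6 : Store := (.node 111 (.node 106 (.node 103 (.node 102 (.leaf 0x20283200001) (.leaf 0x20283200001)) (.node 104 (.leaf 0x20283200001) (.node 105 (.leaf 0x20283200001) (.leaf 0x20283200001)))) (.node 108 (.node 107 (.leaf 0x20283200001) (.leaf 0x20283200001)) (.node 109 (.leaf 0x283200001) (.node 110 (.leaf 0x283200001) (.leaf 0x283200001))))) (.node 116 (.node 113 (.node 112 (.leaf 0x283200001) (.leaf 0x283200001)) (.node 114 (.leaf 0x283200001) (.node 115 (.leaf 0x283200001) (.leaf 0x283200001)))) (.node 118 (.node 117 (.leaf 0x283200001) (.leaf 0x283200001)) (.node 119 (.leaf 0x283200001) (.node 120 (.leaf 0x283200001) (.leaf 0x283200001))))))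

def candS_7 : Store := (.node 131 (.node 126 (.node 123 (.node 122 (.leaf 0x283200001) (.leaf 0x283200001)) (.node 124 (.leaf 0x283200001) (.node 125 (.leaf 0x283200001) (.leaf 0x283200001)))) (.node 128 (.node 127 (.leaf 0x283200001) (.leaf 0x283200001)) (.node 129 (.leaf 0x283200001) (.node 130 (.leaf 0x283200001) (.leaf 0x283200001))))) (.node 136 (.node 133 (.node 132 (.leaf 0x283200001) (.leaf 0x283200001)) (.node 134 (.leaf 0x283200001) (.node 135 (.leaf 0x283200001) (.leaf 0x283200001)))) (.node 138 (.node 137 (.leaf 0x283200001) (.leaf 0x283200001)) (.node 139 (.leaf 0x283200001) (.node 140 (.leaf 0x283200001) (.leaf 0x283200001))))))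

def candS_8 : Store := (.node 151 (.node 146 (.node 143 (.node 142 (.leaf 0x283200001) (.leaf 0x283200001)) (.node 144 (.leaf 0x283200001) (.node 145 (.leaf 0x16300f80001) (.leaf 0x16300f80001)))) (.node 148 (.node 147 (.leaf 0x16300f80001) (.leaf 0x16300f80001)) (.node 149 (.leaf 0x16300f80001) (.node 150 (.leaf 0x16300f80001) (.leaf 0x16300f80001))))) (.node 156 (.node 153 (.node 152 (.leaf 0x16300f80001) (.leaf 0x16300f80001)) (.node 154 (.leaf 0x16300f80001) (.node 155 (.leaf 0x16300f80001) (.leaf 0x16300f80001)))) (.node 159 (.node 157 (.leaf 0x300f80001) (.node 158 (.leaf 0x300f80001) (.leaf 0x300f80001))) (.node 160 (.leaf 0x300f80001) (.node 161 (.leaf 0x300f80001) (.leaf 0x300f80001))))))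

def candS_9 : Store := (.node 172 (.node 167 (.node 164 (.node 163 (.leaf 0x300f80001) (.leaf 0x300f80001)) (.node 165 (.leaf 0x300f80001) (.node 166 (.leaf 0x300f80001) (.leaf 0x300f80001)))) (.node 169 (.node 168 (.leaf 0x300f80001) (.leaf 0x300f80001)) (.node 170 (.leaf 0x300f80001) (.node 171 (.leaf 0x300f80001) (.leaf 0x300f80001))))) (.node 177 (.node 174 (.node 173 (.leaf 0x300f80001) (.leaf 0x300f80001)) (.node 175 (.leaf 0x300f80001) (.node 176 (.leaf 0x300f80001) (.leaf 0x300f80001)))) (.node 179 (.node 178 (.leaf 0x300f80001) (.leaf 0x300f80001)) (.node 180 (.leaf 0x300f80001) (.node 181 (.leaf 0x300f80001) (.leaf 0x300f80001))))))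

def candS_10 : Store := (.node 192 (.node 187 (.node 184 (.node 183 (.leaf 0x300f80001) (.leaf 0x300f80001)) (.node 185 (.leaf 0x300f80001) (.node 186 (.leaf 0x300f80001) (.leaf 0x300f80001)))) (.node 189 (.node 188 (.leaf 0x300f80001) (.leaf 0x300f80001)) (.node 190 (.leaf 0x300f80001) (.node 191 (.leaf 0x300f80001) (.leaf 0x300f80001))))) (.node 197 (.node 194 (.node 193 (.leaf 0x300f80001) (.leaf 0x300f80001)) (.node 195 (.leaf 0x300f80001) (.node 196 (.leaf 0x300f80001) (.leaf 0x300f80001)))) (.node 199 (.node 198 (.leaf 0x300f80001) (.leaf 0x300f80001)) (.node 200 (.leaf 0x300f80001) (.node 201 (.leaf 0x300f80001) (.leaf 0x300f80001))))))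

def candS_11 : Store := (.node 212 (.node 207 (.node 204 (.node 203 (.leaf 0x300f80001) (.leaf 0x300f80001)) (.node 205 (.leaf 0x300f80001) (.node 206 (.leaf 0x300f80001) (.leaf 0x300f80001)))) (.node 209 (.node 208 (.leaf 0x300f80001) (.leaf 0x300f80001)) (.node 210 (.leaf 0x300f80001) (.node 211 (.leaf 0x300f80001) (.leaf 0x300f80001))))) (.node 217 (.node 214 (.node 213 (.leaf 0x300f80001) (.leaf 0x300f80001)) (.node 215 (.leaf 0x300f80001) (.node 216 (.leaf 0x300f80001) (.leaf 0x32300f80001)))) (.node 219 (.node 218 (.leaf 0x32300f80001) (.leaf 0x32300f80001)) (.node 220 (.leaf 0x32300f80001) (.node 221 (.leaf 0x32300f80001) (.leaf 0x32300f80001))))))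

def candS_12 : Store := (.node 232 (.node 227 (.node 224 (.node 223 (.leaf 0x32300f80001) (.leaf 0x32300f80001)) (.node 225 (.leaf 0x32300f80001) (.node 226 (.leaf 0x32300f80001) (.leaf 0x32300f80001)))) (.node 229 (.node 228 (.leaf 0x32300f80001) (.leaf 0xe300f80001)) (.node 230 (.leaf 0xe300f80001) (.node 231 (.leaf 0xe300f80001) (.leaf 0xe300f80001))))) (.node 237 (.node 234 (.node 233 (.leaf 0xe300f80001) (.leaf 0xe300f80001)) (.node 235 (.leaf 0xe300f80001) (.node 236 (.leaf 0xe300f80001) (.leaf 0xe300f80001)))) (.node 240 (.node 238 (.leaf 0xe300f80001) (.node 239 (.leaf 0xe300f80001) (.leaf 0xe300f80001))) (.node 241 (.leaf 0x42300f80001) (.node 242 (.leaf 0x42300f80001) (.leaf 0x42300f80001))))))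

def candS_13 : Store := (.node 253 (.node 248 (.node 245 (.node 244 (.leaf 0x42300f80001) (.leaf 0x42300f80001)) (.node 246 (.leaf 0x42300f80001) (.node 247 (.leaf 0x42300f80001) (.leaf 0x42300f80001)))) (.node 250 (.node 249 (.leaf 0x42300f80001) (.leaf 0x42300f80001)) (.node 251 (.leaf 0x42300f80001) (.node 252 (.leaf 0x42300f80001) (.leaf 0x2e300f80001))))) (.node 258 (.node 255 (.node 254 (.leaf 0x2e300f80001) (.leaf 0x2e300f80001)) (.node 256 (.leaf 0x28002e300f80001) (.node 257 (.leaf 0x2e300f80001) (.leaf 0x2e300f80001)))) (.node 260 (.node 259 (.leaf 0x18002e300f80001) (.leaf 0x2e300f80001)) (.node 261 (.leaf 0x38002e300f80001) (.node 262 (.leaf 0x2e300f80001) (.leaf 0x2e300f80001))))))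

def candS_14 : Store := (.node 273 (.node 268 (.node 265 (.node 264 (.leaf 0x90002e300f80001) (.leaf 0x22300f80001)) (.node 266 (.leaf 0x22300f80001) (.node 267 (.leaf 0x3a6) (.leaf 0x22300f80001)))) (.node 270 (.node 269 (.leaf 0x6a) (.leaf 0x22300f80001)) (.node 271 (.leaf 0x22300f80001) (.node 272 (.leaf 0x12a) (.leaf 0x22300f80001))))) (.node 278 (.node 275 (.node 274 (.leaf 0x196) (.leaf 0x22300f80001)) (.node 276 (.leaf 0x22300f80001) (.node 277 (.leaf 0x300f80001) (.leaf 0x300f80001)))) (.node 280 (.node 279 (.leaf 0x300f80001) (.leaf 0x300f80001)) (.node 281 (.leaf 0x300f80001) (.node 282 (.leaf 0x300f80001) (.leaf 0x300f80001))))))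

def candS_15 : Store := (.node 293 (.node 288 (.node 285 (.node 284 (.leaf 0x300f80001) (.leaf 0x300f80001)) (.node 286 (.leaf 0x300f80001) (.node 287 (.leaf 0x300f80001) (.leaf 0x300f80001)))) (.node 290 (.node 289 (.leaf 0x26040100001) (.leaf 0x26040100001)) (.node 291 (.leaf 0x26040100001) (.node 292 (.leaf 0x26040100001) (.leaf 0x26040100001))))) (.node 298 (.node 295 (.node 294 (.leaf 0x26040100001) (.leaf 0x26040100001)) (.node 296 (.leaf 0x26040100001) (.node 297 (.leaf 0x26040100001) (.leaf 0x26040100001)))) (.node 300 (.node 299 (.leaf 0x26040100001) (.leaf 0x26040100001)) (.node 301 (.leaf 0x40100001) (.node 302 (.leaf 0x40100001) (.leaf 0x40100001))))))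

def candS_16 : Store := (.node 313 (.node 308 (.node 305 (.node 304 (.leaf 0x40100001) (.leaf 0x40100001)) (.node 306 (.leaf 0x40100001) (.node 307 (.leaf 0x40100001) (.leaf 0x40100001)))) (.node 310 (.node 309 (.leaf 0x40100001) (.leaf 0x40100001)) (.node 311 (.leaf 0x40100001) (.node 312 (.leaf 0x40100001) (.leaf 0x40100001))))) (.node 318 (.node 315 (.node 314 (.leaf 0x40100001) (.leaf 0x40100001)) (.node 316 (.leaf 0x40100001) (.node 317 (.leaf 0x40100001) (.leaf 0x40100001)))) (.node 321 (.node 319 (.leaf 0x40100001) (.node 320 (.leaf 0x40100001) (.leaf 0x40100001))) (.node 322 (.leaf 0x40100001) (.node 323 (.leaf 0x40100001) (.leaf 0x40100001))))))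

def candS_17 : Store := (.node 334 (.node 329 (.node 326 (.node 325 (.leaf 0x1c040100001) (.leaf 0x1c040100001)) (.node 327 (.leaf 0x1c040100001) (.node 328 (.leaf 0x1c040100001) (.leaf 0x1c040100001)))) (.node 331 (.node 330 (.leaf 0x1c040100001) (.leaf 0x1c040100001)) (.node 332 (.leaf 0x1c040100001) (.node 333 (.leaf 0x1c040100001) (.leaf 0x1c040100001))))) (.node 339 (.node 336 (.node 335 (.leaf 0x1c040100001) (.leaf 0x1c040100001)) (.node 337 (.leaf 0x40100001) (.node 338 (.leaf 0x40100001) (.leaf 0x40100001)))) (.node 341 (.node 340 (.leaf 0x40100001) (.leaf 0x40100001)) (.node 342 (.leaf 0x40100001) (.node 343 (.leaf 0x40100001) (.leaf 0x40100001))))))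

def candS_18 : Store := (.node 354 (.node 349 (.node 346 (.node 345 (.leaf 0x40100001) (.leaf 0x40100001)) (.node 347 (.leaf 0x40100001) (.node 348 (.leaf 0x40100001) (.leaf 0x34040100001)))) (.node 351 (.node 350 (.leaf 0x34040100001) (.leaf 0x34040100001)) (.node 352 (.leaf 0x34040100001) (.node 353 (.leaf 0x34040100001) (.leaf 0x34040100001))))) (.node 359 (.node 356 (.node 355 (.leaf 0x34040100001) (.leaf 0x34040100001)) (.node 357 (.leaf 0x700034040100001) (.node 358 (.leaf 0x34040100001) (.leaf 0x800034040100001)))) (.node 361 (.node 360 (.leaf 0x980034040100001) (.leaf 0x24040100001)) (.node 362 (.leaf 0x24040100001) (.node 363 (.leaf 0x24040100001) (.leaf 0x24040100001))))))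

def candS_19 : Store := (.node 374 (.node 369 (.node 366 (.node 365 (.leaf 0x24040100001) (.leaf 0x24040100001)) (.node 367 (.leaf 0x24040100001) (.node 368 (.leaf 0x24040100001) (.leaf 0x24040100001)))) (.node 371 (.node 370 (.leaf 0x24040100001) (.leaf 0x24040100001)) (.node 372 (.leaf 0x24040100001) (.node 373 (.leaf 0x40100001) (.leaf 0x40100001))))) (.node 379 (.node 376 (.node 375 (.leaf 0x40100001) (.leaf 0x40100001)) (.node 377 (.leaf 0x40100001) (.node 378 (.leaf 0x40100001) (.leaf 0x40100001)))) (.node 381 (.node 380 (.leaf 0x40100001) (.leaf 0x40100001)) (.node 382 (.leaf 0x40100001) (.node 383 (.leaf 0x40100001) (.leaf 0x40100001))))))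

def candS_20 : Store := (.node 394 (.node 389 (.node 386 (.node 385 (.leaf 0xe040100001) (.leaf 0xe040100001)) (.node 387 (.leaf 0xe040100001) (.node 388 (.leaf 0xe040100001) (.leaf 0xe040100001)))) (.node 391 (.node 390 (.leaf 0xe040100001) (.leaf 0xe040100001)) (.node 392 (.leaf 0xe040100001) (.node 393 (.leaf 0xe040100001) (.leaf 0xe040100001))))) (.node 399 (.node 396 (.node 395 (.leaf 0xe040100001) (.leaf 0xe040100001)) (.node 397 (.leaf 0x40100001) (.node 398 (.leaf 0x40100001) (.leaf 0x40100001)))) (.node 402 (.node 400 (.leaf 0x40100001) (.node 401 (.leaf 0x40100001) (.leaf 0x40100001))) (.node 403 (.leaf 0x40100001) (.node 404 (.leaf 0x40100001) (.leaf 0x40100001))))))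

def candS_21 : Store := (.node 415 (.node 410 (.node 407 (.node 406 (.leaf 0x40100001) (.leaf 0x40100001)) (.node 408 (.leaf 0x40100001) (.node 409 (.leaf 0x38040100001) (.leaf 0x318)))) (.node 412 (.node 411 (.leaf 0x38040100001) (.leaf 0x38040100001)) (.node 413 (.leaf 0x2a6) (.node 414 (.leaf 0x38040100001) (.leaf 0x38040100001))))) (.node 420 (.node 417 (.node 416 (.leaf 0x6e) (.leaf 0x38040100001)) (.node 418 (.leaf 0x9e) (.node 419 (.leaf 0x38040100001) (.leaf 0x38040100001)))) (.node 422 (.node 421 (.leaf 0x40100001) (.leaf 0x40100001)) (.node 423 (.leaf 0x40100001) (.node 424 (.leaf 0x40100001) (.leaf 0x40100001))))))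

def candS_22 : Store := (.node 435 (.node 430 (.node 427 (.node 426 (.leaf 0x40100001) (.leaf 0x40100001)) (.node 428 (.leaf 0x40100001) (.node 429 (.leaf 0x40100001) (.leaf 0x40100001)))) (.node 432 (.node 431 (.leaf 0x40100001) (.leaf 0x40100001)) (.node 433 (.leaf 0x30161000001) (.node 434 (.leaf 0x30161000001) (.leaf 0x980030161000001))))) (.node 440 (.node 437 (.node 436 (.leaf 0x30161000001) (.leaf 0x700030161000001)) (.node 438 (.leaf 0x30161000001) (.node 439 (.leaf 0x30161000001) (.leaf 0x800030161000001)))) (.node 442 (.node 441 (.leaf 0x30161000001) (.leaf 0x30161000001)) (.node 443 (.leaf 0x30161000001) (.node 444 (.leaf 0x30161000001) (.leaf 0x36161000001))))))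

def candS_23 : Store := (.node 455 (.node 450 (.node 447 (.node 446 (.leaf 0x36161000001) (.leaf 0x36161000001)) (.node 448 (.leaf 0x36161000001) (.node 449 (.leaf 0x36161000001) (.leaf 0x36161000001)))) (.node 452 (.node 451 (.leaf 0x4) (.leaf 0x36161000001)) (.node 453 (.leaf 0x1ec) (.node 454 (.leaf 0x36161000001) (.leaf 0x1a8))))) (.node 460 (.node 457 (.node 456 (.leaf 0x1ee) (.leaf 0xe161000001)) (.node 458 (.leaf 0xe161000001) (.node 459 (.leaf 0xe161000001) (.leaf 0xe161000001)))) (.node 462 (.node 461 (.leaf 0xe161000001) (.leaf 0xe161000001)) (.node 463 (.leaf 0xe161000001) (.node 464 (.leaf 0xe161000001) (.leaf 0xe161000001))))))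

def candS_24 : Store := (.node 475 (.node 470 (.node 467 (.node 466 (.leaf 0xe161000001) (.leaf 0xe161000001)) (.node 468 (.leaf 0xe161000001) (.node 469 (.leaf 0x161000001) (.leaf 0x161000001)))) (.node 472 (.node 471 (.leaf 0x161000001) (.leaf 0x161000001)) (.node 473 (.leaf 0x161000001) (.node 474 (.leaf 0x161000001) (.leaf 0x161000001))))) (.node 480 (.node 477 (.node 476 (.leaf 0x161000001) (.leaf 0x161000001)) (.node 478 (.leaf 0x161000001) (.node 479 (.leaf 0x161000001) (.leaf 0x161000001)))) (.node 483 (.node 481 (.leaf 0x161000001) (.node 482 (.leaf 0x161000001) (.leaf 0x161000001))) (.node 484 (.leaf 0x161000001) (.node 485 (.leaf 0x161000001) (.leaf 0x161000001))))))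

def candS_25 : Store := (.node 496 (.node 491 (.node 488 (.node 487 (.leaf 0x161000001) (.leaf 0x161000001)) (.node 489 (.leaf 0x161000001) (.node 490 (.leaf 0x161000001) (.leaf 0x161000001)))) (.node 493 (.node 492 (.leaf 0x161000001) (.leaf 0xc161000001)) (.node 494 (.leaf 0xc161000001) (.node 495 (.leaf 0xc161000001) (.leaf 0xc161000001))))) (.node 501 (.node 498 (.node 497 (.leaf 0xc161000001) (.leaf 0xc161000001)) (.node 499 (.leaf 0xc161000001) (.node 500 (.leaf 0xc161000001) (.leaf 0xc161000001)))) (.node 503 (.node 502 (.leaf 0xc161000001) (.leaf 0xc161000001)) (.node 504 (.leaf 0xc161000001) (.node 505 (.leaf 0x161000001) (.leaf 0x161000001))))))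

def candS_26 : Store := (.node 516 (.node 511 (.node 508 (.node 507 (.leaf 0x161000001) (.leaf 0x161000001)) (.node 509 (.leaf 0x161000001) (.node 510 (.leaf 0x161000001) (.leaf 0x161000001)))) (.node 513 (.node 512 (.leaf 0x161000001) (.leaf 0x161000001)) (.node 514 (.leaf 0x161000001) (.node 515 (.leaf 0x161000001) (.leaf 0x161000001))))) (.node 521 (.node 518 (.node 517 (.leaf 0x161000001) (.leaf 0x161000001)) (.node 519 (.leaf 0x161000001) (.node 520 (.leaf 0x161000001) (.leaf 0x161000001)))) (.node 523 (.node 522 (.leaf 0x161000001) (.leaf 0x161000001)) (.node 524 (.leaf 0x161000001) (.node 525 (.leaf 0x161000001) (.leaf 0x161000001))))))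

def candS_27 : Store := (.node 536 (.node 531 (.node 528 (.node 527 (.leaf 0x161000001) (.leaf 0x161000001)) (.node 529 (.leaf 0x161000001) (.node 530 (.leaf 0x161000001) (.leaf 0x161000001)))) (.node 533 (.node 532 (.leaf 0x161000001) (.leaf 0x161000001)) (.node 534 (.leaf 0x161000001) (.node 535 (.leaf 0x161000001) (.leaf 0x161000001))))) (.node 541 (.node 538 (.node 537 (.leaf 0x161000001) (.leaf 0x161000001)) (.node 539 (.leaf 0x161000001) (.node 540 (.leaf 0x161000001) (.leaf 0x3a161000001)))) (.node 543 (.node 542 (.leaf 0x3a161000001) (.leaf 0x3a161000001)) (.node 544 (.leaf 0x3a161000001) (.node 545 (.leaf 0x3a161000001) (.leaf 0x3a161000001))))))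

def candS_28 : Store := (.node 556 (.node 551 (.node 548 (.node 547 (.leaf 0x3a161000001) (.leaf 0x3a161000001)) (.node 549 (.leaf 0x3a161000001) (.node 550 (.leaf 0x3a161000001) (.leaf 0x3a161000001)))) (.node 553 (.node 552 (.leaf 0x3a161000001) (.leaf 0x161000001)) (.node 554 (.leaf 0x161000001) (.node 555 (.leaf 0x161000001) (.leaf 0x161000001))))) (.node 561 (.node 558 (.node 557 (.leaf 0x161000001) (.leaf 0x161000001)) (.node 559 (.leaf 0x161000001) (.node 560 (.leaf 0x161000001) (.leaf 0x161000001)))) (.node 564 (.node 562 (.leaf 0x161000001) (.node 563 (.leaf 0x161000001) (.leaf 0x161000001))) (.node 565 (.leaf 0x44161000001) (.node 566 (.leaf 0x44161000001) (.leaf 0x44161000001))))))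

def candS_29 : Store := (.node 577 (.node 572 (.node 569 (.node 568 (.leaf 0x44161000001) (.leaf 0x44161000001)) (.node 570 (.leaf 0x44161000001) (.node 571 (.leaf 0x44161000001) (.leaf 0x44161000001)))) (.node 574 (.node 573 (.leaf 0x44161000001) (.leaf 0x44161000001)) (.node 575 (.leaf 0x44161000001) (.node 576 (.leaf 0x44161000001) (.leaf 0x30230300001))))) (.node 582 (.node 579 (.node 578 (.leaf 0x30230300001) (.leaf 0x30230300001)) (.node 580 (.leaf 0x30230300001) (.node 581 (.leaf 0x30230300001) (.leaf 0x30230300001)))) (.node 584 (.node 583 (.leaf 0x30230300001) (.leaf 0x30230300001)) (.node 585 (.leaf 0x30230300001) (.node 586 (.leaf 0x30230300001) (.leaf 0x30230300001))))))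

def candS_30 : Store := (.node 597 (.node 592 (.node 589 (.node 588 (.leaf 0x30230300001) (.leaf 0x230300001)) (.node 590 (.leaf 0x230300001) (.node 591 (.leaf 0x230300001) (.leaf 0x230300001)))) (.node 594 (.node 593 (.leaf 0x230300001) (.leaf 0x230300001)) (.node 595 (.leaf 0x230300001) (.node 596 (.leaf 0x230300001) (.leaf 0x230300001))))) (.node 602 (.node 599 (.node 598 (.leaf 0x230300001) (.leaf 0x230300001)) (.node 600 (.leaf 0x230300001) (.node 601 (.leaf 0xe230300001) (.leaf 0xe230300001)))) (.node 604 (.node 603 (.leaf 0xe230300001) (.leaf 0x68000e230300001)) (.node 605 (.leaf 0xe230300001) (.node 606 (.leaf 0xe230300001) (.leaf 0x50000e230300001))))))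

def candS_31 : Store := (.node 617 (.node 612 (.node 609 (.node 608 (.leaf 0xe230300001) (.leaf 0x58000e230300001)) (.node 610 (.leaf 0xe230300001) (.node 611 (.leaf 0x8000e230300001) (.leaf 0xe230300001)))) (.node 614 (.node 613 (.leaf 0x2e230300001) (.leaf 0x2e230300001)) (.node 615 (.leaf 0x2e230300001) (.node 616 (.leaf 0x2e230300001) (.leaf 0x2e230300001))))) (.node 622 (.node 619 (.node 618 (.leaf 0x2e230300001) (.leaf 0x2e230300001)) (.node 620 (.leaf 0x2e230300001) (.node 621 (.leaf 0x2e230300001) (.leaf 0x2e230300001)))) (.node 624 (.node 623 (.leaf 0x2e230300001) (.leaf 0x2e230300001)) (.node 625 (.leaf 0x230300001) (.node 626 (.leaf 0x230300001) (.leaf 0x230300001))))))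

def candS_32 : Store := (.node 637 (.node 632 (.node 629 (.node 628 (.leaf 0x230300001) (.leaf 0x230300001)) (.node 630 (.leaf 0x230300001) (.node 631 (.leaf 0x230300001) (.leaf 0x230300001)))) (.node 634 (.node 633 (.leaf 0x230300001) (.leaf 0x230300001)) (.node 635 (.leaf 0x230300001) (.node 636 (.leaf 0x230300001) (.leaf 0x230300001))))) (.node 642 (.node 639 (.node 638 (.leaf 0x230300001) (.leaf 0x230300001)) (.node 640 (.leaf 0x230300001) (.node 641 (.leaf 0x230300001) (.leaf 0x230300001)))) (.node 645 (.node 643 (.leaf 0x230300001) (.node 644 (.leaf 0x230300001) (.leaf 0x230300001))) (.node 646 (.leaf 0x230300001) (.node 647 (.leaf 0x230300001) (.leaf 0x230300001))))))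

def candS_33 : Store := (.node 658 (.node 653 (.node 650 (.node 649 (.leaf 0x34230300001) (.leaf 0x34230300001)) (.node 651 (.leaf 0x34230300001) (.node 652 (.leaf 0x34230300001) (.leaf 0x34230300001)))) (.node 655 (.node 654 (.leaf 0x34230300001) (.leaf 0x34230300001)) (.node 656 (.leaf 0x34230300001) (.node 657 (.leaf 0x34230300001) (.leaf 0x34230300001))))) (.node 663 (.node 660 (.node 659 (.leaf 0x34230300001) (.leaf 0x34230300001)) (.node 661 (.leaf 0x4230300001) (.node 662 (.leaf 0x4230300001) (.leaf 0x4230300001)))) (.node 665 (.node 664 (.leaf 0x4230300001) (.leaf 0x4230300001)) (.node 666 (.leaf 0x4230300001) (.node 667 (.leaf 0x4230300001) (.leaf 0x4230300001))))))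

def candS_34 : Store := (.node 678 (.node 673 (.node 670 (.node 669 (.leaf 0x4230300001) (.leaf 0x4230300001)) (.node 671 (.leaf 0x4230300001) (.node 672 (.leaf 0x4230300001) (.leaf 0x230300001)))) (.node 675 (.node 674 (.leaf 0x230300001) (.leaf 0x230300001)) (.node 676 (.leaf 0x230300001) (.node 677 (.leaf 0x230300001) (.leaf 0x230300001))))) (.node 683 (.node 680 (.node 679 (.leaf 0x230300001) (.leaf 0x230300001)) (.node 681 (.leaf 0x230300001) (.node 682 (.leaf 0x230300001) (.leaf 0x230300001)))) (.node 685 (.node 684 (.leaf 0x230300001) (.leaf 0x230300001)) (.node 686 (.leaf 0x230300001) (.node 687 (.leaf 0x230300001) (.leaf 0x230300001))))))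

def candS_35 : Store := (.node 698 (.node 693 (.node 690 (.node 689 (.leaf 0x230300001) (.leaf 0x230300001)) (.node 691 (.leaf 0x230300001) (.node 692 (.leaf 0x230300001) (.leaf 0x230300001)))) (.node 695 (.node 694 (.leaf 0x230300001) (.leaf 0x230300001)) (.node 696 (.leaf 0x230300001) (.node 697 (.leaf 0x8230300001) (.leaf 0x32))))) (.node 703 (.node 700 (.node 699 (.leaf 0x19e) (.leaf 0x8230300001)) (.node 701 (.leaf 0x8230300001) (.node 702 (.leaf 0x8230300001) (.leaf 0x8230300001)))) (.node 705 (.node 704 (.leaf 0x298) (.leaf 0x8230300001)) (.node 706 (.leaf 0x270) (.node 707 (.leaf 0x8230300001) (.leaf 0x8230300001))))))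

def candS_36 : Store := (.node 718 (.node 713 (.node 710 (.node 709 (.leaf 0x230300001) (.leaf 0x230300001)) (.node 711 (.leaf 0x230300001) (.node 712 (.leaf 0x230300001) (.leaf 0x230300001)))) (.node 715 (.node 714 (.leaf 0x230300001) (.leaf 0x230300001)) (.node 716 (.leaf 0x230300001) (.node 717 (.leaf 0x230300001) (.leaf 0x230300001))))) (.node 723 (.node 720 (.node 719 (.leaf 0x230300001) (.leaf 0x230300001)) (.node 721 (.leaf 0x33780001) (.node 722 (.leaf 0x33780001) (.leaf 0x33780001)))) (.node 726 (.node 724 (.leaf 0x33780001) (.node 725 (.leaf 0x33780001) (.leaf 0x33780001))) (.node 727 (.leaf 0x33780001) (.node 728 (.leaf 0x33780001) (.leaf 0x33780001))))))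

def candS_37 : Store := (.node 739 (.node 734 (.node 731 (.node 730 (.leaf 0x33780001) (.leaf 0x33780001)) (.node 732 (.leaf 0x33780001) (.node 733 (.leaf 0x33780001) (.leaf 0x33780001)))) (.node 736 (.node 735 (.leaf 0x33780001) (.leaf 0x33780001)) (.node 737 (.leaf 0x33780001) (.node 738 (.leaf 0x33780001) (.leaf 0x33780001))))) (.node 744 (.node 741 (.node 740 (.leaf 0x33780001) (.leaf 0x33780001)) (.node 742 (.leaf 0x33780001) (.node 743 (.leaf 0x33780001) (.leaf 0x33780001)))) (.node 746 (.node 745 (.leaf 0x38033780001) (.leaf 0x38033780001)) (.node 747 (.leaf 0x38033780001) (.node 748 (.leaf 0x38033780001) (.leaf 0x38033780001))))))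

def candS_38 : Store := (.node 759 (.node 754 (.node 751 (.node 750 (.leaf 0x38033780001) (.leaf 0x38033780001)) (.node 752 (.leaf 0x38033780001) (.node 753 (.leaf 0x38033780001) (.leaf 0x38033780001)))) (.node 756 (.node 755 (.leaf 0x38033780001) (.leaf 0x38033780001)) (.node 757 (.leaf 0x33780001) (.node 758 (.leaf 0x33780001) (.leaf 0x33780001))))) (.node 764 (.node 761 (.node 760 (.leaf 0x33780001) (.leaf 0x33780001)) (.node 762 (.leaf 0x33780001) (.node 763 (.leaf 0x33780001) (.leaf 0x33780001)))) (.node 766 (.node 765 (.leaf 0x33780001) (.leaf 0x33780001)) (.node 767 (.leaf 0x33780001) (.node 768 (.leaf 0x33780001) (.leaf 0x2c033780001))))))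

def candS_39 : Store := (.node 779 (.node 774 (.node 771 (.node 770 (.leaf 0x2c033780001) (.leaf 0x2c033780001)) (.node 772 (.leaf 0x2c033780001) (.node 773 (.leaf 0x2c033780001) (.leaf 0x2c033780001)))) (.node 776 (.node 775 (.leaf 0x2c033780001) (.leaf 0x2c033780001)) (.node 777 (.leaf 0x2c033780001) (.node 778 (.leaf 0x2c033780001) (.leaf 0x2c033780001))))) (.node 784 (.node 781 (.node 780 (.leaf 0x2c033780001) (.leaf 0x42033780001)) (.node 782 (.leaf 0x42033780001) (.node 783 (.leaf 0x42033780001) (.leaf 0x42033780001)))) (.node 786 (.node 785 (.leaf 0x42033780001) (.leaf 0x42033780001)) (.node 787 (.leaf 0x42033780001) (.node 788 (.leaf 0x42033780001) (.leaf 0x42033780001))))))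

def candS_40 : Store := (.node 799 (.node 794 (.node 791 (.node 790 (.leaf 0x42033780001) (.leaf 0x42033780001)) (.node 792 (.leaf 0x42033780001) (.node 793 (.leaf 0x33780001) (.leaf 0x33780001)))) (.node 796 (.node 795 (.leaf 0x33780001) (.leaf 0x33780001)) (.node 797 (.leaf 0x33780001) (.node 798 (.leaf 0x33780001) (.leaf 0x33780001))))) (.node 804 (.node 801 (.node 800 (.leaf 0x33780001) (.leaf 0x33780001)) (.node 802 (.leaf 0x33780001) (.node 803 (.leaf 0x33780001) (.leaf 0x33780001)))) (.node 807 (.node 805 (.leaf 0x33780001) (.node 806 (.leaf 0x33780001) (.leaf 0x33780001))) (.node 808 (.leaf 0x33780001) (.node 809 (.leaf 0x33780001) (.leaf 0x33780001))))))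

def candS_41 : Store := (.node 820 (.node 815 (.node 812 (.node 811 (.leaf 0x33780001) (.leaf 0x33780001)) (.node 813 (.leaf 0x33780001) (.node 814 (.leaf 0x33780001) (.leaf 0x33780001)))) (.node 817 (.node 816 (.leaf 0x33780001) (.leaf 0x33780001)) (.node 818 (.leaf 0x33780001) (.node 819 (.leaf 0x33780001) (.leaf 0x33780001))))) (.node 825 (.node 822 (.node 821 (.leaf 0x33780001) (.leaf 0x33780001)) (.node 823 (.leaf 0x33780001) (.node 824 (.leaf 0x33780001) (.leaf 0x33780001)))) (.node 827 (.node 826 (.leaf 0x33780001) (.leaf 0x33780001)) (.node 828 (.leaf 0x33780001) (.node 829 (.leaf 0x4033780001) (.leaf 0x4033780001))))))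

def candS_42 : Store := (.node 840 (.node 835 (.node 832 (.node 831 (.leaf 0x4033780001) (.leaf 0x4033780001)) (.node 833 (.leaf 0x4033780001) (.node 834 (.leaf 0x4033780001) (.leaf 0x4033780001)))) (.node 837 (.node 836 (.leaf 0x4033780001) (.leaf 0x4033780001)) (.node 838 (.leaf 0x4033780001) (.node 839 (.leaf 0x4033780001) (.leaf 0x4033780001))))) (.node 845 (.node 842 (.node 841 (.leaf 0x1e033780001) (.leaf 0x1e033780001)) (.node 843 (.leaf 0x1e033780001) (.node 844 (.leaf 0x1e033780001) (.leaf 0x1e033780001)))) (.node 847 (.node 846 (.leaf 0x1e033780001) (.leaf 0x1e033780001)) (.node 848 (.leaf 0x1e033780001) (.node 849 (.leaf 0x1e033780001) (.leaf 0x1e033780001))))))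

def candS_43 : Store := (.node 860 (.node 855 (.node 852 (.node 851 (.leaf 0x1e033780001) (.leaf 0x1e033780001)) (.node 853 (.leaf 0x20033780001) (.node 854 (.leaf 0x20033780001) (.leaf 0x20033780001)))) (.node 857 (.node 856 (.leaf 0x20033780001) (.leaf 0x20033780001)) (.node 858 (.leaf 0x20033780001) (.node 859 (.leaf 0x20033780001) (.leaf 0x20033780001))))) (.node 865 (.node 862 (.node 861 (.leaf 0x20033780001) (.leaf 0x20033780001)) (.node 863 (.leaf 0x20033780001) (.node 864 (.leaf 0x20033780001) (.leaf 0x3e1c00001)))) (.node 867 (.node 866 (.leaf 0x3e1c00001) (.leaf 0x3e1c00001)) (.node 868 (.leaf 0x3e1c00001) (.node 869 (.leaf 0x3e1c00001) (.leaf 0x3e1c00001))))))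

def candS_44 : Store := (.node 880 (.node 875 (.node 872 (.node 871 (.leaf 0x3e1c00001) (.leaf 0x3e1c00001)) (.node 873 (.leaf 0x3e1c00001) (.node 874 (.leaf 0x3e1c00001) (.leaf 0x3e1c00001)))) (.node 877 (.node 876 (.leaf 0x3e1c00001) (.leaf 0xc3e1c00001)) (.node 878 (.leaf 0xc3e1c00001) (.node 879 (.leaf 0xc3e1c00001) (.leaf 0xec))))) (.node 885 (.node 882 (.node 881 (.leaf 0xc3e1c00001) (.leaf 0xc3e1c00001)) (.node 883 (.leaf 0xc3e1c00001) (.node 884 (.leaf 0xc3e1c00001) (.leaf 0x44)))) (.node 888 (.node 886 (.leaf 0xc3e1c00001) (.node 887 (.leaf 0x264) (.leaf 0x34e))) (.node 889 (.leaf 0x403e1c00001) (.node 890 (.leaf 0x403e1c00001) (.leaf 0x403e1c00001))))))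

def candS_45 : Store := (.node 901 (.node 896 (.node 893 (.node 892 (.leaf 0x403e1c00001) (.leaf 0x403e1c00001)) (.node 894 (.leaf 0x403e1c00001) (.node 895 (.leaf 0x403e1c00001) (.leaf 0x403e1c00001)))) (.node 898 (.node 897 (.leaf 0x403e1c00001) (.leaf 0x403e1c00001)) (.node 899 (.leaf 0x403e1c00001) (.node 900 (.leaf 0x403e1c00001) (.leaf 0x3e1c00001))))) (.node 906 (.node 903 (.node 902 (.leaf 0x3e1c00001) (.leaf 0x3e1c00001)) (.node 904 (.leaf 0x3e1c00001) (.node 905 (.leaf 0x3e1c00001) (.leaf 0x3e1c00001)))) (.node 908 (.node 907 (.leaf 0x3e1c00001) (.leaf 0x3e1c00001)) (.node 909 (.leaf 0x3e1c00001) (.node 910 (.leaf 0x3e1c00001) (.leaf 0x3e1c00001))))))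

def candS_46 : Store := (.node 921 (.node 916 (.node 913 (.node 912 (.leaf 0x3e1c00001) (.leaf 0x2e3e1c00001)) (.node 914 (.leaf 0x2e3e1c00001) (.node 915 (.leaf 0x2e3e1c00001) (.leaf 0x2e3e1c00001)))) (.node 918 (.node 917 (.leaf 0x2e3e1c00001) (.leaf 0x2e3e1c00001)) (.node 919 (.leaf 0x2e3e1c00001) (.node 920 (.leaf 0x2e3e1c00001) (.leaf 0x2e3e1c00001))))) (.node 926 (.node 923 (.node 922 (.leaf 0x2e3e1c00001) (.leaf 0x2e3e1c00001)) (.node 924 (.leaf 0x2e3e1c00001) (.node 925 (.leaf 0x3e1c00001) (.leaf 0x3e1c00001)))) (.node 928 (.node 927 (.leaf 0x3e1c00001) (.leaf 0x3e1c00001)) (.node 929 (.leaf 0x3e1c00001) (.node 930 (.leaf 0x3e1c00001) (.leaf 0x3e1c00001))))))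

def candS_47 : Store := (.node 941 (.node 936 (.node 933 (.node 932 (.leaf 0x3e1c00001) (.leaf 0x3e1c00001)) (.node 934 (.leaf 0x3e1c00001) (.node 935 (.leaf 0x3e1c00001) (.leaf 0x3e1c00001)))) (.node 938 (.node 937 (.leaf 0x3e1c00001) (.leaf 0x3e1c00001)) (.node 939 (.leaf 0x3e1c00001) (.node 940 (.leaf 0x3e1c00001) (.leaf 0x3e1c00001))))) (.node 946 (.node 943 (.node 942 (.leaf 0x3e1c00001) (.leaf 0x3e1c00001)) (.node 944 (.leaf 0x3e1c00001) (.node 945 (.leaf 0x3e1c00001) (.leaf 0x3e1c00001)))) (.node 948 (.node 947 (.leaf 0x3e1c00001) (.leaf 0x3e1c00001)) (.node 949 (.leaf 0x223e1c00001) (.node 950 (.leaf 0x223e1c00001) (.leaf 0x223e1c00001))))))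

def candS_48 : Store := (.node 961 (.node 956 (.node 953 (.node 952 (.leaf 0x223e1c00001) (.leaf 0x8000223e1c00001)) (.node 954 (.leaf 0x223e1c00001) (.node 955 (.leaf 0x223e1c00001) (.leaf 0x9800223e1c00001)))) (.node 958 (.node 957 (.leaf 0x223e1c00001) (.leaf 0x7000223e1c00001)) (.node 959 (.leaf 0x223e1c00001) (.node 960 (.leaf 0x223e1c00001) (.leaf 0x3e1c00001))))) (.node 966 (.node 963 (.node 962 (.leaf 0x3e1c00001) (.leaf 0x3e1c00001)) (.node 964 (.leaf 0x3e1c00001) (.node 965 (.leaf 0x3e1c00001) (.leaf 0x3e1c00001)))) (.node 969 (.node 967 (.leaf 0x3e1c00001) (.node 968 (.leaf 0x3e1c00001) (.leaf 0x3e1c00001))) (.node 970 (.leaf 0x3e1c00001) (.node 971 (.leaf 0x3e1c00001) (.leaf 0x3e1c00001))))))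

def candS_49 : Store := (.node 982 (.node 977 (.node 974 (.node 973 (.leaf 0x1c3e1c00001) (.leaf 0x1c3e1c00001)) (.node 975 (.leaf 0x1c3e1c00001) (.node 976 (.leaf 0x1c3e1c00001) (.leaf 0x1c3e1c00001)))) (.node 979 (.node 978 (.leaf 0x1c3e1c00001) (.leaf 0x1c3e1c00001)) (.node 980 (.leaf 0x1c3e1c00001) (.node 981 (.leaf 0x1c3e1c00001) (.leaf 0x1c3e1c00001))))) (.node 987 (.node 984 (.node 983 (.leaf 0x1c3e1c00001) (.leaf 0x1c3e1c00001)) (.node 985 (.leaf 0x3e1c00001) (.node 986 (.leaf 0x3e1c00001) (.leaf 0x3e1c00001)))) (.node 989 (.node 988 (.leaf 0x3e1c00001) (.leaf 0x3e1c00001)) (.node 990 (.leaf 0x3e1c00001) (.node 991 (.leaf 0x3e1c00001) (.leaf 0x3e1c00001))))))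

def candS_50 : Store := (.node 1002 (.node 997 (.node 994 (.node 993 (.leaf 0x3e1c00001) (.leaf 0x3e1c00001)) (.node 995 (.leaf 0x3e1c00001) (.node 996 (.leaf 0x3e1c00001) (.leaf 0x183e1c00001)))) (.node 999 (.node 998 (.leaf 0x183e1c00001) (.leaf 0x183e1c00001)) (.node 1000 (.leaf 0x183e1c00001) (.node 1001 (.leaf 0x183e1c00001) (.leaf 0x183e1c00001))))) (.node 1007 (.node 1004 (.node 1003 (.leaf 0x183e1c00001) (.leaf 0x183e1c00001)) (.node 1005 (.leaf 0x183e1c00001) (.node 1006 (.leaf 0x183e1c00001) (.leaf 0x183e1c00001)))) (.node 1009 (.node 1008 (.leaf 0x183e1c00001) (.leaf 0x10462180001)) (.node 1010 (.leaf 0x10462180001) (.node 1011 (.leaf 0x10462180001) (.leaf 0x10462180001))))))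

def candS_51 : Store := (.node 1022 (.node 1017 (.node 1014 (.node 1013 (.leaf 0x10462180001) (.leaf 0x10462180001)) (.node 1015 (.leaf 0x10462180001) (.node 1016 (.leaf 0x10462180001) (.leaf 0x10462180001)))) (.node 1019 (.node 1018 (.leaf 0x10462180001) (.leaf 0x10462180001)) (.node 1020 (.leaf 0x10462180001) (.node 1021 (.leaf 0x462180001) (.leaf 0x462180001))))) (.node 1027 (.node 1024 (.node 1023 (.leaf 0x462180001) (.leaf 0x462180001)) (.node 1025 (.leaf 0x462180001) (.node 1026 (.leaf 0x462180001) (.leaf 0x462180001)))) (.node 1029 (.node 1028 (.leaf 0x462180001) (.leaf 0x462180001)) (.node 1030 (.leaf 0x462180001) (.node 1031 (.leaf 0x462180001) (.leaf 0x462180001))))))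

def candS_52 : Store := (.node 1042 (.node 1037 (.node 1034 (.node 1033 (.leaf 0x462180001) (.leaf 0x462180001)) (.node 1035 (.leaf 0x462180001) (.node 1036 (.leaf 0x462180001) (.leaf 0x462180001)))) (.node 1039 (.node 1038 (.leaf 0x462180001) (.leaf 0x462180001)) (.node 1040 (.leaf 0x462180001) (.node 1041 (.leaf 0x462180001) (.leaf 0x462180001))))) (.node 1047 (.node 1044 (.node 1043 (.leaf 0x462180001) (.leaf 0x462180001)) (.node 1045 (.leaf 0x1c462180001) (.node 1046 (.leaf 0x1c462180001) (.leaf 0x1c462180001)))) (.node 1050 (.node 1048 (.leaf 0x1c462180001) (.node 1049 (.leaf 0x1c462180001) (.leaf 0x1c462180001))) (.node 1051 (.leaf 0x1c462180001) (.node 1052 (.leaf 0x1c462180001) (.leaf 0x1c462180001))))))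

def candS_53 : Store := (.node 1063 (.node 1058 (.node 1055 (.node 1054 (.leaf 0x1c462180001) (.leaf 0x1c462180001)) (.node 1056 (.leaf 0x1c462180001) (.node 1057 (.leaf 0x462180001) (.leaf 0x462180001)))) (.node 1060 (.node 1059 (.leaf 0x462180001) (.leaf 0x462180001)) (.node 1061 (.leaf 0x462180001) (.node 1062 (.leaf 0x462180001) (.leaf 0x462180001))))) (.node 1068 (.node 1065 (.node 1064 (.leaf 0x462180001) (.leaf 0x462180001)) (.node 1066 (.leaf 0x462180001) (.node 1067 (.leaf 0x462180001) (.leaf 0x462180001)))) (.node 1070 (.node 1069 (.leaf 0x462180001) (.leaf 0x462180001)) (.node 1071 (.leaf 0x462180001) (.node 1072 (.leaf 0x462180001) (.leaf 0x462180001))))))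

def candS_54 : Store := (.node 1083 (.node 1078 (.node 1075 (.node 1074 (.leaf 0x462180001) (.leaf 0x462180001)) (.node 1076 (.leaf 0x462180001) (.node 1077 (.leaf 0x462180001) (.leaf 0x462180001)))) (.node 1080 (.node 1079 (.leaf 0x462180001) (.leaf 0x462180001)) (.node 1081 (.leaf 0x462180001) (.node 1082 (.leaf 0x462180001) (.leaf 0x462180001))))) (.node 1088 (.node 1085 (.node 1084 (.leaf 0x462180001) (.leaf 0x462180001)) (.node 1086 (.leaf 0x462180001) (.node 1087 (.leaf 0x462180001) (.leaf 0x462180001)))) (.node 1090 (.node 1089 (.leaf 0x462180001) (.leaf 0x462180001)) (.node 1091 (.leaf 0x462180001) (.node 1092 (.leaf 0x462180001) (.leaf 0x20462180001))))))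

def candS_55 : Store := (.node 1103 (.node 1098 (.node 1095 (.node 1094 (.leaf 0x20462180001) (.leaf 0x20462180001)) (.node 1096 (.leaf 0x20462180001) (.node 1097 (.leaf 0x20462180001) (.leaf 0x20462180001)))) (.node 1100 (.node 1099 (.leaf 0x20462180001) (.leaf 0x20462180001)) (.node 1101 (.leaf 0x20462180001) (.node 1102 (.leaf 0x20462180001) (.leaf 0x20462180001))))) (.node 1108 (.node 1105 (.node 1104 (.leaf 0x20462180001) (.leaf 0x462180001)) (.node 1106 (.leaf 0x462180001) (.node 1107 (.leaf 0x462180001) (.leaf 0x462180001)))) (.node 1110 (.node 1109 (.leaf 0x462180001) (.leaf 0x462180001)) (.node 1111 (.leaf 0x462180001) (.node 1112 (.leaf 0x462180001) (.leaf 0x462180001))))))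

def candS_56 : Store := (.node 1123 (.node 1118 (.node 1115 (.node 1114 (.leaf 0x462180001) (.leaf 0x462180001)) (.node 1116 (.leaf 0x462180001) (.node 1117 (.leaf 0x462180001) (.leaf 0x462180001)))) (.node 1120 (.node 1119 (.leaf 0x462180001) (.leaf 0x462180001)) (.node 1121 (.leaf 0x462180001) (.node 1122 (.leaf 0x462180001) (.leaf 0x462180001))))) (.node 1128 (.node 1125 (.node 1124 (.leaf 0x462180001) (.leaf 0x462180001)) (.node 1126 (.leaf 0x462180001) (.node 1127 (.leaf 0x462180001) (.leaf 0x462180001)))) (.node 1131 (.node 1129 (.leaf 0x8462180001) (.node 1130 (.leaf 0xa2) (.leaf 0x96))) (.node 1132 (.leaf 0x8462180001) (.node 1133 (.leaf 0x29a) (.leaf 0x8462180001))))))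

def candS_57 : Store := (.node 1144 (.node 1139 (.node 1136 (.node 1135 (.leaf 0x8462180001) (.leaf 0x8462180001)) (.node 1137 (.leaf 0x8462180001) (.node 1138 (.leaf 0x314) (.leaf 0x8462180001)))) (.node 1141 (.node 1140 (.leaf 0x8462180001) (.leaf 0x2462180001)) (.node 1142 (.leaf 0x2462180001) (.node 1143 (.leaf 0x2462180001) (.leaf 0x800002462180001))))) (.node 1149 (.node 1146 (.node 1145 (.leaf 0x2462180001) (.leaf 0x2462180001)) (.node 1147 (.leaf 0x700002462180001) (.node 1148 (.leaf 0x2462180001) (.leaf 0x2462180001)))) (.node 1151 (.node 1150 (.leaf 0x2462180001) (.leaf 0x2462180001)) (.node 1152 (.leaf 0x980002462180001) (.node 1153 (.leaf 0x171780001) (.leaf 0x171780001))))))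

def candS_58 : Store := (.node 1164 (.node 1159 (.node 1156 (.node 1155 (.leaf 0x171780001) (.leaf 0x171780001)) (.node 1157 (.leaf 0x171780001) (.node 1158 (.leaf 0x171780001) (.leaf 0x171780001)))) (.node 1161 (.node 1160 (.leaf 0x171780001) (.leaf 0x171780001)) (.node 1162 (.leaf 0x171780001) (.node 1163 (.leaf 0x171780001) (.leaf 0x171780001))))) (.node 1169 (.node 1166 (.node 1165 (.leaf 0x34171780001) (.leaf 0x34171780001)) (.node 1167 (.leaf 0x34171780001) (.node 1168 (.leaf 0x260) (.leaf 0x34171780001)))) (.node 1171 (.node 1170 (.leaf 0x34171780001) (.leaf 0x64)) (.node 1172 (.leaf 0x34171780001) (.node 1173 (.leaf 0x34171780001) (.leaf 0x34171780001))))))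

def candS_59 : Store := (.node 1184 (.node 1179 (.node 1176 (.node 1175 (.leaf 0xf0) (.leaf 0x342)) (.node 1177 (.leaf 0x3c171780001) (.node 1178 (.leaf 0x3c171780001) (.leaf 0x3c171780001)))) (.node 1181 (.node 1180 (.leaf 0x3c171780001) (.leaf 0x3c171780001)) (.node 1182 (.leaf 0x3c171780001) (.node 1183 (.leaf 0x3c171780001) (.leaf 0x3c171780001))))) (.node 1189 (.node 1186 (.node 1185 (.leaf 0x3c171780001) (.leaf 0x3c171780001)) (.node 1187 (.leaf 0x3c171780001) (.node 1188 (.leaf 0x3c171780001) (.leaf 0x171780001)))) (.node 1191 (.node 1190 (.leaf 0x171780001) (.leaf 0x171780001)) (.node 1192 (.leaf 0x171780001) (.node 1193 (.leaf 0x171780001) (.leaf 0x171780001))))))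

def candS_60 : Store := (.node 1204 (.node 1199 (.node 1196 (.node 1195 (.leaf 0x171780001) (.leaf 0x171780001)) (.node 1197 (.leaf 0x171780001) (.node 1198 (.leaf 0x171780001) (.leaf 0x171780001)))) (.node 1201 (.node 1200 (.leaf 0x171780001) (.leaf 0x22171780001)) (.node 1202 (.leaf 0x22171780001) (.node 1203 (.leaf 0x22171780001) (.leaf 0x22171780001))))) (.node 1209 (.node 1206 (.node 1205 (.leaf 0x22171780001) (.leaf 0x22171780001)) (.node 1207 (.leaf 0x22171780001) (.node 1208 (.leaf 0x22171780001) (.leaf 0x22171780001)))) (.node 1212 (.node 1210 (.leaf 0x22171780001) (.node 1211 (.leaf 0x22171780001) (.leaf 0x22171780001))) (.node 1213 (.leaf 0x2171780001) (.node 1214 (.leaf 0x2171780001) (.leaf 0x2171780001))))))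

def candS_61 : Store := (.node 1225 (.node 1220 (.node 1217 (.node 1216 (.leaf 0x2171780001) (.leaf 0x2171780001)) (.node 1218 (.leaf 0x2171780001) (.node 1219 (.leaf 0x2171780001) (.leaf 0x2171780001)))) (.node 1222 (.node 1221 (.leaf 0x2171780001) (.leaf 0x2171780001)) (.node 1223 (.leaf 0x2171780001) (.node 1224 (.leaf 0x2171780001) (.leaf 0x1c171780001))))) (.node 1230 (.node 1227 (.node 1226 (.leaf 0x48001c171780001) (.leaf 0x10001c171780001)) (.node 1228 (.leaf 0x1c171780001) (.node 1229 (.leaf 0x40001c171780001) (.leaf 0x1c171780001)))) (.node 1232 (.node 1231 (.leaf 0x1c171780001) (.leaf 0x1c171780001)) (.node 1233 (.leaf 0x1c171780001) (.node 1234 (.leaf 0x88001c171780001) (.leaf 0x1c171780001))))))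

def candS_62 : Store := (.node 1245 (.node 1240 (.node 1237 (.node 1236 (.leaf 0x1c171780001) (.leaf 0x171780001)) (.node 1238 (.leaf 0x171780001) (.node 1239 (.leaf 0x171780001) (.leaf 0x171780001)))) (.node 1242 (.node 1241 (.leaf 0x171780001) (.leaf 0x171780001)) (.node 1243 (.leaf 0x171780001) (.node 1244 (.leaf 0x171780001) (.leaf 0x171780001))))) (.node 1250 (.node 1247 (.node 1246 (.leaf 0x171780001) (.leaf 0x171780001)) (.node 1248 (.leaf 0x171780001) (.node 1249 (.leaf 0x171780001) (.leaf 0x171780001)))) (.node 1252 (.node 1251 (.leaf 0x171780001) (.leaf 0x171780001)) (.node 1253 (.leaf 0x171780001) (.node 1254 (.leaf 0x171780001) (.leaf 0x171780001))))))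

def candS_63 : Store := (.node 1265 (.node 1260 (.node 1257 (.node 1256 (.leaf 0x171780001) (.leaf 0x171780001)) (.node 1258 (.leaf 0x171780001) (.node 1259 (.leaf 0x171780001) (.leaf 0x171780001)))) (.node 1262 (.node 1261 (.leaf 0x46171780001) (.leaf 0x46171780001)) (.node 1263 (.leaf 0x46171780001) (.node 1264 (.leaf 0x46171780001) (.leaf 0x46171780001))))) (.node 1270 (.node 1267 (.node 1266 (.leaf 0x46171780001) (.leaf 0x46171780001)) (.node 1268 (.leaf 0x46171780001) (.node 1269 (.leaf 0x46171780001) (.leaf 0x46171780001)))) (.node 1272 (.node 1271 (.leaf 0x46171780001) (.leaf 0x46171780001)) (.node 1273 (.leaf 0x171780001) (.node 1274 (.leaf 0x171780001) (.leaf 0x171780001))))))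

def candS_64 : Store := (.node 1285 (.node 1280 (.node 1277 (.node 1276 (.leaf 0x171780001) (.leaf 0x171780001)) (.node 1278 (.leaf 0x171780001) (.node 1279 (.leaf 0x171780001) (.leaf 0x171780001)))) (.node 1282 (.node 1281 (.leaf 0x171780001) (.leaf 0x171780001)) (.node 1283 (.leaf 0x171780001) (.node 1284 (.leaf 0x171780001) (.leaf 0x171780001))))) (.node 1290 (.node 1287 (.node 1286 (.leaf 0x171780001) (.leaf 0x171780001)) (.node 1288 (.leaf 0x171780001) (.node 1289 (.leaf 0x171780001) (.leaf 0x171780001)))) (.node 1293 (.node 1291 (.leaf 0x171780001) (.node 1292 (.leaf 0x171780001) (.leaf 0x171780001))) (.node 1294 (.leaf 0x171780001) (.node 1295 (.leaf 0x171780001) (.leaf 0x171780001))))))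

def candS_65 : Store := (.node 1306 (.node 1301 (.node 1298 (.node 1297 (.leaf 0x1) (.leaf 0x1)) (.node 1299 (.leaf 0x1) (.node 1300 (.leaf 0x1) (.leaf 0x1)))) (.node 1303 (.node 1302 (.leaf 0x1) (.leaf 0x1)) (.node 1304 (.leaf 0x1) (.node 1305 (.leaf 0x1) (.leaf 0x1))))) (.node 1311 (.node 1308 (.node 1307 (.leaf 0x1) (.leaf 0x1)) (.node 1309 (.leaf 0x1) (.node 1310 (.leaf 0x1) (.leaf 0x1)))) (.node 1313 (.node 1312 (.leaf 0x1) (.leaf 0x1)) (.node 1314 (.leaf 0x1) (.node 1315 (.leaf 0x1) (.leaf 0x1))))))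

def candS_66 : Store := (.node 1326 (.node 1321 (.node 1318 (.node 1317 (.leaf 0x1) (.leaf 0x1)) (.node 1319 (.leaf 0x1) (.node 1320 (.leaf 0x1) (.leaf 0x1)))) (.node 1323 (.node 1322 (.leaf 0x1) (.leaf 0x1)) (.node 1324 (.leaf 0x1) (.node 1325 (.leaf 0x1) (.leaf 0x1))))) (.node 1331 (.node 1328 (.node 1327 (.leaf 0x1) (.leaf 0x1)) (.node 1329 (.leaf 0x1) (.node 1330 (.leaf 0x1) (.leaf 0x1)))) (.node 1333 (.node 1332 (.leaf 0x1) (.leaf 0x1c000000001)) (.node 1334 (.leaf 0x1c000000001) (.node 1335 (.leaf 0x1c000000001) (.leaf 0x1c000000001))))))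

def candS_67 : Store := (.node 1346 (.node 1341 (.node 1338 (.node 1337 (.leaf 0x1c000000001) (.leaf 0x1c000000001)) (.node 1339 (.leaf 0x1c000000001) (.node 1340 (.leaf 0x1c000000001) (.leaf 0x1c000000001)))) (.node 1343 (.node 1342 (.leaf 0x1c000000001) (.leaf 0x1c000000001)) (.node 1344 (.leaf 0x1c000000001) (.node 1345 (.leaf 0x2000000001) (.leaf 0x2000000001))))) (.node 1351 (.node 1348 (.node 1347 (.leaf 0x2000000001) (.leaf 0x2000000001)) (.node 1349 (.leaf 0x2000000001) (.node 1350 (.leaf 0x2000000001) (.leaf 0x80002000000001)))) (.node 1353 (.node 1352 (.leaf 0x2000000001) (.leaf 0x580002000000001)) (.node 1354 (.leaf 0x2000000001) (.node 1355 (.leaf 0x680002000000001) (.leaf 0x500002000000001))))))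

def candS_68 : Store := (.node 1366 (.node 1361 (.node 1358 (.node 1357 (.leaf 0x1) (.leaf 0x1)) (.node 1359 (.leaf 0x1) (.node 1360 (.leaf 0x1) (.leaf 0x1)))) (.node 1363 (.node 1362 (.leaf 0x1) (.leaf 0x1)) (.node 1364 (.leaf 0x1) (.node 1365 (.leaf 0x1) (.leaf 0x1))))) (.node 1371 (.node 1368 (.node 1367 (.leaf 0x1) (.leaf 0x1)) (.node 1369 (.leaf 0x20000000001) (.node 1370 (.leaf 0x20000000001) (.leaf 0x20000000001)))) (.node 1374 (.node 1372 (.leaf 0x20000000001) (.node 1373 (.leaf 0x20000000001) (.leaf 0x20000000001))) (.node 1375 (.leaf 0x20000000001) (.node 1376 (.leaf 0x20000000001) (.leaf 0x20000000001))))))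

def candS_69 : Store := (.node 1387 (.node 1382 (.node 1379 (.node 1378 (.leaf 0x20000000001) (.leaf 0x20000000001)) (.node 1380 (.leaf 0x20000000001) (.node 1381 (.leaf 0x10000000001) (.leaf 0x10000000001)))) (.node 1384 (.node 1383 (.leaf 0x10000000001) (.leaf 0x10000000001)) (.node 1385 (.leaf 0x10000000001) (.node 1386 (.leaf 0x10000000001) (.leaf 0x10000000001))))) (.node 1392 (.node 1389 (.node 1388 (.leaf 0x10000000001) (.leaf 0x10000000001)) (.node 1390 (.leaf 0x10000000001) (.node 1391 (.leaf 0x10000000001) (.leaf 0x10000000001)))) (.node 1394 (.node 1393 (.leaf 0x8000000001) (.leaf 0x8000000001)) (.node 1395 (.leaf 0x8000000001) (.node 1396 (.leaf 0x8000000001) (.leaf 0x8000000001))))))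

def candS_70 : Store := (.node 1407 (.node 1402 (.node 1399 (.node 1398 (.leaf 0x8000000001) (.leaf 0x8000000001)) (.node 1400 (.leaf 0x8000000001) (.node 1401 (.leaf 0x8000000001) (.leaf 0x8000000001)))) (.node 1404 (.node 1403 (.leaf 0x8000000001) (.leaf 0x8000000001)) (.node 1405 (.leaf 0x1) (.node 1406 (.leaf 0x1) (.leaf 0x1))))) (.node 1412 (.node 1409 (.node 1408 (.leaf 0x1) (.leaf 0x1)) (.node 1410 (.leaf 0x1) (.node 1411 (.leaf 0x1) (.leaf 0x1)))) (.node 1414 (.node 1413 (.leaf 0x1) (.leaf 0x1)) (.node 1415 (.leaf 0x1) (.node 1416 (.leaf 0x1) (.leaf 0x1))))))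

def candS_71 : Store := (.node 1427 (.node 1422 (.node 1419 (.node 1418 (.leaf 0x112) (.leaf 0x0)) (.node 1420 (.leaf 0x1) (.node 1421 (.leaf 0x2b2) (.leaf 0x1)))) (.node 1424 (.node 1423 (.leaf 0x1) (.leaf 0x2b0)) (.node 1425 (.leaf 0x1) (.node 1426 (.leaf 0x1) (.leaf 0x1))))) (.node 1432 (.node 1429 (.node 1428 (.leaf 0x1) (.leaf 0x1)) (.node 1430 (.leaf 0x1) (.node 1431 (.leaf 0x1) (.leaf 0x1)))) (.node 1434 (.node 1433 (.leaf 0x1) (.leaf 0x1)) (.node 1435 (.leaf 0x1) (.node 1436 (.leaf 0x1) (.leaf 0x1))))))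

def candS_72 : Store := (.node 1447 (.node 1442 (.node 1439 (.node 1438 (.leaf 0x1) (.leaf 0x1)) (.node 1440 (.leaf 0x1) (.node 1441 (.leaf 0x3e1180001) (.leaf 0x3e1180001)))) (.node 1444 (.node 1443 (.leaf 0x3e1180001) (.leaf 0x3e1180001)) (.node 1445 (.leaf 0x3e1180001) (.node 1446 (.leaf 0x3e1180001) (.leaf 0x3e1180001))))) (.node 1452 (.node 1449 (.node 1448 (.leaf 0x3e1180001) (.leaf 0x3e1180001)) (.node 1450 (.leaf 0x3e1180001) (.node 1451 (.leaf 0x3e1180001) (.leaf 0x3e1180001)))) (.node 1455 (.node 1453 (.leaf 0xc3e1180001) (.node 1454 (.leaf 0xc3e1180001) (.leaf 0xc3e1180001))) (.node 1456 (.leaf 0x23a) (.node 1457 (.leaf 0xc3e1180001) (.leaf 0xc3e1180001))))))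

def candS_73 : Store := (.node 1468 (.node 1463 (.node 1460 (.node 1459 (.leaf 0x356) (.leaf 0xc3e1180001)) (.node 1461 (.leaf 0x1c4) (.node 1462 (.leaf 0xc3e1180001) (.leaf 0xc3e1180001)))) (.node 1465 (.node 1464 (.leaf 0x40) (.leaf 0x183e1180001)) (.node 1466 (.leaf 0x183e1180001) (.node 1467 (.leaf 0x183e1180001) (.leaf 0x183e1180001))))) (.node 1473 (.node 1470 (.node 1469 (.leaf 0x183e1180001) (.leaf 0x183e1180001)) (.node 1471 (.leaf 0x183e1180001) (.node 1472 (.leaf 0x183e1180001) (.leaf 0x183e1180001)))) (.node 1475 (.node 1474 (.leaf 0x183e1180001) (.leaf 0x183e1180001)) (.node 1476 (.leaf 0x183e1180001) (.node 1477 (.leaf 0x223e1180001) (.leaf 0x223e1180001))))))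

def candS_74 : Store := (.node 1488 (.node 1483 (.node 1480 (.node 1479 (.leaf 0x223e1180001) (.leaf 0x223e1180001)) (.node 1481 (.leaf 0x9800223e1180001) (.node 1482 (.leaf 0x223e1180001) (.leaf 0x223e1180001)))) (.node 1485 (.node 1484 (.leaf 0x8000223e1180001) (.leaf 0x223e1180001)) (.node 1486 (.leaf 0x7000223e1180001) (.node 1487 (.leaf 0x223e1180001) (.leaf 0x223e1180001))))) (.node 1493 (.node 1490 (.node 1489 (.leaf 0x2e3e1180001) (.leaf 0x2e3e1180001)) (.node 1491 (.leaf 0x2e3e1180001) (.node 1492 (.leaf 0x2e3e1180001) (.leaf 0x2e3e1180001)))) (.node 1495 (.node 1494 (.leaf 0x2e3e1180001) (.leaf 0x2e3e1180001)) (.node 1496 (.leaf 0x2e3e1180001) (.node 1497 (.leaf 0x2e3e1180001) (.leaf 0x2e3e1180001))))))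

def candS_75 : Store := (.node 1508 (.node 1503 (.node 1500 (.node 1499 (.leaf 0x2e3e1180001) (.leaf 0x2e3e1180001)) (.node 1501 (.leaf 0x1c3e1180001) (.node 1502 (.leaf 0x1c3e1180001) (.leaf 0x1c3e1180001)))) (.node 1505 (.node 1504 (.leaf 0x1c3e1180001) (.leaf 0x1c3e1180001)) (.node 1506 (.leaf 0x1c3e1180001) (.node 1507 (.leaf 0x1c3e1180001) (.leaf 0x1c3e1180001))))) (.node 1513 (.node 1510 (.node 1509 (.leaf 0x1c3e1180001) (.leaf 0x1c3e1180001)) (.node 1511 (.leaf 0x1c3e1180001) (.node 1512 (.leaf 0x1c3e1180001) (.leaf 0x3e1180001)))) (.node 1515 (.node 1514 (.leaf 0x3e1180001) (.leaf 0x3e1180001)) (.node 1516 (.leaf 0x3e1180001) (.node 1517 (.leaf 0x3e1180001) (.leaf 0x3e1180001))))))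

def candS_76 : Store := (.node 1528 (.node 1523 (.node 1520 (.node 1519 (.leaf 0x3e1180001) (.leaf 0x3e1180001)) (.node 1521 (.leaf 0x3e1180001) (.node 1522 (.leaf 0x3e1180001) (.leaf 0x3e1180001)))) (.node 1525 (.node 1524 (.leaf 0x3e1180001) (.leaf 0x3e1180001)) (.node 1526 (.leaf 0x3e1180001) (.node 1527 (.leaf 0x3e1180001) (.leaf 0x3e1180001))))) (.node 1533 (.node 1530 (.node 1529 (.leaf 0x3e1180001) (.leaf 0x3e1180001)) (.node 1531 (.leaf 0x3e1180001) (.node 1532 (.leaf 0x3e1180001) (.leaf 0x3e1180001)))) (.node 1536 (.node 1534 (.leaf 0x3e1180001) (.node 1535 (.leaf 0x3e1180001) (.leaf 0x3e1180001))) (.node 1537 (.leaf 0x3e1180001) (.node 1538 (.leaf 0x3e1180001) (.leaf 0x3e1180001))))))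

def candS_77 : Store := (.node 1549 (.node 1544 (.node 1541 (.node 1540 (.leaf 0x3e1180001) (.leaf 0x3e1180001)) (.node 1542 (.leaf 0x3e1180001) (.node 1543 (.leaf 0x3e1180001) (.leaf 0x3e1180001)))) (.node 1546 (.node 1545 (.leaf 0x3e1180001) (.leaf 0x3e1180001)) (.node 1547 (.leaf 0x3e1180001) (.node 1548 (.leaf 0x3e1180001) (.leaf 0x3e1180001))))) (.node 1554 (.node 1551 (.node 1550 (.leaf 0x3e1180001) (.leaf 0x3e1180001)) (.node 1552 (.leaf 0x3e1180001) (.node 1553 (.leaf 0x3e1180001) (.leaf 0x3e1180001)))) (.node 1556 (.node 1555 (.leaf 0x3e1180001) (.leaf 0x3e1180001)) (.node 1557 (.leaf 0x3e1180001) (.node 1558 (.leaf 0x3e1180001) (.leaf 0x3e1180001))))))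

def candS_78 : Store := (.node 1569 (.node 1564 (.node 1561 (.node 1560 (.leaf 0x3e1180001) (.leaf 0x3e1180001)) (.node 1562 (.leaf 0x3e1180001) (.node 1563 (.leaf 0x3e1180001) (.leaf 0x3e1180001)))) (.node 1566 (.node 1565 (.leaf 0x3e1180001) (.leaf 0x3e1180001)) (.node 1567 (.leaf 0x3e1180001) (.node 1568 (.leaf 0x3e1180001) (.leaf 0x3e1180001))))) (.node 1574 (.node 1571 (.node 1570 (.leaf 0x3e1180001) (.leaf 0x3e1180001)) (.node 1572 (.leaf 0x3e1180001) (.node 1573 (.leaf 0x403e1180001) (.leaf 0x403e1180001)))) (.node 1576 (.node 1575 (.leaf 0x403e1180001) (.leaf 0x403e1180001)) (.node 1577 (.leaf 0x403e1180001) (.node 1578 (.leaf 0x403e1180001) (.leaf 0x403e1180001))))))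

def candS_79 : Store := (.node 1589 (.node 1584 (.node 1581 (.node 1580 (.leaf 0x403e1180001) (.leaf 0x403e1180001)) (.node 1582 (.leaf 0x403e1180001) (.node 1583 (.leaf 0x403e1180001) (.leaf 0x403e1180001)))) (.node 1586 (.node 1585 (.leaf 0x3e0180001) (.leaf 0x3e0180001)) (.node 1587 (.leaf 0x3e0180001) (.node 1588 (.leaf 0x3e0180001) (.leaf 0x3e0180001))))) (.node 1594 (.node 1591 (.node 1590 (.leaf 0x3e0180001) (.leaf 0x3e0180001)) (.node 1592 (.leaf 0x3e0180001) (.node 1593 (.leaf 0x3e0180001) (.leaf 0x3e0180001)))) (.node 1596 (.node 1595 (.leaf 0x3e0180001) (.leaf 0x3e0180001)) (.node 1597 (.leaf 0xc3e0180001) (.node 1598 (.leaf 0xc3e0180001) (.leaf 0xc3e0180001))))))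

def candS_80 : Store := (.node 1609 (.node 1604 (.node 1601 (.node 1600 (.leaf 0x1aa) (.leaf 0xc3e0180001)) (.node 1602 (.leaf 0xc3e0180001) (.node 1603 (.leaf 0x242) (.leaf 0xc3e0180001)))) (.node 1606 (.node 1605 (.leaf 0x340) (.leaf 0xc3e0180001)) (.node 1607 (.leaf 0x1e) (.node 1608 (.leaf 0xc3e0180001) (.leaf 0x3e0180001))))) (.node 1614 (.node 1611 (.node 1610 (.leaf 0x3e0180001) (.leaf 0x3e0180001)) (.node 1612 (.leaf 0x3e0180001) (.node 1613 (.leaf 0x3e0180001) (.leaf 0x3e0180001)))) (.node 1617 (.node 1615 (.leaf 0x3e0180001) (.node 1616 (.leaf 0x3e0180001) (.leaf 0x3e0180001))) (.node 1618 (.leaf 0x3e0180001) (.node 1619 (.leaf 0x3e0180001) (.leaf 0x3e0180001))))))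

def candS_81 : Store := (.node 1630 (.node 1625 (.node 1622 (.node 1621 (.leaf 0x3e0180001) (.leaf 0x3e0180001)) (.node 1623 (.leaf 0x3e0180001) (.node 1624 (.leaf 0x3e0180001) (.leaf 0x3e0180001)))) (.node 1627 (.node 1626 (.leaf 0x3e0180001) (.leaf 0x3e0180001)) (.node 1628 (.leaf 0x3e0180001) (.node 1629 (.leaf 0x3e0180001) (.leaf 0x3e0180001))))) (.node 1635 (.node 1632 (.node 1631 (.leaf 0x3e0180001) (.leaf 0x3e0180001)) (.node 1633 (.leaf 0x2e3e0180001) (.node 1634 (.leaf 0x2e3e0180001) (.leaf 0x2e3e0180001)))) (.node 1637 (.node 1636 (.leaf 0x2e3e0180001) (.leaf 0x2e3e0180001)) (.node 1638 (.leaf 0x2e3e0180001) (.node 1639 (.leaf 0x2e3e0180001) (.leaf 0x2e3e0180001))))))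

def candS_82 : Store := (.node 1650 (.node 1645 (.node 1642 (.node 1641 (.leaf 0x2e3e0180001) (.leaf 0x2e3e0180001)) (.node 1643 (.leaf 0x2e3e0180001) (.node 1644 (.leaf 0x2e3e0180001) (.leaf 0x183e0180001)))) (.node 1647 (.node 1646 (.leaf 0x183e0180001) (.leaf 0x183e0180001)) (.node 1648 (.leaf 0x183e0180001) (.node 1649 (.leaf 0x183e0180001) (.leaf 0x183e0180001))))) (.node 1655 (.node 1652 (.node 1651 (.leaf 0x183e0180001) (.leaf 0x183e0180001)) (.node 1653 (.leaf 0x183e0180001) (.node 1654 (.leaf 0x183e0180001) (.leaf 0x183e0180001)))) (.node 1657 (.node 1656 (.leaf 0x183e0180001) (.leaf 0x3e0180001)) (.node 1658 (.leaf 0x3e0180001) (.node 1659 (.leaf 0x3e0180001) (.leaf 0x3e0180001))))))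

def candS_83 : Store := (.node 1670 (.node 1665 (.node 1662 (.node 1661 (.leaf 0x3e0180001) (.leaf 0x3e0180001)) (.node 1663 (.leaf 0x3e0180001) (.node 1664 (.leaf 0x3e0180001) (.leaf 0x3e0180001)))) (.node 1667 (.node 1666 (.leaf 0x3e0180001) (.leaf 0x3e0180001)) (.node 1668 (.leaf 0x3e0180001) (.node 1669 (.leaf 0x3e0180001) (.leaf 0x3e0180001))))) (.node 1675 (.node 1672 (.node 1671 (.leaf 0x3e0180001) (.leaf 0x3e0180001)) (.node 1673 (.leaf 0x3e0180001) (.node 1674 (.leaf 0x3e0180001) (.leaf 0x3e0180001)))) (.node 1677 (.node 1676 (.leaf 0x3e0180001) (.leaf 0x3e0180001)) (.node 1678 (.leaf 0x3e0180001) (.node 1679 (.leaf 0x3e0180001) (.leaf 0x3e0180001))))))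

def candS_84 : Store := (.node 1690 (.node 1685 (.node 1682 (.node 1681 (.leaf 0x223e0180001) (.leaf 0x8000223e0180001)) (.node 1683 (.leaf 0x9800223e0180001) (.node 1684 (.leaf 0x223e0180001) (.leaf 0x223e0180001)))) (.node 1687 (.node 1686 (.leaf 0x223e0180001) (.leaf 0x223e0180001)) (.node 1688 (.leaf 0x223e0180001) (.node 1689 (.leaf 0x223e0180001) (.leaf 0x7000223e0180001))))) (.node 1695 (.node 1692 (.node 1691 (.leaf 0x223e0180001) (.leaf 0x223e0180001)) (.node 1693 (.leaf 0x403e0180001) (.node 1694 (.leaf 0x403e0180001) (.leaf 0x403e0180001)))) (.node 1698 (.node 1696 (.leaf 0x403e0180001) (.node 1697 (.leaf 0x403e0180001) (.leaf 0x403e0180001))) (.node 1699 (.leaf 0x403e0180001) (.node 1700 (.leaf 0x403e0180001) (.leaf 0x403e0180001))))))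

def candS_85 : Store := (.node 1711 (.node 1706 (.node 1703 (.node 1702 (.leaf 0x403e0180001) (.leaf 0x403e0180001)) (.node 1704 (.leaf 0x403e0180001) (.node 1705 (.leaf 0x3e0180001) (.leaf 0x3e0180001)))) (.node 1708 (.node 1707 (.leaf 0x3e0180001) (.leaf 0x3e0180001)) (.node 1709 (.leaf 0x3e0180001) (.node 1710 (.leaf 0x3e0180001) (.leaf 0x3e0180001))))) (.node 1716 (.node 1713 (.node 1712 (.leaf 0x3e0180001) (.leaf 0x3e0180001)) (.node 1714 (.leaf 0x3e0180001) (.node 1715 (.leaf 0x3e0180001) (.leaf 0x3e0180001)))) (.node 1718 (.node 1717 (.leaf 0x1c3e0180001) (.leaf 0x1c3e0180001)) (.node 1719 (.leaf 0x1c3e0180001) (.node 1720 (.leaf 0x1c3e0180001) (.leaf 0x1c3e0180001))))))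

def candS_86 : Store := (.node 1731 (.node 1726 (.node 1723 (.node 1722 (.leaf 0x1c3e0180001) (.leaf 0x1c3e0180001)) (.node 1724 (.leaf 0x1c3e0180001) (.node 1725 (.leaf 0x1c3e0180001) (.leaf 0x1c3e0180001)))) (.node 1728 (.node 1727 (.leaf 0x1c3e0180001) (.leaf 0x1c3e0180001)) (.node 1729 (.leaf 0x1d26a7a23) (.node 1730 (.leaf 0x1d26a7a23) (.leaf 0x1d26a7a23))))) (.node 1736 (.node 1733 (.node 1732 (.leaf 0x1d26a7a23) (.leaf 0x1d26a7a23)) (.node 1734 (.leaf 0x1d26a7a23) (.node 1735 (.leaf 0x1d26a7a23) (.leaf 0x1d26a7a23)))) (.node 1738 (.node 1737 (.leaf 0x1d26a7a23) (.leaf 0x1d26a7a23)) (.node 1739 (.leaf 0x1d26a7a23) (.node 1740 (.leaf 0x1d26a7a23) (.leaf 0x401d26a7a23))))))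

def candS_87 : Store := (.node 1751 (.node 1746 (.node 1743 (.node 1742 (.leaf 0x401d26a7a23) (.leaf 0x2800401d26a7a23)) (.node 1744 (.leaf 0x401d26a7a23) (.node 1745 (.leaf 0x3800401d26a7a23) (.leaf 0x401d26a7a23)))) (.node 1748 (.node 1747 (.leaf 0x401d26a7a23) (.leaf 0x9000401d26a7a23)) (.node 1749 (.leaf 0x401d26a7a23) (.node 1750 (.leaf 0x1800401d26a7a23) (.leaf 0x401d26a7a23))))) (.node 1756 (.node 1753 (.node 1752 (.leaf 0x401d26a7a23) (.leaf 0x361d26a7a23)) (.node 1754 (.leaf 0x361d26a7a23) (.node 1755 (.leaf 0x361d26a7a23) (.leaf 0x361d26a7a23)))) (.node 1758 (.node 1757 (.leaf 0x361d26a7a23) (.leaf 0x361d26a7a23)) (.node 1759 (.leaf 0x361d26a7a23) (.node 1760 (.leaf 0x361d26a7a23) (.leaf 0x361d26a7a23))))))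

def candS_88 : Store := (.node 1771 (.node 1766 (.node 1763 (.node 1762 (.leaf 0x361d26a7a23) (.leaf 0x361d26a7a23)) (.node 1764 (.leaf 0x361d26a7a23) (.node 1765 (.leaf 0x3e1d26a7a23) (.leaf 0x3e1d26a7a23)))) (.node 1768 (.node 1767 (.leaf 0x3e1d26a7a23) (.leaf 0x386)) (.node 1769 (.leaf 0x3e1d26a7a23) (.node 1770 (.leaf 0x3e1d26a7a23) (.leaf 0x256))))) (.node 1776 (.node 1773 (.node 1772 (.leaf 0x3e1d26a7a23) (.leaf 0xe8)) (.node 1774 (.leaf 0x3e1d26a7a23) (.node 1775 (.leaf 0x3e1d26a7a23) (.leaf 0xca)))) (.node 1779 (.node 1777 (.leaf 0x221d26a7a23) (.node 1778 (.leaf 0x221d26a7a23) (.leaf 0x221d26a7a23))) (.node 1780 (.leaf 0x221d26a7a23) (.node 1781 (.leaf 0x221d26a7a23) (.leaf 0x221d26a7a23))))))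

def candS_89 : Store := (.node 1792 (.node 1787 (.node 1784 (.node 1783 (.leaf 0x221d26a7a23) (.leaf 0x221d26a7a23)) (.node 1785 (.leaf 0x221d26a7a23) (.node 1786 (.leaf 0x221d26a7a23) (.leaf 0x221d26a7a23)))) (.node 1789 (.node 1788 (.leaf 0x221d26a7a23) (.leaf 0x201d26a7a23)) (.node 1790 (.leaf 0x201d26a7a23) (.node 1791 (.leaf 0x201d26a7a23) (.leaf 0x201d26a7a23))))) (.node 1797 (.node 1794 (.node 1793 (.leaf 0x201d26a7a23) (.leaf 0x201d26a7a23)) (.node 1795 (.leaf 0x201d26a7a23) (.node 1796 (.leaf 0x201d26a7a23) (.leaf 0x201d26a7a23)))) (.node 1799 (.node 1798 (.leaf 0x201d26a7a23) (.leaf 0x201d26a7a23)) (.node 1800 (.leaf 0x201d26a7a23) (.node 1801 (.leaf 0x1d26a7a23) (.leaf 0x1d26a7a23))))))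

def candS_90 : Store := (.node 1812 (.node 1807 (.node 1804 (.node 1803 (.leaf 0x1d26a7a23) (.leaf 0x1d26a7a23)) (.node 1805 (.leaf 0x1d26a7a23) (.node 1806 (.leaf 0x1d26a7a23) (.leaf 0x1d26a7a23)))) (.node 1809 (.node 1808 (.leaf 0x1d26a7a23) (.leaf 0x1d26a7a23)) (.node 1810 (.leaf 0x1d26a7a23) (.node 1811 (.leaf 0x1d26a7a23) (.leaf 0x1d26a7a23))))) (.node 1817 (.node 1814 (.node 1813 (.leaf 0x1d26a7a23) (.leaf 0x1d26a7a23)) (.node 1815 (.leaf 0x1d26a7a23) (.node 1816 (.leaf 0x1d26a7a23) (.leaf 0x1d26a7a23)))) (.node 1819 (.node 1818 (.leaf 0x1d26a7a23) (.leaf 0x1d26a7a23)) (.node 1820 (.leaf 0x1d26a7a23) (.node 1821 (.leaf 0x1d26a7a23) (.leaf 0x1d26a7a23))))))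

def candS_91 : Store := (.node 1832 (.node 1827 (.node 1824 (.node 1823 (.leaf 0x1d26a7a23) (.leaf 0x1d26a7a23)) (.node 1825 (.leaf 0x1d26a7a23) (.node 1826 (.leaf 0x1d26a7a23) (.leaf 0x1d26a7a23)))) (.node 1829 (.node 1828 (.leaf 0x1d26a7a23) (.leaf 0x1d26a7a23)) (.node 1830 (.leaf 0x1d26a7a23) (.node 1831 (.leaf 0x1d26a7a23) (.leaf 0x1d26a7a23))))) (.node 1837 (.node 1834 (.node 1833 (.leaf 0x1d26a7a23) (.leaf 0x1d26a7a23)) (.node 1835 (.leaf 0x1d26a7a23) (.node 1836 (.leaf 0x1d26a7a23) (.leaf 0x1d26a7a23)))) (.node 1839 (.node 1838 (.leaf 0x1d26a7a23) (.leaf 0x1d26a7a23)) (.node 1840 (.leaf 0x1d26a7a23) (.node 1841 (.leaf 0x1d26a7a23) (.leaf 0x1d26a7a23))))))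

def candS_92 : Store := (.node 1852 (.node 1847 (.node 1844 (.node 1843 (.leaf 0x1d26a7a23) (.leaf 0x1d26a7a23)) (.node 1845 (.leaf 0x1d26a7a23) (.node 1846 (.leaf 0x1d26a7a23) (.leaf 0x1d26a7a23)))) (.node 1849 (.node 1848 (.leaf 0x1d26a7a23) (.leaf 0x1d26a7a23)) (.node 1850 (.leaf 0x1d26a7a23) (.node 1851 (.leaf 0x1d26a7a23) (.leaf 0x1d26a7a23))))) (.node 1857 (.node 1854 (.node 1853 (.leaf 0x1d26a7a23) (.leaf 0x1d26a7a23)) (.node 1855 (.leaf 0x1d26a7a23) (.node 1856 (.leaf 0x1d26a7a23) (.leaf 0x1d26a7a23)))) (.node 1860 (.node 1858 (.leaf 0x1d26a7a23) (.node 1859 (.leaf 0x1d26a7a23) (.leaf 0x1d26a7a23))) (.node 1861 (.leaf 0x121d26a7a23) (.node 1862 (.leaf 0x121d26a7a23) (.leaf 0x121d26a7a23))))))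

def candS_93 : Store := (.node 1873 (.node 1868 (.node 1865 (.node 1864 (.leaf 0x121d26a7a23) (.leaf 0x121d26a7a23)) (.node 1866 (.leaf 0x121d26a7a23) (.node 1867 (.leaf 0x121d26a7a23) (.leaf 0x121d26a7a23)))) (.node 1870 (.node 1869 (.leaf 0x121d26a7a23) (.leaf 0x121d26a7a23)) (.node 1871 (.leaf 0x121d26a7a23) (.node 1872 (.leaf 0x121d26a7a23) (.leaf 0x380727a23))))) (.node 1878 (.node 1875 (.node 1874 (.leaf 0x380727a23) (.leaf 0x380727a23)) (.node 1876 (.leaf 0x380727a23) (.node 1877 (.leaf 0x380727a23) (.leaf 0x380727a23)))) (.node 1880 (.node 1879 (.leaf 0x380727a23) (.leaf 0x380727a23)) (.node 1881 (.leaf 0x380727a23) (.node 1882 (.leaf 0x380727a23) (.leaf 0x380727a23))))))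

def candS_94 : Store := (.node 1893 (.node 1888 (.node 1885 (.node 1884 (.leaf 0x380727a23) (.leaf 0x380727a23)) (.node 1886 (.leaf 0x380727a23) (.node 1887 (.leaf 0x380727a23) (.leaf 0x380727a23)))) (.node 1890 (.node 1889 (.leaf 0x380727a23) (.leaf 0x380727a23)) (.node 1891 (.leaf 0x380727a23) (.node 1892 (.leaf 0x380727a23) (.leaf 0x380727a23))))) (.node 1898 (.node 1895 (.node 1894 (.leaf 0x380727a23) (.leaf 0x380727a23)) (.node 1896 (.leaf 0x380727a23) (.node 1897 (.leaf 0x380727a23) (.leaf 0x380727a23)))) (.node 1900 (.node 1899 (.leaf 0x380727a23) (.leaf 0x380727a23)) (.node 1901 (.leaf 0x380727a23) (.node 1902 (.leaf 0x380727a23) (.leaf 0x380727a23))))))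

def candS_95 : Store := (.node 1913 (.node 1908 (.node 1905 (.node 1904 (.leaf 0x380727a23) (.leaf 0x380727a23)) (.node 1906 (.leaf 0x380727a23) (.node 1907 (.leaf 0x380727a23) (.leaf 0x380727a23)))) (.node 1910 (.node 1909 (.leaf 0x380727a23) (.leaf 0x380727a23)) (.node 1911 (.leaf 0x380727a23) (.node 1912 (.leaf 0x380727a23) (.leaf 0x380727a23))))) (.node 1918 (.node 1915 (.node 1914 (.leaf 0x380727a23) (.leaf 0x380727a23)) (.node 1916 (.leaf 0x380727a23) (.node 1917 (.leaf 0x380727a23) (.leaf 0x380727a23)))) (.node 1920 (.node 1919 (.leaf 0x380727a23) (.leaf 0x380727a23)) (.node 1921 (.leaf 0x1a380727a23) (.node 1922 (.leaf 0x1a380727a23) (.leaf 0x1a380727a23))))))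

def candS_96 : Store := (.node 1933 (.node 1928 (.node 1925 (.node 1924 (.leaf 0x1a380727a23) (.leaf 0x1a380727a23)) (.node 1926 (.leaf 0x1a380727a23) (.node 1927 (.leaf 0x1a380727a23) (.leaf 0x1a380727a23)))) (.node 1930 (.node 1929 (.leaf 0x1a380727a23) (.leaf 0x1a380727a23)) (.node 1931 (.leaf 0x1a380727a23) (.node 1932 (.leaf 0x1a380727a23) (.leaf 0x22380727a23))))) (.node 1938 (.node 1935 (.node 1934 (.leaf 0x22380727a23) (.leaf 0x22380727a23)) (.node 1936 (.leaf 0x22380727a23) (.node 1937 (.leaf 0x22380727a23) (.leaf 0x22380727a23)))) (.node 1941 (.node 1939 (.leaf 0x22380727a23) (.node 1940 (.leaf 0x22380727a23) (.leaf 0x22380727a23))) (.node 1942 (.leaf 0x22380727a23) (.node 1943 (.leaf 0x22380727a23) (.leaf 0x22380727a23))))))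

def candS_97 : Store := (.node 1954 (.node 1949 (.node 1946 (.node 1945 (.leaf 0x380727a23) (.leaf 0x380727a23)) (.node 1947 (.leaf 0x380727a23) (.node 1948 (.leaf 0x380727a23) (.leaf 0x380727a23)))) (.node 1951 (.node 1950 (.leaf 0x380727a23) (.leaf 0x380727a23)) (.node 1952 (.leaf 0x380727a23) (.node 1953 (.leaf 0x380727a23) (.leaf 0x380727a23))))) (.node 1959 (.node 1956 (.node 1955 (.leaf 0x380727a23) (.leaf 0x380727a23)) (.node 1957 (.leaf 0x380727a23) (.node 1958 (.leaf 0x380727a23) (.leaf 0x380727a23)))) (.node 1961 (.node 1960 (.leaf 0x380727a23) (.leaf 0x380727a23)) (.node 1962 (.leaf 0x380727a23) (.node 1963 (.leaf 0x380727a23) (.leaf 0x380727a23))))))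

def candS_98 : Store := (.node 1974 (.node 1969 (.node 1966 (.node 1965 (.leaf 0x380727a23) (.leaf 0x380727a23)) (.node 1967 (.leaf 0x380727a23) (.node 1968 (.leaf 0x380727a23) (.leaf 0x380727a23)))) (.node 1971 (.node 1970 (.leaf 0x380727a23) (.leaf 0x380727a23)) (.node 1972 (.leaf 0x380727a23) (.node 1973 (.leaf 0x380727a23) (.leaf 0x380727a23))))) (.node 1979 (.node 1976 (.node 1975 (.leaf 0x380727a23) (.leaf 0x380727a23)) (.node 1977 (.leaf 0x380727a23) (.node 1978 (.leaf 0x380727a23) (.leaf 0x380727a23)))) (.node 1981 (.node 1980 (.leaf 0x380727a23) (.leaf 0xc380727a23)) (.node 1982 (.leaf 0xc380727a23) (.node 1983 (.leaf 0xc380727a23) (.leaf 0xc380727a23))))))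

def candS_99 : Store := (.node 1994 (.node 1989 (.node 1986 (.node 1985 (.leaf 0xc380727a23) (.leaf 0xc380727a23)) (.node 1987 (.leaf 0xc380727a23) (.node 1988 (.leaf 0xc380727a23) (.leaf 0xc380727a23)))) (.node 1991 (.node 1990 (.leaf 0xc380727a23) (.leaf 0xc380727a23)) (.node 1992 (.leaf 0xc380727a23) (.node 1993 (.leaf 0x30380727a23) (.leaf 0x30380727a23))))) (.node 1999 (.node 1996 (.node 1995 (.leaf 0x30380727a23) (.leaf 0x30380727a23)) (.node 1997 (.leaf 0x30380727a23) (.node 1998 (.leaf 0x30380727a23) (.leaf 0x30380727a23)))) (.node 2001 (.node 2000 (.leaf 0x30380727a23) (.leaf 0x30380727a23)) (.node 2002 (.leaf 0x30380727a23) (.node 2003 (.leaf 0x30380727a23) (.leaf 0x30380727a23))))))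

def candS_100 : Store := (.node 2014 (.node 2009 (.node 2006 (.node 2005 (.leaf 0x2c380727a23) (.leaf 0x2c380727a23)) (.node 2007 (.leaf 0x2c380727a23) (.node 2008 (.leaf 0x2c380727a23) (.leaf 0x2c380727a23)))) (.node 2011 (.node 2010 (.leaf 0x2c380727a23) (.leaf 0x2c380727a23)) (.node 2012 (.leaf 0x2c380727a23) (.node 2013 (.leaf 0x2c380727a23) (.leaf 0x2c380727a23))))) (.node 2019 (.node 2016 (.node 2015 (.leaf 0x2c380727a23) (.leaf 0x2c380727a23)) (.node 2017 (.leaf 0x3a113427a23) (.node 2018 (.leaf 0x3a113427a23) (.leaf 0x3a113427a23)))) (.node 2022 (.node 2020 (.leaf 0x3a113427a23) (.node 2021 (.leaf 0x3a113427a23) (.leaf 0x3a113427a23))) (.node 2023 (.leaf 0x3a113427a23) (.node 2024 (.leaf 0x3a113427a23) (.leaf 0x3a113427a23))))))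

def candS_101 : Store := (.node 2035 (.node 2030 (.node 2027 (.node 2026 (.leaf 0x3a113427a23) (.leaf 0x3a113427a23)) (.node 2028 (.leaf 0x3a113427a23) (.node 2029 (.leaf 0xa113427a23) (.leaf 0xa113427a23)))) (.node 2032 (.node 2031 (.leaf 0xa113427a23) (.leaf 0xa113427a23)) (.node 2033 (.leaf 0xa113427a23) (.node 2034 (.leaf 0xa113427a23) (.leaf 0xa113427a23))))) (.node 2040 (.node 2037 (.node 2036 (.leaf 0xa113427a23) (.leaf 0xa113427a23)) (.node 2038 (.leaf 0xa113427a23) (.node 2039 (.leaf 0xa113427a23) (.leaf 0xa113427a23)))) (.node 2042 (.node 2041 (.leaf 0x113427a23) (.leaf 0x113427a23)) (.node 2043 (.leaf 0x113427a23) (.node 2044 (.leaf 0x113427a23) (.leaf 0x113427a23))))))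

def candS_102 : Store := (.node 2055 (.node 2050 (.node 2047 (.node 2046 (.leaf 0x113427a23) (.leaf 0x113427a23)) (.node 2048 (.leaf 0x113427a23) (.node 2049 (.leaf 0x113427a23) (.leaf 0x113427a23)))) (.node 2052 (.node 2051 (.leaf 0x113427a23) (.leaf 0x113427a23)) (.node 2053 (.leaf 0x113427a23) (.node 2054 (.leaf 0x113427a23) (.leaf 0x113427a23))))) (.node 2060 (.node 2057 (.node 2056 (.leaf 0x113427a23) (.leaf 0x113427a23)) (.node 2058 (.leaf 0x113427a23) (.node 2059 (.leaf 0x113427a23) (.leaf 0x113427a23)))) (.node 2062 (.node 2061 (.leaf 0x113427a23) (.leaf 0x113427a23)) (.node 2063 (.leaf 0x113427a23) (.node 2064 (.leaf 0x113427a23) (.leaf 0x113427a23))))))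

def candS_103 : Store := (.node 2075 (.node 2070 (.node 2067 (.node 2066 (.leaf 0x113427a23) (.leaf 0x113427a23)) (.node 2068 (.leaf 0x113427a23) (.node 2069 (.leaf 0x113427a23) (.leaf 0x113427a23)))) (.node 2072 (.node 2071 (.leaf 0x113427a23) (.leaf 0x113427a23)) (.node 2073 (.leaf 0x113427a23) (.node 2074 (.leaf 0x113427a23) (.leaf 0x113427a23))))) (.node 2080 (.node 2077 (.node 2076 (.leaf 0x113427a23) (.leaf 0x500024113427a23)) (.node 2078 (.leaf 0x24113427a23) (.node 2079 (.leaf 0x24113427a23) (.leaf 0x580024113427a23)))) (.node 2082 (.node 2081 (.leaf 0x24113427a23) (.leaf 0x24113427a23)) (.node 2083 (.leaf 0x24113427a23) (.node 2084 (.leaf 0x24113427a23) (.leaf 0x80024113427a23))))))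

def candS_104 : Store := (.node 2095 (.node 2090 (.node 2087 (.node 2086 (.leaf 0x24113427a23) (.leaf 0x24113427a23)) (.node 2088 (.leaf 0x680024113427a23) (.node 2089 (.leaf 0x34113427a23) (.leaf 0x34113427a23)))) (.node 2092 (.node 2091 (.leaf 0x34113427a23) (.leaf 0x34113427a23)) (.node 2093 (.leaf 0x34113427a23) (.node 2094 (.leaf 0x34113427a23) (.leaf 0x34113427a23))))) (.node 2100 (.node 2097 (.node 2096 (.leaf 0x34113427a23) (.leaf 0x34113427a23)) (.node 2098 (.leaf 0x34113427a23) (.node 2099 (.leaf 0x34113427a23) (.leaf 0x34113427a23)))) (.node 2103 (.node 2101 (.leaf 0x113427a23) (.node 2102 (.leaf 0x113427a23) (.leaf 0x113427a23))) (.node 2104 (.leaf 0x113427a23) (.node 2105 (.leaf 0x113427a23) (.leaf 0x113427a23))))))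

def candS_105 : Store := (.node 2116 (.node 2111 (.node 2108 (.node 2107 (.leaf 0x113427a23) (.leaf 0x113427a23)) (.node 2109 (.leaf 0x113427a23) (.node 2110 (.leaf 0x113427a23) (.leaf 0x113427a23)))) (.node 2113 (.node 2112 (.leaf 0x113427a23) (.leaf 0x12113427a23)) (.node 2114 (.leaf 0x12113427a23) (.node 2115 (.leaf 0x12113427a23) (.leaf 0x12113427a23))))) (.node 2121 (.node 2118 (.node 2117 (.leaf 0x12113427a23) (.leaf 0x12113427a23)) (.node 2119 (.leaf 0x12113427a23) (.node 2120 (.leaf 0x12113427a23) (.leaf 0x12113427a23)))) (.node 2123 (.node 2122 (.leaf 0x12113427a23) (.leaf 0x12113427a23)) (.node 2124 (.leaf 0x12113427a23) (.node 2125 (.leaf 0x1a113427a23) (.leaf 0x1a113427a23))))))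

def candS_106 : Store := (.node 2136 (.node 2131 (.node 2128 (.node 2127 (.leaf 0x1a113427a23) (.leaf 0x1a113427a23)) (.node 2129 (.leaf 0x126) (.node 2130 (.leaf 0x308) (.leaf 0x1a113427a23)))) (.node 2133 (.node 2132 (.leaf 0x13c) (.leaf 0x1a113427a23)) (.node 2134 (.leaf 0x30e) (.node 2135 (.leaf 0x1a113427a23) (.leaf 0x1a113427a23))))) (.node 2141 (.node 2138 (.node 2137 (.leaf 0x113427a23) (.leaf 0x113427a23)) (.node 2139 (.leaf 0x113427a23) (.node 2140 (.leaf 0x113427a23) (.leaf 0x113427a23)))) (.node 2143 (.node 2142 (.leaf 0x113427a23) (.leaf 0x113427a23)) (.node 2144 (.leaf 0x113427a23) (.node 2145 (.leaf 0x113427a23) (.leaf 0x113427a23))))))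

def candS_107 : Store := (.node 2156 (.node 2151 (.node 2148 (.node 2147 (.leaf 0x113427a23) (.leaf 0x113427a23)) (.node 2149 (.leaf 0x113427a23) (.node 2150 (.leaf 0x113427a23) (.leaf 0x113427a23)))) (.node 2153 (.node 2152 (.leaf 0x113427a23) (.leaf 0x113427a23)) (.node 2154 (.leaf 0x113427a23) (.node 2155 (.leaf 0x113427a23) (.leaf 0x113427a23))))) (.node 2161 (.node 2158 (.node 2157 (.leaf 0x113427a23) (.leaf 0x113427a23)) (.node 2159 (.leaf 0x113427a23) (.node 2160 (.leaf 0x113427a23) (.leaf 0x181f1da7a23)))) (.node 2163 (.node 2162 (.leaf 0x181f1da7a23) (.leaf 0x9000181f1da7a23)) (.node 2164 (.leaf 0x181f1da7a23) (.node 2165 (.leaf 0x3800181f1da7a23) (.leaf 0x2800181f1da7a23))))))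

def candS_108 : Store := (.node 2176 (.node 2171 (.node 2168 (.node 2167 (.leaf 0x181f1da7a23) (.leaf 0x1800181f1da7a23)) (.node 2169 (.leaf 0x181f1da7a23) (.node 2170 (.leaf 0x181f1da7a23) (.leaf 0x181f1da7a23)))) (.node 2173 (.node 2172 (.leaf 0x181f1da7a23) (.leaf 0x1f1da7a23)) (.node 2174 (.leaf 0x1f1da7a23) (.node 2175 (.leaf 0x1f1da7a23) (.leaf 0x1f1da7a23))))) (.node 2181 (.node 2178 (.node 2177 (.leaf 0x1f1da7a23) (.leaf 0x1f1da7a23)) (.node 2179 (.leaf 0x1f1da7a23) (.node 2180 (.leaf 0x1f1da7a23) (.leaf 0x1f1da7a23)))) (.node 2184 (.node 2182 (.leaf 0x1f1da7a23) (.node 2183 (.leaf 0x1f1da7a23) (.leaf 0x1f1da7a23))) (.node 2185 (.leaf 0x381f1da7a23) (.node 2186 (.leaf 0x381f1da7a23) (.leaf 0x381f1da7a23))))))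

def candS_109 : Store := (.node 2197 (.node 2192 (.node 2189 (.node 2188 (.leaf 0x381f1da7a23) (.leaf 0x381f1da7a23)) (.node 2190 (.leaf 0x381f1da7a23) (.node 2191 (.leaf 0x381f1da7a23) (.leaf 0x381f1da7a23)))) (.node 2194 (.node 2193 (.leaf 0x381f1da7a23) (.leaf 0x381f1da7a23)) (.node 2195 (.leaf 0x381f1da7a23) (.node 2196 (.leaf 0x381f1da7a23) (.leaf 0x388))))) (.node 2202 (.node 2199 (.node 2198 (.leaf 0x281f1da7a23) (.leaf 0x281f1da7a23)) (.node 2200 (.leaf 0x281f1da7a23) (.node 2201 (.leaf 0x281f1da7a23) (.leaf 0x281f1da7a23)))) (.node 2204 (.node 2203 (.leaf 0x16) (.leaf 0x281f1da7a23)) (.node 2205 (.leaf 0x214) (.node 2206 (.leaf 0x281f1da7a23) (.leaf 0x281f1da7a23))))))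

def candS_110 : Store := (.node 2217 (.node 2212 (.node 2209 (.node 2208 (.leaf 0xd0) (.leaf 0x1f1da7a23)) (.node 2210 (.leaf 0x1f1da7a23) (.node 2211 (.leaf 0x1f1da7a23) (.leaf 0x1f1da7a23)))) (.node 2214 (.node 2213 (.leaf 0x1f1da7a23) (.leaf 0x1f1da7a23)) (.node 2215 (.leaf 0x1f1da7a23) (.node 2216 (.leaf 0x1f1da7a23) (.leaf 0x1f1da7a23))))) (.node 2222 (.node 2219 (.node 2218 (.leaf 0x1f1da7a23) (.leaf 0x1f1da7a23)) (.node 2220 (.leaf 0x1f1da7a23) (.node 2221 (.leaf 0x141f1da7a23) (.leaf 0x141f1da7a23)))) (.node 2224 (.node 2223 (.leaf 0x141f1da7a23) (.leaf 0x141f1da7a23)) (.node 2225 (.leaf 0x141f1da7a23) (.node 2226 (.leaf 0x141f1da7a23) (.leaf 0x141f1da7a23))))))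

def candS_111 : Store := (.node 2237 (.node 2232 (.node 2229 (.node 2228 (.leaf 0x141f1da7a23) (.leaf 0x141f1da7a23)) (.node 2230 (.leaf 0x141f1da7a23) (.node 2231 (.leaf 0x141f1da7a23) (.leaf 0x141f1da7a23)))) (.node 2234 (.node 2233 (.leaf 0x1f1da7a23) (.leaf 0x1f1da7a23)) (.node 2235 (.leaf 0x1f1da7a23) (.node 2236 (.leaf 0x1f1da7a23) (.leaf 0x1f1da7a23))))) (.node 2242 (.node 2239 (.node 2238 (.leaf 0x1f1da7a23) (.leaf 0x1f1da7a23)) (.node 2240 (.leaf 0x1f1da7a23) (.node 2241 (.leaf 0x1f1da7a23) (.leaf 0x1f1da7a23)))) (.node 2244 (.node 2243 (.leaf 0x1f1da7a23) (.leaf 0x1f1da7a23)) (.node 2245 (.leaf 0x1f1da7a23) (.node 2246 (.leaf 0x1f1da7a23) (.leaf 0x1f1da7a23))))))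

def candS_112 : Store := (.node 2257 (.node 2252 (.node 2249 (.node 2248 (.leaf 0x1f1da7a23) (.leaf 0x1f1da7a23)) (.node 2250 (.leaf 0x1f1da7a23) (.node 2251 (.leaf 0x1f1da7a23) (.leaf 0x1f1da7a23)))) (.node 2254 (.node 2253 (.leaf 0x1f1da7a23) (.leaf 0x1f1da7a23)) (.node 2255 (.leaf 0x1f1da7a23) (.node 2256 (.leaf 0x1f1da7a23) (.leaf 0x1f1da7a23))))) (.node 2262 (.node 2259 (.node 2258 (.leaf 0x1f1da7a23) (.leaf 0x1f1da7a23)) (.node 2260 (.leaf 0x1f1da7a23) (.node 2261 (.leaf 0x1f1da7a23) (.leaf 0x1f1da7a23)))) (.node 2265 (.node 2263 (.leaf 0x1f1da7a23) (.node 2264 (.leaf 0x1f1da7a23) (.leaf 0x1f1da7a23))) (.node 2266 (.leaf 0x1f1da7a23) (.node 2267 (.leaf 0x1f1da7a23) (.leaf 0x1f1da7a23))))))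

def candS_113 : Store := (.node 2278 (.node 2273 (.node 2270 (.node 2269 (.leaf 0x1f1da7a23) (.leaf 0x1f1da7a23)) (.node 2271 (.leaf 0x1f1da7a23) (.node 2272 (.leaf 0x1f1da7a23) (.leaf 0x1f1da7a23)))) (.node 2275 (.node 2274 (.leaf 0x1f1da7a23) (.leaf 0x1f1da7a23)) (.node 2276 (.leaf 0x1f1da7a23) (.node 2277 (.leaf 0x1f1da7a23) (.leaf 0x1f1da7a23))))) (.node 2283 (.node 2280 (.node 2279 (.leaf 0x1f1da7a23) (.leaf 0x1f1da7a23)) (.node 2281 (.leaf 0x221f1da7a23) (.node 2282 (.leaf 0x221f1da7a23) (.leaf 0x221f1da7a23)))) (.node 2285 (.node 2284 (.leaf 0x221f1da7a23) (.leaf 0x221f1da7a23)) (.node 2286 (.leaf 0x221f1da7a23) (.node 2287 (.leaf 0x221f1da7a23) (.leaf 0x221f1da7a23))))))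

def candS_114 : Store := (.node 2298 (.node 2293 (.node 2290 (.node 2289 (.leaf 0x221f1da7a23) (.leaf 0x221f1da7a23)) (.node 2291 (.leaf 0x221f1da7a23) (.node 2292 (.leaf 0x221f1da7a23) (.leaf 0xa1f1da7a23)))) (.node 2295 (.node 2294 (.leaf 0xa1f1da7a23) (.leaf 0xa1f1da7a23)) (.node 2296 (.leaf 0xa1f1da7a23) (.node 2297 (.leaf 0xa1f1da7a23) (.leaf 0xa1f1da7a23))))) (.node 2303 (.node 2300 (.node 2299 (.leaf 0xa1f1da7a23) (.leaf 0xa1f1da7a23)) (.node 2301 (.leaf 0xa1f1da7a23) (.node 2302 (.leaf 0xa1f1da7a23) (.leaf 0xa1f1da7a23)))) (.node 2305 (.node 2304 (.leaf 0xa1f1da7a23) (.leaf 0x2f3127a23)) (.node 2306 (.leaf 0x2f3127a23) (.node 2307 (.leaf 0x2f3127a23) (.leaf 0x2f3127a23))))))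

def candS_115 : Store := (.node 2318 (.node 2313 (.node 2310 (.node 2309 (.leaf 0x2f3127a23) (.leaf 0x2f3127a23)) (.node 2311 (.leaf 0x2f3127a23) (.node 2312 (.leaf 0x2f3127a23) (.leaf 0x2f3127a23)))) (.node 2315 (.node 2314 (.leaf 0x2f3127a23) (.leaf 0x2f3127a23)) (.node 2316 (.leaf 0x2f3127a23) (.node 2317 (.leaf 0x82f3127a23) (.leaf 0x82f3127a23))))) (.node 2323 (.node 2320 (.node 2319 (.leaf 0x82f3127a23) (.leaf 0x82f3127a23)) (.node 2321 (.leaf 0x82f3127a23) (.node 2322 (.leaf 0x82f3127a23) (.leaf 0x82f3127a23)))) (.node 2325 (.node 2324 (.leaf 0x82f3127a23) (.leaf 0x82f3127a23)) (.node 2326 (.leaf 0x82f3127a23) (.node 2327 (.leaf 0x82f3127a23) (.leaf 0x82f3127a23))))))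

def candS_116 : Store := (.node 2338 (.node 2333 (.node 2330 (.node 2329 (.leaf 0x2000022f3127a23) (.leaf 0x22f3127a23)) (.node 2331 (.leaf 0x22f3127a23) (.node 2332 (.leaf 0x6000022f3127a23) (.leaf 0x22f3127a23)))) (.node 2335 (.node 2334 (.leaf 0x22f3127a23) (.leaf 0x3000022f3127a23)) (.node 2336 (.leaf 0x22f3127a23) (.node 2337 (.leaf 0x7800022f3127a23) (.leaf 0x22f3127a23))))) (.node 2343 (.node 2340 (.node 2339 (.leaf 0x22f3127a23) (.leaf 0x22f3127a23)) (.node 2341 (.leaf 0x2f3127a23) (.node 2342 (.leaf 0x2f3127a23) (.leaf 0x2f3127a23)))) (.node 2346 (.node 2344 (.leaf 0x2f3127a23) (.node 2345 (.leaf 0x2f3127a23) (.leaf 0x2f3127a23))) (.node 2347 (.leaf 0x2f3127a23) (.node 2348 (.leaf 0x2f3127a23) (.leaf 0x2f3127a23))))))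

def candS_117 : Store := (.node 2359 (.node 2354 (.node 2351 (.node 2350 (.leaf 0x2f3127a23) (.leaf 0x2f3127a23)) (.node 2352 (.leaf 0x2f3127a23) (.node 2353 (.leaf 0x2f3127a23) (.leaf 0x2f3127a23)))) (.node 2356 (.node 2355 (.leaf 0x2f3127a23) (.leaf 0x2f3127a23)) (.node 2357 (.leaf 0x2f3127a23) (.node 2358 (.leaf 0x2f3127a23) (.leaf 0x2f3127a23))))) (.node 2364 (.node 2361 (.node 2360 (.leaf 0x2f3127a23) (.leaf 0x2f3127a23)) (.node 2362 (.leaf 0x2f3127a23) (.node 2363 (.leaf 0x2f3127a23) (.leaf 0x2f3127a23)))) (.node 2366 (.node 2365 (.leaf 0x2f3127a23) (.leaf 0x2f3127a23)) (.node 2367 (.leaf 0x2f3127a23) (.node 2368 (.leaf 0x2f3127a23) (.leaf 0x2f3127a23))))))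

def candS_118 : Store := (.node 2379 (.node 2374 (.node 2371 (.node 2370 (.leaf 0x2f3127a23) (.leaf 0x2f3127a23)) (.node 2372 (.leaf 0x2f3127a23) (.node 2373 (.leaf 0x2f3127a23) (.leaf 0x2f3127a23)))) (.node 2376 (.node 2375 (.leaf 0x2f3127a23) (.leaf 0x2f3127a23)) (.node 2377 (.leaf 0x1c2f3127a23) (.node 2378 (.leaf 0x1c2f3127a23) (.leaf 0x1c2f3127a23))))) (.node 2384 (.node 2381 (.node 2380 (.leaf 0x1c2f3127a23) (.leaf 0x1c2f3127a23)) (.node 2382 (.leaf 0x1c2f3127a23) (.node 2383 (.leaf 0x1c2f3127a23) (.leaf 0x1c2f3127a23)))) (.node 2386 (.node 2385 (.leaf 0x1c2f3127a23) (.leaf 0x1c2f3127a23)) (.node 2387 (.leaf 0x1c2f3127a23) (.node 2388 (.leaf 0x1c2f3127a23) (.leaf 0x102f3127a23))))))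

def candS_119 : Store := (.node 2399 (.node 2394 (.node 2391 (.node 2390 (.leaf 0x102f3127a23) (.leaf 0x102f3127a23)) (.node 2392 (.leaf 0x102f3127a23) (.node 2393 (.leaf 0x102f3127a23) (.leaf 0x102f3127a23)))) (.node 2396 (.node 2395 (.leaf 0x102f3127a23) (.leaf 0x102f3127a23)) (.node 2397 (.leaf 0x102f3127a23) (.node 2398 (.leaf 0x102f3127a23) (.leaf 0x102f3127a23))))) (.node 2404 (.node 2401 (.node 2400 (.leaf 0x102f3127a23) (.leaf 0x2f3127a23)) (.node 2402 (.leaf 0x2f3127a23) (.node 2403 (.leaf 0x2f3127a23) (.leaf 0x2f3127a23)))) (.node 2406 (.node 2405 (.leaf 0x2f3127a23) (.leaf 0x2f3127a23)) (.node 2407 (.leaf 0x2f3127a23) (.node 2408 (.leaf 0x2f3127a23) (.leaf 0x2f3127a23))))))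

def candS_120 : Store := (.node 2419 (.node 2414 (.node 2411 (.node 2410 (.leaf 0x2f3127a23) (.leaf 0x2f3127a23)) (.node 2412 (.leaf 0x2f3127a23) (.node 2413 (.leaf 0x202f3127a23) (.leaf 0x202f3127a23)))) (.node 2416 (.node 2415 (.leaf 0x1a2) (.leaf 0x202f3127a23)) (.node 2417 (.leaf 0x202f3127a23) (.node 2418 (.leaf 0x3b4) (.leaf 0x202f3127a23))))) (.node 2424 (.node 2421 (.node 2420 (.leaf 0x146) (.leaf 0x202f3127a23)) (.node 2422 (.leaf 0x8a) (.node 2423 (.leaf 0x202f3127a23) (.leaf 0x202f3127a23)))) (.node 2427 (.node 2425 (.leaf 0x2f3127a23) (.node 2426 (.leaf 0x2f3127a23) (.leaf 0x2f3127a23))) (.node 2428 (.leaf 0x2f3127a23) (.node 2429 (.leaf 0x2f3127a23) (.leaf 0x2f3127a23))))))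

def candS_121 : Store := (.node 2440 (.node 2435 (.node 2432 (.node 2431 (.leaf 0x2f3127a23) (.leaf 0x2f3127a23)) (.node 2433 (.leaf 0x2f3127a23) (.node 2434 (.leaf 0x2f3127a23) (.leaf 0x2f3127a23)))) (.node 2437 (.node 2436 (.leaf 0x2f3127a23) (.leaf 0x2f3127a23)) (.node 2438 (.leaf 0x2f3127a23) (.node 2439 (.leaf 0x2f3127a23) (.leaf 0x2f3127a23))))) (.node 2445 (.node 2442 (.node 2441 (.leaf 0x2f3127a23) (.leaf 0x2f3127a23)) (.node 2443 (.leaf 0x2f3127a23) (.node 2444 (.leaf 0x2f3127a23) (.leaf 0x2f3127a23)))) (.node 2447 (.node 2446 (.leaf 0x2f3127a23) (.leaf 0x2f3127a23)) (.node 2448 (.leaf 0x2f3127a23) (.node 2449 (.leaf 0x280f18a7a23) (.leaf 0x280f18a7a23))))))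

def candS_122 : Store := (.node 2460 (.node 2455 (.node 2452 (.node 2451 (.leaf 0x280f18a7a23) (.leaf 0x280f18a7a23)) (.node 2453 (.leaf 0x280f18a7a23) (.node 2454 (.leaf 0x280f18a7a23) (.leaf 0x280f18a7a23)))) (.node 2457 (.node 2456 (.leaf 0x280f18a7a23) (.leaf 0x280f18a7a23)) (.node 2458 (.leaf 0x280f18a7a23) (.node 2459 (.leaf 0x280f18a7a23) (.leaf 0x280f18a7a23))))) (.node 2465 (.node 2462 (.node 2461 (.leaf 0xf18a7a23) (.leaf 0xf18a7a23)) (.node 2463 (.leaf 0xf18a7a23) (.node 2464 (.leaf 0xf18a7a23) (.leaf 0xf18a7a23)))) (.node 2467 (.node 2466 (.leaf 0xf18a7a23) (.leaf 0xf18a7a23)) (.node 2468 (.leaf 0xf18a7a23) (.node 2469 (.leaf 0xf18a7a23) (.leaf 0xf18a7a23))))))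

def candS_123 : Store := (.node 2480 (.node 2475 (.node 2472 (.node 2471 (.leaf 0xf18a7a23) (.leaf 0xf18a7a23)) (.node 2473 (.leaf 0xf18a7a23) (.node 2474 (.leaf 0xf18a7a23) (.leaf 0xf18a7a23)))) (.node 2477 (.node 2476 (.leaf 0xf18a7a23) (.leaf 0xf18a7a23)) (.node 2478 (.leaf 0xf18a7a23) (.node 2479 (.leaf 0xf18a7a23) (.leaf 0xf18a7a23))))) (.node 2485 (.node 2482 (.node 2481 (.leaf 0xf18a7a23) (.leaf 0xf18a7a23)) (.node 2483 (.leaf 0xf18a7a23) (.node 2484 (.leaf 0xf18a7a23) (.leaf 0xf18a7a23)))) (.node 2487 (.node 2486 (.leaf 0xf18a7a23) (.leaf 0xf18a7a23)) (.node 2488 (.leaf 0xf18a7a23) (.node 2489 (.leaf 0xf18a7a23) (.leaf 0xf18a7a23))))))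

def candS_124 : Store := (.node 2500 (.node 2495 (.node 2492 (.node 2491 (.leaf 0xf18a7a23) (.leaf 0xf18a7a23)) (.node 2493 (.leaf 0xf18a7a23) (.node 2494 (.leaf 0xf18a7a23) (.leaf 0xf18a7a23)))) (.node 2497 (.node 2496 (.leaf 0xf18a7a23) (.leaf 0xf18a7a23)) (.node 2498 (.leaf 0xf18a7a23) (.node 2499 (.leaf 0xf18a7a23) (.leaf 0xf18a7a23))))) (.node 2505 (.node 2502 (.node 2501 (.leaf 0xf18a7a23) (.leaf 0xf18a7a23)) (.node 2503 (.leaf 0xf18a7a23) (.node 2504 (.leaf 0xf18a7a23) (.leaf 0xf18a7a23)))) (.node 2508 (.node 2506 (.leaf 0xf18a7a23) (.node 2507 (.leaf 0xf18a7a23) (.leaf 0xf18a7a23))) (.node 2509 (.leaf 0xf18a7a23) (.node 2510 (.leaf 0xf18a7a23) (.leaf 0xf18a7a23))))))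

def candS_125 : Store := (.node 2521 (.node 2516 (.node 2513 (.node 2512 (.leaf 0xf18a7a23) (.leaf 0xf18a7a23)) (.node 2514 (.leaf 0xf18a7a23) (.node 2515 (.leaf 0xf18a7a23) (.leaf 0xf18a7a23)))) (.node 2518 (.node 2517 (.leaf 0xf18a7a23) (.leaf 0xf18a7a23)) (.node 2519 (.leaf 0xf18a7a23) (.node 2520 (.leaf 0xf18a7a23) (.leaf 0x100f18a7a23))))) (.node 2526 (.node 2523 (.node 2522 (.leaf 0x100f18a7a23) (.leaf 0x100f18a7a23)) (.node 2524 (.leaf 0x100f18a7a23) (.node 2525 (.leaf 0x100f18a7a23) (.leaf 0x100f18a7a23)))) (.node 2528 (.node 2527 (.leaf 0x100f18a7a23) (.leaf 0x100f18a7a23)) (.node 2529 (.leaf 0x100f18a7a23) (.node 2530 (.leaf 0x100f18a7a23) (.leaf 0x100f18a7a23))))))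

def candS_126 : Store := (.node 2541 (.node 2536 (.node 2533 (.node 2532 (.leaf 0x100f18a7a23) (.leaf 0x2e0f18a7a23)) (.node 2534 (.leaf 0x2e0f18a7a23) (.node 2535 (.leaf 0x2e0f18a7a23) (.leaf 0x2e0f18a7a23)))) (.node 2538 (.node 2537 (.leaf 0x2e0f18a7a23) (.leaf 0x2e0f18a7a23)) (.node 2539 (.leaf 0x2e0f18a7a23) (.node 2540 (.leaf 0x2e0f18a7a23) (.leaf 0x2e0f18a7a23))))) (.node 2546 (.node 2543 (.node 2542 (.leaf 0x2e0f18a7a23) (.leaf 0x2e0f18a7a23)) (.node 2544 (.leaf 0x2e0f18a7a23) (.node 2545 (.leaf 0x60f18a7a23) (.leaf 0x60f18a7a23)))) (.node 2548 (.node 2547 (.leaf 0x60f18a7a23) (.leaf 0x60f18a7a23)) (.node 2549 (.leaf 0x60f18a7a23) (.node 2550 (.leaf 0x60f18a7a23) (.leaf 0x60f18a7a23))))))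

def candS_127 : Store := (.node 2561 (.node 2556 (.node 2553 (.node 2552 (.leaf 0x60f18a7a23) (.leaf 0x60f18a7a23)) (.node 2554 (.leaf 0x60f18a7a23) (.node 2555 (.leaf 0x60f18a7a23) (.leaf 0x60f18a7a23)))) (.node 2558 (.node 2557 (.leaf 0x120f18a7a23) (.leaf 0x120f18a7a23)) (.node 2559 (.leaf 0x30a) (.node 2560 (.leaf 0x120f18a7a23) (.leaf 0x136))))) (.node 2566 (.node 2563 (.node 2562 (.leaf 0x120f18a7a23) (.leaf 0x120f18a7a23)) (.node 2564 (.leaf 0x9a) (.node 2565 (.leaf 0x120f18a7a23) (.leaf 0x2f6)))) (.node 2568 (.node 2567 (.leaf 0x120f18a7a23) (.leaf 0x120f18a7a23)) (.node 2569 (.leaf 0x160f18a7a23) (.node 2570 (.leaf 0x160f18a7a23) (.leaf 0x160f18a7a23))))))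

def candS_128 : Store := (.node 2581 (.node 2576 (.node 2573 (.node 2572 (.leaf 0x7800160f18a7a23) (.leaf 0x160f18a7a23)) (.node 2574 (.leaf 0x160f18a7a23) (.node 2575 (.leaf 0x3000160f18a7a23) (.leaf 0x160f18a7a23)))) (.node 2578 (.node 2577 (.leaf 0x2000160f18a7a23) (.leaf 0x160f18a7a23)) (.node 2579 (.leaf 0x160f18a7a23) (.node 2580 (.leaf 0x6000160f18a7a23) (.leaf 0xf18a7a23))))) (.node 2586 (.node 2583 (.node 2582 (.leaf 0xf18a7a23) (.leaf 0xf18a7a23)) (.node 2584 (.leaf 0xf18a7a23) (.node 2585 (.leaf 0xf18a7a23) (.leaf 0xf18a7a23)))) (.node 2589 (.node 2587 (.leaf 0xf18a7a23) (.node 2588 (.leaf 0xf18a7a23) (.leaf 0xf18a7a23))) (.node 2590 (.leaf 0xf18a7a23) (.node 2591 (.leaf 0xf18a7a23) (.leaf 0xf18a7a23))))))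

def candS_129 : Store := (.node 2602 (.node 2597 (.node 2594 (.node 2593 (.leaf 0x3b1c27a23) (.leaf 0x3b1c27a23)) (.node 2595 (.leaf 0x3b1c27a23) (.node 2596 (.leaf 0x3b1c27a23) (.leaf 0x3b1c27a23)))) (.node 2599 (.node 2598 (.leaf 0x3b1c27a23) (.leaf 0x3b1c27a23)) (.node 2600 (.leaf 0x3b1c27a23) (.node 2601 (.leaf 0x3b1c27a23) (.leaf 0x3b1c27a23))))) (.node 2607 (.node 2604 (.node 2603 (.leaf 0x3b1c27a23) (.leaf 0x3b1c27a23)) (.node 2605 (.leaf 0x3b1c27a23) (.node 2606 (.leaf 0x3b1c27a23) (.leaf 0x3b1c27a23)))) (.node 2609 (.node 2608 (.leaf 0x3b1c27a23) (.leaf 0x3b1c27a23)) (.node 2610 (.leaf 0x3b1c27a23) (.node 2611 (.leaf 0x3b1c27a23) (.leaf 0x3b1c27a23))))))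

def candS_130 : Store := (.node 2622 (.node 2617 (.node 2614 (.node 2613 (.leaf 0x3b1c27a23) (.leaf 0x3b1c27a23)) (.node 2615 (.leaf 0x3b1c27a23) (.node 2616 (.leaf 0x3b1c27a23) (.leaf 0x223b1c27a23)))) (.node 2619 (.node 2618 (.leaf 0x223b1c27a23) (.leaf 0x223b1c27a23)) (.node 2620 (.leaf 0x223b1c27a23) (.node 2621 (.leaf 0x223b1c27a23) (.leaf 0x223b1c27a23))))) (.node 2627 (.node 2624 (.node 2623 (.leaf 0x223b1c27a23) (.leaf 0x223b1c27a23)) (.node 2625 (.leaf 0x223b1c27a23) (.node 2626 (.leaf 0x223b1c27a23) (.leaf 0x223b1c27a23)))) (.node 2629 (.node 2628 (.leaf 0x223b1c27a23) (.leaf 0x254)) (.node 2630 (.leaf 0x3e3b1c27a23) (.node 2631 (.leaf 0x3e3b1c27a23) (.leaf 0x25a))))))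

def candS_131 : Store := (.node 2642 (.node 2637 (.node 2634 (.node 2633 (.leaf 0x3e3b1c27a23) (.leaf 0x3e3b1c27a23)) (.node 2635 (.leaf 0x3e3b1c27a23) (.node 2636 (.leaf 0x3e3b1c27a23) (.leaf 0x1da)))) (.node 2639 (.node 2638 (.leaf 0x3e3b1c27a23) (.leaf 0x3e3b1c27a23)) (.node 2640 (.leaf 0x1c0) (.node 2641 (.leaf 0x363b1c27a23) (.leaf 0x363b1c27a23))))) (.node 2647 (.node 2644 (.node 2643 (.leaf 0x363b1c27a23) (.leaf 0x363b1c27a23)) (.node 2645 (.leaf 0x363b1c27a23) (.node 2646 (.leaf 0x363b1c27a23) (.leaf 0x363b1c27a23)))) (.node 2649 (.node 2648 (.leaf 0x363b1c27a23) (.leaf 0x363b1c27a23)) (.node 2650 (.leaf 0x363b1c27a23) (.node 2651 (.leaf 0x363b1c27a23) (.leaf 0x363b1c27a23))))))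

def candS_132 : Store := (.node 2662 (.node 2657 (.node 2654 (.node 2653 (.leaf 0x3b1c27a23) (.leaf 0x3b1c27a23)) (.node 2655 (.leaf 0x3b1c27a23) (.node 2656 (.leaf 0x3b1c27a23) (.leaf 0x3b1c27a23)))) (.node 2659 (.node 2658 (.leaf 0x3b1c27a23) (.leaf 0x3b1c27a23)) (.node 2660 (.leaf 0x3b1c27a23) (.node 2661 (.leaf 0x3b1c27a23) (.leaf 0x3b1c27a23))))) (.node 2667 (.node 2664 (.node 2663 (.leaf 0x3b1c27a23) (.leaf 0x3b1c27a23)) (.node 2665 (.leaf 0x3b1c27a23) (.node 2666 (.leaf 0x3b1c27a23) (.leaf 0x3b1c27a23)))) (.node 2670 (.node 2668 (.leaf 0x3b1c27a23) (.node 2669 (.leaf 0x3b1c27a23) (.leaf 0x3b1c27a23))) (.node 2671 (.leaf 0x3b1c27a23) (.node 2672 (.leaf 0x3b1c27a23) (.leaf 0x3b1c27a23))))))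

def candS_133 : Store := (.node 2683 (.node 2678 (.node 2675 (.node 2674 (.leaf 0x3b1c27a23) (.leaf 0x3b1c27a23)) (.node 2676 (.leaf 0x3b1c27a23) (.node 2677 (.leaf 0x403b1c27a23) (.leaf 0x403b1c27a23)))) (.node 2680 (.node 2679 (.leaf 0x403b1c27a23) (.leaf 0x403b1c27a23)) (.node 2681 (.leaf 0x1800403b1c27a23) (.node 2682 (.leaf 0x2800403b1c27a23) (.leaf 0x403b1c27a23))))) (.node 2688 (.node 2685 (.node 2684 (.leaf 0x9000403b1c27a23) (.leaf 0x403b1c27a23)) (.node 2686 (.leaf 0x3800403b1c27a23) (.node 2687 (.leaf 0x403b1c27a23) (.leaf 0x403b1c27a23)))) (.node 2690 (.node 2689 (.leaf 0x3b1c27a23) (.leaf 0x3b1c27a23)) (.node 2691 (.leaf 0x3b1c27a23) (.node 2692 (.leaf 0x3b1c27a23) (.leaf 0x3b1c27a23))))))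

def candS_134 : Store := (.node 2703 (.node 2698 (.node 2695 (.node 2694 (.leaf 0x3b1c27a23) (.leaf 0x3b1c27a23)) (.node 2696 (.leaf 0x3b1c27a23) (.node 2697 (.leaf 0x3b1c27a23) (.leaf 0x3b1c27a23)))) (.node 2700 (.node 2699 (.leaf 0x3b1c27a23) (.leaf 0x3b1c27a23)) (.node 2701 (.leaf 0x3b1c27a23) (.node 2702 (.leaf 0x3b1c27a23) (.leaf 0x3b1c27a23))))) (.node 2708 (.node 2705 (.node 2704 (.leaf 0x3b1c27a23) (.leaf 0x3b1c27a23)) (.node 2706 (.leaf 0x3b1c27a23) (.node 2707 (.leaf 0x3b1c27a23) (.leaf 0x3b1c27a23)))) (.node 2710 (.node 2709 (.leaf 0x3b1c27a23) (.leaf 0x3b1c27a23)) (.node 2711 (.leaf 0x3b1c27a23) (.node 2712 (.leaf 0x3b1c27a23) (.leaf 0x203b1c27a23))))))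

def candS_135 : Store := (.node 2723 (.node 2718 (.node 2715 (.node 2714 (.leaf 0x203b1c27a23) (.leaf 0x203b1c27a23)) (.node 2716 (.leaf 0x203b1c27a23) (.node 2717 (.leaf 0x203b1c27a23) (.leaf 0x203b1c27a23)))) (.node 2720 (.node 2719 (.leaf 0x203b1c27a23) (.leaf 0x203b1c27a23)) (.node 2721 (.leaf 0x203b1c27a23) (.node 2722 (.leaf 0x203b1c27a23) (.leaf 0x203b1c27a23))))) (.node 2728 (.node 2725 (.node 2724 (.leaf 0x203b1c27a23) (.leaf 0x123b1c27a23)) (.node 2726 (.leaf 0x123b1c27a23) (.node 2727 (.leaf 0x123b1c27a23) (.leaf 0x123b1c27a23)))) (.node 2730 (.node 2729 (.leaf 0x123b1c27a23) (.leaf 0x123b1c27a23)) (.node 2731 (.leaf 0x123b1c27a23) (.node 2732 (.leaf 0x123b1c27a23) (.leaf 0x123b1c27a23))))))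

def candS_136 : Store := (.node 2743 (.node 2738 (.node 2735 (.node 2734 (.leaf 0x123b1c27a23) (.leaf 0x123b1c27a23)) (.node 2736 (.leaf 0x123b1c27a23) (.node 2737 (.leaf 0x321520a7a23) (.leaf 0x321520a7a23)))) (.node 2740 (.node 2739 (.leaf 0x321520a7a23) (.leaf 0x321520a7a23)) (.node 2741 (.leaf 0x321520a7a23) (.node 2742 (.leaf 0x321520a7a23) (.leaf 0x321520a7a23))))) (.node 2748 (.node 2745 (.node 2744 (.leaf 0x321520a7a23) (.leaf 0x321520a7a23)) (.node 2746 (.leaf 0x321520a7a23) (.node 2747 (.leaf 0x321520a7a23) (.leaf 0x321520a7a23)))) (.node 2751 (.node 2749 (.leaf 0x101520a7a23) (.node 2750 (.leaf 0x101520a7a23) (.leaf 0x101520a7a23))) (.node 2752 (.leaf 0x101520a7a23) (.node 2753 (.leaf 0x101520a7a23) (.leaf 0x101520a7a23))))))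

def candS_137 : Store := (.node 2764 (.node 2759 (.node 2756 (.node 2755 (.leaf 0x101520a7a23) (.leaf 0x101520a7a23)) (.node 2757 (.leaf 0x101520a7a23) (.node 2758 (.leaf 0x101520a7a23) (.leaf 0x101520a7a23)))) (.node 2761 (.node 2760 (.leaf 0x101520a7a23) (.leaf 0x1520a7a23)) (.node 2762 (.leaf 0x1520a7a23) (.node 2763 (.leaf 0x1520a7a23) (.leaf 0x1520a7a23))))) (.node 2769 (.node 2766 (.node 2765 (.leaf 0x1520a7a23) (.leaf 0x1520a7a23)) (.node 2767 (.leaf 0x1520a7a23) (.node 2768 (.leaf 0x1520a7a23) (.leaf 0x1520a7a23)))) (.node 2771 (.node 2770 (.leaf 0x1520a7a23) (.leaf 0x1520a7a23)) (.node 2772 (.leaf 0x1520a7a23) (.node 2773 (.leaf 0x1520a7a23) (.leaf 0x1520a7a23))))))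

def candS_138 : Store := (.node 2784 (.node 2779 (.node 2776 (.node 2775 (.leaf 0x1520a7a23) (.leaf 0x1520a7a23)) (.node 2777 (.leaf 0x1520a7a23) (.node 2778 (.leaf 0x1520a7a23) (.leaf 0x1520a7a23)))) (.node 2781 (.node 2780 (.leaf 0x1520a7a23) (.leaf 0x1520a7a23)) (.node 2782 (.leaf 0x1520a7a23) (.node 2783 (.leaf 0x1520a7a23) (.leaf 0x1520a7a23))))) (.node 2789 (.node 2786 (.node 2785 (.leaf 0x1520a7a23) (.leaf 0x1520a7a23)) (.node 2787 (.leaf 0x1520a7a23) (.node 2788 (.leaf 0x1520a7a23) (.leaf 0x1520a7a23)))) (.node 2791 (.node 2790 (.leaf 0x1520a7a23) (.leaf 0x1520a7a23)) (.node 2792 (.leaf 0x1520a7a23) (.node 2793 (.leaf 0x1520a7a23) (.leaf 0x1520a7a23))))))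

def candS_139 : Store := (.node 2804 (.node 2799 (.node 2796 (.node 2795 (.leaf 0x1520a7a23) (.leaf 0x1520a7a23)) (.node 2797 (.leaf 0x1520a7a23) (.node 2798 (.leaf 0x1520a7a23) (.leaf 0x1520a7a23)))) (.node 2801 (.node 2800 (.leaf 0x1520a7a23) (.leaf 0x1520a7a23)) (.node 2802 (.leaf 0x1520a7a23) (.node 2803 (.leaf 0x1520a7a23) (.leaf 0x1520a7a23))))) (.node 2809 (.node 2806 (.node 2805 (.leaf 0x1520a7a23) (.leaf 0x1520a7a23)) (.node 2807 (.leaf 0x1520a7a23) (.node 2808 (.leaf 0x1520a7a23) (.leaf 0x1520a7a23)))) (.node 2811 (.node 2810 (.leaf 0x1520a7a23) (.leaf 0x1520a7a23)) (.node 2812 (.leaf 0x1520a7a23) (.node 2813 (.leaf 0x1520a7a23) (.leaf 0x1520a7a23))))))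

def candS_140 : Store := (.node 2824 (.node 2819 (.node 2816 (.node 2815 (.leaf 0x1520a7a23) (.leaf 0x1520a7a23)) (.node 2817 (.leaf 0x1520a7a23) (.node 2818 (.leaf 0x1520a7a23) (.leaf 0x1520a7a23)))) (.node 2821 (.node 2820 (.leaf 0x1520a7a23) (.leaf 0x141520a7a23)) (.node 2822 (.leaf 0x141520a7a23) (.node 2823 (.leaf 0x141520a7a23) (.leaf 0x141520a7a23))))) (.node 2829 (.node 2826 (.node 2825 (.leaf 0x141520a7a23) (.leaf 0x141520a7a23)) (.node 2827 (.leaf 0x141520a7a23) (.node 2828 (.leaf 0x141520a7a23) (.leaf 0x141520a7a23)))) (.node 2832 (.node 2830 (.leaf 0x141520a7a23) (.node 2831 (.leaf 0x141520a7a23) (.leaf 0x141520a7a23))) (.node 2833 (.leaf 0x301520a7a23) (.node 2834 (.leaf 0x301520a7a23) (.leaf 0x301520a7a23))))))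

def candS_141 : Store := (.node 2845 (.node 2840 (.node 2837 (.node 2836 (.leaf 0x301520a7a23) (.leaf 0x301520a7a23)) (.node 2838 (.leaf 0x301520a7a23) (.node 2839 (.leaf 0x301520a7a23) (.leaf 0x301520a7a23)))) (.node 2842 (.node 2841 (.leaf 0x301520a7a23) (.leaf 0x301520a7a23)) (.node 2843 (.leaf 0x301520a7a23) (.node 2844 (.leaf 0x301520a7a23) (.leaf 0x461520a7a23))))) (.node 2850 (.node 2847 (.node 2846 (.leaf 0x461520a7a23) (.leaf 0x2e4)) (.node 2848 (.leaf 0x461520a7a23) (.node 2849 (.leaf 0x2de) (.leaf 0x11a)))) (.node 2852 (.node 2851 (.leaf 0x461520a7a23) (.leaf 0x461520a7a23)) (.node 2853 (.leaf 0x461520a7a23) (.node 2854 (.leaf 0x3b8) (.leaf 0x461520a7a23))))))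

def candS_142 : Store := (.node 2865 (.node 2860 (.node 2857 (.node 2856 (.leaf 0x461520a7a23) (.leaf 0x1520a7a23)) (.node 2858 (.leaf 0x1520a7a23) (.node 2859 (.leaf 0x1520a7a23) (.leaf 0x1520a7a23)))) (.node 2862 (.node 2861 (.leaf 0x1520a7a23) (.leaf 0x1520a7a23)) (.node 2863 (.leaf 0x1520a7a23) (.node 2864 (.leaf 0x1520a7a23) (.leaf 0x1520a7a23))))) (.node 2870 (.node 2867 (.node 2866 (.leaf 0x1520a7a23) (.leaf 0x1520a7a23)) (.node 2868 (.leaf 0x1520a7a23) (.node 2869 (.leaf 0x9800441520a7a23) (.leaf 0x441520a7a23)))) (.node 2872 (.node 2871 (.leaf 0x441520a7a23) (.leaf 0x7000441520a7a23)) (.node 2873 (.leaf 0x441520a7a23) (.node 2874 (.leaf 0x441520a7a23) (.leaf 0x441520a7a23))))))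

def candS_143 : Store := (.node 2885 (.node 2880 (.node 2877 (.node 2876 (.leaf 0x441520a7a23) (.leaf 0x441520a7a23)) (.node 2878 (.leaf 0x441520a7a23) (.node 2879 (.leaf 0x441520a7a23) (.leaf 0x8000441520a7a23)))) (.node 2882 (.node 2881 (.leaf 0x1e01a7a23) (.leaf 0x1e01a7a23)) (.node 2883 (.leaf 0x1e01a7a23) (.node 2884 (.leaf 0x1e01a7a23) (.leaf 0x1e01a7a23))))) (.node 2890 (.node 2887 (.node 2886 (.leaf 0x1e01a7a23) (.leaf 0x1e01a7a23)) (.node 2888 (.leaf 0x1e01a7a23) (.node 2889 (.leaf 0x1e01a7a23) (.leaf 0x1e01a7a23)))) (.node 2892 (.node 2891 (.leaf 0x1e01a7a23) (.leaf 0x1e01a7a23)) (.node 2893 (.leaf 0x1e01a7a23) (.node 2894 (.leaf 0x1e01a7a23) (.leaf 0x1e01a7a23))))))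

def candS_144 : Store := (.node 2905 (.node 2900 (.node 2897 (.node 2896 (.leaf 0x1e01a7a23) (.leaf 0x1e01a7a23)) (.node 2898 (.leaf 0x1e01a7a23) (.node 2899 (.leaf 0x1e01a7a23) (.leaf 0x1e01a7a23)))) (.node 2902 (.node 2901 (.leaf 0x1e01a7a23) (.leaf 0x1e01a7a23)) (.node 2903 (.leaf 0x1e01a7a23) (.node 2904 (.leaf 0x1e01a7a23) (.leaf 0xa1e01a7a23))))) (.node 2910 (.node 2907 (.node 2906 (.leaf 0xa1e01a7a23) (.leaf 0xa1e01a7a23)) (.node 2908 (.leaf 0xa1e01a7a23) (.node 2909 (.leaf 0xa1e01a7a23) (.leaf 0xa1e01a7a23)))) (.node 2913 (.node 2911 (.leaf 0xa1e01a7a23) (.node 2912 (.leaf 0xa1e01a7a23) (.leaf 0xa1e01a7a23))) (.node 2914 (.leaf 0xa1e01a7a23) (.node 2915 (.leaf 0xa1e01a7a23) (.leaf 0xa1e01a7a23))))))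

def candS_145 : Store := (.node 2926 (.node 2921 (.node 2918 (.node 2917 (.leaf 0x1b2) (.leaf 0x41e01a7a23)) (.node 2919 (.leaf 0x41e01a7a23) (.node 2920 (.leaf 0x372) (.leaf 0x41e01a7a23)))) (.node 2923 (.node 2922 (.leaf 0x41e01a7a23) (.leaf 0x374)) (.node 2924 (.leaf 0x41e01a7a23) (.node 2925 (.leaf 0x41e01a7a23) (.leaf 0x41e01a7a23))))) (.node 2931 (.node 2928 (.node 2927 (.leaf 0x41e01a7a23) (.leaf 0x224)) (.node 2929 (.leaf 0x61e01a7a23) (.node 2930 (.leaf 0x61e01a7a23) (.leaf 0x61e01a7a23)))) (.node 2933 (.node 2932 (.leaf 0x61e01a7a23) (.leaf 0x61e01a7a23)) (.node 2934 (.leaf 0x61e01a7a23) (.node 2935 (.leaf 0x61e01a7a23) (.leaf 0x61e01a7a23))))))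

def candS_146 : Store := (.node 2946 (.node 2941 (.node 2938 (.node 2937 (.leaf 0x61e01a7a23) (.leaf 0x61e01a7a23)) (.node 2939 (.leaf 0x61e01a7a23) (.node 2940 (.leaf 0x61e01a7a23) (.leaf 0x21e01a7a23)))) (.node 2943 (.node 2942 (.leaf 0x21e01a7a23) (.leaf 0x21e01a7a23)) (.node 2944 (.leaf 0x21e01a7a23) (.node 2945 (.leaf 0x21e01a7a23) (.leaf 0x21e01a7a23))))) (.node 2951 (.node 2948 (.node 2947 (.leaf 0x21e01a7a23) (.leaf 0x21e01a7a23)) (.node 2949 (.leaf 0x21e01a7a23) (.node 2950 (.leaf 0x21e01a7a23) (.leaf 0x21e01a7a23)))) (.node 2953 (.node 2952 (.leaf 0x21e01a7a23) (.leaf 0x1e01a7a23)) (.node 2954 (.leaf 0x1e01a7a23) (.node 2955 (.leaf 0x5000001e01a7a23) (.leaf 0x1e01a7a23))))))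

def candS_147 : Store := (.node 2966 (.node 2961 (.node 2958 (.node 2957 (.leaf 0x6800001e01a7a23) (.leaf 0x5800001e01a7a23)) (.node 2959 (.leaf 0x1e01a7a23) (.node 2960 (.leaf 0x1e01a7a23) (.leaf 0x1e01a7a23)))) (.node 2963 (.node 2962 (.leaf 0x800001e01a7a23) (.leaf 0x1e01a7a23)) (.node 2964 (.leaf 0x1e01a7a23) (.node 2965 (.leaf 0x1e01a7a23) (.leaf 0x1e01a7a23))))) (.node 2971 (.node 2968 (.node 2967 (.leaf 0x1e01a7a23) (.leaf 0x1e01a7a23)) (.node 2969 (.leaf 0x1e01a7a23) (.node 2970 (.leaf 0x1e01a7a23) (.leaf 0x1e01a7a23)))) (.node 2973 (.node 2972 (.leaf 0x1e01a7a23) (.leaf 0x1e01a7a23)) (.node 2974 (.leaf 0x1e01a7a23) (.node 2975 (.leaf 0x1e01a7a23) (.leaf 0x1e01a7a23))))))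

def candS_148 : Store := (.node 2986 (.node 2981 (.node 2978 (.node 2977 (.leaf 0x1e01a7a23) (.leaf 0x1e01a7a23)) (.node 2979 (.leaf 0x1e01a7a23) (.node 2980 (.leaf 0x1e01a7a23) (.leaf 0x1e01a7a23)))) (.node 2983 (.node 2982 (.leaf 0x1e01a7a23) (.leaf 0x1e01a7a23)) (.node 2984 (.leaf 0x1e01a7a23) (.node 2985 (.leaf 0x1e01a7a23) (.leaf 0x1e01a7a23))))) (.node 2991 (.node 2988 (.node 2987 (.leaf 0x1e01a7a23) (.leaf 0x1e01a7a23)) (.node 2989 (.leaf 0x1e01a7a23) (.node 2990 (.leaf 0x1e01a7a23) (.leaf 0x1e01a7a23)))) (.node 2994 (.node 2992 (.leaf 0x1e01a7a23) (.node 2993 (.leaf 0x1e01a7a23) (.leaf 0x1e01a7a23))) (.node 2995 (.leaf 0x1e01a7a23) (.node 2996 (.leaf 0x1e01a7a23) (.leaf 0x1e01a7a23))))))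

def candS_149 : Store := (.node 3007 (.node 3002 (.node 2999 (.node 2998 (.leaf 0x1e01a7a23) (.leaf 0x1e01a7a23)) (.node 3000 (.leaf 0x1e01a7a23) (.node 3001 (.leaf 0xc1e01a7a23) (.leaf 0xc1e01a7a23)))) (.node 3004 (.node 3003 (.leaf 0xc1e01a7a23) (.leaf 0xc1e01a7a23)) (.node 3005 (.leaf 0xc1e01a7a23) (.node 3006 (.leaf 0xc1e01a7a23) (.leaf 0xc1e01a7a23))))) (.node 3012 (.node 3009 (.node 3008 (.leaf 0xc1e01a7a23) (.leaf 0xc1e01a7a23)) (.node 3010 (.leaf 0xc1e01a7a23) (.node 3011 (.leaf 0xc1e01a7a23) (.leaf 0xc1e01a7a23)))) (.node 3014 (.node 3013 (.leaf 0x1e01a7a23) (.leaf 0x1e01a7a23)) (.node 3015 (.leaf 0x1e01a7a23) (.node 3016 (.leaf 0x1e01a7a23) (.leaf 0x1e01a7a23))))))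

def candS_150 : Store := (.node 3027 (.node 3022 (.node 3019 (.node 3018 (.leaf 0x1e01a7a23) (.leaf 0x1e01a7a23)) (.node 3020 (.leaf 0x1e01a7a23) (.node 3021 (.leaf 0x1e01a7a23) (.leaf 0x1e01a7a23)))) (.node 3024 (.node 3023 (.leaf 0x1e01a7a23) (.leaf 0x1e01a7a23)) (.node 3025 (.leaf 0x4c1727a23) (.node 3026 (.leaf 0x4c1727a23) (.leaf 0x4c1727a23))))) (.node 3032 (.node 3029 (.node 3028 (.leaf 0x4c1727a23) (.leaf 0x4c1727a23)) (.node 3030 (.leaf 0x4c1727a23) (.node 3031 (.leaf 0x4c1727a23) (.leaf 0x4c1727a23)))) (.node 3034 (.node 3033 (.leaf 0x4c1727a23) (.leaf 0x4c1727a23)) (.node 3035 (.leaf 0x4c1727a23) (.node 3036 (.leaf 0x4c1727a23) (.leaf 0x1c4c1727a23))))))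

def candS_151 : Store := (.node 3047 (.node 3042 (.node 3039 (.node 3038 (.leaf 0x1c4c1727a23) (.leaf 0x1c4c1727a23)) (.node 3040 (.leaf 0x1c4c1727a23) (.node 3041 (.leaf 0x1c4c1727a23) (.leaf 0x1c4c1727a23)))) (.node 3044 (.node 3043 (.leaf 0x1c4c1727a23) (.leaf 0x1c4c1727a23)) (.node 3045 (.leaf 0x1c4c1727a23) (.node 3046 (.leaf 0x1c4c1727a23) (.leaf 0x1c4c1727a23))))) (.node 3052 (.node 3049 (.node 3048 (.leaf 0x1c4c1727a23) (.leaf 0x4c1727a23)) (.node 3050 (.leaf 0x4c1727a23) (.node 3051 (.leaf 0x4c1727a23) (.leaf 0x4c1727a23)))) (.node 3054 (.node 3053 (.leaf 0x4c1727a23) (.leaf 0x4c1727a23)) (.node 3055 (.leaf 0x4c1727a23) (.node 3056 (.leaf 0x4c1727a23) (.leaf 0x4c1727a23))))))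

def candS_152 : Store := (.node 3067 (.node 3062 (.node 3059 (.node 3058 (.leaf 0x4c1727a23) (.leaf 0x4c1727a23)) (.node 3060 (.leaf 0x4c1727a23) (.node 3061 (.leaf 0x4c1727a23) (.leaf 0x4c1727a23)))) (.node 3064 (.node 3063 (.leaf 0x4c1727a23) (.leaf 0x4c1727a23)) (.node 3065 (.leaf 0x4c1727a23) (.node 3066 (.leaf 0x4c1727a23) (.leaf 0x4c1727a23))))) (.node 3072 (.node 3069 (.node 3068 (.leaf 0x4c1727a23) (.leaf 0x4c1727a23)) (.node 3070 (.leaf 0x4c1727a23) (.node 3071 (.leaf 0x4c1727a23) (.leaf 0x4c1727a23)))) (.node 3075 (.node 3073 (.leaf 0x38003c4c1727a23) (.node 3074 (.leaf 0x3c4c1727a23) (.leaf 0x3c4c1727a23))) (.node 3076 (.leaf 0x3c4c1727a23) (.node 3077 (.leaf 0x3c4c1727a23) (.leaf 0x3c4c1727a23))))))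

def candS_153 : Store := (.node 3088 (.node 3083 (.node 3080 (.node 3079 (.leaf 0x18003c4c1727a23) (.leaf 0x3c4c1727a23)) (.node 3081 (.leaf 0x90003c4c1727a23) (.node 3082 (.leaf 0x3c4c1727a23) (.leaf 0x3c4c1727a23)))) (.node 3085 (.node 3084 (.leaf 0x28003c4c1727a23) (.leaf 0x4c1727a23)) (.node 3086 (.leaf 0x4c1727a23) (.node 3087 (.leaf 0x4c1727a23) (.leaf 0x4c1727a23))))) (.node 3093 (.node 3090 (.node 3089 (.leaf 0x4c1727a23) (.leaf 0x4c1727a23)) (.node 3091 (.leaf 0x4c1727a23) (.node 3092 (.leaf 0x4c1727a23) (.leaf 0x4c1727a23)))) (.node 3095 (.node 3094 (.leaf 0x4c1727a23) (.leaf 0x4c1727a23)) (.node 3096 (.leaf 0x4c1727a23) (.node 3097 (.leaf 0x64c1727a23) (.leaf 0x64c1727a23))))))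

def candS_154 : Store := (.node 3108 (.node 3103 (.node 3100 (.node 3099 (.leaf 0x64c1727a23) (.leaf 0x64c1727a23)) (.node 3101 (.leaf 0x64c1727a23) (.node 3102 (.leaf 0x64c1727a23) (.leaf 0x64c1727a23)))) (.node 3105 (.node 3104 (.leaf 0x64c1727a23) (.leaf 0x64c1727a23)) (.node 3106 (.leaf 0x64c1727a23) (.node 3107 (.leaf 0x64c1727a23) (.leaf 0x64c1727a23))))) (.node 3113 (.node 3110 (.node 3109 (.leaf 0x144c1727a23) (.leaf 0x144c1727a23)) (.node 3111 (.leaf 0x144c1727a23) (.node 3112 (.leaf 0x144c1727a23) (.leaf 0x144c1727a23)))) (.node 3115 (.node 3114 (.leaf 0x144c1727a23) (.leaf 0x144c1727a23)) (.node 3116 (.leaf 0x144c1727a23) (.node 3117 (.leaf 0x144c1727a23) (.leaf 0x144c1727a23))))))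

def candS_155 : Store := (.node 3128 (.node 3123 (.node 3120 (.node 3119 (.leaf 0x144c1727a23) (.leaf 0x144c1727a23)) (.node 3121 (.leaf 0x424c1727a23) (.node 3122 (.leaf 0x424c1727a23) (.leaf 0x424c1727a23)))) (.node 3125 (.node 3124 (.leaf 0x424c1727a23) (.leaf 0x424c1727a23)) (.node 3126 (.leaf 0x424c1727a23) (.node 3127 (.leaf 0x424c1727a23) (.leaf 0x424c1727a23))))) (.node 3133 (.node 3130 (.node 3129 (.leaf 0x424c1727a23) (.leaf 0x424c1727a23)) (.node 3131 (.leaf 0x424c1727a23) (.node 3132 (.leaf 0x424c1727a23) (.leaf 0x3a4c1727a23)))) (.node 3135 (.node 3134 (.leaf 0x3a4c1727a23) (.leaf 0x28)) (.node 3136 (.leaf 0x3a4c1727a23) (.node 3137 (.leaf 0x88) (.leaf 0x2f8))))))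

def candS_156 : Store := (.node 3148 (.node 3143 (.node 3140 (.node 3139 (.leaf 0x3a4c1727a23) (.leaf 0x2ce)) (.node 3141 (.leaf 0x3a4c1727a23) (.node 3142 (.leaf 0x3a4c1727a23) (.leaf 0x3a4c1727a23)))) (.node 3145 (.node 3144 (.leaf 0x3a4c1727a23) (.leaf 0x4c1727a23)) (.node 3146 (.leaf 0x4c1727a23) (.node 3147 (.leaf 0x4c1727a23) (.leaf 0x4c1727a23))))) (.node 3153 (.node 3150 (.node 3149 (.leaf 0x4c1727a23) (.leaf 0x4c1727a23)) (.node 3151 (.leaf 0x4c1727a23) (.node 3152 (.leaf 0x4c1727a23) (.leaf 0x4c1727a23)))) (.node 3156 (.node 3154 (.leaf 0x4c1727a23) (.node 3155 (.leaf 0x4c1727a23) (.leaf 0x4c1727a23))) (.node 3157 (.leaf 0x4c1727a23) (.node 3158 (.leaf 0x4c1727a23) (.leaf 0x4c1727a23))))))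

def candS_157 : Store := (.node 3169 (.node 3164 (.node 3161 (.node 3160 (.leaf 0x4c1727a23) (.leaf 0x4c1727a23)) (.node 3162 (.leaf 0x4c1727a23) (.node 3163 (.leaf 0x4c1727a23) (.leaf 0x4c1727a23)))) (.node 3166 (.node 3165 (.leaf 0x4c1727a23) (.leaf 0x4c1727a23)) (.node 3167 (.leaf 0x4c1727a23) (.node 3168 (.leaf 0x4c1727a23) (.leaf 0x3c501f27a23))))) (.node 3174 (.node 3171 (.node 3170 (.leaf 0x3c501f27a23) (.leaf 0x3c501f27a23)) (.node 3172 (.leaf 0x3c501f27a23) (.node 3173 (.leaf 0x3c501f27a23) (.leaf 0x3c501f27a23)))) (.node 3176 (.node 3175 (.leaf 0x3c501f27a23) (.leaf 0x3c501f27a23)) (.node 3177 (.leaf 0x3c501f27a23) (.node 3178 (.leaf 0x3c501f27a23) (.leaf 0x3c501f27a23))))))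

def candS_158 : Store := (.node 3189 (.node 3184 (.node 3181 (.node 3180 (.leaf 0x3c501f27a23) (.leaf 0x2e501f27a23)) (.node 3182 (.leaf 0x2e501f27a23) (.node 3183 (.leaf 0x2e501f27a23) (.leaf 0x2e501f27a23)))) (.node 3186 (.node 3185 (.leaf 0x2e501f27a23) (.leaf 0x2e501f27a23)) (.node 3187 (.leaf 0x2e501f27a23) (.node 3188 (.leaf 0x2e501f27a23) (.leaf 0x2e501f27a23))))) (.node 3194 (.node 3191 (.node 3190 (.leaf 0x2e501f27a23) (.leaf 0x2e501f27a23)) (.node 3192 (.leaf 0x2e501f27a23) (.node 3193 (.leaf 0x501f27a23) (.leaf 0x501f27a23)))) (.node 3196 (.node 3195 (.leaf 0x501f27a23) (.leaf 0x501f27a23)) (.node 3197 (.leaf 0x501f27a23) (.node 3198 (.leaf 0x501f27a23) (.leaf 0x501f27a23))))))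

def candS_159 : Store := (.node 3209 (.node 3204 (.node 3201 (.node 3200 (.leaf 0x501f27a23) (.leaf 0x501f27a23)) (.node 3202 (.leaf 0x501f27a23) (.node 3203 (.leaf 0x501f27a23) (.leaf 0x501f27a23)))) (.node 3206 (.node 3205 (.leaf 0x42501f27a23) (.leaf 0x42501f27a23)) (.node 3207 (.leaf 0x42501f27a23) (.node 3208 (.leaf 0x42501f27a23) (.leaf 0x42501f27a23))))) (.node 3214 (.node 3211 (.node 3210 (.leaf 0x42501f27a23) (.leaf 0x42501f27a23)) (.node 3212 (.leaf 0x42501f27a23) (.node 3213 (.leaf 0x42501f27a23) (.leaf 0x42501f27a23)))) (.node 3216 (.node 3215 (.leaf 0x42501f27a23) (.leaf 0x42501f27a23)) (.node 3217 (.leaf 0x501f27a23) (.node 3218 (.leaf 0x501f27a23) (.leaf 0x501f27a23))))))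

def candS_160 : Store := (.node 3229 (.node 3224 (.node 3221 (.node 3220 (.leaf 0x501f27a23) (.leaf 0x501f27a23)) (.node 3222 (.leaf 0x501f27a23) (.node 3223 (.leaf 0x501f27a23) (.leaf 0x501f27a23)))) (.node 3226 (.node 3225 (.leaf 0x501f27a23) (.leaf 0x501f27a23)) (.node 3227 (.leaf 0x501f27a23) (.node 3228 (.leaf 0x501f27a23) (.leaf 0x501f27a23))))) (.node 3234 (.node 3231 (.node 3230 (.leaf 0x501f27a23) (.leaf 0x501f27a23)) (.node 3232 (.leaf 0x501f27a23) (.node 3233 (.leaf 0x501f27a23) (.leaf 0x501f27a23)))) (.node 3237 (.node 3235 (.leaf 0x501f27a23) (.node 3236 (.leaf 0x501f27a23) (.leaf 0x501f27a23))) (.node 3238 (.leaf 0x501f27a23) (.node 3239 (.leaf 0x501f27a23) (.leaf 0x501f27a23))))))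

def candS_161 : Store := (.node 3250 (.node 3245 (.node 3242 (.node 3241 (.leaf 0x1a501f27a23) (.leaf 0x1a501f27a23)) (.node 3243 (.leaf 0x1a501f27a23) (.node 3244 (.leaf 0x1a501f27a23) (.leaf 0x1a501f27a23)))) (.node 3247 (.node 3246 (.leaf 0x1a501f27a23) (.leaf 0x1a501f27a23)) (.node 3248 (.leaf 0x1a501f27a23) (.node 3249 (.leaf 0x1a501f27a23) (.leaf 0x1a501f27a23))))) (.node 3255 (.node 3252 (.node 3251 (.leaf 0x1a501f27a23) (.leaf 0x1a501f27a23)) (.node 3253 (.leaf 0x1e501f27a23) (.node 3254 (.leaf 0x1e501f27a23) (.leaf 0x1e501f27a23)))) (.node 3257 (.node 3256 (.leaf 0x1e501f27a23) (.leaf 0x1e501f27a23)) (.node 3258 (.leaf 0x1e501f27a23) (.node 3259 (.leaf 0x1e501f27a23) (.leaf 0x1e501f27a23))))))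

def candS_162 : Store := (.node 3270 (.node 3265 (.node 3262 (.node 3261 (.leaf 0x1e501f27a23) (.leaf 0x1e501f27a23)) (.node 3263 (.leaf 0x1e501f27a23) (.node 3264 (.leaf 0x1e501f27a23) (.leaf 0x2a501f27a23)))) (.node 3267 (.node 3266 (.leaf 0x2a501f27a23) (.leaf 0x2a501f27a23)) (.node 3268 (.leaf 0x2a501f27a23) (.node 3269 (.leaf 0x2a501f27a23) (.leaf 0x2a501f27a23))))) (.node 3275 (.node 3272 (.node 3271 (.leaf 0x2a501f27a23) (.leaf 0x2a501f27a23)) (.node 3273 (.leaf 0x2a501f27a23) (.node 3274 (.leaf 0x2a501f27a23) (.leaf 0x2a501f27a23)))) (.node 3277 (.node 3276 (.leaf 0x2a501f27a23) (.leaf 0x501f27a23)) (.node 3278 (.leaf 0x501f27a23) (.node 3279 (.leaf 0x501f27a23) (.leaf 0x501f27a23))))))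

def candS_163 : Store := (.node 3290 (.node 3285 (.node 3282 (.node 3281 (.leaf 0x501f27a23) (.leaf 0x501f27a23)) (.node 3283 (.leaf 0x501f27a23) (.node 3284 (.leaf 0x501f27a23) (.leaf 0x501f27a23)))) (.node 3287 (.node 3286 (.leaf 0x501f27a23) (.leaf 0x501f27a23)) (.node 3288 (.leaf 0x501f27a23) (.node 3289 (.leaf 0x501f27a23) (.leaf 0x501f27a23))))) (.node 3295 (.node 3292 (.node 3291 (.leaf 0x501f27a23) (.leaf 0x501f27a23)) (.node 3293 (.leaf 0x501f27a23) (.node 3294 (.leaf 0x501f27a23) (.leaf 0x501f27a23)))) (.node 3297 (.node 3296 (.leaf 0x501f27a23) (.leaf 0x501f27a23)) (.node 3298 (.leaf 0x501f27a23) (.node 3299 (.leaf 0x501f27a23) (.leaf 0x501f27a23))))))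

def candS_164 : Store := (.node 3310 (.node 3305 (.node 3302 (.node 3301 (.leaf 0x501f27a23) (.leaf 0x501f27a23)) (.node 3303 (.leaf 0x501f27a23) (.node 3304 (.leaf 0x501f27a23) (.leaf 0x501f27a23)))) (.node 3307 (.node 3306 (.leaf 0x501f27a23) (.leaf 0x501f27a23)) (.node 3308 (.leaf 0x501f27a23) (.node 3309 (.leaf 0x501f27a23) (.leaf 0x501f27a23))))) (.node 3315 (.node 3312 (.node 3311 (.leaf 0x501f27a23) (.leaf 0x501f27a23)) (.node 3313 (.leaf 0x213027a23) (.node 3314 (.leaf 0x213027a23) (.leaf 0x213027a23)))) (.node 3318 (.node 3316 (.leaf 0x213027a23) (.node 3317 (.leaf 0x213027a23) (.leaf 0x213027a23))) (.node 3319 (.leaf 0x213027a23) (.node 3320 (.leaf 0x213027a23) (.leaf 0x213027a23))))))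

def candS_165 : Store := (.node 3331 (.node 3326 (.node 3323 (.node 3322 (.leaf 0x213027a23) (.leaf 0x213027a23)) (.node 3324 (.leaf 0x213027a23) (.node 3325 (.leaf 0x213027a23) (.leaf 0x213027a23)))) (.node 3328 (.node 3327 (.leaf 0x213027a23) (.leaf 0x213027a23)) (.node 3329 (.leaf 0x213027a23) (.node 3330 (.leaf 0x213027a23) (.leaf 0x213027a23))))) (.node 3336 (.node 3333 (.node 3332 (.leaf 0x213027a23) (.leaf 0x213027a23)) (.node 3334 (.leaf 0x213027a23) (.node 3335 (.leaf 0x213027a23) (.leaf 0x213027a23)))) (.node 3338 (.node 3337 (.leaf 0x213027a23) (.leaf 0x213027a23)) (.node 3339 (.leaf 0x213027a23) (.node 3340 (.leaf 0x213027a23) (.leaf 0x213027a23))))))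

def candS_166 : Store := (.node 3351 (.node 3346 (.node 3343 (.node 3342 (.leaf 0x213027a23) (.leaf 0x213027a23)) (.node 3344 (.leaf 0x213027a23) (.node 3345 (.leaf 0x213027a23) (.leaf 0x213027a23)))) (.node 3348 (.node 3347 (.leaf 0x213027a23) (.leaf 0x213027a23)) (.node 3349 (.leaf 0x36e) (.node 3350 (.leaf 0x20213027a23) (.leaf 0x20213027a23))))) (.node 3356 (.node 3353 (.node 3352 (.leaf 0xd2) (.leaf 0x20213027a23)) (.node 3354 (.leaf 0x20213027a23) (.node 3355 (.leaf 0x246) (.leaf 0x20213027a23)))) (.node 3358 (.node 3357 (.leaf 0xd6) (.leaf 0x20213027a23)) (.node 3359 (.leaf 0x20213027a23) (.node 3360 (.leaf 0x20213027a23) (.leaf 0x8213027a23))))))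

def candS_167 : Store := (.node 3371 (.node 3366 (.node 3363 (.node 3362 (.leaf 0x8213027a23) (.leaf 0x8213027a23)) (.node 3364 (.leaf 0x8213027a23) (.node 3365 (.leaf 0x8213027a23) (.leaf 0x8213027a23)))) (.node 3368 (.node 3367 (.leaf 0x8213027a23) (.leaf 0x8213027a23)) (.node 3369 (.leaf 0x8213027a23) (.node 3370 (.leaf 0x8213027a23) (.leaf 0x8213027a23))))) (.node 3376 (.node 3373 (.node 3372 (.leaf 0x8213027a23) (.leaf 0x1c213027a23)) (.node 3374 (.leaf 0x1c213027a23) (.node 3375 (.leaf 0x1c213027a23) (.leaf 0x1c213027a23)))) (.node 3378 (.node 3377 (.leaf 0x1c213027a23) (.leaf 0x1c213027a23)) (.node 3379 (.leaf 0x1c213027a23) (.node 3380 (.leaf 0x1c213027a23) (.leaf 0x1c213027a23))))))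

def candS_168 : Store := (.node 3391 (.node 3386 (.node 3383 (.node 3382 (.leaf 0x1c213027a23) (.leaf 0x1c213027a23)) (.node 3384 (.leaf 0x1c213027a23) (.node 3385 (.leaf 0x213027a23) (.leaf 0x213027a23)))) (.node 3388 (.node 3387 (.leaf 0x213027a23) (.leaf 0x213027a23)) (.node 3389 (.leaf 0x213027a23) (.node 3390 (.leaf 0x213027a23) (.leaf 0x213027a23))))) (.node 3396 (.node 3393 (.node 3392 (.leaf 0x213027a23) (.leaf 0x213027a23)) (.node 3394 (.leaf 0x213027a23) (.node 3395 (.leaf 0x213027a23) (.leaf 0x213027a23)))) (.node 3399 (.node 3397 (.leaf 0x213027a23) (.node 3398 (.leaf 0x213027a23) (.leaf 0x213027a23))) (.node 3400 (.leaf 0x213027a23) (.node 3401 (.leaf 0x213027a23) (.leaf 0x213027a23))))))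

def candS_169 : Store := (.node 3412 (.node 3407 (.node 3404 (.node 3403 (.leaf 0x213027a23) (.leaf 0x213027a23)) (.node 3405 (.leaf 0x213027a23) (.node 3406 (.leaf 0x213027a23) (.leaf 0x213027a23)))) (.node 3409 (.node 3408 (.leaf 0x213027a23) (.leaf 0x2213027a23)) (.node 3410 (.leaf 0x2213027a23) (.node 3411 (.leaf 0x780002213027a23) (.leaf 0x2213027a23))))) (.node 3417 (.node 3414 (.node 3413 (.leaf 0x2213027a23) (.leaf 0x300002213027a23)) (.node 3415 (.leaf 0x2213027a23) (.node 3416 (.leaf 0x600002213027a23) (.leaf 0x2213027a23)))) (.node 3419 (.node 3418 (.leaf 0x200002213027a23) (.leaf 0x2213027a23)) (.node 3420 (.leaf 0x2213027a23) (.node 3421 (.leaf 0x213027a23) (.leaf 0x213027a23))))))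

def candS_170 : Store := (.node 3432 (.node 3427 (.node 3424 (.node 3423 (.leaf 0x213027a23) (.leaf 0x213027a23)) (.node 3425 (.leaf 0x213027a23) (.node 3426 (.leaf 0x213027a23) (.leaf 0x213027a23)))) (.node 3429 (.node 3428 (.leaf 0x213027a23) (.leaf 0x213027a23)) (.node 3430 (.leaf 0x213027a23) (.node 3431 (.leaf 0x213027a23) (.leaf 0x213027a23))))) (.node 3437 (.node 3434 (.node 3433 (.leaf 0x10213027a23) (.leaf 0x10213027a23)) (.node 3435 (.leaf 0x10213027a23) (.node 3436 (.leaf 0x10213027a23) (.leaf 0x10213027a23)))) (.node 3439 (.node 3438 (.leaf 0x10213027a23) (.leaf 0x10213027a23)) (.node 3440 (.leaf 0x10213027a23) (.node 3441 (.leaf 0x10213027a23) (.leaf 0x10213027a23))))))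

def candS_171 : Store := (.node 3452 (.node 3447 (.node 3444 (.node 3443 (.leaf 0x10213027a23) (.leaf 0x10213027a23)) (.node 3445 (.leaf 0x213027a23) (.node 3446 (.leaf 0x213027a23) (.leaf 0x213027a23)))) (.node 3449 (.node 3448 (.leaf 0x213027a23) (.leaf 0x213027a23)) (.node 3450 (.leaf 0x213027a23) (.node 3451 (.leaf 0x213027a23) (.leaf 0x213027a23))))) (.node 3457 (.node 3454 (.node 3453 (.leaf 0x213027a23) (.leaf 0x213027a23)) (.node 3455 (.leaf 0x213027a23) (.node 3456 (.leaf 0x213027a23) (.leaf 0x401a1cb8d53)))) (.node 3459 (.node 3458 (.leaf 0x401a1cb8d53) (.leaf 0x401a1cb8d53)) (.node 3460 (.leaf 0x401a1cb8d53) (.node 3461 (.leaf 0x401a1cb8d53) (.leaf 0x401a1cb8d53))))))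

def candS_172 : Store := (.node 3472 (.node 3467 (.node 3464 (.node 3463 (.leaf 0x401a1cb8d53) (.leaf 0x401a1cb8d53)) (.node 3465 (.leaf 0x401a1cb8d53) (.node 3466 (.leaf 0x401a1cb8d53) (.leaf 0x401a1cb8d53)))) (.node 3469 (.node 3468 (.leaf 0x401a1cb8d53) (.leaf 0x1a1cb8d53)) (.node 3470 (.leaf 0x1a1cb8d53) (.node 3471 (.leaf 0x1a1cb8d53) (.leaf 0x1a1cb8d53))))) (.node 3477 (.node 3474 (.node 3473 (.leaf 0x1a1cb8d53) (.leaf 0x1a1cb8d53)) (.node 3475 (.leaf 0x1a1cb8d53) (.node 3476 (.leaf 0x1a1cb8d53) (.leaf 0x1a1cb8d53)))) (.node 3480 (.node 3478 (.leaf 0x1a1cb8d53) (.node 3479 (.leaf 0x1a1cb8d53) (.leaf 0x1a1cb8d53))) (.node 3481 (.leaf 0x1e1a1cb8d53) (.node 3482 (.leaf 0x1e1a1cb8d53) (.leaf 0x1e1a1cb8d53))))))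

def candS_173 : Store := (.node 3493 (.node 3488 (.node 3485 (.node 3484 (.leaf 0xb8) (.leaf 0x1e1a1cb8d53)) (.node 3486 (.leaf 0x1e1a1cb8d53) (.node 3487 (.leaf 0x236) (.leaf 0x1e1a1cb8d53)))) (.node 3490 (.node 3489 (.leaf 0x3be) (.leaf 0x1e1a1cb8d53)) (.node 3491 (.leaf 0x1b8) (.node 3492 (.leaf 0x1e1a1cb8d53) (.leaf 0x21a1cb8d53))))) (.node 3498 (.node 3495 (.node 3494 (.leaf 0x21a1cb8d53) (.leaf 0x21a1cb8d53)) (.node 3496 (.leaf 0x21a1cb8d53) (.node 3497 (.leaf 0x21a1cb8d53) (.leaf 0x21a1cb8d53)))) (.node 3500 (.node 3499 (.leaf 0x21a1cb8d53) (.leaf 0x21a1cb8d53)) (.node 3501 (.leaf 0x21a1cb8d53) (.node 3502 (.leaf 0x21a1cb8d53) (.leaf 0x21a1cb8d53))))))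

def candS_174 : Store := (.node 3513 (.node 3508 (.node 3505 (.node 3504 (.leaf 0x21a1cb8d53) (.leaf 0x1a1cb8d53)) (.node 3506 (.leaf 0x1a1cb8d53) (.node 3507 (.leaf 0x1a1cb8d53) (.leaf 0x1a1cb8d53)))) (.node 3510 (.node 3509 (.leaf 0x1a1cb8d53) (.leaf 0x1a1cb8d53)) (.node 3511 (.leaf 0x1a1cb8d53) (.node 3512 (.leaf 0x1a1cb8d53) (.leaf 0x1a1cb8d53))))) (.node 3518 (.node 3515 (.node 3514 (.leaf 0x1a1cb8d53) (.leaf 0x1a1cb8d53)) (.node 3516 (.leaf 0x1a1cb8d53) (.node 3517 (.leaf 0x1a1cb8d53) (.leaf 0x1a1cb8d53)))) (.node 3520 (.node 3519 (.leaf 0x1a1cb8d53) (.leaf 0x1a1cb8d53)) (.node 3521 (.leaf 0x1a1cb8d53) (.node 3522 (.leaf 0x1a1cb8d53) (.leaf 0x1a1cb8d53))))))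

def candS_175 : Store := (.node 3533 (.node 3528 (.node 3525 (.node 3524 (.leaf 0x1a1cb8d53) (.leaf 0x1a1cb8d53)) (.node 3526 (.leaf 0x1a1cb8d53) (.node 3527 (.leaf 0x1a1cb8d53) (.leaf 0x1a1cb8d53)))) (.node 3530 (.node 3529 (.leaf 0x321a1cb8d53) (.leaf 0x321a1cb8d53)) (.node 3531 (.leaf 0x321a1cb8d53) (.node 3532 (.leaf 0x321a1cb8d53) (.leaf 0x321a1cb8d53))))) (.node 3538 (.node 3535 (.node 3534 (.leaf 0x321a1cb8d53) (.leaf 0x321a1cb8d53)) (.node 3536 (.leaf 0x321a1cb8d53) (.node 3537 (.leaf 0x321a1cb8d53) (.leaf 0x321a1cb8d53)))) (.node 3540 (.node 3539 (.leaf 0x321a1cb8d53) (.leaf 0x321a1cb8d53)) (.node 3541 (.leaf 0x3a1a1cb8d53) (.node 3542 (.leaf 0x3a1a1cb8d53) (.leaf 0x3a1a1cb8d53))))))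

def candS_176 : Store := (.node 3553 (.node 3548 (.node 3545 (.node 3544 (.leaf 0x3a1a1cb8d53) (.leaf 0x3a1a1cb8d53)) (.node 3546 (.leaf 0x3a1a1cb8d53) (.node 3547 (.leaf 0x3a1a1cb8d53) (.leaf 0x3a1a1cb8d53)))) (.node 3550 (.node 3549 (.leaf 0x3a1a1cb8d53) (.leaf 0x3a1a1cb8d53)) (.node 3551 (.leaf 0x3a1a1cb8d53) (.node 3552 (.leaf 0x3a1a1cb8d53) (.leaf 0x1a1cb8d53))))) (.node 3558 (.node 3555 (.node 3554 (.leaf 0x1a1cb8d53) (.leaf 0x1a1cb8d53)) (.node 3556 (.leaf 0x1a1cb8d53) (.node 3557 (.leaf 0x1a1cb8d53) (.leaf 0x1a1cb8d53)))) (.node 3561 (.node 3559 (.leaf 0x1a1cb8d53) (.node 3560 (.leaf 0x1a1cb8d53) (.leaf 0x1a1cb8d53))) (.node 3562 (.leaf 0x1a1cb8d53) (.node 3563 (.leaf 0x1a1cb8d53) (.leaf 0x1a1cb8d53))))))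

def candS_177 : Store := (.node 3574 (.node 3569 (.node 3566 (.node 3565 (.leaf 0x1a1cb8d53) (.leaf 0x1a1cb8d53)) (.node 3567 (.leaf 0x1a1cb8d53) (.node 3568 (.leaf 0x1a1cb8d53) (.leaf 0x1a1cb8d53)))) (.node 3571 (.node 3570 (.leaf 0x1a1cb8d53) (.leaf 0x1a1cb8d53)) (.node 3572 (.leaf 0x1a1cb8d53) (.node 3573 (.leaf 0x1a1cb8d53) (.leaf 0x1a1cb8d53))))) (.node 3579 (.node 3576 (.node 3575 (.leaf 0x1a1cb8d53) (.leaf 0x1a1cb8d53)) (.node 3577 (.leaf 0x201a1cb8d53) (.node 3578 (.leaf 0x1800201a1cb8d53) (.leaf 0x2800201a1cb8d53)))) (.node 3581 (.node 3580 (.leaf 0x201a1cb8d53) (.leaf 0x201a1cb8d53)) (.node 3582 (.leaf 0x201a1cb8d53) (.node 3583 (.leaf 0x201a1cb8d53) (.leaf 0x3800201a1cb8d53))))))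

def candS_178 : Store := (.node 3594 (.node 3589 (.node 3586 (.node 3585 (.leaf 0x201a1cb8d53) (.leaf 0x9000201a1cb8d53)) (.node 3587 (.leaf 0x201a1cb8d53) (.node 3588 (.leaf 0x201a1cb8d53) (.leaf 0x1a1cb8d53)))) (.node 3591 (.node 3590 (.leaf 0x1a1cb8d53) (.leaf 0x1a1cb8d53)) (.node 3592 (.leaf 0x1a1cb8d53) (.node 3593 (.leaf 0x1a1cb8d53) (.leaf 0x1a1cb8d53))))) (.node 3599 (.node 3596 (.node 3595 (.leaf 0x1a1cb8d53) (.leaf 0x1a1cb8d53)) (.node 3597 (.leaf 0x1a1cb8d53) (.node 3598 (.leaf 0x1a1cb8d53) (.leaf 0x1a1cb8d53)))) (.node 3601 (.node 3600 (.leaf 0x1a1cb8d53) (.leaf 0x373438d53)) (.node 3602 (.leaf 0x373438d53) (.node 3603 (.leaf 0x373438d53) (.leaf 0x373438d53))))))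

def candS_179 : Store := (.node 3614 (.node 3609 (.node 3606 (.node 3605 (.leaf 0x373438d53) (.leaf 0x373438d53)) (.node 3607 (.leaf 0x373438d53) (.node 3608 (.leaf 0x373438d53) (.leaf 0x373438d53)))) (.node 3611 (.node 3610 (.leaf 0x373438d53) (.leaf 0x373438d53)) (.node 3612 (.leaf 0x373438d53) (.node 3613 (.leaf 0x373438d53) (.leaf 0x373438d53))))) (.node 3619 (.node 3616 (.node 3615 (.leaf 0x373438d53) (.leaf 0x373438d53)) (.node 3617 (.leaf 0x373438d53) (.node 3618 (.leaf 0x373438d53) (.leaf 0x373438d53)))) (.node 3621 (.node 3620 (.leaf 0x373438d53) (.leaf 0x373438d53)) (.node 3622 (.leaf 0x373438d53) (.node 3623 (.leaf 0x373438d53) (.leaf 0x373438d53))))))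

def candS_180 : Store := (.node 3634 (.node 3629 (.node 3626 (.node 3625 (.leaf 0x373438d53) (.leaf 0x373438d53)) (.node 3627 (.leaf 0x373438d53) (.node 3628 (.leaf 0x373438d53) (.leaf 0x373438d53)))) (.node 3631 (.node 3630 (.leaf 0x373438d53) (.leaf 0x373438d53)) (.node 3632 (.leaf 0x373438d53) (.node 3633 (.leaf 0x373438d53) (.leaf 0x373438d53))))) (.node 3639 (.node 3636 (.node 3635 (.leaf 0x373438d53) (.leaf 0x373438d53)) (.node 3637 (.leaf 0x50003c373438d53) (.node 3638 (.leaf 0x3c373438d53) (.leaf 0x3c373438d53)))) (.node 3642 (.node 3640 (.leaf 0x68003c373438d53) (.node 3641 (.leaf 0x3c373438d53) (.leaf 0x3c373438d53))) (.node 3643 (.leaf 0x8003c373438d53) (.node 3644 (.leaf 0x3c373438d53) (.leaf 0x58003c373438d53))))))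

def candS_181 : Store := (.node 3655 (.node 3650 (.node 3647 (.node 3646 (.leaf 0x3c373438d53) (.leaf 0x3c373438d53)) (.node 3648 (.leaf 0x3c373438d53) (.node 3649 (.leaf 0x3a373438d53) (.leaf 0x3a373438d53)))) (.node 3652 (.node 3651 (.leaf 0x3a373438d53) (.leaf 0x3a373438d53)) (.node 3653 (.leaf 0x3a373438d53) (.node 3654 (.leaf 0x3a373438d53) (.leaf 0x3a373438d53))))) (.node 3660 (.node 3657 (.node 3656 (.leaf 0x3a373438d53) (.leaf 0x3a373438d53)) (.node 3658 (.leaf 0x3a373438d53) (.node 3659 (.leaf 0x3a373438d53) (.leaf 0x3a373438d53)))) (.node 3662 (.node 3661 (.leaf 0x1c373438d53) (.leaf 0x1c373438d53)) (.node 3663 (.leaf 0x1c373438d53) (.node 3664 (.leaf 0x1c373438d53) (.leaf 0x1c373438d53))))))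

def candS_182 : Store := (.node 3675 (.node 3670 (.node 3667 (.node 3666 (.leaf 0x1c373438d53) (.leaf 0x1c373438d53)) (.node 3668 (.leaf 0x1c373438d53) (.node 3669 (.leaf 0x1c373438d53) (.leaf 0x1c373438d53)))) (.node 3672 (.node 3671 (.leaf 0x1c373438d53) (.leaf 0x1c373438d53)) (.node 3673 (.leaf 0x373438d53) (.node 3674 (.leaf 0x373438d53) (.leaf 0x373438d53))))) (.node 3680 (.node 3677 (.node 3676 (.leaf 0x373438d53) (.leaf 0x373438d53)) (.node 3678 (.leaf 0x373438d53) (.node 3679 (.leaf 0x373438d53) (.leaf 0x373438d53)))) (.node 3682 (.node 3681 (.leaf 0x373438d53) (.leaf 0x373438d53)) (.node 3683 (.leaf 0x373438d53) (.node 3684 (.leaf 0x373438d53) (.leaf 0x373438d53))))))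

def candS_183 : Store := (.node 3695 (.node 3690 (.node 3687 (.node 3686 (.leaf 0x373438d53) (.leaf 0x373438d53)) (.node 3688 (.leaf 0x373438d53) (.node 3689 (.leaf 0x373438d53) (.leaf 0x373438d53)))) (.node 3692 (.node 3691 (.leaf 0x373438d53) (.leaf 0x373438d53)) (.node 3693 (.leaf 0x373438d53) (.node 3694 (.leaf 0x373438d53) (.leaf 0x373438d53))))) (.node 3700 (.node 3697 (.node 3696 (.leaf 0x373438d53) (.leaf 0x14373438d53)) (.node 3698 (.leaf 0x14373438d53) (.node 3699 (.leaf 0x144) (.leaf 0x14373438d53)))) (.node 3702 (.node 3701 (.leaf 0x14373438d53) (.leaf 0x170)) (.node 3703 (.leaf 0x14373438d53) (.node 3704 (.leaf 0x116) (.leaf 0x14373438d53))))))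

def candS_184 : Store := (.node 3715 (.node 3710 (.node 3707 (.node 3706 (.leaf 0x2a0) (.leaf 0x14373438d53)) (.node 3708 (.leaf 0x14373438d53) (.node 3709 (.leaf 0x373438d53) (.leaf 0x373438d53)))) (.node 3712 (.node 3711 (.leaf 0x373438d53) (.leaf 0x373438d53)) (.node 3713 (.leaf 0x373438d53) (.node 3714 (.leaf 0x373438d53) (.leaf 0x373438d53))))) (.node 3720 (.node 3717 (.node 3716 (.leaf 0x373438d53) (.leaf 0x373438d53)) (.node 3718 (.leaf 0x373438d53) (.node 3719 (.leaf 0x373438d53) (.leaf 0x373438d53)))) (.node 3723 (.node 3721 (.leaf 0x42373438d53) (.node 3722 (.leaf 0x42373438d53) (.leaf 0x42373438d53))) (.node 3724 (.leaf 0x42373438d53) (.node 3725 (.leaf 0x42373438d53) (.leaf 0x42373438d53))))))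

def candS_185 : Store := (.node 3736 (.node 3731 (.node 3728 (.node 3727 (.leaf 0x42373438d53) (.leaf 0x42373438d53)) (.node 3729 (.leaf 0x42373438d53) (.node 3730 (.leaf 0x42373438d53) (.leaf 0x42373438d53)))) (.node 3733 (.node 3732 (.leaf 0x42373438d53) (.leaf 0x6373438d53)) (.node 3734 (.leaf 0x6373438d53) (.node 3735 (.leaf 0x6373438d53) (.leaf 0x6373438d53))))) (.node 3741 (.node 3738 (.node 3737 (.leaf 0x6373438d53) (.leaf 0x6373438d53)) (.node 3739 (.leaf 0x6373438d53) (.node 3740 (.leaf 0x6373438d53) (.leaf 0x6373438d53)))) (.node 3743 (.node 3742 (.leaf 0x6373438d53) (.leaf 0x6373438d53)) (.node 3744 (.leaf 0x6373438d53) (.node 3745 (.leaf 0xc02b8d53) (.leaf 0xc02b8d53))))))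

def candS_186 : Store := (.node 3756 (.node 3751 (.node 3748 (.node 3747 (.leaf 0xc02b8d53) (.leaf 0xc02b8d53)) (.node 3749 (.leaf 0xc02b8d53) (.node 3750 (.leaf 0xc02b8d53) (.leaf 0xc02b8d53)))) (.node 3753 (.node 3752 (.leaf 0xc02b8d53) (.leaf 0xc02b8d53)) (.node 3754 (.leaf 0xc02b8d53) (.node 3755 (.leaf 0xc02b8d53) (.leaf 0xc02b8d53))))) (.node 3761 (.node 3758 (.node 3757 (.leaf 0xc02b8d53) (.leaf 0xc02b8d53)) (.node 3759 (.leaf 0xc02b8d53) (.node 3760 (.leaf 0xc02b8d53) (.leaf 0xc02b8d53)))) (.node 3763 (.node 3762 (.leaf 0xc02b8d53) (.leaf 0xc02b8d53)) (.node 3764 (.leaf 0xc02b8d53) (.node 3765 (.leaf 0xc02b8d53) (.leaf 0xc02b8d53))))))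

def candS_187 : Store := (.node 3776 (.node 3771 (.node 3768 (.node 3767 (.leaf 0xc02b8d53) (.leaf 0xc02b8d53)) (.node 3769 (.leaf 0xc02b8d53) (.node 3770 (.leaf 0xc02b8d53) (.leaf 0xc02b8d53)))) (.node 3773 (.node 3772 (.leaf 0xc02b8d53) (.leaf 0xc02b8d53)) (.node 3774 (.leaf 0xc02b8d53) (.node 3775 (.leaf 0xc02b8d53) (.leaf 0xc02b8d53))))) (.node 3781 (.node 3778 (.node 3777 (.leaf 0xc02b8d53) (.leaf 0xc02b8d53)) (.node 3779 (.leaf 0xc02b8d53) (.node 3780 (.leaf 0xc02b8d53) (.leaf 0xc02b8d53)))) (.node 3783 (.node 3782 (.leaf 0xc02b8d53) (.leaf 0xc02b8d53)) (.node 3784 (.leaf 0xc02b8d53) (.node 3785 (.leaf 0xc02b8d53) (.leaf 0xc02b8d53))))))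

def candS_188 : Store := (.node 3796 (.node 3791 (.node 3788 (.node 3787 (.leaf 0xc02b8d53) (.leaf 0xc02b8d53)) (.node 3789 (.leaf 0xc02b8d53) (.node 3790 (.leaf 0xc02b8d53) (.leaf 0xc02b8d53)))) (.node 3793 (.node 3792 (.leaf 0xc02b8d53) (.leaf 0x300c02b8d53)) (.node 3794 (.leaf 0x300c02b8d53) (.node 3795 (.leaf 0x300c02b8d53) (.leaf 0x300c02b8d53))))) (.node 3801 (.node 3798 (.node 3797 (.leaf 0x300c02b8d53) (.leaf 0x300c02b8d53)) (.node 3799 (.leaf 0x300c02b8d53) (.node 3800 (.leaf 0x300c02b8d53) (.leaf 0x300c02b8d53)))) (.node 3804 (.node 3802 (.leaf 0x300c02b8d53) (.node 3803 (.leaf 0x300c02b8d53) (.leaf 0x300c02b8d53))) (.node 3805 (.leaf 0xc02b8d53) (.node 3806 (.leaf 0xc02b8d53) (.leaf 0xc02b8d53))))))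

def candS_189 : Store := (.node 3817 (.node 3812 (.node 3809 (.node 3808 (.leaf 0xc02b8d53) (.leaf 0xc02b8d53)) (.node 3810 (.leaf 0xc02b8d53) (.node 3811 (.leaf 0xc02b8d53) (.leaf 0xc02b8d53)))) (.node 3814 (.node 3813 (.leaf 0xc02b8d53) (.leaf 0xc02b8d53)) (.node 3815 (.leaf 0xc02b8d53) (.node 3816 (.leaf 0xc02b8d53) (.leaf 0xc02b8d53))))) (.node 3822 (.node 3819 (.node 3818 (.leaf 0xc02b8d53) (.leaf 0xc02b8d53)) (.node 3820 (.leaf 0xc02b8d53) (.node 3821 (.leaf 0xc02b8d53) (.leaf 0xc02b8d53)))) (.node 3824 (.node 3823 (.leaf 0xc02b8d53) (.leaf 0xc02b8d53)) (.node 3825 (.leaf 0xc02b8d53) (.node 3826 (.leaf 0xc02b8d53) (.leaf 0xc02b8d53))))))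

def candS_190 : Store := (.node 3837 (.node 3832 (.node 3829 (.node 3828 (.leaf 0xc02b8d53) (.leaf 0x9800440c02b8d53)) (.node 3830 (.leaf 0x440c02b8d53) (.node 3831 (.leaf 0x440c02b8d53) (.leaf 0x8000440c02b8d53)))) (.node 3834 (.node 3833 (.leaf 0x440c02b8d53) (.leaf 0x440c02b8d53)) (.node 3835 (.leaf 0x440c02b8d53) (.node 3836 (.leaf 0x440c02b8d53) (.leaf 0x7000440c02b8d53))))) (.node 3842 (.node 3839 (.node 3838 (.leaf 0x440c02b8d53) (.leaf 0x440c02b8d53)) (.node 3840 (.leaf 0x440c02b8d53) (.node 3841 (.leaf 0x460c02b8d53) (.leaf 0x27c)))) (.node 3844 (.node 3843 (.leaf 0x460c02b8d53) (.leaf 0x460c02b8d53)) (.node 3845 (.leaf 0x460c02b8d53) (.node 3846 (.leaf 0xc) (.leaf 0x460c02b8d53))))))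

def candS_191 : Store := (.node 3857 (.node 3852 (.node 3849 (.node 3848 (.leaf 0x150) (.leaf 0x460c02b8d53)) (.node 3850 (.leaf 0x320) (.node 3851 (.leaf 0x460c02b8d53) (.leaf 0x460c02b8d53)))) (.node 3854 (.node 3853 (.leaf 0x140c02b8d53) (.leaf 0x140c02b8d53)) (.node 3855 (.leaf 0x140c02b8d53) (.node 3856 (.leaf 0x140c02b8d53) (.leaf 0x140c02b8d53))))) (.node 3862 (.node 3859 (.node 3858 (.leaf 0x140c02b8d53) (.leaf 0x140c02b8d53)) (.node 3860 (.leaf 0x140c02b8d53) (.node 3861 (.leaf 0x140c02b8d53) (.leaf 0x140c02b8d53)))) (.node 3864 (.node 3863 (.leaf 0x140c02b8d53) (.leaf 0x140c02b8d53)) (.node 3865 (.leaf 0x100c02b8d53) (.node 3866 (.leaf 0x100c02b8d53) (.leaf 0x100c02b8d53))))))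

def candS_192 : Store := (.node 3877 (.node 3872 (.node 3869 (.node 3868 (.leaf 0x100c02b8d53) (.leaf 0x100c02b8d53)) (.node 3870 (.leaf 0x100c02b8d53) (.node 3871 (.leaf 0x100c02b8d53) (.leaf 0x100c02b8d53)))) (.node 3874 (.node 3873 (.leaf 0x100c02b8d53) (.leaf 0x100c02b8d53)) (.node 3875 (.leaf 0x100c02b8d53) (.node 3876 (.leaf 0x100c02b8d53) (.leaf 0x320c02b8d53))))) (.node 3882 (.node 3879 (.node 3878 (.leaf 0x320c02b8d53) (.leaf 0x320c02b8d53)) (.node 3880 (.leaf 0x320c02b8d53) (.node 3881 (.leaf 0x320c02b8d53) (.leaf 0x320c02b8d53)))) (.node 3885 (.node 3883 (.leaf 0x320c02b8d53) (.node 3884 (.leaf 0x320c02b8d53) (.leaf 0x320c02b8d53))) (.node 3886 (.leaf 0x320c02b8d53) (.node 3887 (.leaf 0x320c02b8d53) (.leaf 0x320c02b8d53))))))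

def candS_193 : Store := (.node 3898 (.node 3893 (.node 3890 (.node 3889 (.leaf 0x163038d53) (.leaf 0x163038d53)) (.node 3891 (.leaf 0x163038d53) (.node 3892 (.leaf 0x163038d53) (.leaf 0x163038d53)))) (.node 3895 (.node 3894 (.leaf 0x163038d53) (.leaf 0x163038d53)) (.node 3896 (.leaf 0x163038d53) (.node 3897 (.leaf 0x163038d53) (.leaf 0x163038d53))))) (.node 3903 (.node 3900 (.node 3899 (.leaf 0x163038d53) (.leaf 0x163038d53)) (.node 3901 (.leaf 0x38163038d53) (.node 3902 (.leaf 0x38163038d53) (.leaf 0x38163038d53)))) (.node 3905 (.node 3904 (.leaf 0x38163038d53) (.leaf 0x38163038d53)) (.node 3906 (.leaf 0x38163038d53) (.node 3907 (.leaf 0x38163038d53) (.leaf 0x38163038d53))))))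

def candS_194 : Store := (.node 3918 (.node 3913 (.node 3910 (.node 3909 (.leaf 0x38163038d53) (.leaf 0x38163038d53)) (.node 3911 (.leaf 0x38163038d53) (.node 3912 (.leaf 0x38163038d53) (.leaf 0x10c)))) (.node 3915 (.node 3914 (.leaf 0x24163038d53) (.leaf 0x24163038d53)) (.node 3916 (.leaf 0x24163038d53) (.node 3917 (.leaf 0x24163038d53) (.leaf 0x24163038d53))))) (.node 3923 (.node 3920 (.node 3919 (.leaf 0x1cc) (.leaf 0x24163038d53)) (.node 3921 (.leaf 0x394) (.node 3922 (.leaf 0x24163038d53) (.leaf 0x23c)))) (.node 3925 (.node 3924 (.leaf 0x24163038d53) (.leaf 0x1c163038d53)) (.node 3926 (.leaf 0x1c163038d53) (.node 3927 (.leaf 0x1c163038d53) (.leaf 0x1c163038d53))))))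

def candS_195 : Store := (.node 3938 (.node 3933 (.node 3930 (.node 3929 (.leaf 0x1c163038d53) (.leaf 0x1c163038d53)) (.node 3931 (.leaf 0x1c163038d53) (.node 3932 (.leaf 0x1c163038d53) (.leaf 0x1c163038d53)))) (.node 3935 (.node 3934 (.leaf 0x1c163038d53) (.leaf 0x1c163038d53)) (.node 3936 (.leaf 0x1c163038d53) (.node 3937 (.leaf 0x34163038d53) (.leaf 0x300034163038d53))))) (.node 3943 (.node 3940 (.node 3939 (.leaf 0x780034163038d53) (.leaf 0x34163038d53)) (.node 3941 (.leaf 0x34163038d53) (.node 3942 (.leaf 0x200034163038d53) (.leaf 0x34163038d53)))) (.node 3945 (.node 3944 (.leaf 0x600034163038d53) (.leaf 0x34163038d53)) (.node 3946 (.leaf 0x34163038d53) (.node 3947 (.leaf 0x34163038d53) (.leaf 0x34163038d53))))))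

def candS_196 : Store := (.node 3958 (.node 3953 (.node 3950 (.node 3949 (.leaf 0x163038d53) (.leaf 0x163038d53)) (.node 3951 (.leaf 0x163038d53) (.node 3952 (.leaf 0x163038d53) (.leaf 0x163038d53)))) (.node 3955 (.node 3954 (.leaf 0x163038d53) (.leaf 0x163038d53)) (.node 3956 (.leaf 0x163038d53) (.node 3957 (.leaf 0x163038d53) (.leaf 0x163038d53))))) (.node 3963 (.node 3960 (.node 3959 (.leaf 0x163038d53) (.leaf 0x163038d53)) (.node 3961 (.leaf 0xe163038d53) (.node 3962 (.leaf 0xe163038d53) (.leaf 0xe163038d53)))) (.node 3966 (.node 3964 (.leaf 0xe163038d53) (.node 3965 (.leaf 0xe163038d53) (.leaf 0xe163038d53))) (.node 3967 (.leaf 0xe163038d53) (.node 3968 (.leaf 0xe163038d53) (.leaf 0xe163038d53))))))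

def candS_197 : Store := (.node 3979 (.node 3974 (.node 3971 (.node 3970 (.leaf 0xe163038d53) (.leaf 0xe163038d53)) (.node 3972 (.leaf 0xe163038d53) (.node 3973 (.leaf 0x26163038d53) (.leaf 0x26163038d53)))) (.node 3976 (.node 3975 (.leaf 0x26163038d53) (.leaf 0x26163038d53)) (.node 3977 (.leaf 0x26163038d53) (.node 3978 (.leaf 0x26163038d53) (.leaf 0x26163038d53))))) (.node 3984 (.node 3981 (.node 3980 (.leaf 0x26163038d53) (.leaf 0x26163038d53)) (.node 3982 (.leaf 0x26163038d53) (.node 3983 (.leaf 0x26163038d53) (.leaf 0x26163038d53)))) (.node 3986 (.node 3985 (.leaf 0x163038d53) (.leaf 0x163038d53)) (.node 3987 (.leaf 0x163038d53) (.node 3988 (.leaf 0x163038d53) (.leaf 0x163038d53))))))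

def candS_198 : Store := (.node 3999 (.node 3994 (.node 3991 (.node 3990 (.leaf 0x163038d53) (.leaf 0x163038d53)) (.node 3992 (.leaf 0x163038d53) (.node 3993 (.leaf 0x163038d53) (.leaf 0x163038d53)))) (.node 3996 (.node 3995 (.leaf 0x163038d53) (.leaf 0x163038d53)) (.node 3997 (.leaf 0x163038d53) (.node 3998 (.leaf 0x163038d53) (.leaf 0x163038d53))))) (.node 4004 (.node 4001 (.node 4000 (.leaf 0x163038d53) (.leaf 0x163038d53)) (.node 4002 (.leaf 0x163038d53) (.node 4003 (.leaf 0x163038d53) (.leaf 0x163038d53)))) (.node 4006 (.node 4005 (.leaf 0x163038d53) (.leaf 0x163038d53)) (.node 4007 (.leaf 0x163038d53) (.node 4008 (.leaf 0x163038d53) (.leaf 0x163038d53))))))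

def candS_199 : Store := (.node 4019 (.node 4014 (.node 4011 (.node 4010 (.leaf 0x163038d53) (.leaf 0x163038d53)) (.node 4012 (.leaf 0x163038d53) (.node 4013 (.leaf 0x163038d53) (.leaf 0x163038d53)))) (.node 4016 (.node 4015 (.leaf 0x163038d53) (.leaf 0x163038d53)) (.node 4017 (.leaf 0x163038d53) (.node 4018 (.leaf 0x163038d53) (.leaf 0x163038d53))))) (.node 4024 (.node 4021 (.node 4020 (.leaf 0x163038d53) (.leaf 0x163038d53)) (.node 4022 (.leaf 0x163038d53) (.node 4023 (.leaf 0x163038d53) (.leaf 0x163038d53)))) (.node 4026 (.node 4025 (.leaf 0x163038d53) (.leaf 0x163038d53)) (.node 4027 (.leaf 0x163038d53) (.node 4028 (.leaf 0x163038d53) (.leaf 0x163038d53))))))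

def candS_200 : Store := (.node 4039 (.node 4034 (.node 4031 (.node 4030 (.leaf 0x163038d53) (.leaf 0x163038d53)) (.node 4032 (.leaf 0x163038d53) (.node 4033 (.leaf 0x322a0838d53) (.leaf 0x322a0838d53)))) (.node 4036 (.node 4035 (.leaf 0x322a0838d53) (.leaf 0x322a0838d53)) (.node 4037 (.leaf 0x322a0838d53) (.node 4038 (.leaf 0x322a0838d53) (.leaf 0x322a0838d53))))) (.node 4044 (.node 4041 (.node 4040 (.leaf 0x322a0838d53) (.leaf 0x322a0838d53)) (.node 4042 (.leaf 0x322a0838d53) (.node 4043 (.leaf 0x322a0838d53) (.leaf 0x322a0838d53)))) (.node 4047 (.node 4045 (.leaf 0x2a2a0838d53) (.node 4046 (.leaf 0x2a2a0838d53) (.leaf 0x2a2a0838d53))) (.node 4048 (.leaf 0x2a2a0838d53) (.node 4049 (.leaf 0x2a2a0838d53) (.leaf 0x2a2a0838d53))))))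

def candS_201 : Store := (.node 4060 (.node 4055 (.node 4052 (.node 4051 (.leaf 0x2a2a0838d53) (.leaf 0x2a2a0838d53)) (.node 4053 (.leaf 0x2a2a0838d53) (.node 4054 (.leaf 0x2a2a0838d53) (.leaf 0x2a2a0838d53)))) (.node 4057 (.node 4056 (.leaf 0x2a2a0838d53) (.leaf 0x2a0838d53)) (.node 4058 (.leaf 0x2a0838d53) (.node 4059 (.leaf 0x2a0838d53) (.leaf 0x2a0838d53))))) (.node 4065 (.node 4062 (.node 4061 (.leaf 0x2a0838d53) (.leaf 0x2a0838d53)) (.node 4063 (.leaf 0x2a0838d53) (.node 4064 (.leaf 0x2a0838d53) (.leaf 0x2a0838d53)))) (.node 4067 (.node 4066 (.leaf 0x2a0838d53) (.leaf 0x2a0838d53)) (.node 4068 (.leaf 0x2a0838d53) (.node 4069 (.leaf 0x242a0838d53) (.leaf 0x242a0838d53))))))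

def candS_202 : Store := (.node 4080 (.node 4075 (.node 4072 (.node 4071 (.leaf 0x242a0838d53) (.leaf 0x242a0838d53)) (.node 4073 (.leaf 0x242a0838d53) (.node 4074 (.leaf 0x242a0838d53) (.leaf 0x242a0838d53)))) (.node 4077 (.node 4076 (.leaf 0x242a0838d53) (.leaf 0x242a0838d53)) (.node 4078 (.leaf 0x242a0838d53) (.node 4079 (.leaf 0x242a0838d53) (.leaf 0x242a0838d53))))) (.node 4085 (.node 4082 (.node 4081 (.leaf 0x2a0838d53) (.leaf 0x2a0838d53)) (.node 4083 (.leaf 0x2a0838d53) (.node 4084 (.leaf 0x2a0838d53) (.leaf 0x2a0838d53)))) (.node 4087 (.node 4086 (.leaf 0x2a0838d53) (.leaf 0x2a0838d53)) (.node 4088 (.leaf 0x2a0838d53) (.node 4089 (.leaf 0x2a0838d53) (.leaf 0x2a0838d53))))))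

def candS_203 : Store := (.node 4100 (.node 4095 (.node 4092 (.node 4091 (.leaf 0x2a0838d53) (.leaf 0x2a0838d53)) (.node 4093 (.leaf 0x2a0838d53) (.node 4094 (.leaf 0x2a0838d53) (.leaf 0x2a0838d53)))) (.node 4097 (.node 4096 (.leaf 0x2a0838d53) (.leaf 0x2a0838d53)) (.node 4098 (.leaf 0x2a0838d53) (.node 4099 (.leaf 0x2a0838d53) (.leaf 0x2a0838d53))))) (.node 4105 (.node 4102 (.node 4101 (.leaf 0x2a0838d53) (.leaf 0x2a0838d53)) (.node 4103 (.leaf 0x2a0838d53) (.node 4104 (.leaf 0x2a0838d53) (.leaf 0x2a0838d53)))) (.node 4107 (.node 4106 (.leaf 0x2a0838d53) (.leaf 0x2a0838d53)) (.node 4108 (.leaf 0x2a0838d53) (.node 4109 (.leaf 0x2a0838d53) (.leaf 0x2a0838d53))))))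

def candS_204 : Store := (.node 4120 (.node 4115 (.node 4112 (.node 4111 (.leaf 0x2a0838d53) (.leaf 0x2a0838d53)) (.node 4113 (.leaf 0x2a0838d53) (.node 4114 (.leaf 0x2a0838d53) (.leaf 0x2a0838d53)))) (.node 4117 (.node 4116 (.leaf 0x2a0838d53) (.leaf 0x182a0838d53)) (.node 4118 (.leaf 0x182a0838d53) (.node 4119 (.leaf 0x182a0838d53) (.leaf 0x182a0838d53))))) (.node 4125 (.node 4122 (.node 4121 (.leaf 0x182a0838d53) (.leaf 0x182a0838d53)) (.node 4123 (.leaf 0x182a0838d53) (.node 4124 (.leaf 0x182a0838d53) (.leaf 0x182a0838d53)))) (.node 4128 (.node 4126 (.leaf 0x182a0838d53) (.node 4127 (.leaf 0x182a0838d53) (.leaf 0x182a0838d53))) (.node 4129 (.leaf 0xa2a0838d53) (.node 4130 (.leaf 0xa2a0838d53) (.leaf 0xa2a0838d53))))))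

def candS_205 : Store := (.node 4141 (.node 4136 (.node 4133 (.node 4132 (.leaf 0xa2a0838d53) (.leaf 0xa2a0838d53)) (.node 4134 (.leaf 0xa2a0838d53) (.node 4135 (.leaf 0xa2a0838d53) (.leaf 0xa2a0838d53)))) (.node 4138 (.node 4137 (.leaf 0xa2a0838d53) (.leaf 0xa2a0838d53)) (.node 4139 (.leaf 0xa2a0838d53) (.node 4140 (.leaf 0xa2a0838d53) (.leaf 0x2a0838d53))))) (.node 4146 (.node 4143 (.node 4142 (.leaf 0x2a0838d53) (.leaf 0x2a0838d53)) (.node 4144 (.leaf 0x2a0838d53) (.node 4145 (.leaf 0x2a0838d53) (.leaf 0x2a0838d53)))) (.node 4148 (.node 4147 (.leaf 0x2a0838d53) (.leaf 0x2a0838d53)) (.node 4149 (.leaf 0x2a0838d53) (.node 4150 (.leaf 0x2a0838d53) (.leaf 0x2a0838d53))))))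

def candS_206 : Store := (.node 4161 (.node 4156 (.node 4153 (.node 4152 (.leaf 0x2a0838d53) (.leaf 0x2a0838d53)) (.node 4154 (.leaf 0x2a0838d53) (.node 4155 (.leaf 0x2a0838d53) (.leaf 0x2a0838d53)))) (.node 4158 (.node 4157 (.leaf 0x2a0838d53) (.leaf 0x2a0838d53)) (.node 4159 (.leaf 0x2a0838d53) (.node 4160 (.leaf 0x2a0838d53) (.leaf 0x2a0838d53))))) (.node 4166 (.node 4163 (.node 4162 (.leaf 0x2a0838d53) (.leaf 0x2a0838d53)) (.node 4164 (.leaf 0x2a0838d53) (.node 4165 (.leaf 0x2a0838d53) (.leaf 0x2a0838d53)))) (.node 4168 (.node 4167 (.leaf 0x2a0838d53) (.leaf 0x2a0838d53)) (.node 4169 (.leaf 0x2a0838d53) (.node 4170 (.leaf 0x2a0838d53) (.leaf 0x2a0838d53))))))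

def candS_207 : Store := (.node 4181 (.node 4176 (.node 4173 (.node 4172 (.leaf 0x2a0838d53) (.leaf 0x2a0838d53)) (.node 4174 (.leaf 0x2a0838d53) (.node 4175 (.leaf 0x2a0838d53) (.leaf 0x2a0838d53)))) (.node 4178 (.node 4177 (.leaf 0x151738d53) (.leaf 0x151738d53)) (.node 4179 (.leaf 0x151738d53) (.node 4180 (.leaf 0x151738d53) (.leaf 0x151738d53))))) (.node 4186 (.node 4183 (.node 4182 (.leaf 0x151738d53) (.leaf 0x151738d53)) (.node 4184 (.leaf 0x151738d53) (.node 4185 (.leaf 0x151738d53) (.leaf 0x151738d53)))) (.node 4188 (.node 4187 (.leaf 0x151738d53) (.leaf 0x151738d53)) (.node 4189 (.leaf 0x36151738d53) (.node 4190 (.leaf 0x36151738d53) (.leaf 0x36151738d53))))))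

def candS_208 : Store := (.node 4201 (.node 4196 (.node 4193 (.node 4192 (.leaf 0x700036151738d53) (.leaf 0x36151738d53)) (.node 4194 (.leaf 0x36151738d53) (.node 4195 (.leaf 0x36151738d53) (.leaf 0x36151738d53)))) (.node 4198 (.node 4197 (.leaf 0x980036151738d53) (.leaf 0x36151738d53)) (.node 4199 (.leaf 0x800036151738d53) (.node 4200 (.leaf 0x36151738d53) (.leaf 0x151738d53))))) (.node 4206 (.node 4203 (.node 4202 (.leaf 0x151738d53) (.leaf 0x151738d53)) (.node 4204 (.leaf 0x151738d53) (.node 4205 (.leaf 0x151738d53) (.leaf 0x151738d53)))) (.node 4209 (.node 4207 (.leaf 0x151738d53) (.node 4208 (.leaf 0x151738d53) (.leaf 0x151738d53))) (.node 4210 (.leaf 0x151738d53) (.node 4211 (.leaf 0x151738d53) (.leaf 0x151738d53))))))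

def candS_209 : Store := (.node 4222 (.node 4217 (.node 4214 (.node 4213 (.leaf 0x151738d53) (.leaf 0x151738d53)) (.node 4215 (.leaf 0x151738d53) (.node 4216 (.leaf 0x151738d53) (.leaf 0x151738d53)))) (.node 4219 (.node 4218 (.leaf 0x151738d53) (.leaf 0x151738d53)) (.node 4220 (.leaf 0x151738d53) (.node 4221 (.leaf 0x151738d53) (.leaf 0x151738d53))))) (.node 4227 (.node 4224 (.node 4223 (.leaf 0x151738d53) (.leaf 0x151738d53)) (.node 4225 (.leaf 0x30151738d53) (.node 4226 (.leaf 0x30151738d53) (.leaf 0x30151738d53)))) (.node 4229 (.node 4228 (.leaf 0x30151738d53) (.leaf 0x30151738d53)) (.node 4230 (.leaf 0x30151738d53) (.node 4231 (.leaf 0x30151738d53) (.leaf 0x30151738d53))))))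

def candS_210 : Store := (.node 4242 (.node 4237 (.node 4234 (.node 4233 (.leaf 0x30151738d53) (.leaf 0x30151738d53)) (.node 4235 (.leaf 0x30151738d53) (.node 4236 (.leaf 0x30151738d53) (.leaf 0x38151738d53)))) (.node 4239 (.node 4238 (.leaf 0x38151738d53) (.leaf 0x38151738d53)) (.node 4240 (.leaf 0x38151738d53) (.node 4241 (.leaf 0x38151738d53) (.leaf 0x38151738d53))))) (.node 4247 (.node 4244 (.node 4243 (.leaf 0x38151738d53) (.leaf 0x38151738d53)) (.node 4245 (.leaf 0x38151738d53) (.node 4246 (.leaf 0x38151738d53) (.leaf 0x38151738d53)))) (.node 4249 (.node 4248 (.leaf 0x38151738d53) (.leaf 0x151738d53)) (.node 4250 (.leaf 0x151738d53) (.node 4251 (.leaf 0x151738d53) (.leaf 0x151738d53))))))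

def candS_211 : Store := (.node 4262 (.node 4257 (.node 4254 (.node 4253 (.leaf 0x151738d53) (.leaf 0x151738d53)) (.node 4255 (.leaf 0x151738d53) (.node 4256 (.leaf 0x151738d53) (.leaf 0x151738d53)))) (.node 4259 (.node 4258 (.leaf 0x151738d53) (.leaf 0x151738d53)) (.node 4260 (.leaf 0x151738d53) (.node 4261 (.leaf 0x151738d53) (.leaf 0x151738d53))))) (.node 4267 (.node 4264 (.node 4263 (.leaf 0x151738d53) (.leaf 0x151738d53)) (.node 4265 (.leaf 0x151738d53) (.node 4266 (.leaf 0x151738d53) (.leaf 0x151738d53)))) (.node 4269 (.node 4268 (.leaf 0x151738d53) (.leaf 0x151738d53)) (.node 4270 (.leaf 0x151738d53) (.node 4271 (.leaf 0x151738d53) (.leaf 0x151738d53))))))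

def candS_212 : Store := (.node 4282 (.node 4277 (.node 4274 (.node 4273 (.leaf 0x2a151738d53) (.leaf 0x280)) (.node 4275 (.leaf 0x192) (.node 4276 (.leaf 0x2a151738d53) (.leaf 0x2a151738d53)))) (.node 4279 (.node 4278 (.leaf 0x2a151738d53) (.leaf 0x2a151738d53)) (.node 4280 (.leaf 0x3ae) (.node 4281 (.leaf 0x2a151738d53) (.leaf 0x120))))) (.node 4287 (.node 4284 (.node 4283 (.leaf 0x2a151738d53) (.leaf 0x2a151738d53)) (.node 4285 (.leaf 0x40151738d53) (.node 4286 (.leaf 0x40151738d53) (.leaf 0x40151738d53)))) (.node 4290 (.node 4288 (.leaf 0x40151738d53) (.node 4289 (.leaf 0x40151738d53) (.leaf 0x40151738d53))) (.node 4291 (.leaf 0x40151738d53) (.node 4292 (.leaf 0x40151738d53) (.leaf 0x40151738d53))))))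

def candS_213 : Store := (.node 4303 (.node 4298 (.node 4295 (.node 4294 (.leaf 0x40151738d53) (.leaf 0x40151738d53)) (.node 4296 (.leaf 0x40151738d53) (.node 4297 (.leaf 0x151738d53) (.leaf 0x151738d53)))) (.node 4300 (.node 4299 (.leaf 0x151738d53) (.leaf 0x151738d53)) (.node 4301 (.leaf 0x151738d53) (.node 4302 (.leaf 0x151738d53) (.leaf 0x151738d53))))) (.node 4308 (.node 4305 (.node 4304 (.leaf 0x151738d53) (.leaf 0x151738d53)) (.node 4306 (.leaf 0x151738d53) (.node 4307 (.leaf 0x151738d53) (.leaf 0x151738d53)))) (.node 4310 (.node 4309 (.leaf 0x6151738d53) (.leaf 0x6151738d53)) (.node 4311 (.leaf 0x6151738d53) (.node 4312 (.leaf 0x6151738d53) (.leaf 0x6151738d53))))))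

def candS_214 : Store := (.node 4323 (.node 4318 (.node 4315 (.node 4314 (.leaf 0x6151738d53) (.leaf 0x6151738d53)) (.node 4316 (.leaf 0x6151738d53) (.node 4317 (.leaf 0x6151738d53) (.leaf 0x6151738d53)))) (.node 4320 (.node 4319 (.leaf 0x6151738d53) (.leaf 0x6151738d53)) (.node 4321 (.leaf 0x341c1938d53) (.node 4322 (.leaf 0x341c1938d53) (.leaf 0x341c1938d53))))) (.node 4328 (.node 4325 (.node 4324 (.leaf 0x341c1938d53) (.leaf 0x341c1938d53)) (.node 4326 (.leaf 0x341c1938d53) (.node 4327 (.leaf 0x341c1938d53) (.leaf 0x341c1938d53)))) (.node 4330 (.node 4329 (.leaf 0x341c1938d53) (.leaf 0x341c1938d53)) (.node 4331 (.leaf 0x341c1938d53) (.node 4332 (.leaf 0x341c1938d53) (.leaf 0xa1c1938d53))))))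

def candS_215 : Store := (.node 4343 (.node 4338 (.node 4335 (.node 4334 (.leaf 0xa1c1938d53) (.leaf 0xa1c1938d53)) (.node 4336 (.leaf 0xa1c1938d53) (.node 4337 (.leaf 0xa1c1938d53) (.leaf 0xa1c1938d53)))) (.node 4340 (.node 4339 (.leaf 0xa1c1938d53) (.leaf 0xa1c1938d53)) (.node 4341 (.leaf 0xa1c1938d53) (.node 4342 (.leaf 0xa1c1938d53) (.leaf 0xa1c1938d53))))) (.node 4348 (.node 4345 (.node 4344 (.leaf 0xa1c1938d53) (.leaf 0x18)) (.node 4346 (.leaf 0x1a1c1938d53) (.node 4347 (.leaf 0x1a1c1938d53) (.leaf 0x26c)))) (.node 4350 (.node 4349 (.leaf 0x1a1c1938d53) (.leaf 0x1a1c1938d53)) (.node 4351 (.leaf 0x1a1c1938d53) (.node 4352 (.leaf 0x1a1c1938d53) (.leaf 0xe0))))))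

def candS_216 : Store := (.node 4363 (.node 4358 (.node 4355 (.node 4354 (.leaf 0x1a1c1938d53) (.leaf 0x336)) (.node 4356 (.leaf 0x1a1c1938d53) (.node 4357 (.leaf 0x3a1c1938d53) (.leaf 0x3a1c1938d53)))) (.node 4360 (.node 4359 (.leaf 0x3a1c1938d53) (.leaf 0x3a1c1938d53)) (.node 4361 (.leaf 0x3a1c1938d53) (.node 4362 (.leaf 0x3a1c1938d53) (.leaf 0x3a1c1938d53))))) (.node 4368 (.node 4365 (.node 4364 (.leaf 0x3a1c1938d53) (.leaf 0x3a1c1938d53)) (.node 4366 (.leaf 0x3a1c1938d53) (.node 4367 (.leaf 0x3a1c1938d53) (.leaf 0x3a1c1938d53)))) (.node 4371 (.node 4369 (.leaf 0x1c1938d53) (.node 4370 (.leaf 0x1c1938d53) (.leaf 0x1c1938d53))) (.node 4372 (.leaf 0x1c1938d53) (.node 4373 (.leaf 0x1c1938d53) (.leaf 0x1c1938d53))))))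

def candS_217 : Store := (.node 4384 (.node 4379 (.node 4376 (.node 4375 (.leaf 0x1c1938d53) (.leaf 0x1c1938d53)) (.node 4377 (.leaf 0x1c1938d53) (.node 4378 (.leaf 0x1c1938d53) (.leaf 0x1c1938d53)))) (.node 4381 (.node 4380 (.leaf 0x1c1938d53) (.leaf 0x241c1938d53)) (.node 4382 (.leaf 0x5800241c1938d53) (.node 4383 (.leaf 0x241c1938d53) (.leaf 0x241c1938d53))))) (.node 4389 (.node 4386 (.node 4385 (.leaf 0x241c1938d53) (.leaf 0x5000241c1938d53)) (.node 4387 (.leaf 0x241c1938d53) (.node 4388 (.leaf 0x6800241c1938d53) (.leaf 0x241c1938d53)))) (.node 4391 (.node 4390 (.leaf 0x800241c1938d53) (.leaf 0x241c1938d53)) (.node 4392 (.leaf 0x241c1938d53) (.node 4393 (.leaf 0x121c1938d53) (.leaf 0x121c1938d53))))))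

def candS_218 : Store := (.node 4404 (.node 4399 (.node 4396 (.node 4395 (.leaf 0x121c1938d53) (.leaf 0x121c1938d53)) (.node 4397 (.leaf 0x121c1938d53) (.node 4398 (.leaf 0x121c1938d53) (.leaf 0x121c1938d53)))) (.node 4401 (.node 4400 (.leaf 0x121c1938d53) (.leaf 0x121c1938d53)) (.node 4402 (.leaf 0x121c1938d53) (.node 4403 (.leaf 0x121c1938d53) (.leaf 0x121c1938d53))))) (.node 4409 (.node 4406 (.node 4405 (.leaf 0x1c1938d53) (.leaf 0x1c1938d53)) (.node 4407 (.leaf 0x1c1938d53) (.node 4408 (.leaf 0x1c1938d53) (.leaf 0x1c1938d53)))) (.node 4411 (.node 4410 (.leaf 0x1c1938d53) (.leaf 0x1c1938d53)) (.node 4412 (.leaf 0x1c1938d53) (.node 4413 (.leaf 0x1c1938d53) (.leaf 0x1c1938d53))))))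

def candS_219 : Store := (.node 4424 (.node 4419 (.node 4416 (.node 4415 (.leaf 0x1c1938d53) (.leaf 0x1c1938d53)) (.node 4417 (.leaf 0x1c1938d53) (.node 4418 (.leaf 0x1c1938d53) (.leaf 0x1c1938d53)))) (.node 4421 (.node 4420 (.leaf 0x1c1938d53) (.leaf 0x1c1938d53)) (.node 4422 (.leaf 0x1c1938d53) (.node 4423 (.leaf 0x1c1938d53) (.leaf 0x1c1938d53))))) (.node 4429 (.node 4426 (.node 4425 (.leaf 0x1c1938d53) (.leaf 0x1c1938d53)) (.node 4427 (.leaf 0x1c1938d53) (.node 4428 (.leaf 0x1c1938d53) (.leaf 0x1c1938d53)))) (.node 4431 (.node 4430 (.leaf 0x1c1938d53) (.leaf 0x1c1938d53)) (.node 4432 (.leaf 0x1c1938d53) (.node 4433 (.leaf 0x1c1938d53) (.leaf 0x1c1938d53))))))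

def candS_220 : Store := (.node 4444 (.node 4439 (.node 4436 (.node 4435 (.leaf 0x1c1938d53) (.leaf 0x1c1938d53)) (.node 4437 (.leaf 0x1c1938d53) (.node 4438 (.leaf 0x1c1938d53) (.leaf 0x1c1938d53)))) (.node 4441 (.node 4440 (.leaf 0x1c1938d53) (.leaf 0x1c1938d53)) (.node 4442 (.leaf 0x1c1938d53) (.node 4443 (.leaf 0x1c1938d53) (.leaf 0x1c1938d53))))) (.node 4449 (.node 4446 (.node 4445 (.leaf 0x1c1938d53) (.leaf 0x1c1938d53)) (.node 4447 (.leaf 0x1c1938d53) (.node 4448 (.leaf 0x1c1938d53) (.leaf 0x1c1938d53)))) (.node 4452 (.node 4450 (.leaf 0x1c1938d53) (.node 4451 (.leaf 0x1c1938d53) (.leaf 0x1c1938d53))) (.node 4453 (.leaf 0x1c1938d53) (.node 4454 (.leaf 0x1c1938d53) (.leaf 0x1c1938d53))))))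

def candS_221 : Store := (.node 4465 (.node 4460 (.node 4457 (.node 4456 (.leaf 0x1c1938d53) (.leaf 0x1c1938d53)) (.node 4458 (.leaf 0x1c1938d53) (.node 4459 (.leaf 0x1c1938d53) (.leaf 0x1c1938d53)))) (.node 4462 (.node 4461 (.leaf 0x1c1938d53) (.leaf 0x1c1938d53)) (.node 4463 (.leaf 0x1c1938d53) (.node 4464 (.leaf 0x1c1938d53) (.leaf 0x4e3538d53))))) (.node 4470 (.node 4467 (.node 4466 (.leaf 0x4e3538d53) (.leaf 0x4e3538d53)) (.node 4468 (.leaf 0x4e3538d53) (.node 4469 (.leaf 0x4e3538d53) (.leaf 0x4e3538d53)))) (.node 4472 (.node 4471 (.leaf 0x4e3538d53) (.leaf 0x4e3538d53)) (.node 4473 (.leaf 0x4e3538d53) (.node 4474 (.leaf 0x4e3538d53) (.leaf 0x4e3538d53))))))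

def candS_222 : Store := (.node 4485 (.node 4480 (.node 4477 (.node 4476 (.leaf 0x4e3538d53) (.leaf 0x4e3538d53)) (.node 4478 (.leaf 0x4e3538d53) (.node 4479 (.leaf 0x4e3538d53) (.leaf 0x4e3538d53)))) (.node 4482 (.node 4481 (.leaf 0x4e3538d53) (.leaf 0x4e3538d53)) (.node 4483 (.leaf 0x4e3538d53) (.node 4484 (.leaf 0x4e3538d53) (.leaf 0x4e3538d53))))) (.node 4490 (.node 4487 (.node 4486 (.leaf 0x4e3538d53) (.leaf 0x4e3538d53)) (.node 4488 (.leaf 0x4e3538d53) (.node 4489 (.leaf 0x4e3538d53) (.leaf 0x4e3538d53)))) (.node 4492 (.node 4491 (.leaf 0x4e3538d53) (.leaf 0x4e3538d53)) (.node 4493 (.leaf 0x4e3538d53) (.node 4494 (.leaf 0x4e3538d53) (.leaf 0x4e3538d53))))))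

def candS_223 : Store := (.node 4505 (.node 4500 (.node 4497 (.node 4496 (.leaf 0x4e3538d53) (.leaf 0x4e3538d53)) (.node 4498 (.leaf 0x4e3538d53) (.node 4499 (.leaf 0x4e3538d53) (.leaf 0x4e3538d53)))) (.node 4502 (.node 4501 (.leaf 0x4e3538d53) (.leaf 0x4e3538d53)) (.node 4503 (.leaf 0x4e3538d53) (.node 4504 (.leaf 0x4e3538d53) (.leaf 0x4e3538d53))))) (.node 4510 (.node 4507 (.node 4506 (.leaf 0x4e3538d53) (.leaf 0x4e3538d53)) (.node 4508 (.leaf 0x4e3538d53) (.node 4509 (.leaf 0x4e3538d53) (.leaf 0x4e3538d53)))) (.node 4512 (.node 4511 (.leaf 0x4e3538d53) (.leaf 0x4e3538d53)) (.node 4513 (.leaf 0x344e3538d53) (.node 4514 (.leaf 0x344e3538d53) (.leaf 0x344e3538d53))))))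

def candS_224 : Store := (.node 4525 (.node 4520 (.node 4517 (.node 4516 (.leaf 0x344e3538d53) (.leaf 0x344e3538d53)) (.node 4518 (.leaf 0x344e3538d53) (.node 4519 (.leaf 0x344e3538d53) (.leaf 0x344e3538d53)))) (.node 4522 (.node 4521 (.leaf 0x344e3538d53) (.leaf 0x344e3538d53)) (.node 4523 (.leaf 0x344e3538d53) (.node 4524 (.leaf 0x344e3538d53) (.leaf 0x1e4e3538d53))))) (.node 4530 (.node 4527 (.node 4526 (.leaf 0x1e4e3538d53) (.leaf 0x1e4e3538d53)) (.node 4528 (.leaf 0x1e4e3538d53) (.node 4529 (.leaf 0x1e4e3538d53) (.leaf 0x1e4e3538d53)))) (.node 4533 (.node 4531 (.leaf 0x1e4e3538d53) (.node 4532 (.leaf 0x1e4e3538d53) (.leaf 0x1e4e3538d53))) (.node 4534 (.leaf 0x1e4e3538d53) (.node 4535 (.leaf 0x1e4e3538d53) (.leaf 0x1e4e3538d53))))))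

def candS_225 : Store := (.node 4546 (.node 4541 (.node 4538 (.node 4537 (.leaf 0x8000384e3538d53) (.leaf 0x384e3538d53)) (.node 4539 (.leaf 0x384e3538d53) (.node 4540 (.leaf 0x7000384e3538d53) (.leaf 0x384e3538d53)))) (.node 4543 (.node 4542 (.leaf 0x384e3538d53) (.leaf 0x9800384e3538d53)) (.node 4544 (.leaf 0x384e3538d53) (.node 4545 (.leaf 0x384e3538d53) (.leaf 0x384e3538d53))))) (.node 4551 (.node 4548 (.node 4547 (.leaf 0x384e3538d53) (.leaf 0x384e3538d53)) (.node 4549 (.leaf 0x4e3538d53) (.node 4550 (.leaf 0x4e3538d53) (.leaf 0x4e3538d53)))) (.node 4553 (.node 4552 (.leaf 0x4e3538d53) (.leaf 0x4e3538d53)) (.node 4554 (.leaf 0x4e3538d53) (.node 4555 (.leaf 0x4e3538d53) (.leaf 0x4e3538d53))))))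

def candS_226 : Store := (.node 4566 (.node 4561 (.node 4558 (.node 4557 (.leaf 0x4e3538d53) (.leaf 0x4e3538d53)) (.node 4559 (.leaf 0x4e3538d53) (.node 4560 (.leaf 0x4e3538d53) (.leaf 0x184e3538d53)))) (.node 4563 (.node 4562 (.leaf 0x90) (.leaf 0x14c)) (.node 4564 (.leaf 0x184e3538d53) (.node 4565 (.leaf 0x184e3538d53) (.leaf 0x2ee))))) (.node 4571 (.node 4568 (.node 4567 (.leaf 0x184e3538d53) (.leaf 0x184e3538d53)) (.node 4569 (.leaf 0x184e3538d53) (.node 4570 (.leaf 0x2a) (.leaf 0x184e3538d53)))) (.node 4573 (.node 4572 (.leaf 0x184e3538d53) (.leaf 0x104e3538d53)) (.node 4574 (.leaf 0x104e3538d53) (.node 4575 (.leaf 0x104e3538d53) (.leaf 0x104e3538d53))))))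

def candS_227 : Store := (.node 4586 (.node 4581 (.node 4578 (.node 4577 (.leaf 0x104e3538d53) (.leaf 0x104e3538d53)) (.node 4579 (.leaf 0x104e3538d53) (.node 4580 (.leaf 0x104e3538d53) (.leaf 0x104e3538d53)))) (.node 4583 (.node 4582 (.leaf 0x104e3538d53) (.leaf 0x104e3538d53)) (.node 4584 (.leaf 0x104e3538d53) (.node 4585 (.leaf 0x364e3538d53) (.leaf 0x364e3538d53))))) (.node 4591 (.node 4588 (.node 4587 (.leaf 0x364e3538d53) (.leaf 0x364e3538d53)) (.node 4589 (.leaf 0x364e3538d53) (.node 4590 (.leaf 0x364e3538d53) (.leaf 0x364e3538d53)))) (.node 4593 (.node 4592 (.leaf 0x364e3538d53) (.leaf 0x364e3538d53)) (.node 4594 (.leaf 0x364e3538d53) (.node 4595 (.leaf 0x364e3538d53) (.leaf 0x364e3538d53))))))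

def candS_228 : Store := (.node 4606 (.node 4601 (.node 4598 (.node 4597 (.leaf 0x4e3538d53) (.leaf 0x4e3538d53)) (.node 4599 (.leaf 0x4e3538d53) (.node 4600 (.leaf 0x4e3538d53) (.leaf 0x4e3538d53)))) (.node 4603 (.node 4602 (.leaf 0x4e3538d53) (.leaf 0x4e3538d53)) (.node 4604 (.leaf 0x4e3538d53) (.node 4605 (.leaf 0x4e3538d53) (.leaf 0x4e3538d53))))) (.node 4611 (.node 4608 (.node 4607 (.leaf 0x4e3538d53) (.leaf 0x4e3538d53)) (.node 4609 (.leaf 0x3c053138d53) (.node 4610 (.leaf 0x3c053138d53) (.leaf 0x3c053138d53)))) (.node 4614 (.node 4612 (.leaf 0x3c053138d53) (.node 4613 (.leaf 0x3c053138d53) (.leaf 0x3c053138d53))) (.node 4615 (.leaf 0x3c053138d53) (.node 4616 (.leaf 0x3c053138d53) (.leaf 0x3c053138d53))))))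

def candS_229 : Store := (.node 4627 (.node 4622 (.node 4619 (.node 4618 (.leaf 0x3c053138d53) (.leaf 0x3c053138d53)) (.node 4620 (.leaf 0x3c053138d53) (.node 4621 (.leaf 0x53138d53) (.leaf 0x53138d53)))) (.node 4624 (.node 4623 (.leaf 0x53138d53) (.leaf 0x53138d53)) (.node 4625 (.leaf 0x53138d53) (.node 4626 (.leaf 0x53138d53) (.leaf 0x53138d53))))) (.node 4632 (.node 4629 (.node 4628 (.leaf 0x53138d53) (.leaf 0x53138d53)) (.node 4630 (.leaf 0x53138d53) (.node 4631 (.leaf 0x53138d53) (.leaf 0x53138d53)))) (.node 4634 (.node 4633 (.leaf 0x37e) (.leaf 0x36053138d53)) (.node 4635 (.leaf 0x36053138d53) (.node 4636 (.leaf 0x46) (.leaf 0x36053138d53))))))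

def candS_230 : Store := (.node 4647 (.node 4642 (.node 4639 (.node 4638 (.leaf 0x36053138d53) (.leaf 0xdc)) (.node 4640 (.leaf 0x36053138d53) (.node 4641 (.leaf 0x36053138d53) (.leaf 0x36053138d53)))) (.node 4644 (.node 4643 (.leaf 0x5e) (.leaf 0x36053138d53)) (.node 4645 (.leaf 0x16053138d53) (.node 4646 (.leaf 0x16053138d53) (.leaf 0x16053138d53))))) (.node 4652 (.node 4649 (.node 4648 (.leaf 0x16053138d53) (.leaf 0x16053138d53)) (.node 4650 (.leaf 0x16053138d53) (.node 4651 (.leaf 0x16053138d53) (.leaf 0x16053138d53)))) (.node 4654 (.node 4653 (.leaf 0x16053138d53) (.leaf 0x16053138d53)) (.node 4655 (.leaf 0x16053138d53) (.node 4656 (.leaf 0x16053138d53) (.leaf 0x53138d53))))))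

def candS_231 : Store := (.node 4667 (.node 4662 (.node 4659 (.node 4658 (.leaf 0x53138d53) (.leaf 0x53138d53)) (.node 4660 (.leaf 0x53138d53) (.node 4661 (.leaf 0x53138d53) (.leaf 0x53138d53)))) (.node 4664 (.node 4663 (.leaf 0x53138d53) (.leaf 0x53138d53)) (.node 4665 (.leaf 0x53138d53) (.node 4666 (.leaf 0x53138d53) (.leaf 0x53138d53))))) (.node 4672 (.node 4669 (.node 4668 (.leaf 0x53138d53) (.leaf 0x53138d53)) (.node 4670 (.leaf 0x53138d53) (.node 4671 (.leaf 0x53138d53) (.leaf 0x53138d53)))) (.node 4674 (.node 4673 (.leaf 0x53138d53) (.leaf 0x53138d53)) (.node 4675 (.leaf 0x53138d53) (.node 4676 (.leaf 0x53138d53) (.leaf 0x53138d53))))))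

def candS_232 : Store := (.node 4687 (.node 4682 (.node 4679 (.node 4678 (.leaf 0x53138d53) (.leaf 0x53138d53)) (.node 4680 (.leaf 0x53138d53) (.node 4681 (.leaf 0x53138d53) (.leaf 0x53138d53)))) (.node 4684 (.node 4683 (.leaf 0x53138d53) (.leaf 0x53138d53)) (.node 4685 (.leaf 0x53138d53) (.node 4686 (.leaf 0x53138d53) (.leaf 0x53138d53))))) (.node 4692 (.node 4689 (.node 4688 (.leaf 0x53138d53) (.leaf 0x53138d53)) (.node 4690 (.leaf 0x53138d53) (.node 4691 (.leaf 0x53138d53) (.leaf 0x53138d53)))) (.node 4695 (.node 4693 (.leaf 0x26053138d53) (.node 4694 (.leaf 0x26053138d53) (.leaf 0x26053138d53))) (.node 4696 (.leaf 0x26053138d53) (.node 4697 (.leaf 0x26053138d53) (.leaf 0x26053138d53))))))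

def candS_233 : Store := (.node 4708 (.node 4703 (.node 4700 (.node 4699 (.leaf 0x26053138d53) (.leaf 0x26053138d53)) (.node 4701 (.leaf 0x26053138d53) (.node 4702 (.leaf 0x26053138d53) (.leaf 0x26053138d53)))) (.node 4705 (.node 4704 (.leaf 0x26053138d53) (.leaf 0x53138d53)) (.node 4706 (.leaf 0x53138d53) (.node 4707 (.leaf 0x53138d53) (.leaf 0x53138d53))))) (.node 4713 (.node 4710 (.node 4709 (.leaf 0x53138d53) (.leaf 0x53138d53)) (.node 4711 (.leaf 0x53138d53) (.node 4712 (.leaf 0x53138d53) (.leaf 0x53138d53)))) (.node 4715 (.node 4714 (.leaf 0x53138d53) (.leaf 0x53138d53)) (.node 4716 (.leaf 0x53138d53) (.node 4717 (.leaf 0x53138d53) (.leaf 0x53138d53))))))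

def candS_234 : Store := (.node 4728 (.node 4723 (.node 4720 (.node 4719 (.leaf 0x53138d53) (.leaf 0x53138d53)) (.node 4721 (.leaf 0x53138d53) (.node 4722 (.leaf 0x53138d53) (.leaf 0x53138d53)))) (.node 4725 (.node 4724 (.leaf 0x53138d53) (.leaf 0x53138d53)) (.node 4726 (.leaf 0x53138d53) (.node 4727 (.leaf 0x53138d53) (.leaf 0x53138d53))))) (.node 4733 (.node 4730 (.node 4729 (.leaf 0x53138d53) (.leaf 0x53138d53)) (.node 4731 (.leaf 0x53138d53) (.node 4732 (.leaf 0x53138d53) (.leaf 0x53138d53)))) (.node 4735 (.node 4734 (.leaf 0x53138d53) (.leaf 0x53138d53)) (.node 4736 (.leaf 0x53138d53) (.node 4737 (.leaf 0x53138d53) (.leaf 0x53138d53))))))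

def candS_235 : Store := (.node 4748 (.node 4743 (.node 4740 (.node 4739 (.leaf 0x53138d53) (.leaf 0x53138d53)) (.node 4741 (.leaf 0x6053138d53) (.node 4742 (.leaf 0x280006053138d53) (.leaf 0x380006053138d53)))) (.node 4745 (.node 4744 (.leaf 0x6053138d53) (.leaf 0x6053138d53)) (.node 4746 (.leaf 0x180006053138d53) (.node 4747 (.leaf 0x6053138d53) (.leaf 0x6053138d53))))) (.node 4753 (.node 4750 (.node 4749 (.leaf 0x6053138d53) (.leaf 0x900006053138d53)) (.node 4751 (.leaf 0x6053138d53) (.node 4752 (.leaf 0x6053138d53) (.leaf 0x98001a0b2838d53)))) (.node 4755 (.node 4754 (.leaf 0x1a0b2838d53) (.leaf 0x1a0b2838d53)) (.node 4756 (.leaf 0x1a0b2838d53) (.node 4757 (.leaf 0x1a0b2838d53) (.leaf 0x1a0b2838d53))))))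

def candS_236 : Store := (.node 4768 (.node 4763 (.node 4760 (.node 4759 (.leaf 0x1a0b2838d53) (.leaf 0x1a0b2838d53)) (.node 4761 (.leaf 0x80001a0b2838d53) (.node 4762 (.leaf 0x1a0b2838d53) (.leaf 0x70001a0b2838d53)))) (.node 4765 (.node 4764 (.leaf 0x1a0b2838d53) (.leaf 0xb2838d53)) (.node 4766 (.leaf 0xb2838d53) (.node 4767 (.leaf 0xb2838d53) (.leaf 0xb2838d53))))) (.node 4773 (.node 4770 (.node 4769 (.leaf 0xb2838d53) (.leaf 0xb2838d53)) (.node 4771 (.leaf 0xb2838d53) (.node 4772 (.leaf 0xb2838d53) (.leaf 0xb2838d53)))) (.node 4776 (.node 4774 (.leaf 0xb2838d53) (.node 4775 (.leaf 0xb2838d53) (.leaf 0xb2838d53))) (.node 4777 (.leaf 0xb2838d53) (.node 4778 (.leaf 0xb2838d53) (.leaf 0xb2838d53))))))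

def candS_237 : Store := (.node 4789 (.node 4784 (.node 4781 (.node 4780 (.leaf 0xb2838d53) (.leaf 0xb2838d53)) (.node 4782 (.leaf 0xb2838d53) (.node 4783 (.leaf 0xb2838d53) (.leaf 0xb2838d53)))) (.node 4786 (.node 4785 (.leaf 0xb2838d53) (.leaf 0xb2838d53)) (.node 4787 (.leaf 0xb2838d53) (.node 4788 (.leaf 0xb2838d53) (.leaf 0xb2838d53))))) (.node 4794 (.node 4791 (.node 4790 (.leaf 0xb2838d53) (.leaf 0xb2838d53)) (.node 4792 (.leaf 0xb2838d53) (.node 4793 (.leaf 0xb2838d53) (.leaf 0xb2838d53)))) (.node 4796 (.node 4795 (.leaf 0xb2838d53) (.leaf 0xb2838d53)) (.node 4797 (.leaf 0xb2838d53) (.node 4798 (.leaf 0xb2838d53) (.leaf 0xb2838d53))))))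

def candS_238 : Store := (.node 4809 (.node 4804 (.node 4801 (.node 4800 (.leaf 0xb2838d53) (.leaf 0xb2838d53)) (.node 4802 (.leaf 0xb2838d53) (.node 4803 (.leaf 0xb2838d53) (.leaf 0xb2838d53)))) (.node 4806 (.node 4805 (.leaf 0xb2838d53) (.leaf 0xb2838d53)) (.node 4807 (.leaf 0xb2838d53) (.node 4808 (.leaf 0xb2838d53) (.leaf 0xb2838d53))))) (.node 4814 (.node 4811 (.node 4810 (.leaf 0xb2838d53) (.leaf 0xb2838d53)) (.node 4812 (.leaf 0xb2838d53) (.node 4813 (.leaf 0x420b2838d53) (.leaf 0x420b2838d53)))) (.node 4816 (.node 4815 (.leaf 0x420b2838d53) (.leaf 0x420b2838d53)) (.node 4817 (.leaf 0x420b2838d53) (.node 4818 (.leaf 0x420b2838d53) (.leaf 0x420b2838d53))))))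

def candS_239 : Store := (.node 4829 (.node 4824 (.node 4821 (.node 4820 (.leaf 0x420b2838d53) (.leaf 0x420b2838d53)) (.node 4822 (.leaf 0x420b2838d53) (.node 4823 (.leaf 0x420b2838d53) (.leaf 0x420b2838d53)))) (.node 4826 (.node 4825 (.leaf 0xb2838d53) (.leaf 0xb2838d53)) (.node 4827 (.leaf 0xb2838d53) (.node 4828 (.leaf 0xb2838d53) (.leaf 0xb2838d53))))) (.node 4834 (.node 4831 (.node 4830 (.leaf 0xb2838d53) (.leaf 0xb2838d53)) (.node 4832 (.leaf 0xb2838d53) (.node 4833 (.leaf 0xb2838d53) (.leaf 0xb2838d53)))) (.node 4836 (.node 4835 (.leaf 0xb2838d53) (.leaf 0xb2838d53)) (.node 4837 (.leaf 0xb2838d53) (.node 4838 (.leaf 0xb2838d53) (.leaf 0xb2838d53))))))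

def candS_240 : Store := (.node 4849 (.node 4844 (.node 4841 (.node 4840 (.leaf 0xb2838d53) (.leaf 0xb2838d53)) (.node 4842 (.leaf 0xb2838d53) (.node 4843 (.leaf 0xb2838d53) (.leaf 0xb2838d53)))) (.node 4846 (.node 4845 (.leaf 0xb2838d53) (.leaf 0xb2838d53)) (.node 4847 (.leaf 0xb2838d53) (.node 4848 (.leaf 0xb2838d53) (.leaf 0x240b2838d53))))) (.node 4854 (.node 4851 (.node 4850 (.leaf 0x198) (.leaf 0x28e)) (.node 4852 (.leaf 0x240b2838d53) (.node 4853 (.leaf 0x240b2838d53) (.leaf 0x184)))) (.node 4857 (.node 4855 (.leaf 0x240b2838d53) (.node 4856 (.leaf 0x32a) (.leaf 0x240b2838d53))) (.node 4858 (.leaf 0x240b2838d53) (.node 4859 (.leaf 0x240b2838d53) (.leaf 0x240b2838d53))))))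

def candS_241 : Store := (.node 4870 (.node 4865 (.node 4862 (.node 4861 (.leaf 0x100b2838d53) (.leaf 0x100b2838d53)) (.node 4863 (.leaf 0x100b2838d53) (.node 4864 (.leaf 0x100b2838d53) (.leaf 0x100b2838d53)))) (.node 4867 (.node 4866 (.leaf 0x100b2838d53) (.leaf 0x100b2838d53)) (.node 4868 (.leaf 0x100b2838d53) (.node 4869 (.leaf 0x100b2838d53) (.leaf 0x100b2838d53))))) (.node 4875 (.node 4872 (.node 4871 (.leaf 0x100b2838d53) (.leaf 0x100b2838d53)) (.node 4873 (.leaf 0xc0b2838d53) (.node 4874 (.leaf 0xc0b2838d53) (.leaf 0xc0b2838d53)))) (.node 4877 (.node 4876 (.leaf 0xc0b2838d53) (.leaf 0xc0b2838d53)) (.node 4878 (.leaf 0xc0b2838d53) (.node 4879 (.leaf 0xc0b2838d53) (.leaf 0xc0b2838d53))))))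

def candS_242 : Store := (.node 4890 (.node 4885 (.node 4882 (.node 4881 (.leaf 0xc0b2838d53) (.leaf 0xc0b2838d53)) (.node 4883 (.leaf 0xc0b2838d53) (.node 4884 (.leaf 0xc0b2838d53) (.leaf 0x3e0b2838d53)))) (.node 4887 (.node 4886 (.leaf 0x3e0b2838d53) (.leaf 0x3e0b2838d53)) (.node 4888 (.leaf 0x3e0b2838d53) (.node 4889 (.leaf 0x3e0b2838d53) (.leaf 0x3e0b2838d53))))) (.node 4895 (.node 4892 (.node 4891 (.leaf 0x3e0b2838d53) (.leaf 0x3e0b2838d53)) (.node 4893 (.leaf 0x3e0b2838d53) (.node 4894 (.leaf 0x3e0b2838d53) (.leaf 0x3e0b2838d53)))) (.node 4897 (.node 4896 (.leaf 0x3e0b2838d53) (.leaf 0x6381a38d53)) (.node 4898 (.leaf 0x6381a38d53) (.node 4899 (.leaf 0x6381a38d53) (.leaf 0x6381a38d53))))))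

def candS_243 : Store := (.node 4910 (.node 4905 (.node 4902 (.node 4901 (.leaf 0x6381a38d53) (.leaf 0x6381a38d53)) (.node 4903 (.leaf 0x6381a38d53) (.node 4904 (.leaf 0x6381a38d53) (.leaf 0x6381a38d53)))) (.node 4907 (.node 4906 (.leaf 0x6381a38d53) (.leaf 0x6381a38d53)) (.node 4908 (.leaf 0x6381a38d53) (.node 4909 (.leaf 0x14381a38d53) (.leaf 0x14381a38d53))))) (.node 4915 (.node 4912 (.node 4911 (.leaf 0x14381a38d53) (.leaf 0x14381a38d53)) (.node 4913 (.leaf 0x14381a38d53) (.node 4914 (.leaf 0x14381a38d53) (.leaf 0x14381a38d53)))) (.node 4917 (.node 4916 (.leaf 0x14381a38d53) (.leaf 0x14381a38d53)) (.node 4918 (.leaf 0x14381a38d53) (.node 4919 (.leaf 0x14381a38d53) (.leaf 0x14381a38d53))))))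

def candS_244 : Store := (.node 4930 (.node 4925 (.node 4922 (.node 4921 (.leaf 0xf8) (.leaf 0x42381a38d53)) (.node 4923 (.leaf 0x42381a38d53) (.node 4924 (.leaf 0x348) (.leaf 0x42381a38d53)))) (.node 4927 (.node 4926 (.leaf 0x42381a38d53) (.leaf 0x1e2)) (.node 4928 (.leaf 0x42381a38d53) (.node 4929 (.leaf 0xb0) (.leaf 0x42381a38d53))))) (.node 4935 (.node 4932 (.node 4931 (.leaf 0x42381a38d53) (.leaf 0x42381a38d53)) (.node 4933 (.leaf 0x381a38d53) (.node 4934 (.leaf 0x381a38d53) (.leaf 0x381a38d53)))) (.node 4938 (.node 4936 (.leaf 0x381a38d53) (.node 4937 (.leaf 0x381a38d53) (.leaf 0x381a38d53))) (.node 4939 (.leaf 0x381a38d53) (.node 4940 (.leaf 0x381a38d53) (.leaf 0x381a38d53))))))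

def candS_245 : Store := (.node 4951 (.node 4946 (.node 4943 (.node 4942 (.leaf 0x381a38d53) (.leaf 0x381a38d53)) (.node 4944 (.leaf 0x381a38d53) (.node 4945 (.leaf 0x381a38d53) (.leaf 0x381a38d53)))) (.node 4948 (.node 4947 (.leaf 0x381a38d53) (.leaf 0x381a38d53)) (.node 4949 (.leaf 0x381a38d53) (.node 4950 (.leaf 0x381a38d53) (.leaf 0x381a38d53))))) (.node 4956 (.node 4953 (.node 4952 (.leaf 0x381a38d53) (.leaf 0x381a38d53)) (.node 4954 (.leaf 0x381a38d53) (.node 4955 (.leaf 0x381a38d53) (.leaf 0x381a38d53)))) (.node 4958 (.node 4957 (.leaf 0x381a38d53) (.leaf 0x381a38d53)) (.node 4959 (.leaf 0x381a38d53) (.node 4960 (.leaf 0x381a38d53) (.leaf 0x381a38d53))))))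

def candS_246 : Store := (.node 4971 (.node 4966 (.node 4963 (.node 4962 (.leaf 0x381a38d53) (.leaf 0x381a38d53)) (.node 4964 (.leaf 0x381a38d53) (.node 4965 (.leaf 0x381a38d53) (.leaf 0x381a38d53)))) (.node 4968 (.node 4967 (.leaf 0x381a38d53) (.leaf 0x381a38d53)) (.node 4969 (.leaf 0x3a381a38d53) (.node 4970 (.leaf 0x3a381a38d53) (.leaf 0x3a381a38d53))))) (.node 4976 (.node 4973 (.node 4972 (.leaf 0x3a381a38d53) (.leaf 0x3a381a38d53)) (.node 4974 (.leaf 0x3a381a38d53) (.node 4975 (.leaf 0x3a381a38d53) (.leaf 0x3a381a38d53)))) (.node 4978 (.node 4977 (.leaf 0x3a381a38d53) (.leaf 0x3a381a38d53)) (.node 4979 (.leaf 0x3a381a38d53) (.node 4980 (.leaf 0x3a381a38d53) (.leaf 0x1c381a38d53))))))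

def candS_247 : Store := (.node 4991 (.node 4986 (.node 4983 (.node 4982 (.leaf 0x1c381a38d53) (.leaf 0x1c381a38d53)) (.node 4984 (.leaf 0x1c381a38d53) (.node 4985 (.leaf 0x1c381a38d53) (.leaf 0x1c381a38d53)))) (.node 4988 (.node 4987 (.leaf 0x1c381a38d53) (.leaf 0x1c381a38d53)) (.node 4989 (.leaf 0x1c381a38d53) (.node 4990 (.leaf 0x1c381a38d53) (.leaf 0x1c381a38d53))))) (.node 4996 (.node 4993 (.node 4992 (.leaf 0x1c381a38d53) (.leaf 0x381a38d53)) (.node 4994 (.leaf 0x381a38d53) (.node 4995 (.leaf 0x381a38d53) (.leaf 0x381a38d53)))) (.node 4998 (.node 4997 (.leaf 0x381a38d53) (.leaf 0x381a38d53)) (.node 4999 (.leaf 0x381a38d53) (.node 5000 (.leaf 0x381a38d53) (.leaf 0x381a38d53))))))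

def candS_248 : Store := (.node 5011 (.node 5006 (.node 5003 (.node 5002 (.leaf 0x381a38d53) (.leaf 0x381a38d53)) (.node 5004 (.leaf 0x381a38d53) (.node 5005 (.leaf 0x3c381a38d53) (.leaf 0x3c381a38d53)))) (.node 5008 (.node 5007 (.leaf 0x80003c381a38d53) (.leaf 0x3c381a38d53)) (.node 5009 (.leaf 0x3c381a38d53) (.node 5010 (.leaf 0x98003c381a38d53) (.leaf 0x3c381a38d53))))) (.node 5016 (.node 5013 (.node 5012 (.leaf 0x3c381a38d53) (.leaf 0x3c381a38d53)) (.node 5014 (.leaf 0x70003c381a38d53) (.node 5015 (.leaf 0x3c381a38d53) (.leaf 0x3c381a38d53)))) (.node 5019 (.node 5017 (.leaf 0x381a38d53) (.node 5018 (.leaf 0x381a38d53) (.leaf 0x381a38d53))) (.node 5020 (.leaf 0x381a38d53) (.node 5021 (.leaf 0x381a38d53) (.leaf 0x381a38d53))))))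

def candS_249 : Store := (.node 5032 (.node 5027 (.node 5024 (.node 5023 (.leaf 0x381a38d53) (.leaf 0x381a38d53)) (.node 5025 (.leaf 0x381a38d53) (.node 5026 (.leaf 0x381a38d53) (.leaf 0x381a38d53)))) (.node 5029 (.node 5028 (.leaf 0x381a38d53) (.leaf 0x381a38d53)) (.node 5030 (.leaf 0x381a38d53) (.node 5031 (.leaf 0x381a38d53) (.leaf 0x381a38d53))))) (.node 5037 (.node 5034 (.node 5033 (.leaf 0x381a38d53) (.leaf 0x381a38d53)) (.node 5035 (.leaf 0x381a38d53) (.node 5036 (.leaf 0x381a38d53) (.leaf 0x381a38d53)))) (.node 5039 (.node 5038 (.leaf 0x381a38d53) (.leaf 0x381a38d53)) (.node 5040 (.leaf 0x381a38d53) (.node 5041 (.leaf 0x281f38d53) (.leaf 0x281f38d53))))))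

def candS_250 : Store := (.node 5052 (.node 5047 (.node 5044 (.node 5043 (.leaf 0x281f38d53) (.leaf 0x281f38d53)) (.node 5045 (.leaf 0x281f38d53) (.node 5046 (.leaf 0x281f38d53) (.leaf 0x281f38d53)))) (.node 5049 (.node 5048 (.leaf 0x281f38d53) (.leaf 0x281f38d53)) (.node 5050 (.leaf 0x281f38d53) (.node 5051 (.leaf 0x281f38d53) (.leaf 0x281f38d53))))) (.node 5057 (.node 5054 (.node 5053 (.leaf 0x281f38d53) (.leaf 0x281f38d53)) (.node 5055 (.leaf 0x281f38d53) (.node 5056 (.leaf 0x281f38d53) (.leaf 0x281f38d53)))) (.node 5059 (.node 5058 (.leaf 0x281f38d53) (.leaf 0x281f38d53)) (.node 5060 (.leaf 0x281f38d53) (.node 5061 (.leaf 0x281f38d53) (.leaf 0x281f38d53))))))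

def candS_251 : Store := (.node 5072 (.node 5067 (.node 5064 (.node 5063 (.leaf 0x281f38d53) (.leaf 0x281f38d53)) (.node 5065 (.leaf 0x2e281f38d53) (.node 5066 (.leaf 0x2e281f38d53) (.leaf 0x2e281f38d53)))) (.node 5069 (.node 5068 (.leaf 0x2e281f38d53) (.leaf 0x2e281f38d53)) (.node 5070 (.leaf 0x2e281f38d53) (.node 5071 (.leaf 0x2e281f38d53) (.leaf 0x2e281f38d53))))) (.node 5077 (.node 5074 (.node 5073 (.leaf 0x2e281f38d53) (.leaf 0x2e281f38d53)) (.node 5075 (.leaf 0x2e281f38d53) (.node 5076 (.leaf 0x2e281f38d53) (.leaf 0x281f38d53)))) (.node 5079 (.node 5078 (.leaf 0x281f38d53) (.leaf 0x281f38d53)) (.node 5080 (.leaf 0x281f38d53) (.node 5081 (.leaf 0x281f38d53) (.leaf 0x281f38d53))))))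

def candS_252 : Store := (.node 5092 (.node 5087 (.node 5084 (.node 5083 (.leaf 0x281f38d53) (.leaf 0x281f38d53)) (.node 5085 (.leaf 0x281f38d53) (.node 5086 (.leaf 0x281f38d53) (.leaf 0x281f38d53)))) (.node 5089 (.node 5088 (.leaf 0x281f38d53) (.leaf 0xe281f38d53)) (.node 5090 (.leaf 0xe281f38d53) (.node 5091 (.leaf 0xe281f38d53) (.leaf 0xe281f38d53))))) (.node 5097 (.node 5094 (.node 5093 (.leaf 0xe281f38d53) (.leaf 0xe281f38d53)) (.node 5095 (.leaf 0xe281f38d53) (.node 5096 (.leaf 0xe281f38d53) (.leaf 0xe281f38d53)))) (.node 5100 (.node 5098 (.leaf 0xe281f38d53) (.node 5099 (.leaf 0xe281f38d53) (.leaf 0xe281f38d53))) (.node 5101 (.leaf 0x42281f38d53) (.node 5102 (.leaf 0x42281f38d53) (.leaf 0x42281f38d53))))))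

def candS_253 : Store := (.node 5113 (.node 5108 (.node 5105 (.node 5104 (.leaf 0x42281f38d53) (.leaf 0x42281f38d53)) (.node 5106 (.leaf 0x42281f38d53) (.node 5107 (.leaf 0x42281f38d53) (.leaf 0x42281f38d53)))) (.node 5110 (.node 5109 (.leaf 0x42281f38d53) (.leaf 0x42281f38d53)) (.node 5111 (.leaf 0x42281f38d53) (.node 5112 (.leaf 0x42281f38d53) (.leaf 0x281f38d53))))) (.node 5118 (.node 5115 (.node 5114 (.leaf 0x281f38d53) (.leaf 0x281f38d53)) (.node 5116 (.leaf 0x281f38d53) (.node 5117 (.leaf 0x281f38d53) (.leaf 0x281f38d53)))) (.node 5120 (.node 5119 (.leaf 0x281f38d53) (.leaf 0x281f38d53)) (.node 5121 (.leaf 0x281f38d53) (.node 5122 (.leaf 0x281f38d53) (.leaf 0x281f38d53))))))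

def candS_254 : Store := (.node 5133 (.node 5128 (.node 5125 (.node 5124 (.leaf 0x281f38d53) (.leaf 0x281f38d53)) (.node 5126 (.leaf 0x281f38d53) (.node 5127 (.leaf 0x281f38d53) (.leaf 0x281f38d53)))) (.node 5130 (.node 5129 (.leaf 0x281f38d53) (.leaf 0x281f38d53)) (.node 5131 (.leaf 0x281f38d53) (.node 5132 (.leaf 0x281f38d53) (.leaf 0x281f38d53))))) (.node 5138 (.node 5135 (.node 5134 (.leaf 0x281f38d53) (.leaf 0x281f38d53)) (.node 5136 (.leaf 0x281f38d53) (.node 5137 (.leaf 0x281f38d53) (.leaf 0x281f38d53)))) (.node 5140 (.node 5139 (.leaf 0x281f38d53) (.leaf 0x281f38d53)) (.node 5141 (.leaf 0x281f38d53) (.node 5142 (.leaf 0x281f38d53) (.leaf 0x281f38d53))))))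

def candS_255 : Store := (.node 5153 (.node 5148 (.node 5145 (.node 5144 (.leaf 0x281f38d53) (.leaf 0x281f38d53)) (.node 5146 (.leaf 0x281f38d53) (.node 5147 (.leaf 0x281f38d53) (.leaf 0x281f38d53)))) (.node 5150 (.node 5149 (.leaf 0x22281f38d53) (.leaf 0x22281f38d53)) (.node 5151 (.leaf 0x22281f38d53) (.node 5152 (.leaf 0x22281f38d53) (.leaf 0x22281f38d53))))) (.node 5158 (.node 5155 (.node 5154 (.leaf 0x22281f38d53) (.leaf 0x22281f38d53)) (.node 5156 (.leaf 0x22281f38d53) (.node 5157 (.leaf 0x22281f38d53) (.leaf 0x22281f38d53)))) (.node 5160 (.node 5159 (.leaf 0x22281f38d53) (.leaf 0x22281f38d53)) (.node 5161 (.leaf 0x16281f38d53) (.node 5162 (.leaf 0x16281f38d53) (.leaf 0x16281f38d53))))))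

def candS_256 : Store := (.node 5173 (.node 5168 (.node 5165 (.node 5164 (.leaf 0x16281f38d53) (.leaf 0x16281f38d53)) (.node 5166 (.leaf 0x16281f38d53) (.node 5167 (.leaf 0x16281f38d53) (.leaf 0x16281f38d53)))) (.node 5170 (.node 5169 (.leaf 0x16281f38d53) (.leaf 0x16281f38d53)) (.node 5171 (.leaf 0x16281f38d53) (.node 5172 (.leaf 0x16281f38d53) (.leaf 0x32281f38d53))))) (.node 5178 (.node 5175 (.node 5174 (.leaf 0x32281f38d53) (.leaf 0x32281f38d53)) (.node 5176 (.leaf 0x32281f38d53) (.node 5177 (.leaf 0x32281f38d53) (.leaf 0x32281f38d53)))) (.node 5181 (.node 5179 (.leaf 0x32281f38d53) (.node 5180 (.leaf 0x32281f38d53) (.leaf 0x32281f38d53))) (.node 5182 (.leaf 0x32281f38d53) (.node 5183 (.leaf 0x32281f38d53) (.leaf 0x32281f38d53))))))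

def candS_257 : Store := (.node 5194 (.node 5189 (.node 5186 (.node 5185 (.leaf 0x1716111c1) (.leaf 0x1716111c1)) (.node 5187 (.leaf 0x1716111c1) (.node 5188 (.leaf 0x1716111c1) (.leaf 0x1716111c1)))) (.node 5191 (.node 5190 (.leaf 0x1716111c1) (.leaf 0x1716111c1)) (.node 5192 (.leaf 0x1716111c1) (.node 5193 (.leaf 0x1716111c1) (.leaf 0x1716111c1))))) (.node 5199 (.node 5196 (.node 5195 (.leaf 0x1716111c1) (.leaf 0x1716111c1)) (.node 5197 (.leaf 0x1716111c1) (.node 5198 (.leaf 0x1716111c1) (.leaf 0x1716111c1)))) (.node 5201 (.node 5200 (.leaf 0x1716111c1) (.leaf 0x1716111c1)) (.node 5202 (.leaf 0x1716111c1) (.node 5203 (.leaf 0x1716111c1) (.leaf 0x1716111c1))))))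

def candS_258 : Store := (.node 5214 (.node 5209 (.node 5206 (.node 5205 (.leaf 0x1716111c1) (.leaf 0x1716111c1)) (.node 5207 (.leaf 0x1716111c1) (.node 5208 (.leaf 0x1716111c1) (.leaf 0x421716111c1)))) (.node 5211 (.node 5210 (.leaf 0x421716111c1) (.leaf 0x421716111c1)) (.node 5212 (.leaf 0x421716111c1) (.node 5213 (.leaf 0x421716111c1) (.leaf 0x421716111c1))))) (.node 5219 (.node 5216 (.node 5215 (.leaf 0x421716111c1) (.leaf 0x421716111c1)) (.node 5217 (.leaf 0x421716111c1) (.node 5218 (.leaf 0x421716111c1) (.leaf 0x421716111c1)))) (.node 5221 (.node 5220 (.leaf 0x421716111c1) (.leaf 0x1716111c1)) (.node 5222 (.leaf 0x1716111c1) (.node 5223 (.leaf 0x1716111c1) (.leaf 0x1716111c1))))))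

def candS_259 : Store := (.node 5234 (.node 5229 (.node 5226 (.node 5225 (.leaf 0x1716111c1) (.leaf 0x1716111c1)) (.node 5227 (.leaf 0x1716111c1) (.node 5228 (.leaf 0x1716111c1) (.leaf 0x1716111c1)))) (.node 5231 (.node 5230 (.leaf 0x1716111c1) (.leaf 0x1716111c1)) (.node 5232 (.leaf 0x1716111c1) (.node 5233 (.leaf 0x61716111c1) (.leaf 0x61716111c1))))) (.node 5239 (.node 5236 (.node 5235 (.leaf 0x61716111c1) (.leaf 0x61716111c1)) (.node 5237 (.leaf 0x61716111c1) (.node 5238 (.leaf 0x61716111c1) (.leaf 0x61716111c1)))) (.node 5241 (.node 5240 (.leaf 0x61716111c1) (.leaf 0x61716111c1)) (.node 5242 (.leaf 0x61716111c1) (.node 5243 (.leaf 0x61716111c1) (.leaf 0x61716111c1))))))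

def candS_260 : Store := (.node 5254 (.node 5249 (.node 5246 (.node 5245 (.leaf 0x141716111c1) (.leaf 0x141716111c1)) (.node 5247 (.leaf 0x141716111c1) (.node 5248 (.leaf 0x141716111c1) (.leaf 0x141716111c1)))) (.node 5251 (.node 5250 (.leaf 0x141716111c1) (.leaf 0x141716111c1)) (.node 5252 (.leaf 0x141716111c1) (.node 5253 (.leaf 0x141716111c1) (.leaf 0x141716111c1))))) (.node 5259 (.node 5256 (.node 5255 (.leaf 0x141716111c1) (.leaf 0x141716111c1)) (.node 5257 (.leaf 0x1716111c1) (.node 5258 (.leaf 0x1716111c1) (.leaf 0x1716111c1)))) (.node 5262 (.node 5260 (.leaf 0x1716111c1) (.node 5261 (.leaf 0x1716111c1) (.leaf 0x1716111c1))) (.node 5263 (.leaf 0x1716111c1) (.node 5264 (.leaf 0x1716111c1) (.leaf 0x1716111c1))))))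

def candS_261 : Store := (.node 5275 (.node 5270 (.node 5267 (.node 5266 (.leaf 0x1716111c1) (.leaf 0x1716111c1)) (.node 5268 (.leaf 0x1716111c1) (.node 5269 (.leaf 0x1716111c1) (.leaf 0x1716111c1)))) (.node 5272 (.node 5271 (.leaf 0x1716111c1) (.leaf 0x1716111c1)) (.node 5273 (.leaf 0x1716111c1) (.node 5274 (.leaf 0x1716111c1) (.leaf 0x1716111c1))))) (.node 5280 (.node 5277 (.node 5276 (.leaf 0x1716111c1) (.leaf 0x1716111c1)) (.node 5278 (.leaf 0x1716111c1) (.node 5279 (.leaf 0x1716111c1) (.leaf 0x1716111c1)))) (.node 5282 (.node 5281 (.leaf 0x1716111c1) (.leaf 0x1716111c1)) (.node 5283 (.leaf 0x1716111c1) (.node 5284 (.leaf 0x1716111c1) (.leaf 0x1716111c1))))))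

def candS_262 : Store := (.node 5295 (.node 5290 (.node 5287 (.node 5286 (.leaf 0x1716111c1) (.leaf 0x1716111c1)) (.node 5288 (.leaf 0x1716111c1) (.node 5289 (.leaf 0x1716111c1) (.leaf 0x1716111c1)))) (.node 5292 (.node 5291 (.leaf 0x1716111c1) (.leaf 0x1716111c1)) (.node 5293 (.leaf 0x1c1716111c1) (.node 5294 (.leaf 0x1c1716111c1) (.leaf 0x1c1716111c1))))) (.node 5300 (.node 5297 (.node 5296 (.leaf 0x1c1716111c1) (.leaf 0x1c1716111c1)) (.node 5298 (.leaf 0x1c1716111c1) (.node 5299 (.leaf 0x1c1716111c1) (.leaf 0x1c1716111c1)))) (.node 5302 (.node 5301 (.leaf 0x1c1716111c1) (.leaf 0x1c1716111c1)) (.node 5303 (.leaf 0x1c1716111c1) (.node 5304 (.leaf 0x1c1716111c1) (.leaf 0x3c1716111c1))))))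

def candS_263 : Store := (.node 5315 (.node 5310 (.node 5307 (.node 5306 (.leaf 0x3c1716111c1) (.leaf 0x3c1716111c1)) (.node 5308 (.leaf 0x3c1716111c1) (.node 5309 (.leaf 0x3c1716111c1) (.leaf 0x3c1716111c1)))) (.node 5312 (.node 5311 (.leaf 0x3c1716111c1) (.leaf 0x3c1716111c1)) (.node 5313 (.leaf 0x3c1716111c1) (.node 5314 (.leaf 0x3c1716111c1) (.leaf 0x3c1716111c1))))) (.node 5320 (.node 5317 (.node 5316 (.leaf 0x3c1716111c1) (.leaf 0x3a1716111c1)) (.node 5318 (.leaf 0x3a1716111c1) (.node 5319 (.leaf 0x3a1716111c1) (.leaf 0x3a1716111c1)))) (.node 5322 (.node 5321 (.leaf 0x3a1716111c1) (.leaf 0x3a1716111c1)) (.node 5323 (.leaf 0x3a1716111c1) (.node 5324 (.leaf 0x3a1716111c1) (.leaf 0x3a1716111c1))))))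

def candS_264 : Store := (.node 5335 (.node 5330 (.node 5327 (.node 5326 (.leaf 0x3a1716111c1) (.leaf 0x3a1716111c1)) (.node 5328 (.leaf 0x3a1716111c1) (.node 5329 (.leaf 0x2a19911c1) (.leaf 0x2a19911c1)))) (.node 5332 (.node 5331 (.leaf 0x2a19911c1) (.leaf 0x2a19911c1)) (.node 5333 (.leaf 0x2a19911c1) (.node 5334 (.leaf 0x2a19911c1) (.leaf 0x2a19911c1))))) (.node 5340 (.node 5337 (.node 5336 (.leaf 0x2a19911c1) (.leaf 0x2a19911c1)) (.node 5338 (.leaf 0x2a19911c1) (.node 5339 (.leaf 0x2a19911c1) (.leaf 0x2a19911c1)))) (.node 5343 (.node 5341 (.leaf 0xe2a19911c1) (.node 5342 (.leaf 0xe2a19911c1) (.leaf 0x82))) (.node 5344 (.leaf 0xe2a19911c1) (.node 5345 (.leaf 0x2ca) (.leaf 0xe2a19911c1))))))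

def candS_265 : Store := (.node 5356 (.node 5351 (.node 5348 (.node 5347 (.leaf 0xe2a19911c1) (.leaf 0x2ba)) (.node 5349 (.leaf 0xe2a19911c1) (.node 5350 (.leaf 0x84) (.leaf 0xe2a19911c1)))) (.node 5353 (.node 5352 (.leaf 0xe2a19911c1) (.leaf 0x2a19911c1)) (.node 5354 (.leaf 0x2a19911c1) (.node 5355 (.leaf 0x2a19911c1) (.leaf 0x2a19911c1))))) (.node 5361 (.node 5358 (.node 5357 (.leaf 0x2a19911c1) (.leaf 0x2a19911c1)) (.node 5359 (.leaf 0x2a19911c1) (.node 5360 (.leaf 0x2a19911c1) (.leaf 0x2a19911c1)))) (.node 5363 (.node 5362 (.leaf 0x2a19911c1) (.leaf 0x2a19911c1)) (.node 5364 (.leaf 0x2a19911c1) (.node 5365 (.leaf 0x42a19911c1) (.leaf 0x42a19911c1))))))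

def candS_266 : Store := (.node 5376 (.node 5371 (.node 5368 (.node 5367 (.leaf 0x42a19911c1) (.leaf 0x6800042a19911c1)) (.node 5369 (.leaf 0x42a19911c1) (.node 5370 (.leaf 0x42a19911c1) (.leaf 0x5800042a19911c1)))) (.node 5373 (.node 5372 (.leaf 0x42a19911c1) (.leaf 0x800042a19911c1)) (.node 5374 (.leaf 0x42a19911c1) (.node 5375 (.leaf 0x42a19911c1) (.leaf 0x5000042a19911c1))))) (.node 5381 (.node 5378 (.node 5377 (.leaf 0x1e2a19911c1) (.leaf 0x1e2a19911c1)) (.node 5379 (.leaf 0x1e2a19911c1) (.node 5380 (.leaf 0x1e2a19911c1) (.leaf 0x1e2a19911c1)))) (.node 5383 (.node 5382 (.leaf 0x1e2a19911c1) (.leaf 0x1e2a19911c1)) (.node 5384 (.leaf 0x1e2a19911c1) (.node 5385 (.leaf 0x1e2a19911c1) (.leaf 0x1e2a19911c1))))))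

def candS_267 : Store := (.node 5396 (.node 5391 (.node 5388 (.node 5387 (.leaf 0x1e2a19911c1) (.leaf 0x1e2a19911c1)) (.node 5389 (.leaf 0x142a19911c1) (.node 5390 (.leaf 0x142a19911c1) (.leaf 0x142a19911c1)))) (.node 5393 (.node 5392 (.leaf 0x142a19911c1) (.leaf 0x142a19911c1)) (.node 5394 (.leaf 0x142a19911c1) (.node 5395 (.leaf 0x142a19911c1) (.leaf 0x142a19911c1))))) (.node 5401 (.node 5398 (.node 5397 (.leaf 0x142a19911c1) (.leaf 0x142a19911c1)) (.node 5399 (.leaf 0x142a19911c1) (.node 5400 (.leaf 0x142a19911c1) (.leaf 0x2a19911c1)))) (.node 5403 (.node 5402 (.leaf 0x2a19911c1) (.leaf 0x2a19911c1)) (.node 5404 (.leaf 0x2a19911c1) (.node 5405 (.leaf 0x2a19911c1) (.leaf 0x2a19911c1))))))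

def candS_268 : Store := (.node 5416 (.node 5411 (.node 5408 (.node 5407 (.leaf 0x2a19911c1) (.leaf 0x2a19911c1)) (.node 5409 (.leaf 0x2a19911c1) (.node 5410 (.leaf 0x2a19911c1) (.leaf 0x2a19911c1)))) (.node 5413 (.node 5412 (.leaf 0x2a19911c1) (.leaf 0x2a19911c1)) (.node 5414 (.leaf 0x2a19911c1) (.node 5415 (.leaf 0x2a19911c1) (.leaf 0x2a19911c1))))) (.node 5421 (.node 5418 (.node 5417 (.leaf 0x2a19911c1) (.leaf 0x2a19911c1)) (.node 5419 (.leaf 0x2a19911c1) (.node 5420 (.leaf 0x2a19911c1) (.leaf 0x2a19911c1)))) (.node 5424 (.node 5422 (.leaf 0x2a19911c1) (.node 5423 (.leaf 0x2a19911c1) (.leaf 0x2a19911c1))) (.node 5425 (.leaf 0x2a19911c1) (.node 5426 (.leaf 0x2a19911c1) (.leaf 0x2a19911c1))))))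

def candS_269 : Store := (.node 5437 (.node 5432 (.node 5429 (.node 5428 (.leaf 0x2a19911c1) (.leaf 0x2a19911c1)) (.node 5430 (.leaf 0x2a19911c1) (.node 5431 (.leaf 0x2a19911c1) (.leaf 0x2a19911c1)))) (.node 5434 (.node 5433 (.leaf 0x2a19911c1) (.leaf 0x2a19911c1)) (.node 5435 (.leaf 0x2a19911c1) (.node 5436 (.leaf 0x2a19911c1) (.leaf 0x2a19911c1))))) (.node 5442 (.node 5439 (.node 5438 (.leaf 0x2a19911c1) (.leaf 0x2a19911c1)) (.node 5440 (.leaf 0x2a19911c1) (.node 5441 (.leaf 0x2a19911c1) (.leaf 0x2a19911c1)))) (.node 5444 (.node 5443 (.leaf 0x2a19911c1) (.leaf 0x2a19911c1)) (.node 5445 (.leaf 0x2a19911c1) (.node 5446 (.leaf 0x2a19911c1) (.leaf 0x2a19911c1))))))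

def candS_270 : Store := (.node 5457 (.node 5452 (.node 5449 (.node 5448 (.leaf 0x2a19911c1) (.leaf 0x2a19911c1)) (.node 5450 (.leaf 0x2a19911c1) (.node 5451 (.leaf 0x2a19911c1) (.leaf 0x2a19911c1)))) (.node 5454 (.node 5453 (.leaf 0x2a19911c1) (.leaf 0x2a19911c1)) (.node 5455 (.leaf 0x2a19911c1) (.node 5456 (.leaf 0x2a19911c1) (.leaf 0x2a19911c1))))) (.node 5462 (.node 5459 (.node 5458 (.leaf 0x2a19911c1) (.leaf 0x2a19911c1)) (.node 5460 (.leaf 0x2a19911c1) (.node 5461 (.leaf 0x122a19911c1) (.leaf 0x122a19911c1)))) (.node 5464 (.node 5463 (.leaf 0x122a19911c1) (.leaf 0x122a19911c1)) (.node 5465 (.leaf 0x122a19911c1) (.node 5466 (.leaf 0x122a19911c1) (.leaf 0x122a19911c1))))))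

def candS_271 : Store := (.node 5477 (.node 5472 (.node 5469 (.node 5468 (.leaf 0x122a19911c1) (.leaf 0x122a19911c1)) (.node 5470 (.leaf 0x122a19911c1) (.node 5471 (.leaf 0x122a19911c1) (.leaf 0x122a19911c1)))) (.node 5474 (.node 5473 (.leaf 0x2b0c911c1) (.leaf 0x2b0c911c1)) (.node 5475 (.leaf 0x2b0c911c1) (.node 5476 (.leaf 0x2b0c911c1) (.leaf 0x2b0c911c1))))) (.node 5482 (.node 5479 (.node 5478 (.leaf 0x2b0c911c1) (.leaf 0x2b0c911c1)) (.node 5480 (.leaf 0x2b0c911c1) (.node 5481 (.leaf 0x2b0c911c1) (.leaf 0x2b0c911c1)))) (.node 5484 (.node 5483 (.leaf 0x2b0c911c1) (.leaf 0x2b0c911c1)) (.node 5485 (.leaf 0x22b0c911c1) (.node 5486 (.leaf 0x80) (.leaf 0x22b0c911c1))))))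

def candS_272 : Store := (.node 5497 (.node 5492 (.node 5489 (.node 5488 (.leaf 0x22b0c911c1) (.leaf 0x138)) (.node 5490 (.leaf 0x22b0c911c1) (.node 5491 (.leaf 0x22b0c911c1) (.leaf 0x304)))) (.node 5494 (.node 5493 (.leaf 0x22b0c911c1) (.leaf 0x15c)) (.node 5495 (.leaf 0x22b0c911c1) (.node 5496 (.leaf 0x22b0c911c1) (.leaf 0x3a2b0c911c1))))) (.node 5502 (.node 5499 (.node 5498 (.leaf 0x3a2b0c911c1) (.leaf 0x3a2b0c911c1)) (.node 5500 (.leaf 0x3a2b0c911c1) (.node 5501 (.leaf 0x3a2b0c911c1) (.leaf 0x3a2b0c911c1)))) (.node 5505 (.node 5503 (.leaf 0x3a2b0c911c1) (.node 5504 (.leaf 0x3a2b0c911c1) (.leaf 0x3a2b0c911c1))) (.node 5506 (.leaf 0x3a2b0c911c1) (.node 5507 (.leaf 0x3a2b0c911c1) (.leaf 0x3a2b0c911c1))))))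

def candS_273 : Store := (.node 5518 (.node 5513 (.node 5510 (.node 5509 (.leaf 0x2b0c911c1) (.leaf 0x2b0c911c1)) (.node 5511 (.leaf 0x2b0c911c1) (.node 5512 (.leaf 0x2b0c911c1) (.leaf 0x2b0c911c1)))) (.node 5515 (.node 5514 (.leaf 0x2b0c911c1) (.leaf 0x2b0c911c1)) (.node 5516 (.leaf 0x2b0c911c1) (.node 5517 (.leaf 0x2b0c911c1) (.leaf 0x2b0c911c1))))) (.node 5523 (.node 5520 (.node 5519 (.leaf 0x2b0c911c1) (.leaf 0x2b0c911c1)) (.node 5521 (.leaf 0x402b0c911c1) (.node 5522 (.leaf 0x402b0c911c1) (.leaf 0x402b0c911c1)))) (.node 5525 (.node 5524 (.leaf 0x402b0c911c1) (.leaf 0x402b0c911c1)) (.node 5526 (.leaf 0x402b0c911c1) (.node 5527 (.leaf 0x402b0c911c1) (.leaf 0x402b0c911c1))))))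

def candS_274 : Store := (.node 5538 (.node 5533 (.node 5530 (.node 5529 (.leaf 0x402b0c911c1) (.leaf 0x402b0c911c1)) (.node 5531 (.leaf 0x402b0c911c1) (.node 5532 (.leaf 0x402b0c911c1) (.leaf 0x2b0c911c1)))) (.node 5535 (.node 5534 (.leaf 0x2b0c911c1) (.leaf 0x2b0c911c1)) (.node 5536 (.leaf 0x2b0c911c1) (.node 5537 (.leaf 0x2b0c911c1) (.leaf 0x2b0c911c1))))) (.node 5543 (.node 5540 (.node 5539 (.leaf 0x2b0c911c1) (.leaf 0x2b0c911c1)) (.node 5541 (.leaf 0x2b0c911c1) (.node 5542 (.leaf 0x2b0c911c1) (.leaf 0x2b0c911c1)))) (.node 5545 (.node 5544 (.leaf 0x2b0c911c1) (.leaf 0x2b0c911c1)) (.node 5546 (.leaf 0x2b0c911c1) (.node 5547 (.leaf 0x2b0c911c1) (.leaf 0x2b0c911c1))))))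

def candS_275 : Store := (.node 5558 (.node 5553 (.node 5550 (.node 5549 (.leaf 0x2b0c911c1) (.leaf 0x2b0c911c1)) (.node 5551 (.leaf 0x2b0c911c1) (.node 5552 (.leaf 0x2b0c911c1) (.leaf 0x2b0c911c1)))) (.node 5555 (.node 5554 (.leaf 0x2b0c911c1) (.leaf 0x2b0c911c1)) (.node 5556 (.leaf 0x2b0c911c1) (.node 5557 (.leaf 0x202b0c911c1) (.leaf 0x202b0c911c1))))) (.node 5563 (.node 5560 (.node 5559 (.leaf 0x202b0c911c1) (.leaf 0x5800202b0c911c1)) (.node 5561 (.leaf 0x202b0c911c1) (.node 5562 (.leaf 0x202b0c911c1) (.leaf 0x202b0c911c1)))) (.node 5565 (.node 5564 (.leaf 0x202b0c911c1) (.leaf 0x6800202b0c911c1)) (.node 5566 (.leaf 0x202b0c911c1) (.node 5567 (.leaf 0x800202b0c911c1) (.leaf 0x5000202b0c911c1))))))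

def candS_276 : Store := (.node 5578 (.node 5573 (.node 5570 (.node 5569 (.leaf 0x2b0c911c1) (.leaf 0x2b0c911c1)) (.node 5571 (.leaf 0x2b0c911c1) (.node 5572 (.leaf 0x2b0c911c1) (.leaf 0x2b0c911c1)))) (.node 5575 (.node 5574 (.leaf 0x2b0c911c1) (.leaf 0x2b0c911c1)) (.node 5576 (.leaf 0x2b0c911c1) (.node 5577 (.leaf 0x2b0c911c1) (.leaf 0x2b0c911c1))))) (.node 5583 (.node 5580 (.node 5579 (.leaf 0x2b0c911c1) (.leaf 0x2b0c911c1)) (.node 5581 (.leaf 0x322b0c911c1) (.node 5582 (.leaf 0x322b0c911c1) (.leaf 0x322b0c911c1)))) (.node 5586 (.node 5584 (.leaf 0x322b0c911c1) (.node 5585 (.leaf 0x322b0c911c1) (.leaf 0x322b0c911c1))) (.node 5587 (.leaf 0x322b0c911c1) (.node 5588 (.leaf 0x322b0c911c1) (.leaf 0x322b0c911c1))))))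

def candS_277 : Store := (.node 5599 (.node 5594 (.node 5591 (.node 5590 (.leaf 0x322b0c911c1) (.leaf 0x322b0c911c1)) (.node 5592 (.leaf 0x322b0c911c1) (.node 5593 (.leaf 0x2b0c911c1) (.leaf 0x2b0c911c1)))) (.node 5596 (.node 5595 (.leaf 0x2b0c911c1) (.leaf 0x2b0c911c1)) (.node 5597 (.leaf 0x2b0c911c1) (.node 5598 (.leaf 0x2b0c911c1) (.leaf 0x2b0c911c1))))) (.node 5604 (.node 5601 (.node 5600 (.leaf 0x2b0c911c1) (.leaf 0x2b0c911c1)) (.node 5602 (.leaf 0x2b0c911c1) (.node 5603 (.leaf 0x2b0c911c1) (.leaf 0x2b0c911c1)))) (.node 5606 (.node 5605 (.leaf 0x1e2b0c911c1) (.leaf 0x1e2b0c911c1)) (.node 5607 (.leaf 0x1e2b0c911c1) (.node 5608 (.leaf 0x1e2b0c911c1) (.leaf 0x1e2b0c911c1))))))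

def candS_278 : Store := (.node 5619 (.node 5614 (.node 5611 (.node 5610 (.leaf 0x1e2b0c911c1) (.leaf 0x1e2b0c911c1)) (.node 5612 (.leaf 0x1e2b0c911c1) (.node 5613 (.leaf 0x1e2b0c911c1) (.leaf 0x1e2b0c911c1)))) (.node 5616 (.node 5615 (.leaf 0x1e2b0c911c1) (.leaf 0x1e2b0c911c1)) (.node 5617 (.leaf 0x3209111c1) (.node 5618 (.leaf 0x3209111c1) (.leaf 0x3209111c1))))) (.node 5624 (.node 5621 (.node 5620 (.leaf 0x3209111c1) (.leaf 0x3209111c1)) (.node 5622 (.leaf 0x3209111c1) (.node 5623 (.leaf 0x3209111c1) (.leaf 0x3209111c1)))) (.node 5626 (.node 5625 (.leaf 0x3209111c1) (.leaf 0x3209111c1)) (.node 5627 (.leaf 0x3209111c1) (.node 5628 (.leaf 0x3209111c1) (.leaf 0x3209111c1))))))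

def candS_279 : Store := (.node 5639 (.node 5634 (.node 5631 (.node 5630 (.leaf 0x3209111c1) (.leaf 0x3209111c1)) (.node 5632 (.leaf 0x3209111c1) (.node 5633 (.leaf 0x3209111c1) (.leaf 0x3209111c1)))) (.node 5636 (.node 5635 (.leaf 0x3209111c1) (.leaf 0x3209111c1)) (.node 5637 (.leaf 0x3209111c1) (.node 5638 (.leaf 0x3209111c1) (.leaf 0x3209111c1))))) (.node 5644 (.node 5641 (.node 5640 (.leaf 0x3209111c1) (.leaf 0x3209111c1)) (.node 5642 (.leaf 0x3209111c1) (.node 5643 (.leaf 0x3209111c1) (.leaf 0x3209111c1)))) (.node 5646 (.node 5645 (.leaf 0x3209111c1) (.leaf 0x3209111c1)) (.node 5647 (.leaf 0x3209111c1) (.node 5648 (.leaf 0x3209111c1) (.leaf 0x3209111c1))))))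

def candS_280 : Store := (.node 5659 (.node 5654 (.node 5651 (.node 5650 (.leaf 0x3209111c1) (.leaf 0x3209111c1)) (.node 5652 (.leaf 0x3209111c1) (.node 5653 (.leaf 0x1e3209111c1) (.leaf 0x1e3209111c1)))) (.node 5656 (.node 5655 (.leaf 0x1e3209111c1) (.leaf 0x1e3209111c1)) (.node 5657 (.leaf 0x1e3209111c1) (.node 5658 (.leaf 0x1e3209111c1) (.leaf 0x1e3209111c1))))) (.node 5664 (.node 5661 (.node 5660 (.leaf 0x1e3209111c1) (.leaf 0x1e3209111c1)) (.node 5662 (.leaf 0x1e3209111c1) (.node 5663 (.leaf 0x1e3209111c1) (.leaf 0x1e3209111c1)))) (.node 5667 (.node 5665 (.leaf 0x43209111c1) (.node 5666 (.leaf 0x7800043209111c1) (.leaf 0x2000043209111c1))) (.node 5668 (.leaf 0x43209111c1) (.node 5669 (.leaf 0x3000043209111c1) (.leaf 0x43209111c1))))))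

def candS_281 : Store := (.node 5680 (.node 5675 (.node 5672 (.node 5671 (.leaf 0x43209111c1) (.leaf 0x6000043209111c1)) (.node 5673 (.leaf 0x43209111c1) (.node 5674 (.leaf 0x43209111c1) (.leaf 0x43209111c1)))) (.node 5677 (.node 5676 (.leaf 0x43209111c1) (.leaf 0x3209111c1)) (.node 5678 (.leaf 0x3209111c1) (.node 5679 (.leaf 0x3209111c1) (.leaf 0x3209111c1))))) (.node 5685 (.node 5682 (.node 5681 (.leaf 0x3209111c1) (.leaf 0x3209111c1)) (.node 5683 (.leaf 0x3209111c1) (.node 5684 (.leaf 0x3209111c1) (.leaf 0x3209111c1)))) (.node 5687 (.node 5686 (.leaf 0x3209111c1) (.leaf 0x3209111c1)) (.node 5688 (.leaf 0x3209111c1) (.node 5689 (.leaf 0xe3209111c1) (.leaf 0xe3209111c1))))))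

def candS_282 : Store := (.node 5700 (.node 5695 (.node 5692 (.node 5691 (.leaf 0xe3209111c1) (.leaf 0xe3209111c1)) (.node 5693 (.leaf 0xe3209111c1) (.node 5694 (.leaf 0xe3209111c1) (.leaf 0xe3209111c1)))) (.node 5697 (.node 5696 (.leaf 0xe3209111c1) (.leaf 0xe3209111c1)) (.node 5698 (.leaf 0xe3209111c1) (.node 5699 (.leaf 0xe3209111c1) (.leaf 0xe3209111c1))))) (.node 5705 (.node 5702 (.node 5701 (.leaf 0x3209111c1) (.leaf 0x3209111c1)) (.node 5703 (.leaf 0x3209111c1) (.node 5704 (.leaf 0x3209111c1) (.leaf 0x3209111c1)))) (.node 5707 (.node 5706 (.leaf 0x3209111c1) (.leaf 0x3209111c1)) (.node 5708 (.leaf 0x3209111c1) (.node 5709 (.leaf 0x3209111c1) (.leaf 0x3209111c1))))))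

def candS_283 : Store := (.node 5720 (.node 5715 (.node 5712 (.node 5711 (.leaf 0x3209111c1) (.leaf 0x3209111c1)) (.node 5713 (.leaf 0x123209111c1) (.node 5714 (.leaf 0x123209111c1) (.leaf 0x123209111c1)))) (.node 5717 (.node 5716 (.leaf 0x123209111c1) (.leaf 0x123209111c1)) (.node 5718 (.leaf 0x123209111c1) (.node 5719 (.leaf 0x123209111c1) (.leaf 0x123209111c1))))) (.node 5725 (.node 5722 (.node 5721 (.leaf 0x123209111c1) (.leaf 0x123209111c1)) (.node 5723 (.leaf 0x123209111c1) (.node 5724 (.leaf 0x123209111c1) (.leaf 0x3209111c1)))) (.node 5727 (.node 5726 (.leaf 0x3209111c1) (.leaf 0x3209111c1)) (.node 5728 (.leaf 0x3209111c1) (.node 5729 (.leaf 0x3209111c1) (.leaf 0x3209111c1))))))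

def candS_284 : Store := (.node 5740 (.node 5735 (.node 5732 (.node 5731 (.leaf 0x3209111c1) (.leaf 0x3209111c1)) (.node 5733 (.leaf 0x3209111c1) (.node 5734 (.leaf 0x3209111c1) (.leaf 0x3209111c1)))) (.node 5737 (.node 5736 (.leaf 0x3209111c1) (.leaf 0x143209111c1)) (.node 5738 (.leaf 0x143209111c1) (.node 5739 (.leaf 0x143209111c1) (.leaf 0x143209111c1))))) (.node 5745 (.node 5742 (.node 5741 (.leaf 0x143209111c1) (.leaf 0x143209111c1)) (.node 5743 (.leaf 0x38c) (.node 5744 (.leaf 0x143209111c1) (.leaf 0x36a)))) (.node 5748 (.node 5746 (.leaf 0x143209111c1) (.node 5747 (.leaf 0x208) (.leaf 0x20c))) (.node 5749 (.leaf 0x3209111c1) (.node 5750 (.leaf 0x3209111c1) (.leaf 0x3209111c1))))))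

def candS_285 : Store := (.node 5761 (.node 5756 (.node 5753 (.node 5752 (.leaf 0x3209111c1) (.leaf 0x3209111c1)) (.node 5754 (.leaf 0x3209111c1) (.node 5755 (.leaf 0x3209111c1) (.leaf 0x3209111c1)))) (.node 5758 (.node 5757 (.leaf 0x3209111c1) (.leaf 0x3209111c1)) (.node 5759 (.leaf 0x3209111c1) (.node 5760 (.leaf 0x3209111c1) (.leaf 0x332f911c1))))) (.node 5766 (.node 5763 (.node 5762 (.leaf 0x332f911c1) (.leaf 0x332f911c1)) (.node 5764 (.leaf 0x332f911c1) (.node 5765 (.leaf 0x332f911c1) (.leaf 0x332f911c1)))) (.node 5768 (.node 5767 (.leaf 0x332f911c1) (.leaf 0x332f911c1)) (.node 5769 (.leaf 0x332f911c1) (.node 5770 (.leaf 0x332f911c1) (.leaf 0x332f911c1))))))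

def candS_286 : Store := (.node 5781 (.node 5776 (.node 5773 (.node 5772 (.leaf 0x332f911c1) (.leaf 0x16332f911c1)) (.node 5774 (.leaf 0x3b6) (.node 5775 (.leaf 0x2f2) (.leaf 0x16332f911c1)))) (.node 5778 (.node 5777 (.leaf 0x16332f911c1) (.leaf 0x16332f911c1)) (.node 5779 (.leaf 0x16332f911c1) (.node 5780 (.leaf 0x18c) (.leaf 0x16332f911c1))))) (.node 5786 (.node 5783 (.node 5782 (.leaf 0x130) (.leaf 0x16332f911c1)) (.node 5784 (.leaf 0x16332f911c1) (.node 5785 (.leaf 0x332f911c1) (.leaf 0x332f911c1)))) (.node 5788 (.node 5787 (.leaf 0x332f911c1) (.leaf 0x332f911c1)) (.node 5789 (.leaf 0x332f911c1) (.node 5790 (.leaf 0x332f911c1) (.leaf 0x332f911c1))))))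

def candS_287 : Store := (.node 5801 (.node 5796 (.node 5793 (.node 5792 (.leaf 0x332f911c1) (.leaf 0x332f911c1)) (.node 5794 (.leaf 0x332f911c1) (.node 5795 (.leaf 0x332f911c1) (.leaf 0x332f911c1)))) (.node 5798 (.node 5797 (.leaf 0x332f911c1) (.leaf 0x332f911c1)) (.node 5799 (.leaf 0x332f911c1) (.node 5800 (.leaf 0x332f911c1) (.leaf 0x332f911c1))))) (.node 5806 (.node 5803 (.node 5802 (.leaf 0x332f911c1) (.leaf 0x332f911c1)) (.node 5804 (.leaf 0x332f911c1) (.node 5805 (.leaf 0x332f911c1) (.leaf 0x332f911c1)))) (.node 5808 (.node 5807 (.leaf 0x332f911c1) (.leaf 0x332f911c1)) (.node 5809 (.leaf 0x3a332f911c1) (.node 5810 (.leaf 0x3a332f911c1) (.leaf 0x3a332f911c1))))))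

def candS_288 : Store := (.node 5821 (.node 5816 (.node 5813 (.node 5812 (.leaf 0x3a332f911c1) (.leaf 0x3a332f911c1)) (.node 5814 (.leaf 0x3a332f911c1) (.node 5815 (.leaf 0x3a332f911c1) (.leaf 0x3a332f911c1)))) (.node 5818 (.node 5817 (.leaf 0x3a332f911c1) (.leaf 0x3a332f911c1)) (.node 5819 (.leaf 0x3a332f911c1) (.node 5820 (.leaf 0x3a332f911c1) (.leaf 0x8332f911c1))))) (.node 5826 (.node 5823 (.node 5822 (.leaf 0x8332f911c1) (.leaf 0x8332f911c1)) (.node 5824 (.leaf 0x8332f911c1) (.node 5825 (.leaf 0x8332f911c1) (.leaf 0x8332f911c1)))) (.node 5829 (.node 5827 (.leaf 0x8332f911c1) (.node 5828 (.leaf 0x8332f911c1) (.leaf 0x8332f911c1))) (.node 5830 (.leaf 0x8332f911c1) (.node 5831 (.leaf 0x8332f911c1) (.leaf 0x8332f911c1))))))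

def candS_289 : Store := (.node 5842 (.node 5837 (.node 5834 (.node 5833 (.leaf 0x332f911c1) (.leaf 0x332f911c1)) (.node 5835 (.leaf 0x332f911c1) (.node 5836 (.leaf 0x332f911c1) (.leaf 0x332f911c1)))) (.node 5839 (.node 5838 (.leaf 0x332f911c1) (.leaf 0x332f911c1)) (.node 5840 (.leaf 0x332f911c1) (.node 5841 (.leaf 0x332f911c1) (.leaf 0x332f911c1))))) (.node 5847 (.node 5844 (.node 5843 (.leaf 0x332f911c1) (.leaf 0x332f911c1)) (.node 5845 (.leaf 0x332f911c1) (.node 5846 (.leaf 0x332f911c1) (.leaf 0x332f911c1)))) (.node 5849 (.node 5848 (.leaf 0x332f911c1) (.leaf 0x332f911c1)) (.node 5850 (.leaf 0x332f911c1) (.node 5851 (.leaf 0x332f911c1) (.leaf 0x332f911c1))))))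

def candS_290 : Store := (.node 5862 (.node 5857 (.node 5854 (.node 5853 (.leaf 0x332f911c1) (.leaf 0x332f911c1)) (.node 5855 (.leaf 0x332f911c1) (.node 5856 (.leaf 0x332f911c1) (.leaf 0x28332f911c1)))) (.node 5859 (.node 5858 (.leaf 0x28332f911c1) (.leaf 0x28332f911c1)) (.node 5860 (.leaf 0x700028332f911c1) (.node 5861 (.leaf 0x28332f911c1) (.leaf 0x28332f911c1))))) (.node 5867 (.node 5864 (.node 5863 (.leaf 0x980028332f911c1) (.leaf 0x28332f911c1)) (.node 5865 (.leaf 0x28332f911c1) (.node 5866 (.leaf 0x28332f911c1) (.leaf 0x800028332f911c1)))) (.node 5869 (.node 5868 (.leaf 0x28332f911c1) (.leaf 0x2c332f911c1)) (.node 5870 (.leaf 0x2c332f911c1) (.node 5871 (.leaf 0x2c332f911c1) (.leaf 0x2c332f911c1))))))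

def candS_291 : Store := (.node 5882 (.node 5877 (.node 5874 (.node 5873 (.leaf 0x2c332f911c1) (.leaf 0x2c332f911c1)) (.node 5875 (.leaf 0x2c332f911c1) (.node 5876 (.leaf 0x2c332f911c1) (.leaf 0x2c332f911c1)))) (.node 5879 (.node 5878 (.leaf 0x2c332f911c1) (.leaf 0x2c332f911c1)) (.node 5880 (.leaf 0x2c332f911c1) (.node 5881 (.leaf 0x332f911c1) (.leaf 0x332f911c1))))) (.node 5887 (.node 5884 (.node 5883 (.leaf 0x332f911c1) (.leaf 0x332f911c1)) (.node 5885 (.leaf 0x332f911c1) (.node 5886 (.leaf 0x332f911c1) (.leaf 0x332f911c1)))) (.node 5889 (.node 5888 (.leaf 0x332f911c1) (.leaf 0x332f911c1)) (.node 5890 (.leaf 0x332f911c1) (.node 5891 (.leaf 0x332f911c1) (.leaf 0x332f911c1))))))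

def candS_292 : Store := (.node 5902 (.node 5897 (.node 5894 (.node 5893 (.leaf 0x18332f911c1) (.leaf 0x18332f911c1)) (.node 5895 (.leaf 0x18332f911c1) (.node 5896 (.leaf 0x18332f911c1) (.leaf 0x18332f911c1)))) (.node 5899 (.node 5898 (.leaf 0x18332f911c1) (.leaf 0x18332f911c1)) (.node 5900 (.leaf 0x18332f911c1) (.node 5901 (.leaf 0x18332f911c1) (.leaf 0x18332f911c1))))) (.node 5907 (.node 5904 (.node 5903 (.leaf 0x18332f911c1) (.leaf 0x18332f911c1)) (.node 5905 (.leaf 0x303914911c1) (.node 5906 (.leaf 0x303914911c1) (.leaf 0x303914911c1)))) (.node 5910 (.node 5908 (.leaf 0x303914911c1) (.node 5909 (.leaf 0x303914911c1) (.leaf 0x303914911c1))) (.node 5911 (.leaf 0x303914911c1) (.node 5912 (.leaf 0x303914911c1) (.leaf 0x303914911c1))))))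

def candS_293 : Store := (.node 5923 (.node 5918 (.node 5915 (.node 5914 (.leaf 0x303914911c1) (.leaf 0x303914911c1)) (.node 5916 (.leaf 0x303914911c1) (.node 5917 (.leaf 0xe3914911c1) (.leaf 0xe3914911c1)))) (.node 5920 (.node 5919 (.leaf 0xe3914911c1) (.leaf 0xe3914911c1)) (.node 5921 (.leaf 0xe3914911c1) (.node 5922 (.leaf 0xe3914911c1) (.leaf 0xe3914911c1))))) (.node 5928 (.node 5925 (.node 5924 (.leaf 0xe3914911c1) (.leaf 0xe3914911c1)) (.node 5926 (.leaf 0xe3914911c1) (.node 5927 (.leaf 0xe3914911c1) (.leaf 0xe3914911c1)))) (.node 5930 (.node 5929 (.leaf 0x3914911c1) (.leaf 0x3914911c1)) (.node 5931 (.leaf 0x3914911c1) (.node 5932 (.leaf 0x3914911c1) (.leaf 0x3914911c1))))))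

def candS_294 : Store := (.node 5943 (.node 5938 (.node 5935 (.node 5934 (.leaf 0x3914911c1) (.leaf 0x3914911c1)) (.node 5936 (.leaf 0x3914911c1) (.node 5937 (.leaf 0x3914911c1) (.leaf 0x3914911c1)))) (.node 5940 (.node 5939 (.leaf 0x3914911c1) (.leaf 0x3914911c1)) (.node 5941 (.leaf 0x2e3914911c1) (.node 5942 (.leaf 0x2e3914911c1) (.leaf 0x2e3914911c1))))) (.node 5948 (.node 5945 (.node 5944 (.leaf 0x2e3914911c1) (.leaf 0x2e3914911c1)) (.node 5946 (.leaf 0x2e3914911c1) (.node 5947 (.leaf 0x2e3914911c1) (.leaf 0x2e3914911c1)))) (.node 5950 (.node 5949 (.leaf 0x2e3914911c1) (.leaf 0x2e3914911c1)) (.node 5951 (.leaf 0x2e3914911c1) (.node 5952 (.leaf 0x2e3914911c1) (.leaf 0x3914911c1))))))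

def candS_295 : Store := (.node 5963 (.node 5958 (.node 5955 (.node 5954 (.leaf 0x3914911c1) (.leaf 0x3914911c1)) (.node 5956 (.leaf 0x3914911c1) (.node 5957 (.leaf 0x3914911c1) (.leaf 0x3914911c1)))) (.node 5960 (.node 5959 (.leaf 0x3914911c1) (.leaf 0x3914911c1)) (.node 5961 (.leaf 0x3914911c1) (.node 5962 (.leaf 0x3914911c1) (.leaf 0x3914911c1))))) (.node 5968 (.node 5965 (.node 5964 (.leaf 0x3914911c1) (.leaf 0x3914911c1)) (.node 5966 (.leaf 0x3914911c1) (.node 5967 (.leaf 0x3914911c1) (.leaf 0x3914911c1)))) (.node 5970 (.node 5969 (.leaf 0x3914911c1) (.leaf 0x3914911c1)) (.node 5971 (.leaf 0x3914911c1) (.node 5972 (.leaf 0x3914911c1) (.leaf 0x3914911c1))))))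

def candS_296 : Store := (.node 5983 (.node 5978 (.node 5975 (.node 5974 (.leaf 0x3914911c1) (.leaf 0x3914911c1)) (.node 5976 (.leaf 0x3914911c1) (.node 5977 (.leaf 0x343914911c1) (.leaf 0x343914911c1)))) (.node 5980 (.node 5979 (.leaf 0x343914911c1) (.leaf 0x343914911c1)) (.node 5981 (.leaf 0x343914911c1) (.node 5982 (.leaf 0x343914911c1) (.leaf 0x343914911c1))))) (.node 5988 (.node 5985 (.node 5984 (.leaf 0x343914911c1) (.leaf 0x343914911c1)) (.node 5986 (.leaf 0x343914911c1) (.node 5987 (.leaf 0x343914911c1) (.leaf 0x343914911c1)))) (.node 5991 (.node 5989 (.leaf 0x43914911c1) (.node 5990 (.leaf 0x43914911c1) (.leaf 0x43914911c1))) (.node 5992 (.leaf 0x43914911c1) (.node 5993 (.leaf 0x43914911c1) (.leaf 0x43914911c1))))))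

def candS_297 : Store := (.node 6004 (.node 5999 (.node 5996 (.node 5995 (.leaf 0x43914911c1) (.leaf 0x43914911c1)) (.node 5997 (.leaf 0x43914911c1) (.node 5998 (.leaf 0x43914911c1) (.leaf 0x43914911c1)))) (.node 6001 (.node 6000 (.leaf 0x43914911c1) (.leaf 0x83914911c1)) (.node 6002 (.leaf 0x83914911c1) (.node 6003 (.leaf 0x83914911c1) (.leaf 0x83914911c1))))) (.node 6009 (.node 6006 (.node 6005 (.leaf 0x83914911c1) (.leaf 0x83914911c1)) (.node 6007 (.leaf 0x83914911c1) (.node 6008 (.leaf 0x83914911c1) (.leaf 0x83914911c1)))) (.node 6011 (.node 6010 (.leaf 0x83914911c1) (.leaf 0x83914911c1)) (.node 6012 (.leaf 0x83914911c1) (.node 6013 (.leaf 0x3914911c1) (.leaf 0x3914911c1))))))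

def candS_298 : Store := (.node 6024 (.node 6019 (.node 6016 (.node 6015 (.leaf 0x3914911c1) (.leaf 0x3914911c1)) (.node 6017 (.leaf 0x3914911c1) (.node 6018 (.leaf 0x3914911c1) (.leaf 0x3914911c1)))) (.node 6021 (.node 6020 (.leaf 0x3914911c1) (.leaf 0x3914911c1)) (.node 6022 (.leaf 0x3914911c1) (.node 6023 (.leaf 0x3914911c1) (.leaf 0x3914911c1))))) (.node 6029 (.node 6026 (.node 6025 (.leaf 0x3914911c1) (.leaf 0x3914911c1)) (.node 6027 (.leaf 0x3914911c1) (.node 6028 (.leaf 0x3914911c1) (.leaf 0x3914911c1)))) (.node 6031 (.node 6030 (.leaf 0x3914911c1) (.leaf 0x3914911c1)) (.node 6032 (.leaf 0x3914911c1) (.node 6033 (.leaf 0x3914911c1) (.leaf 0x3914911c1))))))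

def candS_299 : Store := (.node 6044 (.node 6039 (.node 6036 (.node 6035 (.leaf 0x3914911c1) (.leaf 0x3914911c1)) (.node 6037 (.leaf 0x3914911c1) (.node 6038 (.leaf 0x3914911c1) (.leaf 0x3914911c1)))) (.node 6041 (.node 6040 (.leaf 0x3914911c1) (.leaf 0x3914911c1)) (.node 6042 (.leaf 0x3914911c1) (.node 6043 (.leaf 0x3914911c1) (.leaf 0x3914911c1))))) (.node 6049 (.node 6046 (.node 6045 (.leaf 0x3914911c1) (.leaf 0x3914911c1)) (.node 6047 (.leaf 0x3914911c1) (.node 6048 (.leaf 0x3914911c1) (.leaf 0x440731911c1)))) (.node 6051 (.node 6050 (.leaf 0x440731911c1) (.leaf 0x440731911c1)) (.node 6052 (.leaf 0x440731911c1) (.node 6053 (.leaf 0x440731911c1) (.leaf 0x440731911c1))))))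

def candS_300 : Store := (.node 6064 (.node 6059 (.node 6056 (.node 6055 (.leaf 0x440731911c1) (.leaf 0x440731911c1)) (.node 6057 (.leaf 0x440731911c1) (.node 6058 (.leaf 0x440731911c1) (.leaf 0x440731911c1)))) (.node 6061 (.node 6060 (.leaf 0x440731911c1) (.leaf 0x731911c1)) (.node 6062 (.leaf 0x731911c1) (.node 6063 (.leaf 0x731911c1) (.leaf 0x731911c1))))) (.node 6069 (.node 6066 (.node 6065 (.leaf 0x731911c1) (.leaf 0x731911c1)) (.node 6067 (.leaf 0x731911c1) (.node 6068 (.leaf 0x731911c1) (.leaf 0x731911c1)))) (.node 6072 (.node 6070 (.leaf 0x731911c1) (.node 6071 (.leaf 0x731911c1) (.leaf 0x731911c1))) (.node 6073 (.leaf 0x731911c1) (.node 6074 (.leaf 0x731911c1) (.leaf 0x731911c1))))))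

def candS_301 : Store := (.node 6085 (.node 6080 (.node 6077 (.node 6076 (.leaf 0x731911c1) (.leaf 0x731911c1)) (.node 6078 (.leaf 0x731911c1) (.node 6079 (.leaf 0x731911c1) (.leaf 0x731911c1)))) (.node 6082 (.node 6081 (.leaf 0x731911c1) (.leaf 0x731911c1)) (.node 6083 (.leaf 0x731911c1) (.node 6084 (.leaf 0x731911c1) (.leaf 0x160731911c1))))) (.node 6090 (.node 6087 (.node 6086 (.leaf 0x160731911c1) (.leaf 0x160731911c1)) (.node 6088 (.leaf 0x160731911c1) (.node 6089 (.leaf 0x160731911c1) (.leaf 0x160731911c1)))) (.node 6092 (.node 6091 (.leaf 0x160731911c1) (.leaf 0x160731911c1)) (.node 6093 (.leaf 0x160731911c1) (.node 6094 (.leaf 0x160731911c1) (.leaf 0x160731911c1))))))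

def candS_302 : Store := (.node 6105 (.node 6100 (.node 6097 (.node 6096 (.leaf 0x160731911c1) (.leaf 0x731911c1)) (.node 6098 (.leaf 0x731911c1) (.node 6099 (.leaf 0x731911c1) (.leaf 0x731911c1)))) (.node 6102 (.node 6101 (.leaf 0x731911c1) (.leaf 0x731911c1)) (.node 6103 (.leaf 0x731911c1) (.node 6104 (.leaf 0x731911c1) (.leaf 0x731911c1))))) (.node 6110 (.node 6107 (.node 6106 (.leaf 0x731911c1) (.leaf 0x731911c1)) (.node 6108 (.leaf 0x731911c1) (.node 6109 (.leaf 0x100731911c1) (.leaf 0x5000100731911c1)))) (.node 6112 (.node 6111 (.leaf 0x100731911c1) (.leaf 0x100731911c1)) (.node 6113 (.leaf 0x6800100731911c1) (.node 6114 (.leaf 0x100731911c1) (.leaf 0x100731911c1))))))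

def candS_303 : Store := (.node 6125 (.node 6120 (.node 6117 (.node 6116 (.leaf 0x5800100731911c1) (.leaf 0x100731911c1)) (.node 6118 (.leaf 0x800100731911c1) (.node 6119 (.leaf 0x100731911c1) (.leaf 0x100731911c1)))) (.node 6122 (.node 6121 (.leaf 0x1a0731911c1) (.leaf 0x1a0731911c1)) (.node 6123 (.leaf 0x1a0731911c1) (.node 6124 (.leaf 0x1a0731911c1) (.leaf 0x1a0731911c1))))) (.node 6130 (.node 6127 (.node 6126 (.leaf 0x1a0731911c1) (.leaf 0x1a0731911c1)) (.node 6128 (.leaf 0x1a0731911c1) (.node 6129 (.leaf 0x1a0731911c1) (.leaf 0x1a0731911c1)))) (.node 6132 (.node 6131 (.leaf 0x1a0731911c1) (.leaf 0x1a0731911c1)) (.node 6133 (.leaf 0x731911c1) (.node 6134 (.leaf 0x731911c1) (.leaf 0x731911c1))))))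

def candS_304 : Store := (.node 6145 (.node 6140 (.node 6137 (.node 6136 (.leaf 0x731911c1) (.leaf 0x731911c1)) (.node 6138 (.leaf 0x731911c1) (.node 6139 (.leaf 0x731911c1) (.leaf 0x731911c1)))) (.node 6142 (.node 6141 (.leaf 0x731911c1) (.leaf 0x731911c1)) (.node 6143 (.leaf 0x731911c1) (.node 6144 (.leaf 0x731911c1) (.leaf 0x380731911c1))))) (.node 6150 (.node 6147 (.node 6146 (.leaf 0x380731911c1) (.leaf 0x380731911c1)) (.node 6148 (.leaf 0x380731911c1) (.node 6149 (.leaf 0x380731911c1) (.leaf 0x380731911c1)))) (.node 6153 (.node 6151 (.leaf 0x380731911c1) (.node 6152 (.leaf 0x380731911c1) (.leaf 0x380731911c1))) (.node 6154 (.leaf 0x380731911c1) (.node 6155 (.leaf 0x380731911c1) (.leaf 0x380731911c1))))))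

def candS_305 : Store := (.node 6166 (.node 6161 (.node 6158 (.node 6157 (.leaf 0x731911c1) (.leaf 0x731911c1)) (.node 6159 (.leaf 0x731911c1) (.node 6160 (.leaf 0x731911c1) (.leaf 0x731911c1)))) (.node 6163 (.node 6162 (.leaf 0x731911c1) (.leaf 0x731911c1)) (.node 6164 (.leaf 0x731911c1) (.node 6165 (.leaf 0x731911c1) (.leaf 0x731911c1))))) (.node 6171 (.node 6168 (.node 6167 (.leaf 0x731911c1) (.leaf 0x731911c1)) (.node 6169 (.leaf 0x20731911c1) (.node 6170 (.leaf 0x20731911c1) (.leaf 0x20731911c1)))) (.node 6173 (.node 6172 (.leaf 0x1fa) (.leaf 0x20731911c1)) (.node 6174 (.leaf 0x20731911c1) (.node 6175 (.leaf 0x20731911c1) (.leaf 0x20731911c1))))))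

def candS_306 : Store := (.node 6186 (.node 6181 (.node 6178 (.node 6177 (.leaf 0x250) (.leaf 0x20731911c1)) (.node 6179 (.leaf 0x52) (.node 6180 (.leaf 0x1d6) (.leaf 0x731911c1)))) (.node 6183 (.node 6182 (.leaf 0x731911c1) (.leaf 0x731911c1)) (.node 6184 (.leaf 0x731911c1) (.node 6185 (.leaf 0x731911c1) (.leaf 0x731911c1))))) (.node 6191 (.node 6188 (.node 6187 (.leaf 0x731911c1) (.leaf 0x731911c1)) (.node 6189 (.leaf 0x731911c1) (.node 6190 (.leaf 0x731911c1) (.leaf 0x731911c1)))) (.node 6193 (.node 6192 (.leaf 0x731911c1) (.leaf 0x1e1d911c1)) (.node 6194 (.leaf 0x1e1d911c1) (.node 6195 (.leaf 0x1e1d911c1) (.leaf 0x1e1d911c1))))))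

def candS_307 : Store := (.node 6206 (.node 6201 (.node 6198 (.node 6197 (.leaf 0x1e1d911c1) (.leaf 0x1e1d911c1)) (.node 6199 (.leaf 0x1e1d911c1) (.node 6200 (.leaf 0x1e1d911c1) (.leaf 0x1e1d911c1)))) (.node 6203 (.node 6202 (.leaf 0x1e1d911c1) (.leaf 0x1e1d911c1)) (.node 6204 (.leaf 0x1e1d911c1) (.node 6205 (.leaf 0x321e1d911c1) (.leaf 0x2f4))))) (.node 6211 (.node 6208 (.node 6207 (.leaf 0x39a) (.leaf 0x321e1d911c1)) (.node 6209 (.leaf 0x18e) (.node 6210 (.leaf 0x321e1d911c1) (.leaf 0x321e1d911c1)))) (.node 6213 (.node 6212 (.leaf 0x321e1d911c1) (.leaf 0x321e1d911c1)) (.node 6214 (.leaf 0x132) (.node 6215 (.leaf 0x321e1d911c1) (.leaf 0x321e1d911c1))))))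

def candS_308 : Store := (.node 6226 (.node 6221 (.node 6218 (.node 6217 (.leaf 0x241e1d911c1) (.leaf 0x241e1d911c1)) (.node 6219 (.leaf 0x241e1d911c1) (.node 6220 (.leaf 0x241e1d911c1) (.leaf 0x241e1d911c1)))) (.node 6223 (.node 6222 (.leaf 0x241e1d911c1) (.leaf 0x241e1d911c1)) (.node 6224 (.leaf 0x241e1d911c1) (.node 6225 (.leaf 0x241e1d911c1) (.leaf 0x241e1d911c1))))) (.node 6231 (.node 6228 (.node 6227 (.leaf 0x241e1d911c1) (.leaf 0x241e1d911c1)) (.node 6229 (.leaf 0x1e1d911c1) (.node 6230 (.leaf 0x1e1d911c1) (.leaf 0x1e1d911c1)))) (.node 6234 (.node 6232 (.leaf 0x1e1d911c1) (.node 6233 (.leaf 0x1e1d911c1) (.leaf 0x1e1d911c1))) (.node 6235 (.leaf 0x1e1d911c1) (.node 6236 (.leaf 0x1e1d911c1) (.leaf 0x1e1d911c1))))))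

def candS_309 : Store := (.node 6247 (.node 6242 (.node 6239 (.node 6238 (.leaf 0x1e1d911c1) (.leaf 0x1e1d911c1)) (.node 6240 (.leaf 0x1e1d911c1) (.node 6241 (.leaf 0x2a1e1d911c1) (.leaf 0x2a1e1d911c1)))) (.node 6244 (.node 6243 (.leaf 0x2a1e1d911c1) (.leaf 0x2a1e1d911c1)) (.node 6245 (.leaf 0x2a1e1d911c1) (.node 6246 (.leaf 0x2a1e1d911c1) (.leaf 0x2a1e1d911c1))))) (.node 6252 (.node 6249 (.node 6248 (.leaf 0x2a1e1d911c1) (.leaf 0x2a1e1d911c1)) (.node 6250 (.leaf 0x2a1e1d911c1) (.node 6251 (.leaf 0x2a1e1d911c1) (.leaf 0x2a1e1d911c1)))) (.node 6254 (.node 6253 (.leaf 0x181e1d911c1) (.leaf 0x181e1d911c1)) (.node 6255 (.leaf 0x181e1d911c1) (.node 6256 (.leaf 0x181e1d911c1) (.leaf 0x181e1d911c1))))))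

def candS_310 : Store := (.node 6267 (.node 6262 (.node 6259 (.node 6258 (.leaf 0x181e1d911c1) (.leaf 0x181e1d911c1)) (.node 6260 (.leaf 0x181e1d911c1) (.node 6261 (.leaf 0x181e1d911c1) (.leaf 0x181e1d911c1)))) (.node 6264 (.node 6263 (.leaf 0x181e1d911c1) (.leaf 0x181e1d911c1)) (.node 6265 (.leaf 0xa1e1d911c1) (.node 6266 (.leaf 0xa1e1d911c1) (.leaf 0xa1e1d911c1))))) (.node 6272 (.node 6269 (.node 6268 (.leaf 0x38000a1e1d911c1) (.leaf 0xa1e1d911c1)) (.node 6270 (.leaf 0xa1e1d911c1) (.node 6271 (.leaf 0x28000a1e1d911c1) (.leaf 0xa1e1d911c1)))) (.node 6274 (.node 6273 (.leaf 0xa1e1d911c1) (.leaf 0xa1e1d911c1)) (.node 6275 (.leaf 0x18000a1e1d911c1) (.node 6276 (.leaf 0x90000a1e1d911c1) (.leaf 0x1e1d911c1))))))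

def candS_311 : Store := (.node 6287 (.node 6282 (.node 6279 (.node 6278 (.leaf 0x1e1d911c1) (.leaf 0x1e1d911c1)) (.node 6280 (.leaf 0x1e1d911c1) (.node 6281 (.leaf 0x1e1d911c1) (.leaf 0x1e1d911c1)))) (.node 6284 (.node 6283 (.leaf 0x1e1d911c1) (.leaf 0x1e1d911c1)) (.node 6285 (.leaf 0x1e1d911c1) (.node 6286 (.leaf 0x1e1d911c1) (.leaf 0x1e1d911c1))))) (.node 6292 (.node 6289 (.node 6288 (.leaf 0x1e1d911c1) (.leaf 0x1e1d911c1)) (.node 6290 (.leaf 0x1e1d911c1) (.node 6291 (.leaf 0x1e1d911c1) (.leaf 0x1e1d911c1)))) (.node 6294 (.node 6293 (.leaf 0x1e1d911c1) (.leaf 0x1e1d911c1)) (.node 6295 (.leaf 0x1e1d911c1) (.node 6296 (.leaf 0x1e1d911c1) (.leaf 0x1e1d911c1))))))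

def candS_312 : Store := (.node 6307 (.node 6302 (.node 6299 (.node 6298 (.leaf 0x1e1d911c1) (.leaf 0x1e1d911c1)) (.node 6300 (.leaf 0x1e1d911c1) (.node 6301 (.leaf 0x1e1d911c1) (.leaf 0x1e1d911c1)))) (.node 6304 (.node 6303 (.leaf 0x1e1d911c1) (.leaf 0x1e1d911c1)) (.node 6305 (.leaf 0x1e1d911c1) (.node 6306 (.leaf 0x1e1d911c1) (.leaf 0x1e1d911c1))))) (.node 6312 (.node 6309 (.node 6308 (.leaf 0x1e1d911c1) (.leaf 0x1e1d911c1)) (.node 6310 (.leaf 0x1e1d911c1) (.node 6311 (.leaf 0x1e1d911c1) (.leaf 0x1e1d911c1)))) (.node 6315 (.node 6313 (.leaf 0x1e1d911c1) (.node 6314 (.leaf 0x1e1d911c1) (.leaf 0x1e1d911c1))) (.node 6316 (.leaf 0x1e1d911c1) (.node 6317 (.leaf 0x1e1d911c1) (.leaf 0x1e1d911c1))))))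

def candS_313 : Store := (.node 6328 (.node 6323 (.node 6320 (.node 6319 (.leaf 0x1e1d911c1) (.leaf 0x1e1d911c1)) (.node 6321 (.leaf 0x1e1d911c1) (.node 6322 (.leaf 0x1e1d911c1) (.leaf 0x1e1d911c1)))) (.node 6325 (.node 6324 (.leaf 0x1e1d911c1) (.leaf 0x1e1d911c1)) (.node 6326 (.leaf 0x1e1d911c1) (.node 6327 (.leaf 0x1e1d911c1) (.leaf 0x1e1d911c1))))) (.node 6333 (.node 6330 (.node 6329 (.leaf 0x1e1d911c1) (.leaf 0x1e1d911c1)) (.node 6331 (.leaf 0x1e1d911c1) (.node 6332 (.leaf 0x1e1d911c1) (.leaf 0x1e1d911c1)))) (.node 6335 (.node 6334 (.leaf 0x1e1d911c1) (.leaf 0x1e1d911c1)) (.node 6336 (.leaf 0x1e1d911c1) (.node 6337 (.leaf 0x282606911c1) (.leaf 0x282606911c1))))))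

def candS_314 : Store := (.node 6348 (.node 6343 (.node 6340 (.node 6339 (.leaf 0x282606911c1) (.leaf 0x282606911c1)) (.node 6341 (.leaf 0x282606911c1) (.node 6342 (.leaf 0x282606911c1) (.leaf 0x282606911c1)))) (.node 6345 (.node 6344 (.leaf 0x282606911c1) (.leaf 0x282606911c1)) (.node 6346 (.leaf 0x282606911c1) (.node 6347 (.leaf 0x282606911c1) (.leaf 0x282606911c1))))) (.node 6353 (.node 6350 (.node 6349 (.leaf 0x2606911c1) (.leaf 0x2606911c1)) (.node 6351 (.leaf 0x2606911c1) (.node 6352 (.leaf 0x2606911c1) (.leaf 0x2606911c1)))) (.node 6355 (.node 6354 (.leaf 0x2606911c1) (.leaf 0x2606911c1)) (.node 6356 (.leaf 0x2606911c1) (.node 6357 (.leaf 0x2606911c1) (.leaf 0x2606911c1))))))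

def candS_315 : Store := (.node 6368 (.node 6363 (.node 6360 (.node 6359 (.leaf 0x2606911c1) (.leaf 0x2606911c1)) (.node 6361 (.leaf 0x2606911c1) (.node 6362 (.leaf 0x2606911c1) (.leaf 0x2606911c1)))) (.node 6365 (.node 6364 (.leaf 0x2606911c1) (.leaf 0x2606911c1)) (.node 6366 (.leaf 0x2606911c1) (.node 6367 (.leaf 0x2606911c1) (.leaf 0x2606911c1))))) (.node 6373 (.node 6370 (.node 6369 (.leaf 0x2606911c1) (.leaf 0x2606911c1)) (.node 6371 (.leaf 0x2606911c1) (.node 6372 (.leaf 0x2606911c1) (.leaf 0x202606911c1)))) (.node 6375 (.node 6374 (.leaf 0x202606911c1) (.leaf 0x202606911c1)) (.node 6376 (.leaf 0x202606911c1) (.node 6377 (.leaf 0x202606911c1) (.leaf 0x202606911c1))))))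

def candS_316 : Store := (.node 6388 (.node 6383 (.node 6380 (.node 6379 (.leaf 0x202606911c1) (.leaf 0x202606911c1)) (.node 6381 (.leaf 0x202606911c1) (.node 6382 (.leaf 0x202606911c1) (.leaf 0x202606911c1)))) (.node 6385 (.node 6384 (.leaf 0x202606911c1) (.leaf 0x2606911c1)) (.node 6386 (.leaf 0x2606911c1) (.node 6387 (.leaf 0x2606911c1) (.leaf 0x2606911c1))))) (.node 6393 (.node 6390 (.node 6389 (.leaf 0x2606911c1) (.leaf 0x2606911c1)) (.node 6391 (.leaf 0x2606911c1) (.node 6392 (.leaf 0x2606911c1) (.leaf 0x2606911c1)))) (.node 6396 (.node 6394 (.leaf 0x2606911c1) (.node 6395 (.leaf 0x2606911c1) (.leaf 0x2606911c1))) (.node 6397 (.leaf 0x2606911c1) (.node 6398 (.leaf 0x2606911c1) (.leaf 0x2606911c1))))))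

def candS_317 : Store := (.node 6409 (.node 6404 (.node 6401 (.node 6400 (.leaf 0x2606911c1) (.leaf 0x2606911c1)) (.node 6402 (.leaf 0x2606911c1) (.node 6403 (.leaf 0x2606911c1) (.leaf 0x2606911c1)))) (.node 6406 (.node 6405 (.leaf 0x2606911c1) (.leaf 0x2606911c1)) (.node 6407 (.leaf 0x2606911c1) (.node 6408 (.leaf 0x2606911c1) (.leaf 0x2606911c1))))) (.node 6414 (.node 6411 (.node 6410 (.leaf 0x2606911c1) (.leaf 0x2606911c1)) (.node 6412 (.leaf 0x2606911c1) (.node 6413 (.leaf 0x2606911c1) (.leaf 0x2606911c1)))) (.node 6416 (.node 6415 (.leaf 0x2606911c1) (.leaf 0x2606911c1)) (.node 6417 (.leaf 0x2606911c1) (.node 6418 (.leaf 0x2606911c1) (.leaf 0x2606911c1))))))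

def candS_318 : Store := (.node 6429 (.node 6424 (.node 6421 (.node 6420 (.leaf 0x2606911c1) (.leaf 0x302606911c1)) (.node 6422 (.leaf 0x302606911c1) (.node 6423 (.leaf 0x302606911c1) (.leaf 0x302606911c1)))) (.node 6426 (.node 6425 (.leaf 0x302606911c1) (.leaf 0x302606911c1)) (.node 6427 (.leaf 0x302606911c1) (.node 6428 (.leaf 0x302606911c1) (.leaf 0x302606911c1))))) (.node 6434 (.node 6431 (.node 6430 (.leaf 0x302606911c1) (.leaf 0x302606911c1)) (.node 6432 (.leaf 0x302606911c1) (.node 6433 (.leaf 0x242606911c1) (.leaf 0x242606911c1)))) (.node 6436 (.node 6435 (.leaf 0x242606911c1) (.leaf 0x242606911c1)) (.node 6437 (.leaf 0x242606911c1) (.node 6438 (.leaf 0x242606911c1) (.leaf 0x242606911c1))))))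

def candS_319 : Store := (.node 6449 (.node 6444 (.node 6441 (.node 6440 (.leaf 0x242606911c1) (.leaf 0x242606911c1)) (.node 6442 (.leaf 0x242606911c1) (.node 6443 (.leaf 0x242606911c1) (.leaf 0x242606911c1)))) (.node 6446 (.node 6445 (.leaf 0x2606911c1) (.leaf 0x2606911c1)) (.node 6447 (.leaf 0x2606911c1) (.node 6448 (.leaf 0x2606911c1) (.leaf 0x2606911c1))))) (.node 6454 (.node 6451 (.node 6450 (.leaf 0x2606911c1) (.leaf 0x2606911c1)) (.node 6452 (.leaf 0x2606911c1) (.node 6453 (.leaf 0x2606911c1) (.leaf 0x2606911c1)))) (.node 6456 (.node 6455 (.leaf 0x2606911c1) (.leaf 0x2606911c1)) (.node 6457 (.leaf 0x3c2606911c1) (.node 6458 (.leaf 0x3c2606911c1) (.leaf 0x3c2606911c1))))))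

def candS_320 : Store := (.node 6469 (.node 6464 (.node 6461 (.node 6460 (.leaf 0xc6) (.leaf 0x3c2606911c1)) (.node 6462 (.leaf 0x3c2606911c1) (.node 6463 (.leaf 0x33c) (.leaf 0x3c2606911c1)))) (.node 6466 (.node 6465 (.leaf 0x3c2606911c1) (.leaf 0x3c2606911c1)) (.node 6467 (.leaf 0x384) (.node 6468 (.leaf 0x232) (.leaf 0x3a2606911c1))))) (.node 6474 (.node 6471 (.node 6470 (.leaf 0x98003a2606911c1) (.leaf 0x80003a2606911c1)) (.node 6472 (.leaf 0x3a2606911c1) (.node 6473 (.leaf 0x3a2606911c1) (.leaf 0x3a2606911c1)))) (.node 6477 (.node 6475 (.leaf 0x3a2606911c1) (.node 6476 (.leaf 0x3a2606911c1) (.leaf 0x3a2606911c1))) (.node 6478 (.leaf 0x70003a2606911c1) (.node 6479 (.leaf 0x3a2606911c1) (.leaf 0x3a2606911c1))))))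

def candS_321 : Store := (.node 6490 (.node 6485 (.node 6482 (.node 6481 (.leaf 0x41a05111c1) (.leaf 0x41a05111c1)) (.node 6483 (.leaf 0x41a05111c1) (.node 6484 (.leaf 0x41a05111c1) (.leaf 0x41a05111c1)))) (.node 6487 (.node 6486 (.leaf 0x41a05111c1) (.leaf 0x800041a05111c1)) (.node 6488 (.leaf 0x41a05111c1) (.node 6489 (.leaf 0x5800041a05111c1) (.leaf 0x41a05111c1))))) (.node 6495 (.node 6492 (.node 6491 (.leaf 0x6800041a05111c1) (.leaf 0x5000041a05111c1)) (.node 6493 (.leaf 0xe1a05111c1) (.node 6494 (.leaf 0x16a) (.leaf 0x2fc)))) (.node 6497 (.node 6496 (.leaf 0xe1a05111c1) (.leaf 0x2c6)) (.node 6498 (.leaf 0xe1a05111c1) (.node 6499 (.leaf 0xe1a05111c1) (.leaf 0x3b0))))))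

def candS_322 : Store := (.node 6510 (.node 6505 (.node 6502 (.node 6501 (.leaf 0xe1a05111c1) (.leaf 0xe1a05111c1)) (.node 6503 (.leaf 0xe1a05111c1) (.node 6504 (.leaf 0xe1a05111c1) (.leaf 0x1a05111c1)))) (.node 6507 (.node 6506 (.leaf 0x1a05111c1) (.leaf 0x1a05111c1)) (.node 6508 (.leaf 0x1a05111c1) (.node 6509 (.leaf 0x1a05111c1) (.leaf 0x1a05111c1))))) (.node 6515 (.node 6512 (.node 6511 (.leaf 0x1a05111c1) (.leaf 0x1a05111c1)) (.node 6513 (.leaf 0x1a05111c1) (.node 6514 (.leaf 0x1a05111c1) (.leaf 0x1a05111c1)))) (.node 6517 (.node 6516 (.leaf 0x1a05111c1) (.leaf 0x1a05111c1)) (.node 6518 (.leaf 0x1a05111c1) (.node 6519 (.leaf 0x1a05111c1) (.leaf 0x1a05111c1))))))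

def candS_323 : Store := (.node 6530 (.node 6525 (.node 6522 (.node 6521 (.leaf 0x1a05111c1) (.leaf 0x1a05111c1)) (.node 6523 (.leaf 0x1a05111c1) (.node 6524 (.leaf 0x1a05111c1) (.leaf 0x1a05111c1)))) (.node 6527 (.node 6526 (.leaf 0x1a05111c1) (.leaf 0x1a05111c1)) (.node 6528 (.leaf 0x1a05111c1) (.node 6529 (.leaf 0x1a05111c1) (.leaf 0x1a05111c1))))) (.node 6535 (.node 6532 (.node 6531 (.leaf 0x1a05111c1) (.leaf 0x1a05111c1)) (.node 6533 (.leaf 0x1a05111c1) (.node 6534 (.leaf 0x1a05111c1) (.leaf 0x1a05111c1)))) (.node 6537 (.node 6536 (.leaf 0x1a05111c1) (.leaf 0x1a05111c1)) (.node 6538 (.leaf 0x1a05111c1) (.node 6539 (.leaf 0x1a05111c1) (.leaf 0x1a05111c1))))))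

def candS_324 : Store := (.node 6550 (.node 6545 (.node 6542 (.node 6541 (.leaf 0x121a05111c1) (.leaf 0x121a05111c1)) (.node 6543 (.leaf 0x121a05111c1) (.node 6544 (.leaf 0x121a05111c1) (.leaf 0x121a05111c1)))) (.node 6547 (.node 6546 (.leaf 0x121a05111c1) (.leaf 0x121a05111c1)) (.node 6548 (.leaf 0x121a05111c1) (.node 6549 (.leaf 0x121a05111c1) (.leaf 0x121a05111c1))))) (.node 6555 (.node 6552 (.node 6551 (.leaf 0x121a05111c1) (.leaf 0x121a05111c1)) (.node 6553 (.leaf 0x1a05111c1) (.node 6554 (.leaf 0x1a05111c1) (.leaf 0x1a05111c1)))) (.node 6558 (.node 6556 (.leaf 0x1a05111c1) (.node 6557 (.leaf 0x1a05111c1) (.leaf 0x1a05111c1))) (.node 6559 (.leaf 0x1a05111c1) (.node 6560 (.leaf 0x1a05111c1) (.leaf 0x1a05111c1))))))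

def candS_325 : Store := (.node 6571 (.node 6566 (.node 6563 (.node 6562 (.leaf 0x1a05111c1) (.leaf 0x1a05111c1)) (.node 6564 (.leaf 0x1a05111c1) (.node 6565 (.leaf 0x1a05111c1) (.leaf 0x1a05111c1)))) (.node 6568 (.node 6567 (.leaf 0x1a05111c1) (.leaf 0x1a05111c1)) (.node 6569 (.leaf 0x1a05111c1) (.node 6570 (.leaf 0x1a05111c1) (.leaf 0x1a05111c1))))) (.node 6576 (.node 6573 (.node 6572 (.leaf 0x1a05111c1) (.leaf 0x1a05111c1)) (.node 6574 (.leaf 0x1a05111c1) (.node 6575 (.leaf 0x1a05111c1) (.leaf 0x1a05111c1)))) (.node 6578 (.node 6577 (.leaf 0x1a05111c1) (.leaf 0x1a05111c1)) (.node 6579 (.leaf 0x1a05111c1) (.node 6580 (.leaf 0x1a05111c1) (.leaf 0x1a05111c1))))))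

def candS_326 : Store := (.node 6591 (.node 6586 (.node 6583 (.node 6582 (.leaf 0x1a05111c1) (.leaf 0x1a05111c1)) (.node 6584 (.leaf 0x1a05111c1) (.node 6585 (.leaf 0x1a05111c1) (.leaf 0x1a05111c1)))) (.node 6588 (.node 6587 (.leaf 0x1a05111c1) (.leaf 0x1a05111c1)) (.node 6589 (.leaf 0x1e1a05111c1) (.node 6590 (.leaf 0x1e1a05111c1) (.leaf 0x1e1a05111c1))))) (.node 6596 (.node 6593 (.node 6592 (.leaf 0x1e1a05111c1) (.leaf 0x1e1a05111c1)) (.node 6594 (.leaf 0x1e1a05111c1) (.node 6595 (.leaf 0x1e1a05111c1) (.leaf 0x1e1a05111c1)))) (.node 6598 (.node 6597 (.leaf 0x1e1a05111c1) (.leaf 0x1e1a05111c1)) (.node 6599 (.leaf 0x1e1a05111c1) (.node 6600 (.leaf 0x1e1a05111c1) (.leaf 0x1a05111c1))))))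

def candS_327 : Store := (.node 6611 (.node 6606 (.node 6603 (.node 6602 (.leaf 0x1a05111c1) (.leaf 0x1a05111c1)) (.node 6604 (.leaf 0x1a05111c1) (.node 6605 (.leaf 0x1a05111c1) (.leaf 0x1a05111c1)))) (.node 6608 (.node 6607 (.leaf 0x1a05111c1) (.leaf 0x1a05111c1)) (.node 6609 (.leaf 0x1a05111c1) (.node 6610 (.leaf 0x1a05111c1) (.leaf 0x1a05111c1))))) (.node 6616 (.node 6613 (.node 6612 (.leaf 0x1a05111c1) (.leaf 0x141a05111c1)) (.node 6614 (.leaf 0x141a05111c1) (.node 6615 (.leaf 0x141a05111c1) (.leaf 0x141a05111c1)))) (.node 6618 (.node 6617 (.leaf 0x141a05111c1) (.leaf 0x141a05111c1)) (.node 6619 (.leaf 0x141a05111c1) (.node 6620 (.leaf 0x141a05111c1) (.leaf 0x141a05111c1))))))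

def candS_328 : Store := (.node 6631 (.node 6626 (.node 6623 (.node 6622 (.leaf 0x141a05111c1) (.leaf 0x141a05111c1)) (.node 6624 (.leaf 0x141a05111c1) (.node 6625 (.leaf 0x64821911c1) (.leaf 0x64821911c1)))) (.node 6628 (.node 6627 (.leaf 0x64821911c1) (.leaf 0x64821911c1)) (.node 6629 (.leaf 0x64821911c1) (.node 6630 (.leaf 0x64821911c1) (.leaf 0x64821911c1))))) (.node 6636 (.node 6633 (.node 6632 (.leaf 0x64821911c1) (.leaf 0x64821911c1)) (.node 6634 (.leaf 0x64821911c1) (.node 6635 (.leaf 0x64821911c1) (.leaf 0x64821911c1)))) (.node 6639 (.node 6637 (.leaf 0x4821911c1) (.node 6638 (.leaf 0x4821911c1) (.leaf 0x4821911c1))) (.node 6640 (.leaf 0x4821911c1) (.node 6641 (.leaf 0x4821911c1) (.leaf 0x4821911c1))))))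

def candS_329 : Store := (.node 6652 (.node 6647 (.node 6644 (.node 6643 (.leaf 0x4821911c1) (.leaf 0x4821911c1)) (.node 6645 (.leaf 0x4821911c1) (.node 6646 (.leaf 0x4821911c1) (.leaf 0x4821911c1)))) (.node 6649 (.node 6648 (.leaf 0x4821911c1) (.leaf 0x4821911c1)) (.node 6650 (.leaf 0x4821911c1) (.node 6651 (.leaf 0x4821911c1) (.leaf 0x4821911c1))))) (.node 6657 (.node 6654 (.node 6653 (.leaf 0x4821911c1) (.leaf 0x4821911c1)) (.node 6655 (.leaf 0x4821911c1) (.node 6656 (.leaf 0x4821911c1) (.leaf 0x4821911c1)))) (.node 6659 (.node 6658 (.leaf 0x4821911c1) (.leaf 0x4821911c1)) (.node 6660 (.leaf 0x4821911c1) (.node 6661 (.leaf 0x4821911c1) (.leaf 0x4821911c1))))))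

def candS_330 : Store := (.node 6672 (.node 6667 (.node 6664 (.node 6663 (.leaf 0x4821911c1) (.leaf 0x4821911c1)) (.node 6665 (.leaf 0x4821911c1) (.node 6666 (.leaf 0x4821911c1) (.leaf 0x4821911c1)))) (.node 6669 (.node 6668 (.leaf 0x4821911c1) (.leaf 0x4821911c1)) (.node 6670 (.leaf 0x4821911c1) (.node 6671 (.leaf 0x4821911c1) (.leaf 0x4821911c1))))) (.node 6677 (.node 6674 (.node 6673 (.leaf 0x4821911c1) (.leaf 0x4821911c1)) (.node 6675 (.leaf 0x4821911c1) (.node 6676 (.leaf 0x4821911c1) (.leaf 0x4821911c1)))) (.node 6679 (.node 6678 (.leaf 0x4821911c1) (.leaf 0x4821911c1)) (.node 6680 (.leaf 0x4821911c1) (.node 6681 (.leaf 0x4821911c1) (.leaf 0x4821911c1))))))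

def candS_331 : Store := (.node 6692 (.node 6687 (.node 6684 (.node 6683 (.leaf 0x4821911c1) (.leaf 0x4821911c1)) (.node 6685 (.leaf 0x4821911c1) (.node 6686 (.leaf 0x4821911c1) (.leaf 0x4821911c1)))) (.node 6689 (.node 6688 (.leaf 0x4821911c1) (.leaf 0x4821911c1)) (.node 6690 (.leaf 0x4821911c1) (.node 6691 (.leaf 0x4821911c1) (.leaf 0x4821911c1))))) (.node 6697 (.node 6694 (.node 6693 (.leaf 0x4821911c1) (.leaf 0x4821911c1)) (.node 6695 (.leaf 0x4821911c1) (.node 6696 (.leaf 0x4821911c1) (.leaf 0x424821911c1)))) (.node 6699 (.node 6698 (.leaf 0x424821911c1) (.leaf 0x424821911c1)) (.node 6700 (.leaf 0x424821911c1) (.node 6701 (.leaf 0x424821911c1) (.leaf 0x424821911c1))))))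

def candS_332 : Store := (.node 6712 (.node 6707 (.node 6704 (.node 6703 (.leaf 0x424821911c1) (.leaf 0x424821911c1)) (.node 6705 (.leaf 0x424821911c1) (.node 6706 (.leaf 0x424821911c1) (.leaf 0x424821911c1)))) (.node 6709 (.node 6708 (.leaf 0x424821911c1) (.leaf 0x1c4821911c1)) (.node 6710 (.leaf 0x1c4821911c1) (.node 6711 (.leaf 0x1c4821911c1) (.leaf 0x1c4821911c1))))) (.node 6717 (.node 6714 (.node 6713 (.leaf 0x1c4821911c1) (.leaf 0x1c4821911c1)) (.node 6715 (.leaf 0x1c4821911c1) (.node 6716 (.leaf 0x1c4821911c1) (.leaf 0x1c4821911c1)))) (.node 6720 (.node 6718 (.leaf 0x1c4821911c1) (.node 6719 (.leaf 0x1c4821911c1) (.leaf 0x1c4821911c1))) (.node 6721 (.leaf 0x3a4821911c1) (.node 6722 (.leaf 0x3a4821911c1) (.leaf 0x3a4821911c1))))))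

def candS_333 : Store := (.node 6733 (.node 6728 (.node 6725 (.node 6724 (.leaf 0x3a4821911c1) (.leaf 0x3a4821911c1)) (.node 6726 (.leaf 0x3a4821911c1) (.node 6727 (.leaf 0x3a4821911c1) (.leaf 0x3a4821911c1)))) (.node 6730 (.node 6729 (.leaf 0x3a4821911c1) (.leaf 0x3a4821911c1)) (.node 6731 (.leaf 0x3a4821911c1) (.node 6732 (.leaf 0x3a4821911c1) (.leaf 0x3c4821911c1))))) (.node 6738 (.node 6735 (.node 6734 (.leaf 0x3c4821911c1) (.leaf 0x8003c4821911c1)) (.node 6736 (.leaf 0x3c4821911c1) (.node 6737 (.leaf 0x68003c4821911c1) (.leaf 0x3c4821911c1)))) (.node 6740 (.node 6739 (.leaf 0x3c4821911c1) (.leaf 0x50003c4821911c1)) (.node 6741 (.leaf 0x3c4821911c1) (.node 6742 (.leaf 0x58003c4821911c1) (.leaf 0x3c4821911c1))))))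

def candS_334 : Store := (.node 6753 (.node 6748 (.node 6745 (.node 6744 (.leaf 0x3c4821911c1) (.leaf 0x144821911c1)) (.node 6746 (.leaf 0x144821911c1) (.node 6747 (.leaf 0x144821911c1) (.leaf 0xcc)))) (.node 6750 (.node 6749 (.leaf 0x144821911c1) (.leaf 0x144821911c1)) (.node 6751 (.leaf 0x54) (.node 6752 (.leaf 0x144821911c1) (.leaf 0x35e))))) (.node 6758 (.node 6755 (.node 6754 (.leaf 0x144821911c1) (.leaf 0x144821911c1)) (.node 6756 (.leaf 0x210) (.node 6757 (.leaf 0x4821911c1) (.leaf 0x4821911c1)))) (.node 6760 (.node 6759 (.leaf 0x4821911c1) (.leaf 0x4821911c1)) (.node 6761 (.leaf 0x4821911c1) (.node 6762 (.leaf 0x4821911c1) (.leaf 0x4821911c1))))))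

def candS_335 : Store := (.node 6773 (.node 6768 (.node 6765 (.node 6764 (.leaf 0x4821911c1) (.leaf 0x4821911c1)) (.node 6766 (.leaf 0x4821911c1) (.node 6767 (.leaf 0x4821911c1) (.leaf 0x4821911c1)))) (.node 6770 (.node 6769 (.leaf 0x2a3b2c911c1) (.leaf 0x2a3b2c911c1)) (.node 6771 (.leaf 0x2a3b2c911c1) (.node 6772 (.leaf 0x2a3b2c911c1) (.leaf 0x2a3b2c911c1))))) (.node 6778 (.node 6775 (.node 6774 (.leaf 0x2a3b2c911c1) (.leaf 0x2a3b2c911c1)) (.node 6776 (.leaf 0x2a3b2c911c1) (.node 6777 (.leaf 0x2a3b2c911c1) (.leaf 0x2a3b2c911c1)))) (.node 6780 (.node 6779 (.leaf 0x2a3b2c911c1) (.leaf 0x2a3b2c911c1)) (.node 6781 (.leaf 0x3b2c911c1) (.node 6782 (.leaf 0x3b2c911c1) (.leaf 0x3b2c911c1))))))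

def candS_336 : Store := (.node 6793 (.node 6788 (.node 6785 (.node 6784 (.leaf 0x3b2c911c1) (.leaf 0x3b2c911c1)) (.node 6786 (.leaf 0x3b2c911c1) (.node 6787 (.leaf 0x3b2c911c1) (.leaf 0x3b2c911c1)))) (.node 6790 (.node 6789 (.leaf 0x3b2c911c1) (.leaf 0x3b2c911c1)) (.node 6791 (.leaf 0x3b2c911c1) (.node 6792 (.leaf 0x3b2c911c1) (.leaf 0x423b2c911c1))))) (.node 6798 (.node 6795 (.node 6794 (.leaf 0x6800423b2c911c1) (.leaf 0x5800423b2c911c1)) (.node 6796 (.leaf 0x423b2c911c1) (.node 6797 (.leaf 0x423b2c911c1) (.leaf 0x423b2c911c1)))) (.node 6801 (.node 6799 (.leaf 0x423b2c911c1) (.node 6800 (.leaf 0x5000423b2c911c1) (.leaf 0x423b2c911c1))) (.node 6802 (.leaf 0x800423b2c911c1) (.node 6803 (.leaf 0x423b2c911c1) (.leaf 0x423b2c911c1))))))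

def candS_337 : Store := (.node 6814 (.node 6809 (.node 6806 (.node 6805 (.leaf 0x2e3b2c911c1) (.leaf 0x2e3b2c911c1)) (.node 6807 (.leaf 0x2e3b2c911c1) (.node 6808 (.leaf 0x2e3b2c911c1) (.leaf 0x2e3b2c911c1)))) (.node 6811 (.node 6810 (.leaf 0x2e3b2c911c1) (.leaf 0x2e3b2c911c1)) (.node 6812 (.leaf 0x2e3b2c911c1) (.node 6813 (.leaf 0x2e3b2c911c1) (.leaf 0x2e3b2c911c1))))) (.node 6819 (.node 6816 (.node 6815 (.leaf 0x2e3b2c911c1) (.leaf 0x2e3b2c911c1)) (.node 6817 (.leaf 0x3b2c911c1) (.node 6818 (.leaf 0x3b2c911c1) (.leaf 0x3b2c911c1)))) (.node 6821 (.node 6820 (.leaf 0x3b2c911c1) (.leaf 0x3b2c911c1)) (.node 6822 (.leaf 0x3b2c911c1) (.node 6823 (.leaf 0x3b2c911c1) (.leaf 0x3b2c911c1))))))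

def candS_338 : Store := (.node 6834 (.node 6829 (.node 6826 (.node 6825 (.leaf 0x3b2c911c1) (.leaf 0x3b2c911c1)) (.node 6827 (.leaf 0x3b2c911c1) (.node 6828 (.leaf 0x3b2c911c1) (.leaf 0x3b2c911c1)))) (.node 6831 (.node 6830 (.leaf 0x3b2c911c1) (.leaf 0x3b2c911c1)) (.node 6832 (.leaf 0x3b2c911c1) (.node 6833 (.leaf 0x3b2c911c1) (.leaf 0x3b2c911c1))))) (.node 6839 (.node 6836 (.node 6835 (.leaf 0x3b2c911c1) (.leaf 0x3b2c911c1)) (.node 6837 (.leaf 0x3b2c911c1) (.node 6838 (.leaf 0x3b2c911c1) (.leaf 0x3b2c911c1)))) (.node 6841 (.node 6840 (.leaf 0x3b2c911c1) (.leaf 0x1e3b2c911c1)) (.node 6842 (.leaf 0x1e3b2c911c1) (.node 6843 (.leaf 0x1e3b2c911c1) (.leaf 0x1e3b2c911c1))))))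

def candS_339 : Store := (.node 6854 (.node 6849 (.node 6846 (.node 6845 (.leaf 0x1e3b2c911c1) (.leaf 0x1e3b2c911c1)) (.node 6847 (.leaf 0x1e3b2c911c1) (.node 6848 (.leaf 0x1e3b2c911c1) (.leaf 0x1e3b2c911c1)))) (.node 6851 (.node 6850 (.leaf 0x1e3b2c911c1) (.leaf 0x1e3b2c911c1)) (.node 6852 (.leaf 0x1e3b2c911c1) (.node 6853 (.leaf 0x1a3b2c911c1) (.leaf 0x1a3b2c911c1))))) (.node 6859 (.node 6856 (.node 6855 (.leaf 0x1a3b2c911c1) (.leaf 0x1a3b2c911c1)) (.node 6857 (.leaf 0x1a3b2c911c1) (.node 6858 (.leaf 0x1a3b2c911c1) (.leaf 0x1a3b2c911c1)))) (.node 6861 (.node 6860 (.leaf 0x1a3b2c911c1) (.leaf 0x1a3b2c911c1)) (.node 6862 (.leaf 0x1a3b2c911c1) (.node 6863 (.leaf 0x1a3b2c911c1) (.leaf 0x1a3b2c911c1))))))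

def candS_340 : Store := (.node 6874 (.node 6869 (.node 6866 (.node 6865 (.leaf 0x3b2c911c1) (.leaf 0x3b2c911c1)) (.node 6867 (.leaf 0x3b2c911c1) (.node 6868 (.leaf 0x3b2c911c1) (.leaf 0x3b2c911c1)))) (.node 6871 (.node 6870 (.leaf 0x3b2c911c1) (.leaf 0x3b2c911c1)) (.node 6872 (.leaf 0x3b2c911c1) (.node 6873 (.leaf 0x3b2c911c1) (.leaf 0x3b2c911c1))))) (.node 6879 (.node 6876 (.node 6875 (.leaf 0x3b2c911c1) (.leaf 0x3b2c911c1)) (.node 6877 (.leaf 0x3b2c911c1) (.node 6878 (.leaf 0x3b2c911c1) (.leaf 0x3b2c911c1)))) (.node 6882 (.node 6880 (.leaf 0x3b2c911c1) (.node 6881 (.leaf 0x3b2c911c1) (.leaf 0x3b2c911c1))) (.node 6883 (.leaf 0x3b2c911c1) (.node 6884 (.leaf 0x3b2c911c1) (.leaf 0x3b2c911c1))))))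

def candS_341 : Store := (.node 6895 (.node 6890 (.node 6887 (.node 6886 (.leaf 0x3b2c911c1) (.leaf 0x3b2c911c1)) (.node 6888 (.leaf 0x3b2c911c1) (.node 6889 (.leaf 0x3c3b2c911c1) (.leaf 0x3c3b2c911c1)))) (.node 6892 (.node 6891 (.leaf 0x3c3b2c911c1) (.leaf 0xc4)) (.node 6893 (.leaf 0x3c3b2c911c1) (.node 6894 (.leaf 0x3c3b2c911c1) (.leaf 0x382))))) (.node 6900 (.node 6897 (.node 6896 (.leaf 0x3c3b2c911c1) (.leaf 0x230)) (.node 6898 (.leaf 0x3c3b2c911c1) (.node 6899 (.leaf 0x370) (.leaf 0x3c3b2c911c1)))) (.node 6902 (.node 6901 (.leaf 0x3b2c911c1) (.leaf 0x3b2c911c1)) (.node 6903 (.leaf 0x3b2c911c1) (.node 6904 (.leaf 0x3b2c911c1) (.leaf 0x3b2c911c1))))))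

def candS_342 : Store := (.node 6915 (.node 6910 (.node 6907 (.node 6906 (.leaf 0x3b2c911c1) (.leaf 0x3b2c911c1)) (.node 6908 (.leaf 0x3b2c911c1) (.node 6909 (.leaf 0x3b2c911c1) (.leaf 0x3b2c911c1)))) (.node 6912 (.node 6911 (.leaf 0x3b2c911c1) (.leaf 0x3b2c911c1)) (.node 6913 (.leaf 0x22011fae197) (.node 6914 (.leaf 0x22011fae197) (.leaf 0x22011fae197))))) (.node 6920 (.node 6917 (.node 6916 (.leaf 0x22011fae197) (.leaf 0x22011fae197)) (.node 6918 (.leaf 0x22011fae197) (.node 6919 (.leaf 0x22011fae197) (.leaf 0x22011fae197)))) (.node 6922 (.node 6921 (.leaf 0x22011fae197) (.leaf 0x22011fae197)) (.node 6923 (.leaf 0x22011fae197) (.node 6924 (.leaf 0x22011fae197) (.leaf 0x11fae197))))))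

def candS_343 : Store := (.node 6935 (.node 6930 (.node 6927 (.node 6926 (.leaf 0x11fae197) (.leaf 0x11fae197)) (.node 6928 (.leaf 0x11fae197) (.node 6929 (.leaf 0x11fae197) (.leaf 0x11fae197)))) (.node 6932 (.node 6931 (.leaf 0x11fae197) (.leaf 0x11fae197)) (.node 6933 (.leaf 0x11fae197) (.node 6934 (.leaf 0x11fae197) (.leaf 0x11fae197))))) (.node 6940 (.node 6937 (.node 6936 (.leaf 0x11fae197) (.leaf 0x11fae197)) (.node 6938 (.leaf 0x11fae197) (.node 6939 (.leaf 0x11fae197) (.leaf 0x11fae197)))) (.node 6942 (.node 6941 (.leaf 0x11fae197) (.leaf 0x11fae197)) (.node 6943 (.leaf 0x11fae197) (.node 6944 (.leaf 0x11fae197) (.leaf 0x11fae197))))))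

def candS_344 : Store := (.node 6955 (.node 6950 (.node 6947 (.node 6946 (.leaf 0x11fae197) (.leaf 0x11fae197)) (.node 6948 (.leaf 0x11fae197) (.node 6949 (.leaf 0x11fae197) (.leaf 0x11fae197)))) (.node 6952 (.node 6951 (.leaf 0x11fae197) (.leaf 0x11fae197)) (.node 6953 (.leaf 0x11fae197) (.node 6954 (.leaf 0x11fae197) (.leaf 0x11fae197))))) (.node 6960 (.node 6957 (.node 6956 (.leaf 0x11fae197) (.leaf 0x11fae197)) (.node 6958 (.leaf 0x11fae197) (.node 6959 (.leaf 0x11fae197) (.leaf 0x11fae197)))) (.node 6963 (.node 6961 (.leaf 0x11fae197) (.node 6962 (.leaf 0x11fae197) (.leaf 0x11fae197))) (.node 6964 (.leaf 0x11fae197) (.node 6965 (.leaf 0x11fae197) (.leaf 0x11fae197))))))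

def candS_345 : Store := (.node 6976 (.node 6971 (.node 6968 (.node 6967 (.leaf 0x11fae197) (.leaf 0x11fae197)) (.node 6969 (.leaf 0x11fae197) (.node 6970 (.leaf 0x11fae197) (.leaf 0x11fae197)))) (.node 6973 (.node 6972 (.leaf 0x11fae197) (.leaf 0x1a011fae197)) (.node 6974 (.leaf 0x1a011fae197) (.node 6975 (.leaf 0x1a011fae197) (.leaf 0xf2))))) (.node 6981 (.node 6978 (.node 6977 (.leaf 0x1a011fae197) (.leaf 0x1a011fae197)) (.node 6979 (.leaf 0x1a011fae197) (.node 6980 (.leaf 0x1a011fae197) (.leaf 0x262)))) (.node 6983 (.node 6982 (.leaf 0x1a011fae197) (.leaf 0x258)) (.node 6984 (.leaf 0x1be) (.node 6985 (.leaf 0x30011fae197) (.leaf 0x30011fae197))))))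

def candS_346 : Store := (.node 6996 (.node 6991 (.node 6988 (.node 6987 (.leaf 0x30011fae197) (.leaf 0x30011fae197)) (.node 6989 (.leaf 0x30011fae197) (.node 6990 (.leaf 0x30011fae197) (.leaf 0x30011fae197)))) (.node 6993 (.node 6992 (.leaf 0x30011fae197) (.leaf 0x30011fae197)) (.node 6994 (.leaf 0x30011fae197) (.node 6995 (.leaf 0x30011fae197) (.leaf 0x30011fae197))))) (.node 7001 (.node 6998 (.node 6997 (.leaf 0x11fae197) (.leaf 0x11fae197)) (.node 6999 (.leaf 0x11fae197) (.node 7000 (.leaf 0x11fae197) (.leaf 0x11fae197)))) (.node 7003 (.node 7002 (.leaf 0x11fae197) (.leaf 0x11fae197)) (.node 7004 (.leaf 0x11fae197) (.node 7005 (.leaf 0x11fae197) (.leaf 0x11fae197))))))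

def candS_347 : Store := (.node 7016 (.node 7011 (.node 7008 (.node 7007 (.leaf 0x11fae197) (.leaf 0x11fae197)) (.node 7009 (.leaf 0x2c011fae197) (.node 7010 (.leaf 0x2c011fae197) (.leaf 0x2c011fae197)))) (.node 7013 (.node 7012 (.leaf 0x2c011fae197) (.leaf 0x2c011fae197)) (.node 7014 (.leaf 0x2c011fae197) (.node 7015 (.leaf 0x2c011fae197) (.leaf 0x2c011fae197))))) (.node 7021 (.node 7018 (.node 7017 (.leaf 0x2c011fae197) (.leaf 0x2c011fae197)) (.node 7019 (.leaf 0x2c011fae197) (.node 7020 (.leaf 0x2c011fae197) (.leaf 0x11fae197)))) (.node 7023 (.node 7022 (.leaf 0x11fae197) (.leaf 0x11fae197)) (.node 7024 (.leaf 0x11fae197) (.node 7025 (.leaf 0x11fae197) (.leaf 0x11fae197))))))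

def candS_348 : Store := (.node 7036 (.node 7031 (.node 7028 (.node 7027 (.leaf 0x11fae197) (.leaf 0x11fae197)) (.node 7029 (.leaf 0x11fae197) (.node 7030 (.leaf 0x11fae197) (.leaf 0x11fae197)))) (.node 7033 (.node 7032 (.leaf 0x11fae197) (.leaf 0xc011fae197)) (.node 7034 (.leaf 0x98000c011fae197) (.node 7035 (.leaf 0xc011fae197) (.leaf 0xc011fae197))))) (.node 7041 (.node 7038 (.node 7037 (.leaf 0x80000c011fae197) (.leaf 0xc011fae197)) (.node 7039 (.leaf 0xc011fae197) (.node 7040 (.leaf 0xc011fae197) (.leaf 0xc011fae197)))) (.node 7044 (.node 7042 (.leaf 0x70000c011fae197) (.node 7043 (.leaf 0xc011fae197) (.leaf 0xc011fae197))) (.node 7045 (.leaf 0x11fae197) (.node 7046 (.leaf 0x11fae197) (.leaf 0x11fae197))))))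

def candS_349 : Store := (.node 7057 (.node 7052 (.node 7049 (.node 7048 (.leaf 0x11fae197) (.leaf 0x11fae197)) (.node 7050 (.leaf 0x11fae197) (.node 7051 (.leaf 0x11fae197) (.leaf 0x11fae197)))) (.node 7054 (.node 7053 (.leaf 0x11fae197) (.leaf 0x11fae197)) (.node 7055 (.leaf 0x11fae197) (.node 7056 (.leaf 0x11fae197) (.leaf 0x4b22ae197))))) (.node 7062 (.node 7059 (.node 7058 (.leaf 0x4b22ae197) (.leaf 0x4b22ae197)) (.node 7060 (.leaf 0x4b22ae197) (.node 7061 (.leaf 0x4b22ae197) (.leaf 0x4b22ae197)))) (.node 7064 (.node 7063 (.leaf 0x4b22ae197) (.leaf 0x4b22ae197)) (.node 7065 (.leaf 0x4b22ae197) (.node 7066 (.leaf 0x4b22ae197) (.leaf 0x4b22ae197))))))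

def candS_350 : Store := (.node 7077 (.node 7072 (.node 7069 (.node 7068 (.leaf 0x4b22ae197) (.leaf 0x4b22ae197)) (.node 7070 (.leaf 0x4b22ae197) (.node 7071 (.leaf 0x4b22ae197) (.leaf 0x4b22ae197)))) (.node 7074 (.node 7073 (.leaf 0x4b22ae197) (.leaf 0x4b22ae197)) (.node 7075 (.leaf 0x4b22ae197) (.node 7076 (.leaf 0x4b22ae197) (.leaf 0x4b22ae197))))) (.node 7082 (.node 7079 (.node 7078 (.leaf 0x4b22ae197) (.leaf 0x4b22ae197)) (.node 7080 (.leaf 0x4b22ae197) (.node 7081 (.leaf 0x224b22ae197) (.leaf 0x224b22ae197)))) (.node 7084 (.node 7083 (.leaf 0x224b22ae197) (.leaf 0x224b22ae197)) (.node 7085 (.leaf 0x224b22ae197) (.node 7086 (.leaf 0x224b22ae197) (.leaf 0x224b22ae197))))))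

def candS_351 : Store := (.node 7097 (.node 7092 (.node 7089 (.node 7088 (.leaf 0x224b22ae197) (.leaf 0x224b22ae197)) (.node 7090 (.leaf 0x224b22ae197) (.node 7091 (.leaf 0x224b22ae197) (.leaf 0x224b22ae197)))) (.node 7094 (.node 7093 (.leaf 0x80002e4b22ae197) (.leaf 0x2e4b22ae197)) (.node 7095 (.leaf 0x2e4b22ae197) (.node 7096 (.leaf 0x70002e4b22ae197) (.leaf 0x2e4b22ae197))))) (.node 7102 (.node 7099 (.node 7098 (.leaf 0x2e4b22ae197) (.leaf 0x2e4b22ae197)) (.node 7100 (.leaf 0x2e4b22ae197) (.node 7101 (.leaf 0x98002e4b22ae197) (.leaf 0x2e4b22ae197)))) (.node 7104 (.node 7103 (.leaf 0x2e4b22ae197) (.leaf 0x2e4b22ae197)) (.node 7105 (.leaf 0x424b22ae197) (.node 7106 (.leaf 0x424b22ae197) (.leaf 0x424b22ae197))))))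

def candS_352 : Store := (.node 7117 (.node 7112 (.node 7109 (.node 7108 (.leaf 0x424b22ae197) (.leaf 0x424b22ae197)) (.node 7110 (.leaf 0x424b22ae197) (.node 7111 (.leaf 0x424b22ae197) (.leaf 0x424b22ae197)))) (.node 7114 (.node 7113 (.leaf 0x424b22ae197) (.leaf 0x424b22ae197)) (.node 7115 (.leaf 0x424b22ae197) (.node 7116 (.leaf 0x424b22ae197) (.leaf 0x4b22ae197))))) (.node 7122 (.node 7119 (.node 7118 (.leaf 0x4b22ae197) (.leaf 0x4b22ae197)) (.node 7120 (.leaf 0x4b22ae197) (.node 7121 (.leaf 0x4b22ae197) (.leaf 0x4b22ae197)))) (.node 7125 (.node 7123 (.leaf 0x4b22ae197) (.node 7124 (.leaf 0x4b22ae197) (.leaf 0x4b22ae197))) (.node 7126 (.leaf 0x4b22ae197) (.node 7127 (.leaf 0x4b22ae197) (.leaf 0x4b22ae197))))))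

def candS_353 : Store := (.node 7138 (.node 7133 (.node 7130 (.node 7129 (.leaf 0x4b22ae197) (.leaf 0x4b22ae197)) (.node 7131 (.leaf 0x4b22ae197) (.node 7132 (.leaf 0x4b22ae197) (.leaf 0x4b22ae197)))) (.node 7135 (.node 7134 (.leaf 0x4b22ae197) (.leaf 0x4b22ae197)) (.node 7136 (.leaf 0x4b22ae197) (.node 7137 (.leaf 0x4b22ae197) (.leaf 0x4b22ae197))))) (.node 7143 (.node 7140 (.node 7139 (.leaf 0x4b22ae197) (.leaf 0x4b22ae197)) (.node 7141 (.leaf 0x164b22ae197) (.node 7142 (.leaf 0x164b22ae197) (.leaf 0x164b22ae197)))) (.node 7145 (.node 7144 (.leaf 0x164b22ae197) (.leaf 0x162)) (.node 7146 (.leaf 0x24) (.node 7147 (.leaf 0x164b22ae197) (.leaf 0xa0))))))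

def candS_354 : Store := (.node 7158 (.node 7153 (.node 7150 (.node 7149 (.leaf 0x164b22ae197) (.leaf 0x31a)) (.node 7151 (.leaf 0x164b22ae197) (.node 7152 (.leaf 0x164b22ae197) (.leaf 0x4b22ae197)))) (.node 7155 (.node 7154 (.leaf 0x4b22ae197) (.leaf 0x4b22ae197)) (.node 7156 (.leaf 0x4b22ae197) (.node 7157 (.leaf 0x4b22ae197) (.leaf 0x4b22ae197))))) (.node 7163 (.node 7160 (.node 7159 (.leaf 0x4b22ae197) (.leaf 0x4b22ae197)) (.node 7161 (.leaf 0x4b22ae197) (.node 7162 (.leaf 0x4b22ae197) (.leaf 0x4b22ae197)))) (.node 7165 (.node 7164 (.leaf 0x4b22ae197) (.leaf 0x4b22ae197)) (.node 7166 (.leaf 0x4b22ae197) (.node 7167 (.leaf 0x4b22ae197) (.leaf 0x4b22ae197))))))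

def candS_355 : Store := (.node 7178 (.node 7173 (.node 7170 (.node 7169 (.leaf 0x4b22ae197) (.leaf 0x4b22ae197)) (.node 7171 (.leaf 0x4b22ae197) (.node 7172 (.leaf 0x4b22ae197) (.leaf 0x4b22ae197)))) (.node 7175 (.node 7174 (.leaf 0x4b22ae197) (.leaf 0x4b22ae197)) (.node 7176 (.leaf 0x4b22ae197) (.node 7177 (.leaf 0x324b22ae197) (.leaf 0x324b22ae197))))) (.node 7183 (.node 7180 (.node 7179 (.leaf 0x324b22ae197) (.leaf 0x324b22ae197)) (.node 7181 (.leaf 0x324b22ae197) (.node 7182 (.leaf 0x324b22ae197) (.leaf 0x324b22ae197)))) (.node 7185 (.node 7184 (.leaf 0x324b22ae197) (.leaf 0x324b22ae197)) (.node 7186 (.leaf 0x324b22ae197) (.node 7187 (.leaf 0x324b22ae197) (.leaf 0x324b22ae197))))))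

def candS_356 : Store := (.node 7198 (.node 7193 (.node 7190 (.node 7189 (.leaf 0xe4b22ae197) (.leaf 0xe4b22ae197)) (.node 7191 (.leaf 0xe4b22ae197) (.node 7192 (.leaf 0xe4b22ae197) (.leaf 0xe4b22ae197)))) (.node 7195 (.node 7194 (.leaf 0xe4b22ae197) (.leaf 0xe4b22ae197)) (.node 7196 (.leaf 0xe4b22ae197) (.node 7197 (.leaf 0xe4b22ae197) (.leaf 0xe4b22ae197))))) (.node 7203 (.node 7200 (.node 7199 (.leaf 0xe4b22ae197) (.leaf 0xe4b22ae197)) (.node 7201 (.leaf 0x38382b2e197) (.node 7202 (.leaf 0x38382b2e197) (.leaf 0x38382b2e197)))) (.node 7206 (.node 7204 (.leaf 0x38382b2e197) (.node 7205 (.leaf 0x38382b2e197) (.leaf 0x38382b2e197))) (.node 7207 (.leaf 0x38382b2e197) (.node 7208 (.leaf 0x38382b2e197) (.leaf 0x38382b2e197))))))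

def candS_357 : Store := (.node 7219 (.node 7214 (.node 7211 (.node 7210 (.leaf 0x38382b2e197) (.leaf 0x38382b2e197)) (.node 7212 (.leaf 0x38382b2e197) (.node 7213 (.leaf 0x16382b2e197) (.leaf 0x16382b2e197)))) (.node 7216 (.node 7215 (.leaf 0x16382b2e197) (.leaf 0x16382b2e197)) (.node 7217 (.leaf 0x16382b2e197) (.node 7218 (.leaf 0x16382b2e197) (.leaf 0x16382b2e197))))) (.node 7224 (.node 7221 (.node 7220 (.leaf 0x16382b2e197) (.leaf 0x16382b2e197)) (.node 7222 (.leaf 0x16382b2e197) (.node 7223 (.leaf 0x16382b2e197) (.leaf 0x16382b2e197)))) (.node 7226 (.node 7225 (.leaf 0x382b2e197) (.leaf 0x382b2e197)) (.node 7227 (.leaf 0x382b2e197) (.node 7228 (.leaf 0x382b2e197) (.leaf 0x382b2e197))))))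

def candS_358 : Store := (.node 7239 (.node 7234 (.node 7231 (.node 7230 (.leaf 0x382b2e197) (.leaf 0x382b2e197)) (.node 7232 (.leaf 0x382b2e197) (.node 7233 (.leaf 0x382b2e197) (.leaf 0x382b2e197)))) (.node 7236 (.node 7235 (.leaf 0x382b2e197) (.leaf 0x382b2e197)) (.node 7237 (.leaf 0x1a382b2e197) (.node 7238 (.leaf 0x1a382b2e197) (.leaf 0x1a382b2e197))))) (.node 7244 (.node 7241 (.node 7240 (.leaf 0x1a382b2e197) (.leaf 0x1a382b2e197)) (.node 7242 (.leaf 0x1a382b2e197) (.node 7243 (.leaf 0x1a382b2e197) (.leaf 0x1a382b2e197)))) (.node 7246 (.node 7245 (.leaf 0x1a382b2e197) (.leaf 0x1a382b2e197)) (.node 7247 (.leaf 0x1a382b2e197) (.node 7248 (.leaf 0x1a382b2e197) (.leaf 0x382b2e197))))))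

def candS_359 : Store := (.node 7259 (.node 7254 (.node 7251 (.node 7250 (.leaf 0x382b2e197) (.leaf 0x382b2e197)) (.node 7252 (.leaf 0x382b2e197) (.node 7253 (.leaf 0x382b2e197) (.leaf 0x382b2e197)))) (.node 7256 (.node 7255 (.leaf 0x382b2e197) (.leaf 0x382b2e197)) (.node 7257 (.leaf 0x382b2e197) (.node 7258 (.leaf 0x382b2e197) (.leaf 0x382b2e197))))) (.node 7264 (.node 7261 (.node 7260 (.leaf 0x382b2e197) (.leaf 0x382b2e197)) (.node 7262 (.leaf 0x382b2e197) (.node 7263 (.leaf 0x382b2e197) (.leaf 0x382b2e197)))) (.node 7266 (.node 7265 (.leaf 0x382b2e197) (.leaf 0x382b2e197)) (.node 7267 (.leaf 0x382b2e197) (.node 7268 (.leaf 0x382b2e197) (.leaf 0x382b2e197))))))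

def candS_360 : Store := (.node 7279 (.node 7274 (.node 7271 (.node 7270 (.leaf 0x382b2e197) (.leaf 0x382b2e197)) (.node 7272 (.leaf 0x382b2e197) (.node 7273 (.leaf 0x44382b2e197) (.leaf 0x44382b2e197)))) (.node 7276 (.node 7275 (.leaf 0x44382b2e197) (.leaf 0x44382b2e197)) (.node 7277 (.leaf 0x44382b2e197) (.node 7278 (.leaf 0x44382b2e197) (.leaf 0x44382b2e197))))) (.node 7284 (.node 7281 (.node 7280 (.leaf 0x44382b2e197) (.leaf 0x44382b2e197)) (.node 7282 (.leaf 0x44382b2e197) (.node 7283 (.leaf 0x44382b2e197) (.leaf 0x44382b2e197)))) (.node 7287 (.node 7285 (.leaf 0x10382b2e197) (.node 7286 (.leaf 0x10382b2e197) (.leaf 0x10382b2e197))) (.node 7288 (.leaf 0x10382b2e197) (.node 7289 (.leaf 0x10382b2e197) (.leaf 0x10382b2e197))))))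

def candS_361 : Store := (.node 7300 (.node 7295 (.node 7292 (.node 7291 (.leaf 0x10382b2e197) (.leaf 0x10382b2e197)) (.node 7293 (.leaf 0x10382b2e197) (.node 7294 (.leaf 0x10382b2e197) (.leaf 0x10382b2e197)))) (.node 7297 (.node 7296 (.leaf 0x10382b2e197) (.leaf 0x2382b2e197)) (.node 7298 (.leaf 0x2382b2e197) (.node 7299 (.leaf 0x2382b2e197) (.leaf 0x2382b2e197))))) (.node 7305 (.node 7302 (.node 7301 (.leaf 0x2382b2e197) (.leaf 0x2382b2e197)) (.node 7303 (.leaf 0x2382b2e197) (.node 7304 (.leaf 0x2382b2e197) (.leaf 0x2382b2e197)))) (.node 7307 (.node 7306 (.leaf 0x2382b2e197) (.leaf 0x2382b2e197)) (.node 7308 (.leaf 0x2382b2e197) (.node 7309 (.leaf 0x382b2e197) (.leaf 0x382b2e197))))))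

def candS_362 : Store := (.node 7320 (.node 7315 (.node 7312 (.node 7311 (.leaf 0x382b2e197) (.leaf 0x382b2e197)) (.node 7313 (.leaf 0x382b2e197) (.node 7314 (.leaf 0x382b2e197) (.leaf 0x382b2e197)))) (.node 7317 (.node 7316 (.leaf 0x382b2e197) (.leaf 0x382b2e197)) (.node 7318 (.leaf 0x382b2e197) (.node 7319 (.leaf 0x382b2e197) (.leaf 0x382b2e197))))) (.node 7325 (.node 7322 (.node 7321 (.leaf 0x382b2e197) (.leaf 0x382b2e197)) (.node 7323 (.leaf 0x382b2e197) (.node 7324 (.leaf 0x382b2e197) (.leaf 0x382b2e197)))) (.node 7327 (.node 7326 (.leaf 0x382b2e197) (.leaf 0x382b2e197)) (.node 7328 (.leaf 0x382b2e197) (.node 7329 (.leaf 0x382b2e197) (.leaf 0x382b2e197))))))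

def candS_363 : Store := (.node 7340 (.node 7335 (.node 7332 (.node 7331 (.leaf 0x382b2e197) (.leaf 0x382b2e197)) (.node 7333 (.leaf 0x382b2e197) (.node 7334 (.leaf 0x382b2e197) (.leaf 0x382b2e197)))) (.node 7337 (.node 7336 (.leaf 0x382b2e197) (.leaf 0x382b2e197)) (.node 7338 (.leaf 0x382b2e197) (.node 7339 (.leaf 0x382b2e197) (.leaf 0x382b2e197))))) (.node 7345 (.node 7342 (.node 7341 (.leaf 0x382b2e197) (.leaf 0x382b2e197)) (.node 7343 (.leaf 0x382b2e197) (.node 7344 (.leaf 0x382b2e197) (.leaf 0x3937ae197)))) (.node 7347 (.node 7346 (.leaf 0x3937ae197) (.leaf 0x3937ae197)) (.node 7348 (.leaf 0x3937ae197) (.node 7349 (.leaf 0x3937ae197) (.leaf 0x3937ae197))))))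

def candS_364 : Store := (.node 7360 (.node 7355 (.node 7352 (.node 7351 (.leaf 0x3937ae197) (.leaf 0x3937ae197)) (.node 7353 (.leaf 0x3937ae197) (.node 7354 (.leaf 0x3937ae197) (.leaf 0x3937ae197)))) (.node 7357 (.node 7356 (.leaf 0x3937ae197) (.leaf 0xe3937ae197)) (.node 7358 (.leaf 0xe3937ae197) (.node 7359 (.leaf 0xe3937ae197) (.leaf 0xe3937ae197))))) (.node 7365 (.node 7362 (.node 7361 (.leaf 0xe3937ae197) (.leaf 0xe3937ae197)) (.node 7363 (.leaf 0xe3937ae197) (.node 7364 (.leaf 0xe3937ae197) (.leaf 0xe3937ae197)))) (.node 7368 (.node 7366 (.leaf 0xe3937ae197) (.node 7367 (.leaf 0xe3937ae197) (.leaf 0xe3937ae197))) (.node 7369 (.leaf 0x3937ae197) (.node 7370 (.leaf 0x3937ae197) (.leaf 0x3937ae197))))))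

def candS_365 : Store := (.node 7381 (.node 7376 (.node 7373 (.node 7372 (.leaf 0x3937ae197) (.leaf 0x3937ae197)) (.node 7374 (.leaf 0x3937ae197) (.node 7375 (.leaf 0x3937ae197) (.leaf 0x3937ae197)))) (.node 7378 (.node 7377 (.leaf 0x3937ae197) (.leaf 0x3937ae197)) (.node 7379 (.leaf 0x3937ae197) (.node 7380 (.leaf 0x3937ae197) (.leaf 0x263937ae197))))) (.node 7386 (.node 7383 (.node 7382 (.leaf 0x263937ae197) (.leaf 0x263937ae197)) (.node 7384 (.leaf 0x263937ae197) (.node 7385 (.leaf 0x263937ae197) (.leaf 0x263937ae197)))) (.node 7388 (.node 7387 (.leaf 0x263937ae197) (.leaf 0x263937ae197)) (.node 7389 (.leaf 0x263937ae197) (.node 7390 (.leaf 0x263937ae197) (.leaf 0x263937ae197))))))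

def candS_366 : Store := (.node 7401 (.node 7396 (.node 7393 (.node 7392 (.leaf 0x263937ae197) (.leaf 0x343937ae197)) (.node 7394 (.leaf 0x7800343937ae197) (.node 7395 (.leaf 0x343937ae197) (.leaf 0x343937ae197)))) (.node 7398 (.node 7397 (.leaf 0x2000343937ae197) (.leaf 0x6000343937ae197)) (.node 7399 (.leaf 0x343937ae197) (.node 7400 (.leaf 0x3000343937ae197) (.leaf 0x343937ae197))))) (.node 7406 (.node 7403 (.node 7402 (.leaf 0x343937ae197) (.leaf 0x343937ae197)) (.node 7404 (.leaf 0x343937ae197) (.node 7405 (.leaf 0x1c6) (.leaf 0x243937ae197)))) (.node 7408 (.node 7407 (.leaf 0x243937ae197) (.leaf 0x243937ae197)) (.node 7409 (.leaf 0x243937ae197) (.node 7410 (.leaf 0x243937ae197) (.leaf 0x243937ae197))))))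

def candS_367 : Store := (.node 7421 (.node 7416 (.node 7413 (.node 7412 (.leaf 0x243937ae197) (.leaf 0x1b0)) (.node 7414 (.leaf 0x243937ae197) (.node 7415 (.leaf 0x358) (.leaf 0x25e)))) (.node 7418 (.node 7417 (.leaf 0x1c3937ae197) (.leaf 0x1c3937ae197)) (.node 7419 (.leaf 0x1c3937ae197) (.node 7420 (.leaf 0x1c3937ae197) (.leaf 0x1c3937ae197))))) (.node 7426 (.node 7423 (.node 7422 (.leaf 0x1c3937ae197) (.leaf 0x1c3937ae197)) (.node 7424 (.leaf 0x1c3937ae197) (.node 7425 (.leaf 0x1c3937ae197) (.leaf 0x1c3937ae197)))) (.node 7428 (.node 7427 (.leaf 0x1c3937ae197) (.leaf 0x1c3937ae197)) (.node 7429 (.leaf 0x3937ae197) (.node 7430 (.leaf 0x3937ae197) (.leaf 0x3937ae197))))))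

def candS_368 : Store := (.node 7441 (.node 7436 (.node 7433 (.node 7432 (.leaf 0x3937ae197) (.leaf 0x3937ae197)) (.node 7434 (.leaf 0x3937ae197) (.node 7435 (.leaf 0x3937ae197) (.leaf 0x3937ae197)))) (.node 7438 (.node 7437 (.leaf 0x3937ae197) (.leaf 0x3937ae197)) (.node 7439 (.leaf 0x3937ae197) (.node 7440 (.leaf 0x3937ae197) (.leaf 0x383937ae197))))) (.node 7446 (.node 7443 (.node 7442 (.leaf 0x383937ae197) (.leaf 0x383937ae197)) (.node 7444 (.leaf 0x383937ae197) (.node 7445 (.leaf 0x383937ae197) (.leaf 0x383937ae197)))) (.node 7449 (.node 7447 (.leaf 0x383937ae197) (.node 7448 (.leaf 0x383937ae197) (.leaf 0x383937ae197))) (.node 7450 (.leaf 0x383937ae197) (.node 7451 (.leaf 0x383937ae197) (.leaf 0x383937ae197))))))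

def candS_369 : Store := (.node 7462 (.node 7457 (.node 7454 (.node 7453 (.leaf 0x3937ae197) (.leaf 0x3937ae197)) (.node 7455 (.leaf 0x3937ae197) (.node 7456 (.leaf 0x3937ae197) (.leaf 0x3937ae197)))) (.node 7459 (.node 7458 (.leaf 0x3937ae197) (.leaf 0x3937ae197)) (.node 7460 (.leaf 0x3937ae197) (.node 7461 (.leaf 0x3937ae197) (.leaf 0x3937ae197))))) (.node 7467 (.node 7464 (.node 7463 (.leaf 0x3937ae197) (.leaf 0x3937ae197)) (.node 7465 (.leaf 0x3937ae197) (.node 7466 (.leaf 0x3937ae197) (.leaf 0x3937ae197)))) (.node 7469 (.node 7468 (.leaf 0x3937ae197) (.leaf 0x3937ae197)) (.node 7470 (.leaf 0x3937ae197) (.node 7471 (.leaf 0x3937ae197) (.leaf 0x3937ae197))))))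

def candS_370 : Store := (.node 7482 (.node 7477 (.node 7474 (.node 7473 (.leaf 0x3937ae197) (.leaf 0x3937ae197)) (.node 7475 (.leaf 0x3937ae197) (.node 7476 (.leaf 0x3937ae197) (.leaf 0x3937ae197)))) (.node 7479 (.node 7478 (.leaf 0x3937ae197) (.leaf 0x3937ae197)) (.node 7480 (.leaf 0x3937ae197) (.node 7481 (.leaf 0x3937ae197) (.leaf 0x3937ae197))))) (.node 7487 (.node 7484 (.node 7483 (.leaf 0x3937ae197) (.leaf 0x3937ae197)) (.node 7485 (.leaf 0x3937ae197) (.node 7486 (.leaf 0x3937ae197) (.leaf 0x3937ae197)))) (.node 7489 (.node 7488 (.leaf 0x3937ae197) (.leaf 0x27ae197)) (.node 7490 (.leaf 0x27ae197) (.node 7491 (.leaf 0x27ae197) (.leaf 0x27ae197))))))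

def candS_371 : Store := (.node 7502 (.node 7497 (.node 7494 (.node 7493 (.leaf 0x27ae197) (.leaf 0x27ae197)) (.node 7495 (.leaf 0x27ae197) (.node 7496 (.leaf 0x27ae197) (.leaf 0x27ae197)))) (.node 7499 (.node 7498 (.leaf 0x27ae197) (.leaf 0x27ae197)) (.node 7500 (.leaf 0x27ae197) (.node 7501 (.leaf 0x27ae197) (.leaf 0x27ae197))))) (.node 7507 (.node 7504 (.node 7503 (.leaf 0x27ae197) (.leaf 0x27ae197)) (.node 7505 (.leaf 0x27ae197) (.node 7506 (.leaf 0x27ae197) (.leaf 0x27ae197)))) (.node 7509 (.node 7508 (.leaf 0x27ae197) (.leaf 0x27ae197)) (.node 7510 (.leaf 0x27ae197) (.node 7511 (.leaf 0x27ae197) (.leaf 0x27ae197))))))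

def candS_372 : Store := (.node 7522 (.node 7517 (.node 7514 (.node 7513 (.leaf 0x27ae197) (.leaf 0x27ae197)) (.node 7515 (.leaf 0x27ae197) (.node 7516 (.leaf 0x27ae197) (.leaf 0x27ae197)))) (.node 7519 (.node 7518 (.leaf 0x27ae197) (.leaf 0x27ae197)) (.node 7520 (.leaf 0x27ae197) (.node 7521 (.leaf 0x27ae197) (.leaf 0x27ae197))))) (.node 7527 (.node 7524 (.node 7523 (.leaf 0x27ae197) (.leaf 0x27ae197)) (.node 7525 (.leaf 0x27ae197) (.node 7526 (.leaf 0x27ae197) (.leaf 0x27ae197)))) (.node 7530 (.node 7528 (.leaf 0x27ae197) (.node 7529 (.leaf 0x27ae197) (.leaf 0x27ae197))) (.node 7531 (.leaf 0x27ae197) (.node 7532 (.leaf 0x27ae197) (.leaf 0x27ae197))))))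

def candS_373 : Store := (.node 7543 (.node 7538 (.node 7535 (.node 7534 (.leaf 0x27ae197) (.leaf 0x27ae197)) (.node 7536 (.leaf 0x27ae197) (.node 7537 (.leaf 0x340027ae197) (.leaf 0x340027ae197)))) (.node 7540 (.node 7539 (.leaf 0x340027ae197) (.leaf 0x340027ae197)) (.node 7541 (.leaf 0x340027ae197) (.node 7542 (.leaf 0x340027ae197) (.leaf 0x340027ae197))))) (.node 7548 (.node 7545 (.node 7544 (.leaf 0x340027ae197) (.leaf 0x340027ae197)) (.node 7546 (.leaf 0x340027ae197) (.node 7547 (.leaf 0x340027ae197) (.leaf 0x340027ae197)))) (.node 7550 (.node 7549 (.leaf 0x27ae197) (.leaf 0x27ae197)) (.node 7551 (.leaf 0x27ae197) (.node 7552 (.leaf 0x27ae197) (.leaf 0x27ae197))))))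

def candS_374 : Store := (.node 7563 (.node 7558 (.node 7555 (.node 7554 (.leaf 0x27ae197) (.leaf 0x27ae197)) (.node 7556 (.leaf 0x27ae197) (.node 7557 (.leaf 0x27ae197) (.leaf 0x27ae197)))) (.node 7560 (.node 7559 (.leaf 0x27ae197) (.leaf 0x27ae197)) (.node 7561 (.leaf 0x27ae197) (.node 7562 (.leaf 0x27ae197) (.leaf 0x27ae197))))) (.node 7568 (.node 7565 (.node 7564 (.leaf 0x27ae197) (.leaf 0x27ae197)) (.node 7566 (.leaf 0x27ae197) (.node 7567 (.leaf 0x27ae197) (.leaf 0x27ae197)))) (.node 7570 (.node 7569 (.leaf 0x27ae197) (.leaf 0x27ae197)) (.node 7571 (.leaf 0x27ae197) (.node 7572 (.leaf 0x27ae197) (.leaf 0x2e0027ae197))))))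

def candS_375 : Store := (.node 7583 (.node 7578 (.node 7575 (.node 7574 (.leaf 0x168) (.leaf 0x2e0027ae197)) (.node 7576 (.leaf 0x2e0027ae197) (.node 7577 (.leaf 0x2e0027ae197) (.leaf 0x1a0)))) (.node 7580 (.node 7579 (.leaf 0x2e0027ae197) (.leaf 0x272)) (.node 7581 (.leaf 0x2e0027ae197) (.node 7582 (.leaf 0x34) (.leaf 0x2e0027ae197))))) (.node 7588 (.node 7585 (.node 7584 (.leaf 0x2e0027ae197) (.leaf 0x88000e0027ae197)) (.node 7586 (.leaf 0xe0027ae197) (.node 7587 (.leaf 0xe0027ae197) (.leaf 0x40000e0027ae197)))) (.node 7590 (.node 7589 (.leaf 0xe0027ae197) (.leaf 0xe0027ae197)) (.node 7591 (.leaf 0xe0027ae197) (.node 7592 (.leaf 0xe0027ae197) (.leaf 0x48000e0027ae197))))))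

def candS_376 : Store := (.node 7603 (.node 7598 (.node 7595 (.node 7594 (.leaf 0xe0027ae197) (.leaf 0x10000e0027ae197)) (.node 7596 (.leaf 0xe0027ae197) (.node 7597 (.leaf 0x80027ae197) (.leaf 0x80027ae197)))) (.node 7600 (.node 7599 (.leaf 0x80027ae197) (.leaf 0x80027ae197)) (.node 7601 (.leaf 0x80027ae197) (.node 7602 (.leaf 0x80027ae197) (.leaf 0x80027ae197))))) (.node 7608 (.node 7605 (.node 7604 (.leaf 0x80027ae197) (.leaf 0x80027ae197)) (.node 7606 (.leaf 0x80027ae197) (.node 7607 (.leaf 0x80027ae197) (.leaf 0x80027ae197)))) (.node 7611 (.node 7609 (.leaf 0x40027ae197) (.node 7610 (.leaf 0x40027ae197) (.leaf 0x40027ae197))) (.node 7612 (.leaf 0x40027ae197) (.node 7613 (.leaf 0x40027ae197) (.leaf 0x40027ae197))))))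

def candS_377 : Store := (.node 7624 (.node 7619 (.node 7616 (.node 7615 (.leaf 0x40027ae197) (.leaf 0x40027ae197)) (.node 7617 (.leaf 0x40027ae197) (.node 7618 (.leaf 0x40027ae197) (.leaf 0x40027ae197)))) (.node 7621 (.node 7620 (.leaf 0x40027ae197) (.leaf 0x300027ae197)) (.node 7622 (.leaf 0x300027ae197) (.node 7623 (.leaf 0x300027ae197) (.leaf 0x300027ae197))))) (.node 7629 (.node 7626 (.node 7625 (.leaf 0x300027ae197) (.leaf 0x300027ae197)) (.node 7627 (.leaf 0x300027ae197) (.node 7628 (.leaf 0x300027ae197) (.leaf 0x300027ae197)))) (.node 7631 (.node 7630 (.leaf 0x300027ae197) (.leaf 0x300027ae197)) (.node 7632 (.leaf 0x300027ae197) (.node 7633 (.leaf 0xf34ae197) (.leaf 0xf34ae197))))))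

def candS_378 : Store := (.node 7644 (.node 7639 (.node 7636 (.node 7635 (.leaf 0xf34ae197) (.leaf 0xf34ae197)) (.node 7637 (.leaf 0xf34ae197) (.node 7638 (.leaf 0xf34ae197) (.leaf 0xf34ae197)))) (.node 7641 (.node 7640 (.leaf 0xf34ae197) (.leaf 0xf34ae197)) (.node 7642 (.leaf 0xf34ae197) (.node 7643 (.leaf 0xf34ae197) (.leaf 0xf34ae197))))) (.node 7649 (.node 7646 (.node 7645 (.leaf 0x340f34ae197) (.leaf 0x340f34ae197)) (.node 7647 (.leaf 0x340f34ae197) (.node 7648 (.leaf 0x2000340f34ae197) (.leaf 0x340f34ae197)))) (.node 7651 (.node 7650 (.leaf 0x340f34ae197) (.leaf 0x340f34ae197)) (.node 7652 (.leaf 0x340f34ae197) (.node 7653 (.leaf 0x3000340f34ae197) (.leaf 0x340f34ae197))))))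

def candS_379 : Store := (.node 7664 (.node 7659 (.node 7656 (.node 7655 (.leaf 0x6000340f34ae197) (.leaf 0x7800340f34ae197)) (.node 7657 (.leaf 0x260f34ae197) (.node 7658 (.leaf 0x260f34ae197) (.leaf 0x260f34ae197)))) (.node 7661 (.node 7660 (.leaf 0x260f34ae197) (.leaf 0x260f34ae197)) (.node 7662 (.leaf 0x260f34ae197) (.node 7663 (.leaf 0x260f34ae197) (.leaf 0x260f34ae197))))) (.node 7669 (.node 7666 (.node 7665 (.leaf 0x260f34ae197) (.leaf 0x260f34ae197)) (.node 7667 (.leaf 0x260f34ae197) (.node 7668 (.leaf 0x260f34ae197) (.leaf 0xf34ae197)))) (.node 7671 (.node 7670 (.leaf 0xf34ae197) (.leaf 0xf34ae197)) (.node 7672 (.leaf 0xf34ae197) (.node 7673 (.leaf 0xf34ae197) (.leaf 0xf34ae197))))))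

def candS_380 : Store := (.node 7684 (.node 7679 (.node 7676 (.node 7675 (.leaf 0xf34ae197) (.leaf 0xf34ae197)) (.node 7677 (.leaf 0xf34ae197) (.node 7678 (.leaf 0xf34ae197) (.leaf 0xf34ae197)))) (.node 7681 (.node 7680 (.leaf 0xf34ae197) (.leaf 0x380f34ae197)) (.node 7682 (.leaf 0x380f34ae197) (.node 7683 (.leaf 0x380f34ae197) (.leaf 0x380f34ae197))))) (.node 7689 (.node 7686 (.node 7685 (.leaf 0x380f34ae197) (.leaf 0x380f34ae197)) (.node 7687 (.leaf 0x380f34ae197) (.node 7688 (.leaf 0x380f34ae197) (.leaf 0x380f34ae197)))) (.node 7692 (.node 7690 (.leaf 0x380f34ae197) (.node 7691 (.leaf 0x380f34ae197) (.leaf 0x380f34ae197))) (.node 7693 (.leaf 0xf34ae197) (.node 7694 (.leaf 0xf34ae197) (.leaf 0xf34ae197))))))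

def candS_381 : Store := (.node 7705 (.node 7700 (.node 7697 (.node 7696 (.leaf 0xf34ae197) (.leaf 0xf34ae197)) (.node 7698 (.leaf 0xf34ae197) (.node 7699 (.leaf 0xf34ae197) (.leaf 0xf34ae197)))) (.node 7702 (.node 7701 (.leaf 0xf34ae197) (.leaf 0xf34ae197)) (.node 7703 (.leaf 0xf34ae197) (.node 7704 (.leaf 0xf34ae197) (.leaf 0xf34ae197))))) (.node 7710 (.node 7707 (.node 7706 (.leaf 0xf34ae197) (.leaf 0xf34ae197)) (.node 7708 (.leaf 0xf34ae197) (.node 7709 (.leaf 0xf34ae197) (.leaf 0xf34ae197)))) (.node 7712 (.node 7711 (.leaf 0xf34ae197) (.leaf 0xf34ae197)) (.node 7713 (.leaf 0xf34ae197) (.node 7714 (.leaf 0xf34ae197) (.leaf 0xf34ae197))))))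

def candS_382 : Store := (.node 7725 (.node 7720 (.node 7717 (.node 7716 (.leaf 0xf34ae197) (.leaf 0x240f34ae197)) (.node 7718 (.leaf 0x30c) (.node 7719 (.leaf 0x240f34ae197) (.leaf 0x240f34ae197)))) (.node 7722 (.node 7721 (.leaf 0x124) (.leaf 0x240f34ae197)) (.node 7723 (.leaf 0x240f34ae197) (.node 7724 (.leaf 0x316) (.leaf 0x240f34ae197))))) (.node 7730 (.node 7727 (.node 7726 (.leaf 0xa4) (.leaf 0x240f34ae197)) (.node 7728 (.leaf 0x240f34ae197) (.node 7729 (.leaf 0xf34ae197) (.leaf 0xf34ae197)))) (.node 7732 (.node 7731 (.leaf 0xf34ae197) (.leaf 0xf34ae197)) (.node 7733 (.leaf 0xf34ae197) (.node 7734 (.leaf 0xf34ae197) (.leaf 0xf34ae197))))))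

def candS_383 : Store := (.node 7745 (.node 7740 (.node 7737 (.node 7736 (.leaf 0xf34ae197) (.leaf 0xf34ae197)) (.node 7738 (.leaf 0xf34ae197) (.node 7739 (.leaf 0xf34ae197) (.leaf 0xf34ae197)))) (.node 7742 (.node 7741 (.leaf 0xe0f34ae197) (.leaf 0xe0f34ae197)) (.node 7743 (.leaf 0xe0f34ae197) (.node 7744 (.leaf 0xe0f34ae197) (.leaf 0xe0f34ae197))))) (.node 7750 (.node 7747 (.node 7746 (.leaf 0xe0f34ae197) (.leaf 0xe0f34ae197)) (.node 7748 (.leaf 0xe0f34ae197) (.node 7749 (.leaf 0xe0f34ae197) (.leaf 0xe0f34ae197)))) (.node 7752 (.node 7751 (.leaf 0xe0f34ae197) (.leaf 0xe0f34ae197)) (.node 7753 (.leaf 0xf34ae197) (.node 7754 (.leaf 0xf34ae197) (.leaf 0xf34ae197))))))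

def candS_384 : Store := (.node 7765 (.node 7760 (.node 7757 (.node 7756 (.leaf 0xf34ae197) (.leaf 0xf34ae197)) (.node 7758 (.leaf 0xf34ae197) (.node 7759 (.leaf 0xf34ae197) (.leaf 0xf34ae197)))) (.node 7762 (.node 7761 (.leaf 0xf34ae197) (.leaf 0xf34ae197)) (.node 7763 (.leaf 0xf34ae197) (.node 7764 (.leaf 0xf34ae197) (.leaf 0x1c0f34ae197))))) (.node 7770 (.node 7767 (.node 7766 (.leaf 0x1c0f34ae197) (.leaf 0x1c0f34ae197)) (.node 7768 (.leaf 0x1c0f34ae197) (.node 7769 (.leaf 0x1c0f34ae197) (.leaf 0x1c0f34ae197)))) (.node 7773 (.node 7771 (.leaf 0x1c0f34ae197) (.node 7772 (.leaf 0x1c0f34ae197) (.leaf 0x1c0f34ae197))) (.node 7774 (.leaf 0x1c0f34ae197) (.node 7775 (.leaf 0x1c0f34ae197) (.leaf 0x1c0f34ae197))))))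

def candS_385 : Store := (.node 7786 (.node 7781 (.node 7778 (.node 7777 (.leaf 0x100f2e197) (.leaf 0x100f2e197)) (.node 7779 (.leaf 0x100f2e197) (.node 7780 (.leaf 0x100f2e197) (.leaf 0x100f2e197)))) (.node 7783 (.node 7782 (.leaf 0x100f2e197) (.leaf 0x100f2e197)) (.node 7784 (.leaf 0x100f2e197) (.node 7785 (.leaf 0x100f2e197) (.leaf 0x100f2e197))))) (.node 7791 (.node 7788 (.node 7787 (.leaf 0x100f2e197) (.leaf 0x100f2e197)) (.node 7789 (.leaf 0x100f2e197) (.node 7790 (.leaf 0x100f2e197) (.leaf 0x100f2e197)))) (.node 7793 (.node 7792 (.leaf 0x100f2e197) (.leaf 0x100f2e197)) (.node 7794 (.leaf 0x100f2e197) (.node 7795 (.leaf 0x100f2e197) (.leaf 0x100f2e197))))))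

def candS_386 : Store := (.node 7806 (.node 7801 (.node 7798 (.node 7797 (.leaf 0x100f2e197) (.leaf 0x100f2e197)) (.node 7799 (.leaf 0x100f2e197) (.node 7800 (.leaf 0x100f2e197) (.leaf 0x4100f2e197)))) (.node 7803 (.node 7802 (.leaf 0x4100f2e197) (.leaf 0x4100f2e197)) (.node 7804 (.leaf 0x4100f2e197) (.node 7805 (.leaf 0x4100f2e197) (.leaf 0x4100f2e197))))) (.node 7811 (.node 7808 (.node 7807 (.leaf 0x4100f2e197) (.leaf 0x4100f2e197)) (.node 7809 (.leaf 0x4100f2e197) (.node 7810 (.leaf 0x4100f2e197) (.leaf 0x4100f2e197)))) (.node 7813 (.node 7812 (.leaf 0x4100f2e197) (.leaf 0x100f2e197)) (.node 7814 (.leaf 0x100f2e197) (.node 7815 (.leaf 0x100f2e197) (.leaf 0x100f2e197))))))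

def candS_387 : Store := (.node 7826 (.node 7821 (.node 7818 (.node 7817 (.leaf 0x100f2e197) (.leaf 0x100f2e197)) (.node 7819 (.leaf 0x100f2e197) (.node 7820 (.leaf 0x100f2e197) (.leaf 0x100f2e197)))) (.node 7823 (.node 7822 (.leaf 0x100f2e197) (.leaf 0x100f2e197)) (.node 7824 (.leaf 0x100f2e197) (.node 7825 (.leaf 0x6100f2e197) (.leaf 0x6100f2e197))))) (.node 7831 (.node 7828 (.node 7827 (.leaf 0x6100f2e197) (.leaf 0x6100f2e197)) (.node 7829 (.leaf 0x6100f2e197) (.node 7830 (.leaf 0x6100f2e197) (.leaf 0x6100f2e197)))) (.node 7833 (.node 7832 (.leaf 0x6100f2e197) (.leaf 0x6100f2e197)) (.node 7834 (.leaf 0x6100f2e197) (.node 7835 (.leaf 0x6100f2e197) (.leaf 0x6100f2e197))))))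

def candS_388 : Store := (.node 7846 (.node 7841 (.node 7838 (.node 7837 (.leaf 0x100f2e197) (.leaf 0x100f2e197)) (.node 7839 (.leaf 0x100f2e197) (.node 7840 (.leaf 0x100f2e197) (.leaf 0x100f2e197)))) (.node 7843 (.node 7842 (.leaf 0x100f2e197) (.leaf 0x100f2e197)) (.node 7844 (.leaf 0x100f2e197) (.node 7845 (.leaf 0x100f2e197) (.leaf 0x100f2e197))))) (.node 7851 (.node 7848 (.node 7847 (.leaf 0x100f2e197) (.leaf 0x100f2e197)) (.node 7849 (.leaf 0x100f2e197) (.node 7850 (.leaf 0x100f2e197) (.leaf 0x100f2e197)))) (.node 7854 (.node 7852 (.leaf 0x100f2e197) (.node 7853 (.leaf 0x100f2e197) (.leaf 0x100f2e197))) (.node 7855 (.leaf 0x100f2e197) (.node 7856 (.leaf 0x100f2e197) (.leaf 0x100f2e197))))))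

def candS_389 : Store := (.node 7867 (.node 7862 (.node 7859 (.node 7858 (.leaf 0x100f2e197) (.leaf 0x100f2e197)) (.node 7860 (.leaf 0x100f2e197) (.node 7861 (.leaf 0x100f2e197) (.leaf 0x100f2e197)))) (.node 7864 (.node 7863 (.leaf 0x100f2e197) (.leaf 0x100f2e197)) (.node 7865 (.leaf 0x100f2e197) (.node 7866 (.leaf 0x100f2e197) (.leaf 0x100f2e197))))) (.node 7872 (.node 7869 (.node 7868 (.leaf 0x100f2e197) (.leaf 0x100f2e197)) (.node 7870 (.leaf 0x100f2e197) (.node 7871 (.leaf 0x100f2e197) (.leaf 0x100f2e197)))) (.node 7874 (.node 7873 (.leaf 0x100f2e197) (.leaf 0x100f2e197)) (.node 7875 (.leaf 0x100f2e197) (.node 7876 (.leaf 0x100f2e197) (.leaf 0x100f2e197))))))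

def candS_390 : Store := (.node 7887 (.node 7882 (.node 7879 (.node 7878 (.leaf 0x100f2e197) (.leaf 0x100f2e197)) (.node 7880 (.leaf 0x100f2e197) (.node 7881 (.leaf 0x100f2e197) (.leaf 0x100f2e197)))) (.node 7884 (.node 7883 (.leaf 0x100f2e197) (.leaf 0x100f2e197)) (.node 7885 (.leaf 0x2100f2e197) (.node 7886 (.leaf 0x2100f2e197) (.leaf 0x2100f2e197))))) (.node 7892 (.node 7889 (.node 7888 (.leaf 0x2100f2e197) (.leaf 0x2100f2e197)) (.node 7890 (.leaf 0x2100f2e197) (.node 7891 (.leaf 0x2100f2e197) (.leaf 0x2100f2e197)))) (.node 7894 (.node 7893 (.leaf 0x2100f2e197) (.leaf 0x2100f2e197)) (.node 7895 (.leaf 0x2100f2e197) (.node 7896 (.leaf 0x2100f2e197) (.leaf 0xc100f2e197))))))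

def candS_391 : Store := (.node 7907 (.node 7902 (.node 7899 (.node 7898 (.leaf 0xc100f2e197) (.leaf 0xc100f2e197)) (.node 7900 (.leaf 0xc100f2e197) (.node 7901 (.leaf 0xc100f2e197) (.leaf 0xc100f2e197)))) (.node 7904 (.node 7903 (.leaf 0xc100f2e197) (.leaf 0xc100f2e197)) (.node 7905 (.leaf 0xc100f2e197) (.node 7906 (.leaf 0xc100f2e197) (.leaf 0xc100f2e197))))) (.node 7912 (.node 7909 (.node 7908 (.leaf 0xc100f2e197) (.leaf 0xa100f2e197)) (.node 7910 (.leaf 0xa100f2e197) (.node 7911 (.leaf 0xa100f2e197) (.leaf 0xa100f2e197)))) (.node 7914 (.node 7913 (.leaf 0xa100f2e197) (.leaf 0xa100f2e197)) (.node 7915 (.leaf 0xa100f2e197) (.node 7916 (.leaf 0xa100f2e197) (.leaf 0xa100f2e197))))))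

def candS_392 : Store := (.node 7927 (.node 7922 (.node 7919 (.node 7918 (.leaf 0xa100f2e197) (.leaf 0xa100f2e197)) (.node 7920 (.leaf 0xa100f2e197) (.node 7921 (.leaf 0x1d14ae197) (.leaf 0x1d14ae197)))) (.node 7924 (.node 7923 (.leaf 0x1d14ae197) (.leaf 0x1d14ae197)) (.node 7925 (.leaf 0x1d14ae197) (.node 7926 (.leaf 0x1d14ae197) (.leaf 0x1d14ae197))))) (.node 7932 (.node 7929 (.node 7928 (.leaf 0x1d14ae197) (.leaf 0x1d14ae197)) (.node 7930 (.leaf 0x1d14ae197) (.node 7931 (.leaf 0x1d14ae197) (.leaf 0x1d14ae197)))) (.node 7935 (.node 7933 (.leaf 0x1d14ae197) (.node 7934 (.leaf 0x1d14ae197) (.leaf 0x1d14ae197))) (.node 7936 (.leaf 0x1d14ae197) (.node 7937 (.leaf 0x1d14ae197) (.leaf 0x1d14ae197))))))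

def candS_393 : Store := (.node 7948 (.node 7943 (.node 7940 (.node 7939 (.leaf 0x1d14ae197) (.leaf 0x1d14ae197)) (.node 7941 (.leaf 0x1d14ae197) (.node 7942 (.leaf 0x1d14ae197) (.leaf 0x1d14ae197)))) (.node 7945 (.node 7944 (.leaf 0x1d14ae197) (.leaf 0x281d14ae197)) (.node 7946 (.leaf 0x281d14ae197) (.node 7947 (.leaf 0x281d14ae197) (.leaf 0x281d14ae197))))) (.node 7953 (.node 7950 (.node 7949 (.leaf 0x281d14ae197) (.leaf 0x281d14ae197)) (.node 7951 (.leaf 0x281d14ae197) (.node 7952 (.leaf 0x281d14ae197) (.leaf 0x281d14ae197)))) (.node 7955 (.node 7954 (.leaf 0x281d14ae197) (.leaf 0x281d14ae197)) (.node 7956 (.leaf 0x281d14ae197) (.node 7957 (.leaf 0x1d14ae197) (.leaf 0x1d14ae197))))))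

def candS_394 : Store := (.node 7968 (.node 7963 (.node 7960 (.node 7959 (.leaf 0x1d14ae197) (.leaf 0x1d14ae197)) (.node 7961 (.leaf 0x1d14ae197) (.node 7962 (.leaf 0x1d14ae197) (.leaf 0x1d14ae197)))) (.node 7965 (.node 7964 (.leaf 0x1d14ae197) (.leaf 0x1d14ae197)) (.node 7966 (.leaf 0x1d14ae197) (.node 7967 (.leaf 0x1d14ae197) (.leaf 0x1d14ae197))))) (.node 7973 (.node 7970 (.node 7969 (.leaf 0x381d14ae197) (.leaf 0x381d14ae197)) (.node 7971 (.leaf 0x381d14ae197) (.node 7972 (.leaf 0x381d14ae197) (.leaf 0x381d14ae197)))) (.node 7975 (.node 7974 (.leaf 0x381d14ae197) (.leaf 0x381d14ae197)) (.node 7976 (.leaf 0x381d14ae197) (.node 7977 (.leaf 0x381d14ae197) (.leaf 0x381d14ae197))))))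

def candS_395 : Store := (.node 7988 (.node 7983 (.node 7980 (.node 7979 (.leaf 0x381d14ae197) (.leaf 0x381d14ae197)) (.node 7981 (.leaf 0x1d14ae197) (.node 7982 (.leaf 0x1d14ae197) (.leaf 0x1d14ae197)))) (.node 7985 (.node 7984 (.leaf 0x1d14ae197) (.leaf 0x1d14ae197)) (.node 7986 (.leaf 0x1d14ae197) (.node 7987 (.leaf 0x1d14ae197) (.leaf 0x1d14ae197))))) (.node 7993 (.node 7990 (.node 7989 (.leaf 0x1d14ae197) (.leaf 0x1d14ae197)) (.node 7991 (.leaf 0x1d14ae197) (.node 7992 (.leaf 0x1d14ae197) (.leaf 0x9800181d14ae197)))) (.node 7995 (.node 7994 (.leaf 0x181d14ae197) (.leaf 0x181d14ae197)) (.node 7996 (.leaf 0x8000181d14ae197) (.node 7997 (.leaf 0x181d14ae197) (.leaf 0x181d14ae197))))))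

def candS_396 : Store := (.node 8008 (.node 8003 (.node 8000 (.node 7999 (.leaf 0x181d14ae197) (.leaf 0x181d14ae197)) (.node 8001 (.leaf 0x181d14ae197) (.node 8002 (.leaf 0x181d14ae197) (.leaf 0x7000181d14ae197)))) (.node 8005 (.node 8004 (.leaf 0x181d14ae197) (.leaf 0x221d14ae197)) (.node 8006 (.leaf 0x68) (.node 8007 (.leaf 0x221d14ae197) (.leaf 0x221d14ae197))))) (.node 8013 (.node 8010 (.node 8009 (.leaf 0x134) (.leaf 0x3a4)) (.node 8011 (.leaf 0x221d14ae197) (.node 8012 (.leaf 0x221d14ae197) (.leaf 0x221d14ae197)))) (.node 8016 (.node 8014 (.leaf 0x98) (.node 8015 (.leaf 0x221d14ae197) (.leaf 0x221d14ae197))) (.node 8017 (.leaf 0x1d14ae197) (.node 8018 (.leaf 0x1d14ae197) (.leaf 0x1d14ae197))))))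

def candS_397 : Store := (.node 8029 (.node 8024 (.node 8021 (.node 8020 (.leaf 0x1d14ae197) (.leaf 0x1d14ae197)) (.node 8022 (.leaf 0x1d14ae197) (.node 8023 (.leaf 0x1d14ae197) (.leaf 0x1d14ae197)))) (.node 8026 (.node 8025 (.leaf 0x1d14ae197) (.leaf 0x1d14ae197)) (.node 8027 (.leaf 0x1d14ae197) (.node 8028 (.leaf 0x1d14ae197) (.leaf 0x141d14ae197))))) (.node 8034 (.node 8031 (.node 8030 (.leaf 0x141d14ae197) (.leaf 0x141d14ae197)) (.node 8032 (.leaf 0x141d14ae197) (.node 8033 (.leaf 0x141d14ae197) (.leaf 0x141d14ae197)))) (.node 8036 (.node 8035 (.leaf 0x141d14ae197) (.leaf 0x141d14ae197)) (.node 8037 (.leaf 0x141d14ae197) (.node 8038 (.leaf 0x141d14ae197) (.leaf 0x141d14ae197))))))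

def candS_398 : Store := (.node 8049 (.node 8044 (.node 8041 (.node 8040 (.leaf 0x141d14ae197) (.leaf 0xa1d14ae197)) (.node 8042 (.leaf 0xa1d14ae197) (.node 8043 (.leaf 0xa1d14ae197) (.leaf 0xa1d14ae197)))) (.node 8046 (.node 8045 (.leaf 0xa1d14ae197) (.leaf 0xa1d14ae197)) (.node 8047 (.leaf 0xa1d14ae197) (.node 8048 (.leaf 0xa1d14ae197) (.leaf 0xa1d14ae197))))) (.node 8054 (.node 8051 (.node 8050 (.leaf 0xa1d14ae197) (.leaf 0xa1d14ae197)) (.node 8052 (.leaf 0xa1d14ae197) (.node 8053 (.leaf 0x1d14ae197) (.leaf 0x1d14ae197)))) (.node 8056 (.node 8055 (.leaf 0x1d14ae197) (.leaf 0x1d14ae197)) (.node 8057 (.leaf 0x1d14ae197) (.node 8058 (.leaf 0x1d14ae197) (.leaf 0x1d14ae197))))))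

def candS_399 : Store := (.node 8069 (.node 8064 (.node 8061 (.node 8060 (.leaf 0x1d14ae197) (.leaf 0x1d14ae197)) (.node 8062 (.leaf 0x1d14ae197) (.node 8063 (.leaf 0x1d14ae197) (.leaf 0x1d14ae197)))) (.node 8066 (.node 8065 (.leaf 0x3c1d0e2e197) (.leaf 0x3c1d0e2e197)) (.node 8067 (.leaf 0x3c1d0e2e197) (.node 8068 (.leaf 0x3c1d0e2e197) (.leaf 0x3c1d0e2e197))))) (.node 8074 (.node 8071 (.node 8070 (.leaf 0x3c1d0e2e197) (.leaf 0x3c1d0e2e197)) (.node 8072 (.leaf 0x3c1d0e2e197) (.node 8073 (.leaf 0x3c1d0e2e197) (.leaf 0x3c1d0e2e197)))) (.node 8076 (.node 8075 (.leaf 0x3c1d0e2e197) (.leaf 0x3c1d0e2e197)) (.node 8077 (.leaf 0x1a1d0e2e197) (.node 8078 (.leaf 0x1a1d0e2e197) (.leaf 0x1a1d0e2e197))))))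

def candS_400 : Store := (.node 8089 (.node 8084 (.node 8081 (.node 8080 (.leaf 0x1a1d0e2e197) (.leaf 0x1a1d0e2e197)) (.node 8082 (.leaf 0x1a1d0e2e197) (.node 8083 (.leaf 0x1a1d0e2e197) (.leaf 0x1a1d0e2e197)))) (.node 8086 (.node 8085 (.leaf 0x1a1d0e2e197) (.leaf 0x1a1d0e2e197)) (.node 8087 (.leaf 0x1a1d0e2e197) (.node 8088 (.leaf 0x1a1d0e2e197) (.leaf 0x1d0e2e197))))) (.node 8094 (.node 8091 (.node 8090 (.leaf 0x1d0e2e197) (.leaf 0x1d0e2e197)) (.node 8092 (.leaf 0x1d0e2e197) (.node 8093 (.leaf 0x1d0e2e197) (.leaf 0x1d0e2e197)))) (.node 8097 (.node 8095 (.leaf 0x1d0e2e197) (.node 8096 (.leaf 0x1d0e2e197) (.leaf 0x1d0e2e197))) (.node 8098 (.leaf 0x1d0e2e197) (.node 8099 (.leaf 0x1d0e2e197) (.leaf 0x1d0e2e197))))))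

def candS_401 : Store := (.node 8110 (.node 8105 (.node 8102 (.node 8101 (.leaf 0x2e1d0e2e197) (.leaf 0x2e1d0e2e197)) (.node 8103 (.leaf 0x2e1d0e2e197) (.node 8104 (.leaf 0x2e1d0e2e197) (.leaf 0x2e1d0e2e197)))) (.node 8107 (.node 8106 (.leaf 0x2e1d0e2e197) (.leaf 0x2e1d0e2e197)) (.node 8108 (.leaf 0x2e1d0e2e197) (.node 8109 (.leaf 0x2e1d0e2e197) (.leaf 0x2e1d0e2e197))))) (.node 8115 (.node 8112 (.node 8111 (.leaf 0x2e1d0e2e197) (.leaf 0x2e1d0e2e197)) (.node 8113 (.leaf 0x1d0e2e197) (.node 8114 (.leaf 0x1d0e2e197) (.leaf 0x1d0e2e197)))) (.node 8117 (.node 8116 (.leaf 0x1d0e2e197) (.leaf 0x1d0e2e197)) (.node 8118 (.leaf 0x1d0e2e197) (.node 8119 (.leaf 0x1d0e2e197) (.leaf 0x1d0e2e197))))))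

def candS_402 : Store := (.node 8130 (.node 8125 (.node 8122 (.node 8121 (.leaf 0x1d0e2e197) (.leaf 0x1d0e2e197)) (.node 8123 (.leaf 0x1d0e2e197) (.node 8124 (.leaf 0x1d0e2e197) (.leaf 0x354)))) (.node 8127 (.node 8126 (.leaf 0x1e1d0e2e197) (.leaf 0x1e1d0e2e197)) (.node 8128 (.leaf 0xe6) (.node 8129 (.leaf 0x1e1d0e2e197) (.leaf 0x1e1d0e2e197))))) (.node 8135 (.node 8132 (.node 8131 (.leaf 0x1e1d0e2e197) (.leaf 0x1e1d0e2e197)) (.node 8133 (.leaf 0x1e1d0e2e197) (.node 8134 (.leaf 0x1e1d0e2e197) (.leaf 0xa8)))) (.node 8137 (.node 8136 (.leaf 0xc8) (.leaf 0x1d0e2e197)) (.node 8138 (.leaf 0x1d0e2e197) (.node 8139 (.leaf 0x1d0e2e197) (.leaf 0x1d0e2e197))))))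

def candS_403 : Store := (.node 8150 (.node 8145 (.node 8142 (.node 8141 (.leaf 0x1d0e2e197) (.leaf 0x1d0e2e197)) (.node 8143 (.leaf 0x1d0e2e197) (.node 8144 (.leaf 0x1d0e2e197) (.leaf 0x1d0e2e197)))) (.node 8147 (.node 8146 (.leaf 0x1d0e2e197) (.leaf 0x1d0e2e197)) (.node 8148 (.leaf 0x1d0e2e197) (.node 8149 (.leaf 0x1d0e2e197) (.leaf 0x1d0e2e197))))) (.node 8155 (.node 8152 (.node 8151 (.leaf 0x1d0e2e197) (.leaf 0x1d0e2e197)) (.node 8153 (.leaf 0x1d0e2e197) (.node 8154 (.leaf 0x1d0e2e197) (.leaf 0x1d0e2e197)))) (.node 8157 (.node 8156 (.leaf 0x1d0e2e197) (.leaf 0x1d0e2e197)) (.node 8158 (.leaf 0x1d0e2e197) (.node 8159 (.leaf 0x1d0e2e197) (.leaf 0x1d0e2e197))))))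

def candS_404 : Store := (.node 8170 (.node 8165 (.node 8162 (.node 8161 (.leaf 0x2a1d0e2e197) (.leaf 0x2a1d0e2e197)) (.node 8163 (.leaf 0x2a1d0e2e197) (.node 8164 (.leaf 0x2a1d0e2e197) (.leaf 0x2a1d0e2e197)))) (.node 8167 (.node 8166 (.leaf 0x2a1d0e2e197) (.leaf 0x2a1d0e2e197)) (.node 8168 (.leaf 0x2a1d0e2e197) (.node 8169 (.leaf 0x2a1d0e2e197) (.leaf 0x2a1d0e2e197))))) (.node 8175 (.node 8172 (.node 8171 (.leaf 0x2a1d0e2e197) (.leaf 0x2a1d0e2e197)) (.node 8173 (.leaf 0x1d0e2e197) (.node 8174 (.leaf 0x1d0e2e197) (.leaf 0x1d0e2e197)))) (.node 8178 (.node 8176 (.leaf 0x1d0e2e197) (.node 8177 (.leaf 0x1d0e2e197) (.leaf 0x1d0e2e197))) (.node 8179 (.leaf 0x1d0e2e197) (.node 8180 (.leaf 0x1d0e2e197) (.leaf 0x1d0e2e197))))))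

def candS_405 : Store := (.node 8191 (.node 8186 (.node 8183 (.node 8182 (.leaf 0x1d0e2e197) (.leaf 0x1d0e2e197)) (.node 8184 (.leaf 0x1d0e2e197) (.node 8185 (.leaf 0x1d0e2e197) (.leaf 0x1d0e2e197)))) (.node 8188 (.node 8187 (.leaf 0x1d0e2e197) (.leaf 0x1d0e2e197)) (.node 8189 (.leaf 0x1d0e2e197) (.node 8190 (.leaf 0x1d0e2e197) (.leaf 0x1d0e2e197))))) (.node 8196 (.node 8193 (.node 8192 (.leaf 0x1d0e2e197) (.leaf 0x1d0e2e197)) (.node 8194 (.leaf 0x1d0e2e197) (.node 8195 (.leaf 0x1d0e2e197) (.leaf 0x1d0e2e197)))) (.node 8198 (.node 8197 (.leaf 0x421d0e2e197) (.leaf 0x421d0e2e197)) (.node 8199 (.leaf 0x421d0e2e197) (.node 8200 (.leaf 0x421d0e2e197) (.leaf 0x8000421d0e2e197))))))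

def candS_406 : Store := (.node 8211 (.node 8206 (.node 8203 (.node 8202 (.leaf 0x7000421d0e2e197) (.leaf 0x421d0e2e197)) (.node 8204 (.leaf 0x421d0e2e197) (.node 8205 (.leaf 0x421d0e2e197) (.leaf 0x9800421d0e2e197)))) (.node 8208 (.node 8207 (.leaf 0x421d0e2e197) (.leaf 0x421d0e2e197)) (.node 8209 (.leaf 0x10002e1f0a2e197) (.node 8210 (.leaf 0x2e1f0a2e197) (.leaf 0x2e1f0a2e197))))) (.node 8216 (.node 8213 (.node 8212 (.leaf 0x2e1f0a2e197) (.leaf 0x2e1f0a2e197)) (.node 8214 (.leaf 0x2e1f0a2e197) (.node 8215 (.leaf 0x2e1f0a2e197) (.leaf 0x2e1f0a2e197)))) (.node 8218 (.node 8217 (.leaf 0x88002e1f0a2e197) (.leaf 0x2e1f0a2e197)) (.node 8219 (.leaf 0x40002e1f0a2e197) (.node 8220 (.leaf 0x48002e1f0a2e197) (.leaf 0x1f0a2e197))))))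

def candS_407 : Store := (.node 8231 (.node 8226 (.node 8223 (.node 8222 (.leaf 0x1f0a2e197) (.leaf 0x1f0a2e197)) (.node 8224 (.leaf 0x1f0a2e197) (.node 8225 (.leaf 0x1f0a2e197) (.leaf 0x1f0a2e197)))) (.node 8228 (.node 8227 (.leaf 0x1f0a2e197) (.leaf 0x1f0a2e197)) (.node 8229 (.leaf 0x1f0a2e197) (.node 8230 (.leaf 0x1f0a2e197) (.leaf 0x1f0a2e197))))) (.node 8236 (.node 8233 (.node 8232 (.leaf 0x1f0a2e197) (.leaf 0x221f0a2e197)) (.node 8234 (.leaf 0x221f0a2e197) (.node 8235 (.leaf 0x221f0a2e197) (.leaf 0x221f0a2e197)))) (.node 8238 (.node 8237 (.leaf 0x221f0a2e197) (.leaf 0x221f0a2e197)) (.node 8239 (.leaf 0x221f0a2e197) (.node 8240 (.leaf 0x221f0a2e197) (.leaf 0x221f0a2e197))))))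

def candS_408 : Store := (.node 8251 (.node 8246 (.node 8243 (.node 8242 (.leaf 0x221f0a2e197) (.leaf 0x221f0a2e197)) (.node 8244 (.leaf 0x221f0a2e197) (.node 8245 (.leaf 0x1f0a2e197) (.leaf 0x1f0a2e197)))) (.node 8248 (.node 8247 (.leaf 0x1f0a2e197) (.leaf 0x1f0a2e197)) (.node 8249 (.leaf 0x1f0a2e197) (.node 8250 (.leaf 0x1f0a2e197) (.leaf 0x1f0a2e197))))) (.node 8256 (.node 8253 (.node 8252 (.leaf 0x1f0a2e197) (.leaf 0x1f0a2e197)) (.node 8254 (.leaf 0x1f0a2e197) (.node 8255 (.leaf 0x1f0a2e197) (.leaf 0x1f0a2e197)))) (.node 8259 (.node 8257 (.leaf 0x1f0a2e197) (.node 8258 (.leaf 0x1f0a2e197) (.leaf 0x1f0a2e197))) (.node 8260 (.leaf 0x1f0a2e197) (.node 8261 (.leaf 0x1f0a2e197) (.leaf 0x1f0a2e197))))))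

def candS_409 : Store := (.node 8272 (.node 8267 (.node 8264 (.node 8263 (.leaf 0x1f0a2e197) (.leaf 0x1f0a2e197)) (.node 8265 (.leaf 0x1f0a2e197) (.node 8266 (.leaf 0x1f0a2e197) (.leaf 0x1f0a2e197)))) (.node 8269 (.node 8268 (.leaf 0x1f0a2e197) (.leaf 0x1f0a2e197)) (.node 8270 (.leaf 0x1f0a2e197) (.node 8271 (.leaf 0x1f0a2e197) (.leaf 0x1f0a2e197))))) (.node 8277 (.node 8274 (.node 8273 (.leaf 0x1f0a2e197) (.leaf 0x1f0a2e197)) (.node 8275 (.leaf 0x1f0a2e197) (.node 8276 (.leaf 0x1f0a2e197) (.leaf 0x1f0a2e197)))) (.node 8279 (.node 8278 (.leaf 0x1f0a2e197) (.leaf 0x1f0a2e197)) (.node 8280 (.leaf 0x1f0a2e197) (.node 8281 (.leaf 0x1f0a2e197) (.leaf 0x1f0a2e197))))))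

def candS_410 : Store := (.node 8292 (.node 8287 (.node 8284 (.node 8283 (.leaf 0x1f0a2e197) (.leaf 0x1f0a2e197)) (.node 8285 (.leaf 0x1f0a2e197) (.node 8286 (.leaf 0x1f0a2e197) (.leaf 0x1f0a2e197)))) (.node 8289 (.node 8288 (.leaf 0x1f0a2e197) (.leaf 0x1f0a2e197)) (.node 8290 (.leaf 0x1f0a2e197) (.node 8291 (.leaf 0x1f0a2e197) (.leaf 0x1f0a2e197))))) (.node 8297 (.node 8294 (.node 8293 (.leaf 0x321f0a2e197) (.leaf 0x3a8)) (.node 8295 (.leaf 0x321f0a2e197) (.node 8296 (.leaf 0x321f0a2e197) (.leaf 0x312)))) (.node 8299 (.node 8298 (.leaf 0x12c) (.leaf 0x321f0a2e197)) (.node 8300 (.leaf 0x118) (.node 8301 (.leaf 0x321f0a2e197) (.leaf 0x321f0a2e197))))))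

def candS_411 : Store := (.node 8312 (.node 8307 (.node 8304 (.node 8303 (.leaf 0x321f0a2e197) (.leaf 0x321f0a2e197)) (.node 8305 (.leaf 0x1f0a2e197) (.node 8306 (.leaf 0x1f0a2e197) (.leaf 0x1f0a2e197)))) (.node 8309 (.node 8308 (.leaf 0x1f0a2e197) (.leaf 0x1f0a2e197)) (.node 8310 (.leaf 0x1f0a2e197) (.node 8311 (.leaf 0x1f0a2e197) (.leaf 0x1f0a2e197))))) (.node 8317 (.node 8314 (.node 8313 (.leaf 0x1f0a2e197) (.leaf 0x1f0a2e197)) (.node 8315 (.leaf 0x1f0a2e197) (.node 8316 (.leaf 0x1f0a2e197) (.leaf 0x421f0a2e197)))) (.node 8319 (.node 8318 (.leaf 0x421f0a2e197) (.leaf 0x421f0a2e197)) (.node 8320 (.leaf 0x421f0a2e197) (.node 8321 (.leaf 0x421f0a2e197) (.leaf 0x421f0a2e197))))))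

def candS_412 : Store := (.node 8332 (.node 8327 (.node 8324 (.node 8323 (.leaf 0x421f0a2e197) (.leaf 0x421f0a2e197)) (.node 8325 (.leaf 0x421f0a2e197) (.node 8326 (.leaf 0x421f0a2e197) (.leaf 0x421f0a2e197)))) (.node 8329 (.node 8328 (.leaf 0x421f0a2e197) (.leaf 0xe1f0a2e197)) (.node 8330 (.leaf 0xe1f0a2e197) (.node 8331 (.leaf 0xe1f0a2e197) (.leaf 0xe1f0a2e197))))) (.node 8337 (.node 8334 (.node 8333 (.leaf 0xe1f0a2e197) (.leaf 0xe1f0a2e197)) (.node 8335 (.leaf 0xe1f0a2e197) (.node 8336 (.leaf 0xe1f0a2e197) (.leaf 0xe1f0a2e197)))) (.node 8340 (.node 8338 (.leaf 0xe1f0a2e197) (.node 8339 (.leaf 0xe1f0a2e197) (.leaf 0xe1f0a2e197))) (.node 8341 (.leaf 0x161f0a2e197) (.node 8342 (.leaf 0x161f0a2e197) (.leaf 0x161f0a2e197))))))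

def candS_413 : Store := (.node 8353 (.node 8348 (.node 8345 (.node 8344 (.leaf 0x161f0a2e197) (.leaf 0x161f0a2e197)) (.node 8346 (.leaf 0x161f0a2e197) (.node 8347 (.leaf 0x161f0a2e197) (.leaf 0x161f0a2e197)))) (.node 8350 (.node 8349 (.leaf 0x161f0a2e197) (.leaf 0x161f0a2e197)) (.node 8351 (.leaf 0x161f0a2e197) (.node 8352 (.leaf 0x161f0a2e197) (.leaf 0x4047342e197))))) (.node 8358 (.node 8355 (.node 8354 (.leaf 0x4047342e197) (.leaf 0x4047342e197)) (.node 8356 (.leaf 0x4047342e197) (.node 8357 (.leaf 0x4047342e197) (.leaf 0x4047342e197)))) (.node 8360 (.node 8359 (.leaf 0x4047342e197) (.leaf 0x4047342e197)) (.node 8361 (.leaf 0x4047342e197) (.node 8362 (.leaf 0x4047342e197) (.leaf 0x4047342e197))))))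

def candS_414 : Store := (.node 8373 (.node 8368 (.node 8365 (.node 8364 (.leaf 0x4047342e197) (.leaf 0x2647342e197)) (.node 8366 (.leaf 0x2647342e197) (.node 8367 (.leaf 0x2647342e197) (.leaf 0x2647342e197)))) (.node 8370 (.node 8369 (.leaf 0x2647342e197) (.leaf 0x2647342e197)) (.node 8371 (.leaf 0x2647342e197) (.node 8372 (.leaf 0x2647342e197) (.leaf 0x2647342e197))))) (.node 8378 (.node 8375 (.node 8374 (.leaf 0x2647342e197) (.leaf 0x2647342e197)) (.node 8376 (.leaf 0x2647342e197) (.node 8377 (.leaf 0x47342e197) (.leaf 0x47342e197)))) (.node 8380 (.node 8379 (.leaf 0x47342e197) (.leaf 0x47342e197)) (.node 8381 (.leaf 0x47342e197) (.node 8382 (.leaf 0x47342e197) (.leaf 0x47342e197))))))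

def candS_415 : Store := (.node 8393 (.node 8388 (.node 8385 (.node 8384 (.leaf 0x47342e197) (.leaf 0x47342e197)) (.node 8386 (.leaf 0x47342e197) (.node 8387 (.leaf 0x47342e197) (.leaf 0x47342e197)))) (.node 8390 (.node 8389 (.leaf 0x47342e197) (.leaf 0x47342e197)) (.node 8391 (.leaf 0x47342e197) (.node 8392 (.leaf 0x47342e197) (.leaf 0x47342e197))))) (.node 8398 (.node 8395 (.node 8394 (.leaf 0x47342e197) (.leaf 0x47342e197)) (.node 8396 (.leaf 0x47342e197) (.node 8397 (.leaf 0x47342e197) (.leaf 0x47342e197)))) (.node 8400 (.node 8399 (.leaf 0x47342e197) (.leaf 0x47342e197)) (.node 8401 (.leaf 0x47342e197) (.node 8402 (.leaf 0x47342e197) (.leaf 0x47342e197))))))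

def candS_416 : Store := (.node 8413 (.node 8408 (.node 8405 (.node 8404 (.leaf 0x47342e197) (.leaf 0x47342e197)) (.node 8406 (.leaf 0x47342e197) (.node 8407 (.leaf 0x47342e197) (.leaf 0x47342e197)))) (.node 8410 (.node 8409 (.leaf 0x47342e197) (.leaf 0x47342e197)) (.node 8411 (.leaf 0x47342e197) (.node 8412 (.leaf 0x47342e197) (.leaf 0x12))))) (.node 8418 (.node 8415 (.node 8414 (.leaf 0x1a47342e197) (.leaf 0x1a47342e197)) (.node 8416 (.leaf 0x266) (.node 8417 (.leaf 0x1a47342e197) (.leaf 0x1a47342e197)))) (.node 8421 (.node 8419 (.leaf 0x1a47342e197) (.node 8420 (.leaf 0x1a47342e197) (.leaf 0xee))) (.node 8422 (.leaf 0x1a47342e197) (.node 8423 (.leaf 0x1a47342e197) (.leaf 0x200))))))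

def candS_417 : Store := (.node 8434 (.node 8429 (.node 8426 (.node 8425 (.leaf 0x847342e197) (.leaf 0x847342e197)) (.node 8427 (.leaf 0x847342e197) (.node 8428 (.leaf 0x847342e197) (.leaf 0x847342e197)))) (.node 8431 (.node 8430 (.leaf 0x847342e197) (.leaf 0x847342e197)) (.node 8432 (.leaf 0x847342e197) (.node 8433 (.leaf 0x847342e197) (.leaf 0x847342e197))))) (.node 8439 (.node 8436 (.node 8435 (.leaf 0x847342e197) (.leaf 0x847342e197)) (.node 8437 (.leaf 0x47342e197) (.node 8438 (.leaf 0x47342e197) (.leaf 0x47342e197)))) (.node 8441 (.node 8440 (.leaf 0x47342e197) (.leaf 0x47342e197)) (.node 8442 (.leaf 0x47342e197) (.node 8443 (.leaf 0x47342e197) (.leaf 0x47342e197))))))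

def candS_418 : Store := (.node 8454 (.node 8449 (.node 8446 (.node 8445 (.leaf 0x47342e197) (.leaf 0x47342e197)) (.node 8447 (.leaf 0x47342e197) (.node 8448 (.leaf 0x47342e197) (.leaf 0x1447342e197)))) (.node 8451 (.node 8450 (.leaf 0x1447342e197) (.leaf 0x1447342e197)) (.node 8452 (.leaf 0x1447342e197) (.node 8453 (.leaf 0x1447342e197) (.leaf 0x1447342e197))))) (.node 8459 (.node 8456 (.node 8455 (.leaf 0x1447342e197) (.leaf 0x1447342e197)) (.node 8457 (.leaf 0x1447342e197) (.node 8458 (.leaf 0x1447342e197) (.leaf 0x1447342e197)))) (.node 8461 (.node 8460 (.leaf 0x1447342e197) (.leaf 0x3e47342e197)) (.node 8462 (.leaf 0x3e47342e197) (.node 8463 (.leaf 0x3e47342e197) (.leaf 0x3e47342e197))))))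

def candS_419 : Store := (.node 8474 (.node 8469 (.node 8466 (.node 8465 (.leaf 0x30003e47342e197) (.leaf 0x78003e47342e197)) (.node 8467 (.leaf 0x3e47342e197) (.node 8468 (.leaf 0x60003e47342e197) (.leaf 0x3e47342e197)))) (.node 8471 (.node 8470 (.leaf 0x20003e47342e197) (.leaf 0x3e47342e197)) (.node 8472 (.leaf 0x3e47342e197) (.node 8473 (.leaf 0x47342e197) (.leaf 0x47342e197))))) (.node 8479 (.node 8476 (.node 8475 (.leaf 0x47342e197) (.leaf 0x47342e197)) (.node 8477 (.leaf 0x47342e197) (.node 8478 (.leaf 0x47342e197) (.leaf 0x47342e197)))) (.node 8481 (.node 8480 (.leaf 0x47342e197) (.leaf 0x47342e197)) (.node 8482 (.leaf 0x47342e197) (.node 8483 (.leaf 0x47342e197) (.leaf 0x47342e197))))))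

def candS_420 : Store := (.node 8494 (.node 8489 (.node 8486 (.node 8485 (.leaf 0x47342e197) (.leaf 0x47342e197)) (.node 8487 (.leaf 0x47342e197) (.node 8488 (.leaf 0x47342e197) (.leaf 0x47342e197)))) (.node 8491 (.node 8490 (.leaf 0x47342e197) (.leaf 0x47342e197)) (.node 8492 (.leaf 0x47342e197) (.node 8493 (.leaf 0x47342e197) (.leaf 0x47342e197))))) (.node 8499 (.node 8496 (.node 8495 (.leaf 0x47342e197) (.leaf 0x47342e197)) (.node 8497 (.leaf 0x2032142e197) (.node 8498 (.leaf 0x2032142e197) (.leaf 0x2032142e197)))) (.node 8502 (.node 8500 (.leaf 0x2032142e197) (.node 8501 (.leaf 0x2032142e197) (.leaf 0x2032142e197))) (.node 8503 (.leaf 0x2032142e197) (.node 8504 (.leaf 0x2032142e197) (.leaf 0x2032142e197))))))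

def candS_421 : Store := (.node 8515 (.node 8510 (.node 8507 (.node 8506 (.leaf 0x2032142e197) (.leaf 0x2032142e197)) (.node 8508 (.leaf 0x2032142e197) (.node 8509 (.leaf 0x3c32142e197) (.leaf 0x3c32142e197)))) (.node 8512 (.node 8511 (.leaf 0x3c32142e197) (.leaf 0x3c32142e197)) (.node 8513 (.leaf 0x3c32142e197) (.node 8514 (.leaf 0x3c32142e197) (.leaf 0x3c32142e197))))) (.node 8520 (.node 8517 (.node 8516 (.leaf 0x3c32142e197) (.leaf 0x3c32142e197)) (.node 8518 (.leaf 0x3c32142e197) (.node 8519 (.leaf 0x3c32142e197) (.leaf 0x3c32142e197)))) (.node 8522 (.node 8521 (.leaf 0x3a32142e197) (.leaf 0x38003a32142e197)) (.node 8523 (.leaf 0x3a32142e197) (.node 8524 (.leaf 0x3a32142e197) (.leaf 0x3a32142e197))))))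

def candS_422 : Store := (.node 8535 (.node 8530 (.node 8527 (.node 8526 (.leaf 0x28003a32142e197) (.leaf 0x3a32142e197)) (.node 8528 (.leaf 0x90003a32142e197) (.node 8529 (.leaf 0x3a32142e197) (.leaf 0x18003a32142e197)))) (.node 8532 (.node 8531 (.leaf 0x3a32142e197) (.leaf 0x3a32142e197)) (.node 8533 (.leaf 0x3032142e197) (.node 8534 (.leaf 0x3032142e197) (.leaf 0x3032142e197))))) (.node 8540 (.node 8537 (.node 8536 (.leaf 0x3032142e197) (.leaf 0x3032142e197)) (.node 8538 (.leaf 0x3032142e197) (.node 8539 (.leaf 0x3032142e197) (.leaf 0x3032142e197)))) (.node 8542 (.node 8541 (.leaf 0x3032142e197) (.leaf 0x3032142e197)) (.node 8543 (.leaf 0x3032142e197) (.node 8544 (.leaf 0x3032142e197) (.leaf 0x32142e197))))))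

def candS_423 : Store := (.node 8555 (.node 8550 (.node 8547 (.node 8546 (.leaf 0x32142e197) (.leaf 0x32142e197)) (.node 8548 (.leaf 0x32142e197) (.node 8549 (.leaf 0x32142e197) (.leaf 0x32142e197)))) (.node 8552 (.node 8551 (.leaf 0x32142e197) (.leaf 0x32142e197)) (.node 8553 (.leaf 0x32142e197) (.node 8554 (.leaf 0x32142e197) (.leaf 0x32142e197))))) (.node 8560 (.node 8557 (.node 8556 (.leaf 0x32142e197) (.leaf 0x244)) (.node 8558 (.leaf 0x2432142e197) (.node 8559 (.leaf 0x2432142e197) (.leaf 0x20)))) (.node 8562 (.node 8561 (.leaf 0x2432142e197) (.leaf 0x2432142e197)) (.node 8563 (.leaf 0x2432142e197) (.node 8564 (.leaf 0x2432142e197) (.leaf 0x1ac))))))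

def candS_424 : Store := (.node 8575 (.node 8570 (.node 8567 (.node 8566 (.leaf 0x2432142e197) (.leaf 0x206)) (.node 8568 (.leaf 0x2432142e197) (.node 8569 (.leaf 0x2832142e197) (.leaf 0x2832142e197)))) (.node 8572 (.node 8571 (.leaf 0x2832142e197) (.leaf 0x2832142e197)) (.node 8573 (.leaf 0x2832142e197) (.node 8574 (.leaf 0x2832142e197) (.leaf 0x2832142e197))))) (.node 8580 (.node 8577 (.node 8576 (.leaf 0x2832142e197) (.leaf 0x2832142e197)) (.node 8578 (.leaf 0x2832142e197) (.node 8579 (.leaf 0x2832142e197) (.leaf 0x2832142e197)))) (.node 8583 (.node 8581 (.leaf 0x32142e197) (.node 8582 (.leaf 0x32142e197) (.leaf 0x32142e197))) (.node 8584 (.leaf 0x32142e197) (.node 8585 (.leaf 0x32142e197) (.leaf 0x32142e197))))))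

def candS_425 : Store := (.node 8596 (.node 8591 (.node 8588 (.node 8587 (.leaf 0x32142e197) (.leaf 0x32142e197)) (.node 8589 (.leaf 0x32142e197) (.node 8590 (.leaf 0x32142e197) (.leaf 0x32142e197)))) (.node 8593 (.node 8592 (.leaf 0x32142e197) (.leaf 0x32142e197)) (.node 8594 (.leaf 0x32142e197) (.node 8595 (.leaf 0x32142e197) (.leaf 0x32142e197))))) (.node 8601 (.node 8598 (.node 8597 (.leaf 0x32142e197) (.leaf 0x32142e197)) (.node 8599 (.leaf 0x32142e197) (.node 8600 (.leaf 0x32142e197) (.leaf 0x32142e197)))) (.node 8603 (.node 8602 (.leaf 0x32142e197) (.leaf 0x32142e197)) (.node 8604 (.leaf 0x32142e197) (.node 8605 (.leaf 0x32142e197) (.leaf 0x32142e197))))))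

def candS_426 : Store := (.node 8616 (.node 8611 (.node 8608 (.node 8607 (.leaf 0x32142e197) (.leaf 0x32142e197)) (.node 8609 (.leaf 0x32142e197) (.node 8610 (.leaf 0x32142e197) (.leaf 0x32142e197)))) (.node 8613 (.node 8612 (.leaf 0x32142e197) (.leaf 0x32142e197)) (.node 8614 (.leaf 0x32142e197) (.node 8615 (.leaf 0x32142e197) (.leaf 0x32142e197))))) (.node 8621 (.node 8618 (.node 8617 (.leaf 0x32142e197) (.leaf 0x32142e197)) (.node 8619 (.leaf 0x32142e197) (.node 8620 (.leaf 0x32142e197) (.leaf 0x32142e197)))) (.node 8623 (.node 8622 (.leaf 0x32142e197) (.leaf 0x32142e197)) (.node 8624 (.leaf 0x32142e197) (.node 8625 (.leaf 0x32142e197) (.leaf 0x32142e197))))))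

def candS_427 : Store := (.node 8636 (.node 8631 (.node 8628 (.node 8627 (.leaf 0x32142e197) (.leaf 0x32142e197)) (.node 8629 (.leaf 0x32142e197) (.node 8630 (.leaf 0x32142e197) (.leaf 0x32142e197)))) (.node 8633 (.node 8632 (.leaf 0x32142e197) (.leaf 0x32142e197)) (.node 8634 (.leaf 0x32142e197) (.node 8635 (.leaf 0x32142e197) (.leaf 0x32142e197))))) (.node 8641 (.node 8638 (.node 8637 (.leaf 0x32142e197) (.leaf 0x32142e197)) (.node 8639 (.leaf 0x32142e197) (.node 8640 (.leaf 0x32142e197) (.leaf 0x4c13b5cfb)))) (.node 8643 (.node 8642 (.leaf 0x4c13b5cfb) (.leaf 0x4c13b5cfb)) (.node 8644 (.leaf 0x4c13b5cfb) (.node 8645 (.leaf 0x4c13b5cfb) (.leaf 0x4c13b5cfb))))))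

def candS_428 : Store := (.node 8656 (.node 8651 (.node 8648 (.node 8647 (.leaf 0x4c13b5cfb) (.leaf 0x4c13b5cfb)) (.node 8649 (.leaf 0x4c13b5cfb) (.node 8650 (.leaf 0x4c13b5cfb) (.leaf 0x4c13b5cfb)))) (.node 8653 (.node 8652 (.leaf 0x4c13b5cfb) (.leaf 0x4c13b5cfb)) (.node 8654 (.leaf 0x4c13b5cfb) (.node 8655 (.leaf 0x4c13b5cfb) (.leaf 0x4c13b5cfb))))) (.node 8661 (.node 8658 (.node 8657 (.leaf 0x4c13b5cfb) (.leaf 0x4c13b5cfb)) (.node 8659 (.leaf 0x4c13b5cfb) (.node 8660 (.leaf 0x4c13b5cfb) (.leaf 0x4c13b5cfb)))) (.node 8664 (.node 8662 (.leaf 0x4c13b5cfb) (.node 8663 (.leaf 0x4c13b5cfb) (.leaf 0x4c13b5cfb))) (.node 8665 (.leaf 0x4c13b5cfb) (.node 8666 (.leaf 0x4c13b5cfb) (.leaf 0x4c13b5cfb))))))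

def candS_429 : Store := (.node 8677 (.node 8672 (.node 8669 (.node 8668 (.leaf 0x4c13b5cfb) (.leaf 0x4c13b5cfb)) (.node 8670 (.leaf 0x4c13b5cfb) (.node 8671 (.leaf 0x4c13b5cfb) (.leaf 0x4c13b5cfb)))) (.node 8674 (.node 8673 (.leaf 0x4c13b5cfb) (.leaf 0x4c13b5cfb)) (.node 8675 (.leaf 0x4c13b5cfb) (.node 8676 (.leaf 0x4c13b5cfb) (.leaf 0x3e4c13b5cfb))))) (.node 8682 (.node 8679 (.node 8678 (.leaf 0x3e4c13b5cfb) (.leaf 0x3e4c13b5cfb)) (.node 8680 (.leaf 0x3e4c13b5cfb) (.node 8681 (.leaf 0x3e4c13b5cfb) (.leaf 0x3e4c13b5cfb)))) (.node 8684 (.node 8683 (.leaf 0x3e4c13b5cfb) (.leaf 0x3e4c13b5cfb)) (.node 8685 (.leaf 0x3e4c13b5cfb) (.node 8686 (.leaf 0x3e4c13b5cfb) (.leaf 0x3e4c13b5cfb))))))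

def candS_430 : Store := (.node 8697 (.node 8692 (.node 8689 (.node 8688 (.leaf 0x3e4c13b5cfb) (.leaf 0xc4c13b5cfb)) (.node 8690 (.leaf 0xc4c13b5cfb) (.node 8691 (.leaf 0xc4c13b5cfb) (.leaf 0xc4c13b5cfb)))) (.node 8694 (.node 8693 (.leaf 0xc4c13b5cfb) (.leaf 0xc4c13b5cfb)) (.node 8695 (.leaf 0x378) (.node 8696 (.leaf 0xc4c13b5cfb) (.leaf 0x228))))) (.node 8702 (.node 8699 (.node 8698 (.leaf 0xc4c13b5cfb) (.leaf 0x376)) (.node 8700 (.leaf 0x226) (.node 8701 (.leaf 0x4c13b5cfb) (.leaf 0x4c13b5cfb)))) (.node 8704 (.node 8703 (.leaf 0x4c13b5cfb) (.leaf 0x4c13b5cfb)) (.node 8705 (.leaf 0x4c13b5cfb) (.node 8706 (.leaf 0x4c13b5cfb) (.leaf 0x4c13b5cfb))))))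

def candS_431 : Store := (.node 8717 (.node 8712 (.node 8709 (.node 8708 (.leaf 0x4c13b5cfb) (.leaf 0x4c13b5cfb)) (.node 8710 (.leaf 0x4c13b5cfb) (.node 8711 (.leaf 0x4c13b5cfb) (.leaf 0x4c13b5cfb)))) (.node 8714 (.node 8713 (.leaf 0x104c13b5cfb) (.leaf 0x104c13b5cfb)) (.node 8715 (.leaf 0x104c13b5cfb) (.node 8716 (.leaf 0x104c13b5cfb) (.leaf 0x104c13b5cfb))))) (.node 8722 (.node 8719 (.node 8718 (.leaf 0x104c13b5cfb) (.leaf 0x104c13b5cfb)) (.node 8720 (.leaf 0x104c13b5cfb) (.node 8721 (.leaf 0x104c13b5cfb) (.leaf 0x104c13b5cfb)))) (.node 8724 (.node 8723 (.leaf 0x104c13b5cfb) (.leaf 0x104c13b5cfb)) (.node 8725 (.leaf 0x424c13b5cfb) (.node 8726 (.leaf 0x424c13b5cfb) (.leaf 0x424c13b5cfb))))))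

def candS_432 : Store := (.node 8737 (.node 8732 (.node 8729 (.node 8728 (.leaf 0x424c13b5cfb) (.leaf 0x424c13b5cfb)) (.node 8730 (.leaf 0x424c13b5cfb) (.node 8731 (.leaf 0x424c13b5cfb) (.leaf 0x424c13b5cfb)))) (.node 8734 (.node 8733 (.leaf 0x424c13b5cfb) (.leaf 0x424c13b5cfb)) (.node 8735 (.leaf 0x424c13b5cfb) (.node 8736 (.leaf 0x424c13b5cfb) (.leaf 0x244c13b5cfb))))) (.node 8742 (.node 8739 (.node 8738 (.leaf 0x244c13b5cfb) (.leaf 0x244c13b5cfb)) (.node 8740 (.leaf 0x244c13b5cfb) (.node 8741 (.leaf 0x244c13b5cfb) (.leaf 0x244c13b5cfb)))) (.node 8745 (.node 8743 (.leaf 0x244c13b5cfb) (.node 8744 (.leaf 0x244c13b5cfb) (.leaf 0x244c13b5cfb))) (.node 8746 (.leaf 0x244c13b5cfb) (.node 8747 (.leaf 0x244c13b5cfb) (.leaf 0x244c13b5cfb))))))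

def candS_433 : Store := (.node 8758 (.node 8753 (.node 8750 (.node 8749 (.leaf 0x4c13b5cfb) (.leaf 0x4c13b5cfb)) (.node 8751 (.leaf 0x4c13b5cfb) (.node 8752 (.leaf 0x4c13b5cfb) (.leaf 0x4c13b5cfb)))) (.node 8755 (.node 8754 (.leaf 0x4c13b5cfb) (.leaf 0x4c13b5cfb)) (.node 8756 (.leaf 0x4c13b5cfb) (.node 8757 (.leaf 0x4c13b5cfb) (.leaf 0x4c13b5cfb))))) (.node 8763 (.node 8760 (.node 8759 (.leaf 0x4c13b5cfb) (.leaf 0x4c13b5cfb)) (.node 8761 (.leaf 0x1a4c13b5cfb) (.node 8762 (.leaf 0x8001a4c13b5cfb) (.leaf 0x68001a4c13b5cfb)))) (.node 8765 (.node 8764 (.leaf 0x1a4c13b5cfb) (.leaf 0x50001a4c13b5cfb)) (.node 8766 (.leaf 0x1a4c13b5cfb) (.node 8767 (.leaf 0x1a4c13b5cfb) (.leaf 0x58001a4c13b5cfb))))))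

def candS_434 : Store := (.node 8778 (.node 8773 (.node 8770 (.node 8769 (.leaf 0x1a4c13b5cfb) (.leaf 0x1a4c13b5cfb)) (.node 8771 (.leaf 0x1a4c13b5cfb) (.node 8772 (.leaf 0x1a4c13b5cfb) (.leaf 0x4c13b5cfb)))) (.node 8775 (.node 8774 (.leaf 0x4c13b5cfb) (.leaf 0x4c13b5cfb)) (.node 8776 (.leaf 0x4c13b5cfb) (.node 8777 (.leaf 0x4c13b5cfb) (.leaf 0x4c13b5cfb))))) (.node 8783 (.node 8780 (.node 8779 (.leaf 0x4c13b5cfb) (.leaf 0x4c13b5cfb)) (.node 8781 (.leaf 0x4c13b5cfb) (.node 8782 (.leaf 0x4c13b5cfb) (.leaf 0x4c13b5cfb)))) (.node 8785 (.node 8784 (.leaf 0x4c13b5cfb) (.leaf 0x123d1935cfb)) (.node 8786 (.leaf 0x123d1935cfb) (.node 8787 (.leaf 0x172) (.leaf 0x123d1935cfb))))))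

def candS_435 : Store := (.node 8798 (.node 8793 (.node 8790 (.node 8789 (.leaf 0x39e) (.leaf 0x78)) (.node 8791 (.leaf 0x123d1935cfb) (.node 8792 (.leaf 0x2d0) (.leaf 0x123d1935cfb)))) (.node 8795 (.node 8794 (.leaf 0x123d1935cfb) (.leaf 0x123d1935cfb)) (.node 8796 (.leaf 0x123d1935cfb) (.node 8797 (.leaf 0x3d1935cfb) (.leaf 0x3d1935cfb))))) (.node 8803 (.node 8800 (.node 8799 (.leaf 0x3d1935cfb) (.leaf 0x3d1935cfb)) (.node 8801 (.leaf 0x3d1935cfb) (.node 8802 (.leaf 0x3d1935cfb) (.leaf 0x3d1935cfb)))) (.node 8805 (.node 8804 (.leaf 0x3d1935cfb) (.leaf 0x3d1935cfb)) (.node 8806 (.leaf 0x3d1935cfb) (.node 8807 (.leaf 0x3d1935cfb) (.leaf 0x3d1935cfb))))))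

def candS_436 : Store := (.node 8818 (.node 8813 (.node 8810 (.node 8809 (.leaf 0xa3d1935cfb) (.leaf 0xa3d1935cfb)) (.node 8811 (.leaf 0xa3d1935cfb) (.node 8812 (.leaf 0xa3d1935cfb) (.leaf 0xa3d1935cfb)))) (.node 8815 (.node 8814 (.leaf 0xa3d1935cfb) (.leaf 0xa3d1935cfb)) (.node 8816 (.leaf 0xa3d1935cfb) (.node 8817 (.leaf 0xa3d1935cfb) (.leaf 0xa3d1935cfb))))) (.node 8823 (.node 8820 (.node 8819 (.leaf 0xa3d1935cfb) (.leaf 0xa3d1935cfb)) (.node 8821 (.leaf 0x3800243d1935cfb) (.node 8822 (.leaf 0x243d1935cfb) (.leaf 0x243d1935cfb)))) (.node 8826 (.node 8824 (.leaf 0x243d1935cfb) (.node 8825 (.leaf 0x243d1935cfb) (.leaf 0x243d1935cfb))) (.node 8827 (.leaf 0x9000243d1935cfb) (.node 8828 (.leaf 0x243d1935cfb) (.leaf 0x1800243d1935cfb))))))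

def candS_437 : Store := (.node 8839 (.node 8834 (.node 8831 (.node 8830 (.leaf 0x243d1935cfb) (.leaf 0x243d1935cfb)) (.node 8832 (.leaf 0x2800243d1935cfb) (.node 8833 (.leaf 0x3d1935cfb) (.leaf 0x3d1935cfb)))) (.node 8836 (.node 8835 (.leaf 0x3d1935cfb) (.leaf 0x3d1935cfb)) (.node 8837 (.leaf 0x3d1935cfb) (.node 8838 (.leaf 0x3d1935cfb) (.leaf 0x3d1935cfb))))) (.node 8844 (.node 8841 (.node 8840 (.leaf 0x3d1935cfb) (.leaf 0x3d1935cfb)) (.node 8842 (.leaf 0x3d1935cfb) (.node 8843 (.leaf 0x3d1935cfb) (.leaf 0x3d1935cfb)))) (.node 8846 (.node 8845 (.leaf 0x3a3d1935cfb) (.leaf 0x3a3d1935cfb)) (.node 8847 (.leaf 0x3a3d1935cfb) (.node 8848 (.leaf 0x3a3d1935cfb) (.leaf 0x3a3d1935cfb))))))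

def candS_438 : Store := (.node 8859 (.node 8854 (.node 8851 (.node 8850 (.leaf 0x3a3d1935cfb) (.leaf 0x3a3d1935cfb)) (.node 8852 (.leaf 0x3a3d1935cfb) (.node 8853 (.leaf 0x3a3d1935cfb) (.leaf 0x3a3d1935cfb)))) (.node 8856 (.node 8855 (.leaf 0x3a3d1935cfb) (.leaf 0x3a3d1935cfb)) (.node 8857 (.leaf 0x3d1935cfb) (.node 8858 (.leaf 0x3d1935cfb) (.leaf 0x3d1935cfb))))) (.node 8864 (.node 8861 (.node 8860 (.leaf 0x3d1935cfb) (.leaf 0x3d1935cfb)) (.node 8862 (.leaf 0x3d1935cfb) (.node 8863 (.leaf 0x3d1935cfb) (.leaf 0x3d1935cfb)))) (.node 8866 (.node 8865 (.leaf 0x3d1935cfb) (.leaf 0x3d1935cfb)) (.node 8867 (.leaf 0x3d1935cfb) (.node 8868 (.leaf 0x3d1935cfb) (.leaf 0x3d1935cfb))))))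

def candS_439 : Store := (.node 8879 (.node 8874 (.node 8871 (.node 8870 (.leaf 0x3d1935cfb) (.leaf 0x3d1935cfb)) (.node 8872 (.leaf 0x3d1935cfb) (.node 8873 (.leaf 0x3d1935cfb) (.leaf 0x3d1935cfb)))) (.node 8876 (.node 8875 (.leaf 0x3d1935cfb) (.leaf 0x3d1935cfb)) (.node 8877 (.leaf 0x3d1935cfb) (.node 8878 (.leaf 0x3d1935cfb) (.leaf 0x3d1935cfb))))) (.node 8884 (.node 8881 (.node 8880 (.leaf 0x3d1935cfb) (.leaf 0x3d1935cfb)) (.node 8882 (.leaf 0x3d1935cfb) (.node 8883 (.leaf 0x3d1935cfb) (.leaf 0x3d1935cfb)))) (.node 8886 (.node 8885 (.leaf 0x3d1935cfb) (.leaf 0x3d1935cfb)) (.node 8887 (.leaf 0x3d1935cfb) (.node 8888 (.leaf 0x3d1935cfb) (.leaf 0x3d1935cfb))))))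

def candS_440 : Store := (.node 8899 (.node 8894 (.node 8891 (.node 8890 (.leaf 0x3d1935cfb) (.leaf 0x3d1935cfb)) (.node 8892 (.leaf 0x3d1935cfb) (.node 8893 (.leaf 0x3d1935cfb) (.leaf 0x3d1935cfb)))) (.node 8896 (.node 8895 (.leaf 0x3d1935cfb) (.leaf 0x3d1935cfb)) (.node 8897 (.leaf 0x3d1935cfb) (.node 8898 (.leaf 0x3d1935cfb) (.leaf 0x3d1935cfb))))) (.node 8904 (.node 8901 (.node 8900 (.leaf 0x3d1935cfb) (.leaf 0x3d1935cfb)) (.node 8902 (.leaf 0x3d1935cfb) (.node 8903 (.leaf 0x3d1935cfb) (.leaf 0x3d1935cfb)))) (.node 8907 (.node 8905 (.leaf 0x343d1935cfb) (.node 8906 (.leaf 0x343d1935cfb) (.leaf 0x343d1935cfb))) (.node 8908 (.leaf 0x343d1935cfb) (.node 8909 (.leaf 0x343d1935cfb) (.leaf 0x343d1935cfb))))))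

def candS_441 : Store := (.node 8920 (.node 8915 (.node 8912 (.node 8911 (.leaf 0x343d1935cfb) (.leaf 0x343d1935cfb)) (.node 8913 (.leaf 0x343d1935cfb) (.node 8914 (.leaf 0x343d1935cfb) (.leaf 0x343d1935cfb)))) (.node 8917 (.node 8916 (.leaf 0x343d1935cfb) (.leaf 0x1a3d1935cfb)) (.node 8918 (.leaf 0x1a3d1935cfb) (.node 8919 (.leaf 0x1a3d1935cfb) (.leaf 0x1a3d1935cfb))))) (.node 8925 (.node 8922 (.node 8921 (.leaf 0x1a3d1935cfb) (.leaf 0x1a3d1935cfb)) (.node 8923 (.leaf 0x1a3d1935cfb) (.node 8924 (.leaf 0x1a3d1935cfb) (.leaf 0x1a3d1935cfb)))) (.node 8927 (.node 8926 (.leaf 0x1a3d1935cfb) (.leaf 0x1a3d1935cfb)) (.node 8928 (.leaf 0x1a3d1935cfb) (.node 8929 (.leaf 0x1e2a1235cfb) (.leaf 0x282))))))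

def candS_442 : Store := (.node 8940 (.node 8935 (.node 8932 (.node 8931 (.leaf 0x1e2a1235cfb) (.leaf 0x1e2a1235cfb)) (.node 8933 (.leaf 0x2fe) (.node 8934 (.leaf 0x13e) (.leaf 0x1e2a1235cfb)))) (.node 8937 (.node 8936 (.leaf 0x2c0) (.leaf 0x1e2a1235cfb)) (.node 8938 (.leaf 0x1e2a1235cfb) (.node 8939 (.leaf 0x1e2a1235cfb) (.leaf 0x1e2a1235cfb))))) (.node 8945 (.node 8942 (.node 8941 (.leaf 0x2a1235cfb) (.leaf 0x2a1235cfb)) (.node 8943 (.leaf 0x2a1235cfb) (.node 8944 (.leaf 0x2a1235cfb) (.leaf 0x2a1235cfb)))) (.node 8947 (.node 8946 (.leaf 0x2a1235cfb) (.leaf 0x2a1235cfb)) (.node 8948 (.leaf 0x2a1235cfb) (.node 8949 (.leaf 0x2a1235cfb) (.leaf 0x2a1235cfb))))))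

def candS_443 : Store := (.node 8960 (.node 8955 (.node 8952 (.node 8951 (.leaf 0x2a1235cfb) (.leaf 0x2a1235cfb)) (.node 8953 (.leaf 0x342a1235cfb) (.node 8954 (.leaf 0x342a1235cfb) (.leaf 0x342a1235cfb)))) (.node 8957 (.node 8956 (.leaf 0x342a1235cfb) (.leaf 0x342a1235cfb)) (.node 8958 (.leaf 0x342a1235cfb) (.node 8959 (.leaf 0x342a1235cfb) (.leaf 0x342a1235cfb))))) (.node 8965 (.node 8962 (.node 8961 (.leaf 0x342a1235cfb) (.leaf 0x342a1235cfb)) (.node 8963 (.leaf 0x342a1235cfb) (.node 8964 (.leaf 0x342a1235cfb) (.leaf 0x2a1235cfb)))) (.node 8967 (.node 8966 (.leaf 0x2a1235cfb) (.leaf 0x2a1235cfb)) (.node 8968 (.leaf 0x2a1235cfb) (.node 8969 (.leaf 0x2a1235cfb) (.leaf 0x2a1235cfb))))))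

def candS_444 : Store := (.node 8980 (.node 8975 (.node 8972 (.node 8971 (.leaf 0x2a1235cfb) (.leaf 0x2a1235cfb)) (.node 8973 (.leaf 0x2a1235cfb) (.node 8974 (.leaf 0x2a1235cfb) (.leaf 0x2a1235cfb)))) (.node 8977 (.node 8976 (.leaf 0x2a1235cfb) (.leaf 0x2a1235cfb)) (.node 8978 (.leaf 0x2a1235cfb) (.node 8979 (.leaf 0x2a1235cfb) (.leaf 0x2a1235cfb))))) (.node 8985 (.node 8982 (.node 8981 (.leaf 0x2a1235cfb) (.leaf 0x2a1235cfb)) (.node 8983 (.leaf 0x2a1235cfb) (.node 8984 (.leaf 0x2a1235cfb) (.leaf 0x2a1235cfb)))) (.node 8988 (.node 8986 (.leaf 0x2a1235cfb) (.node 8987 (.leaf 0x2a1235cfb) (.leaf 0x2a1235cfb))) (.node 8989 (.leaf 0x2a1235cfb) (.node 8990 (.leaf 0x2a1235cfb) (.leaf 0x2a1235cfb))))))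

def candS_445 : Store := (.node 9001 (.node 8996 (.node 8993 (.node 8992 (.leaf 0x2a1235cfb) (.leaf 0x2a1235cfb)) (.node 8994 (.leaf 0x2a1235cfb) (.node 8995 (.leaf 0x2a1235cfb) (.leaf 0x2a1235cfb)))) (.node 8998 (.node 8997 (.leaf 0x2a1235cfb) (.leaf 0x2a1235cfb)) (.node 8999 (.leaf 0x2a1235cfb) (.node 9000 (.leaf 0x2a1235cfb) (.leaf 0x2a1235cfb))))) (.node 9006 (.node 9003 (.node 9002 (.leaf 0x2a1235cfb) (.leaf 0x2a1235cfb)) (.node 9004 (.leaf 0x2a1235cfb) (.node 9005 (.leaf 0x2a1235cfb) (.leaf 0x2a1235cfb)))) (.node 9008 (.node 9007 (.leaf 0x2a1235cfb) (.leaf 0x2a1235cfb)) (.node 9009 (.leaf 0x2a1235cfb) (.node 9010 (.leaf 0x2a1235cfb) (.leaf 0x2a1235cfb))))))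

def candS_446 : Store := (.node 9021 (.node 9016 (.node 9013 (.node 9012 (.leaf 0x2a1235cfb) (.leaf 0x800382a1235cfb)) (.node 9014 (.leaf 0x382a1235cfb) (.node 9015 (.leaf 0x382a1235cfb) (.leaf 0x382a1235cfb)))) (.node 9018 (.node 9017 (.leaf 0x382a1235cfb) (.leaf 0x382a1235cfb)) (.node 9019 (.leaf 0x382a1235cfb) (.node 9020 (.leaf 0x382a1235cfb) (.leaf 0x6800382a1235cfb))))) (.node 9026 (.node 9023 (.node 9022 (.leaf 0x382a1235cfb) (.leaf 0x5000382a1235cfb)) (.node 9024 (.leaf 0x5800382a1235cfb) (.node 9025 (.leaf 0x2a1235cfb) (.leaf 0x2a1235cfb)))) (.node 9028 (.node 9027 (.leaf 0x2a1235cfb) (.leaf 0x2a1235cfb)) (.node 9029 (.leaf 0x2a1235cfb) (.node 9030 (.leaf 0x2a1235cfb) (.leaf 0x2a1235cfb))))))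

def candS_447 : Store := (.node 9041 (.node 9036 (.node 9033 (.node 9032 (.leaf 0x2a1235cfb) (.leaf 0x2a1235cfb)) (.node 9034 (.leaf 0x2a1235cfb) (.node 9035 (.leaf 0x2a1235cfb) (.leaf 0x2a1235cfb)))) (.node 9038 (.node 9037 (.leaf 0x182a1235cfb) (.leaf 0x182a1235cfb)) (.node 9039 (.leaf 0x182a1235cfb) (.node 9040 (.leaf 0x182a1235cfb) (.leaf 0x182a1235cfb))))) (.node 9046 (.node 9043 (.node 9042 (.leaf 0x182a1235cfb) (.leaf 0x182a1235cfb)) (.node 9044 (.leaf 0x182a1235cfb) (.node 9045 (.leaf 0x182a1235cfb) (.leaf 0x182a1235cfb)))) (.node 9048 (.node 9047 (.leaf 0x182a1235cfb) (.leaf 0x182a1235cfb)) (.node 9049 (.leaf 0x362a1235cfb) (.node 9050 (.leaf 0x362a1235cfb) (.leaf 0x362a1235cfb))))))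

def candS_448 : Store := (.node 9061 (.node 9056 (.node 9053 (.node 9052 (.leaf 0x362a1235cfb) (.leaf 0x362a1235cfb)) (.node 9054 (.leaf 0x362a1235cfb) (.node 9055 (.leaf 0x362a1235cfb) (.leaf 0x362a1235cfb)))) (.node 9058 (.node 9057 (.leaf 0x362a1235cfb) (.leaf 0x362a1235cfb)) (.node 9059 (.leaf 0x362a1235cfb) (.node 9060 (.leaf 0x362a1235cfb) (.leaf 0x102a1235cfb))))) (.node 9066 (.node 9063 (.node 9062 (.leaf 0x102a1235cfb) (.leaf 0x102a1235cfb)) (.node 9064 (.leaf 0x102a1235cfb) (.node 9065 (.leaf 0x102a1235cfb) (.leaf 0x102a1235cfb)))) (.node 9069 (.node 9067 (.leaf 0x102a1235cfb) (.node 9068 (.leaf 0x102a1235cfb) (.leaf 0x102a1235cfb))) (.node 9070 (.leaf 0x102a1235cfb) (.node 9071 (.leaf 0x102a1235cfb) (.leaf 0x102a1235cfb))))))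

def candS_449 : Store := (.node 9082 (.node 9077 (.node 9074 (.node 9073 (.leaf 0x3225b5cfb) (.leaf 0x3225b5cfb)) (.node 9075 (.leaf 0x3225b5cfb) (.node 9076 (.leaf 0x3225b5cfb) (.leaf 0x3225b5cfb)))) (.node 9079 (.node 9078 (.leaf 0x3225b5cfb) (.leaf 0x3225b5cfb)) (.node 9080 (.leaf 0x3225b5cfb) (.node 9081 (.leaf 0x3225b5cfb) (.leaf 0x3225b5cfb))))) (.node 9087 (.node 9084 (.node 9083 (.leaf 0x3225b5cfb) (.leaf 0x3225b5cfb)) (.node 9085 (.leaf 0x3225b5cfb) (.node 9086 (.leaf 0x3225b5cfb) (.leaf 0x3225b5cfb)))) (.node 9089 (.node 9088 (.leaf 0x3225b5cfb) (.leaf 0x3225b5cfb)) (.node 9090 (.leaf 0x3225b5cfb) (.node 9091 (.leaf 0x3225b5cfb) (.leaf 0x3225b5cfb))))))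

def candS_450 : Store := (.node 9102 (.node 9097 (.node 9094 (.node 9093 (.leaf 0x3225b5cfb) (.leaf 0x3225b5cfb)) (.node 9095 (.leaf 0x3225b5cfb) (.node 9096 (.leaf 0x3225b5cfb) (.leaf 0x3c3225b5cfb)))) (.node 9099 (.node 9098 (.leaf 0x3c3225b5cfb) (.leaf 0x3c3225b5cfb)) (.node 9100 (.leaf 0x3c3225b5cfb) (.node 9101 (.leaf 0x3c3225b5cfb) (.leaf 0x3c3225b5cfb))))) (.node 9107 (.node 9104 (.node 9103 (.leaf 0x3c3225b5cfb) (.leaf 0x3c3225b5cfb)) (.node 9105 (.leaf 0x3c3225b5cfb) (.node 9106 (.leaf 0x3c3225b5cfb) (.leaf 0x3c3225b5cfb)))) (.node 9109 (.node 9108 (.leaf 0x3c3225b5cfb) (.leaf 0x3225b5cfb)) (.node 9110 (.leaf 0x3225b5cfb) (.node 9111 (.leaf 0x3225b5cfb) (.leaf 0x3225b5cfb))))))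

def candS_451 : Store := (.node 9122 (.node 9117 (.node 9114 (.node 9113 (.leaf 0x3225b5cfb) (.leaf 0x3225b5cfb)) (.node 9115 (.leaf 0x3225b5cfb) (.node 9116 (.leaf 0x3225b5cfb) (.leaf 0x3225b5cfb)))) (.node 9119 (.node 9118 (.leaf 0x3225b5cfb) (.leaf 0x3225b5cfb)) (.node 9120 (.leaf 0x3225b5cfb) (.node 9121 (.leaf 0x143225b5cfb) (.leaf 0x143225b5cfb))))) (.node 9127 (.node 9124 (.node 9123 (.leaf 0x143225b5cfb) (.leaf 0x143225b5cfb)) (.node 9125 (.leaf 0x143225b5cfb) (.node 9126 (.leaf 0x143225b5cfb) (.leaf 0x143225b5cfb)))) (.node 9129 (.node 9128 (.leaf 0x143225b5cfb) (.leaf 0x143225b5cfb)) (.node 9130 (.leaf 0x143225b5cfb) (.node 9131 (.leaf 0x143225b5cfb) (.leaf 0x143225b5cfb))))))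

def candS_452 : Store := (.node 9142 (.node 9137 (.node 9134 (.node 9133 (.leaf 0x3e3225b5cfb) (.leaf 0x3e3225b5cfb)) (.node 9135 (.leaf 0x3e3225b5cfb) (.node 9136 (.leaf 0x3e3225b5cfb) (.leaf 0x3e3225b5cfb)))) (.node 9139 (.node 9138 (.leaf 0x3e3225b5cfb) (.leaf 0x3e3225b5cfb)) (.node 9140 (.leaf 0x3e3225b5cfb) (.node 9141 (.leaf 0x3e3225b5cfb) (.leaf 0x3e3225b5cfb))))) (.node 9147 (.node 9144 (.node 9143 (.leaf 0x3e3225b5cfb) (.leaf 0x3e3225b5cfb)) (.node 9145 (.leaf 0x3225b5cfb) (.node 9146 (.leaf 0x3225b5cfb) (.leaf 0x3225b5cfb)))) (.node 9150 (.node 9148 (.leaf 0x3225b5cfb) (.node 9149 (.leaf 0x3225b5cfb) (.leaf 0x3225b5cfb))) (.node 9151 (.leaf 0x3225b5cfb) (.node 9152 (.leaf 0x3225b5cfb) (.leaf 0x3225b5cfb))))))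

def candS_453 : Store := (.node 9163 (.node 9158 (.node 9155 (.node 9154 (.leaf 0x3225b5cfb) (.leaf 0x3225b5cfb)) (.node 9156 (.leaf 0x3225b5cfb) (.node 9157 (.leaf 0x3225b5cfb) (.leaf 0x3225b5cfb)))) (.node 9160 (.node 9159 (.leaf 0x3225b5cfb) (.leaf 0x3225b5cfb)) (.node 9161 (.leaf 0x3225b5cfb) (.node 9162 (.leaf 0x3225b5cfb) (.leaf 0x3225b5cfb))))) (.node 9168 (.node 9165 (.node 9164 (.leaf 0x3225b5cfb) (.leaf 0x3225b5cfb)) (.node 9166 (.leaf 0x3225b5cfb) (.node 9167 (.leaf 0x3225b5cfb) (.leaf 0x3225b5cfb)))) (.node 9170 (.node 9169 (.leaf 0x3225b5cfb) (.leaf 0x3225b5cfb)) (.node 9171 (.leaf 0x3225b5cfb) (.node 9172 (.leaf 0x3225b5cfb) (.leaf 0x3225b5cfb))))))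

def candS_454 : Store := (.node 9183 (.node 9178 (.node 9175 (.node 9174 (.leaf 0x3225b5cfb) (.leaf 0x3225b5cfb)) (.node 9176 (.leaf 0x3225b5cfb) (.node 9177 (.leaf 0x3225b5cfb) (.leaf 0x3225b5cfb)))) (.node 9180 (.node 9179 (.leaf 0x3225b5cfb) (.leaf 0x3225b5cfb)) (.node 9181 (.leaf 0x443225b5cfb) (.node 9182 (.leaf 0x443225b5cfb) (.leaf 0x443225b5cfb))))) (.node 9188 (.node 9185 (.node 9184 (.leaf 0x443225b5cfb) (.leaf 0x443225b5cfb)) (.node 9186 (.leaf 0x443225b5cfb) (.node 9187 (.leaf 0x443225b5cfb) (.leaf 0x443225b5cfb)))) (.node 9190 (.node 9189 (.leaf 0x443225b5cfb) (.leaf 0x443225b5cfb)) (.node 9191 (.leaf 0x443225b5cfb) (.node 9192 (.leaf 0x443225b5cfb) (.leaf 0x43225b5cfb))))))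

def candS_455 : Store := (.node 9203 (.node 9198 (.node 9195 (.node 9194 (.leaf 0x43225b5cfb) (.leaf 0x43225b5cfb)) (.node 9196 (.leaf 0x43225b5cfb) (.node 9197 (.leaf 0x43225b5cfb) (.leaf 0x43225b5cfb)))) (.node 9200 (.node 9199 (.leaf 0x43225b5cfb) (.leaf 0x43225b5cfb)) (.node 9201 (.leaf 0x43225b5cfb) (.node 9202 (.leaf 0x43225b5cfb) (.leaf 0x43225b5cfb))))) (.node 9208 (.node 9205 (.node 9204 (.leaf 0x43225b5cfb) (.leaf 0x183225b5cfb)) (.node 9206 (.leaf 0x183225b5cfb) (.node 9207 (.leaf 0x183225b5cfb) (.leaf 0x183225b5cfb)))) (.node 9210 (.node 9209 (.leaf 0x183225b5cfb) (.leaf 0x183225b5cfb)) (.node 9211 (.leaf 0x183225b5cfb) (.node 9212 (.leaf 0x183225b5cfb) (.leaf 0x183225b5cfb))))))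

def candS_456 : Store := (.node 9223 (.node 9218 (.node 9215 (.node 9214 (.leaf 0x183225b5cfb) (.leaf 0x183225b5cfb)) (.node 9216 (.leaf 0x183225b5cfb) (.node 9217 (.leaf 0x28450735cfb) (.leaf 0x2ea)))) (.node 9220 (.node 9219 (.leaf 0x2aa) (.leaf 0x28450735cfb)) (.node 9221 (.leaf 0x28450735cfb) (.node 9222 (.leaf 0x148) (.leaf 0x28450735cfb))))) (.node 9228 (.node 9225 (.node 9224 (.leaf 0x8c) (.leaf 0x28450735cfb)) (.node 9226 (.leaf 0x28450735cfb) (.node 9227 (.leaf 0x28450735cfb) (.leaf 0x28450735cfb)))) (.node 9231 (.node 9229 (.leaf 0x450735cfb) (.node 9230 (.leaf 0x450735cfb) (.leaf 0x450735cfb))) (.node 9232 (.leaf 0x450735cfb) (.node 9233 (.leaf 0x450735cfb) (.leaf 0x450735cfb))))))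

def candS_457 : Store := (.node 9244 (.node 9239 (.node 9236 (.node 9235 (.leaf 0x450735cfb) (.leaf 0x450735cfb)) (.node 9237 (.leaf 0x450735cfb) (.node 9238 (.leaf 0x450735cfb) (.leaf 0x450735cfb)))) (.node 9241 (.node 9240 (.leaf 0x450735cfb) (.leaf 0x450735cfb)) (.node 9242 (.leaf 0x450735cfb) (.node 9243 (.leaf 0x450735cfb) (.leaf 0x450735cfb))))) (.node 9249 (.node 9246 (.node 9245 (.leaf 0x450735cfb) (.leaf 0x450735cfb)) (.node 9247 (.leaf 0x450735cfb) (.node 9248 (.leaf 0x450735cfb) (.leaf 0x450735cfb)))) (.node 9251 (.node 9250 (.leaf 0x450735cfb) (.leaf 0x450735cfb)) (.node 9252 (.leaf 0x450735cfb) (.node 9253 (.leaf 0x450735cfb) (.leaf 0x450735cfb))))))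

def candS_458 : Store := (.node 9264 (.node 9259 (.node 9256 (.node 9255 (.leaf 0x450735cfb) (.leaf 0x450735cfb)) (.node 9257 (.leaf 0x450735cfb) (.node 9258 (.leaf 0x450735cfb) (.leaf 0x450735cfb)))) (.node 9261 (.node 9260 (.leaf 0x450735cfb) (.leaf 0x450735cfb)) (.node 9262 (.leaf 0x450735cfb) (.node 9263 (.leaf 0x450735cfb) (.leaf 0x450735cfb))))) (.node 9269 (.node 9266 (.node 9265 (.leaf 0x450735cfb) (.leaf 0x450735cfb)) (.node 9267 (.leaf 0x450735cfb) (.node 9268 (.leaf 0x450735cfb) (.leaf 0x450735cfb)))) (.node 9271 (.node 9270 (.leaf 0x450735cfb) (.leaf 0x450735cfb)) (.node 9272 (.leaf 0x450735cfb) (.node 9273 (.leaf 0x450735cfb) (.leaf 0x450735cfb))))))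

def candS_459 : Store := (.node 9284 (.node 9279 (.node 9276 (.node 9275 (.leaf 0x450735cfb) (.leaf 0x450735cfb)) (.node 9277 (.leaf 0x20450735cfb) (.node 9278 (.leaf 0x20450735cfb) (.leaf 0x20450735cfb)))) (.node 9281 (.node 9280 (.leaf 0x20450735cfb) (.leaf 0x20450735cfb)) (.node 9282 (.leaf 0x20450735cfb) (.node 9283 (.leaf 0x20450735cfb) (.leaf 0x20450735cfb))))) (.node 9289 (.node 9286 (.node 9285 (.leaf 0x20450735cfb) (.leaf 0x20450735cfb)) (.node 9287 (.leaf 0x20450735cfb) (.node 9288 (.leaf 0x20450735cfb) (.leaf 0x450735cfb)))) (.node 9291 (.node 9290 (.leaf 0x450735cfb) (.leaf 0x450735cfb)) (.node 9292 (.leaf 0x450735cfb) (.node 9293 (.leaf 0x450735cfb) (.leaf 0x450735cfb))))))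

def candS_460 : Store := (.node 9304 (.node 9299 (.node 9296 (.node 9295 (.leaf 0x450735cfb) (.leaf 0x450735cfb)) (.node 9297 (.leaf 0x450735cfb) (.node 9298 (.leaf 0x450735cfb) (.leaf 0x450735cfb)))) (.node 9301 (.node 9300 (.leaf 0x450735cfb) (.leaf 0x450735cfb)) (.node 9302 (.leaf 0x450735cfb) (.node 9303 (.leaf 0x450735cfb) (.leaf 0x450735cfb))))) (.node 9309 (.node 9306 (.node 9305 (.leaf 0x450735cfb) (.leaf 0x450735cfb)) (.node 9307 (.leaf 0x450735cfb) (.node 9308 (.leaf 0x450735cfb) (.leaf 0x450735cfb)))) (.node 9312 (.node 9310 (.leaf 0x450735cfb) (.node 9311 (.leaf 0x450735cfb) (.leaf 0x450735cfb))) (.node 9313 (.leaf 0x30003a450735cfb) (.node 9314 (.leaf 0x3a450735cfb) (.leaf 0x3a450735cfb))))))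

def candS_461 : Store := (.node 9325 (.node 9320 (.node 9317 (.node 9316 (.leaf 0x3a450735cfb) (.leaf 0x3a450735cfb)) (.node 9318 (.leaf 0x3a450735cfb) (.node 9319 (.leaf 0x60003a450735cfb) (.leaf 0x3a450735cfb)))) (.node 9322 (.node 9321 (.leaf 0x78003a450735cfb) (.leaf 0x3a450735cfb)) (.node 9323 (.leaf 0x20003a450735cfb) (.node 9324 (.leaf 0x3a450735cfb) (.leaf 0x3c450735cfb))))) (.node 9330 (.node 9327 (.node 9326 (.leaf 0x3c450735cfb) (.leaf 0x3c450735cfb)) (.node 9328 (.leaf 0x3c450735cfb) (.node 9329 (.leaf 0x3c450735cfb) (.leaf 0x3c450735cfb)))) (.node 9332 (.node 9331 (.leaf 0x3c450735cfb) (.leaf 0x3c450735cfb)) (.node 9333 (.leaf 0x3c450735cfb) (.node 9334 (.leaf 0x3c450735cfb) (.leaf 0x3c450735cfb))))))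

def candS_462 : Store := (.node 9345 (.node 9340 (.node 9337 (.node 9336 (.leaf 0x3c450735cfb) (.leaf 0x30450735cfb)) (.node 9338 (.leaf 0x30450735cfb) (.node 9339 (.leaf 0x30450735cfb) (.leaf 0x30450735cfb)))) (.node 9342 (.node 9341 (.leaf 0x30450735cfb) (.leaf 0x30450735cfb)) (.node 9343 (.leaf 0x30450735cfb) (.node 9344 (.leaf 0x30450735cfb) (.leaf 0x30450735cfb))))) (.node 9350 (.node 9347 (.node 9346 (.leaf 0x30450735cfb) (.leaf 0x30450735cfb)) (.node 9348 (.leaf 0x30450735cfb) (.node 9349 (.leaf 0x24450735cfb) (.leaf 0x24450735cfb)))) (.node 9352 (.node 9351 (.leaf 0x24450735cfb) (.leaf 0x24450735cfb)) (.node 9353 (.leaf 0x24450735cfb) (.node 9354 (.leaf 0x24450735cfb) (.leaf 0x24450735cfb))))))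

def candS_463 : Store := (.node 9365 (.node 9360 (.node 9357 (.node 9356 (.leaf 0x24450735cfb) (.leaf 0x24450735cfb)) (.node 9358 (.leaf 0x24450735cfb) (.node 9359 (.leaf 0x24450735cfb) (.leaf 0x24450735cfb)))) (.node 9362 (.node 9361 (.leaf 0x12261835cfb) (.leaf 0x2e6)) (.node 9363 (.leaf 0x2e8) (.node 9364 (.leaf 0x12261835cfb) (.leaf 0x2e0))))) (.node 9370 (.node 9367 (.node 9366 (.leaf 0x12261835cfb) (.leaf 0x12261835cfb)) (.node 9368 (.leaf 0x2e2) (.node 9369 (.leaf 0x12261835cfb) (.leaf 0x12261835cfb)))) (.node 9372 (.node 9371 (.leaf 0x12261835cfb) (.leaf 0x12261835cfb)) (.node 9373 (.leaf 0x46261835cfb) (.node 9374 (.leaf 0x46261835cfb) (.leaf 0x46261835cfb))))))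

def candS_464 : Store := (.node 9385 (.node 9380 (.node 9377 (.node 9376 (.leaf 0x46261835cfb) (.leaf 0x46261835cfb)) (.node 9378 (.leaf 0x46261835cfb) (.node 9379 (.leaf 0x680046261835cfb) (.leaf 0x46261835cfb)))) (.node 9382 (.node 9381 (.leaf 0x580046261835cfb) (.leaf 0x46261835cfb)) (.node 9383 (.leaf 0x80046261835cfb) (.node 9384 (.leaf 0x500046261835cfb) (.leaf 0x2c261835cfb))))) (.node 9390 (.node 9387 (.node 9386 (.leaf 0x2c261835cfb) (.leaf 0x2c261835cfb)) (.node 9388 (.leaf 0x2c261835cfb) (.node 9389 (.leaf 0x2c261835cfb) (.leaf 0x2c261835cfb)))) (.node 9393 (.node 9391 (.leaf 0x2c261835cfb) (.node 9392 (.leaf 0x2c261835cfb) (.leaf 0x2c261835cfb))) (.node 9394 (.leaf 0x2c261835cfb) (.node 9395 (.leaf 0x2c261835cfb) (.leaf 0x2c261835cfb))))))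

def candS_465 : Store := (.node 9406 (.node 9401 (.node 9398 (.node 9397 (.leaf 0x261835cfb) (.leaf 0x261835cfb)) (.node 9399 (.leaf 0x261835cfb) (.node 9400 (.leaf 0x261835cfb) (.leaf 0x261835cfb)))) (.node 9403 (.node 9402 (.leaf 0x261835cfb) (.leaf 0x261835cfb)) (.node 9404 (.leaf 0x261835cfb) (.node 9405 (.leaf 0x261835cfb) (.leaf 0x261835cfb))))) (.node 9411 (.node 9408 (.node 9407 (.leaf 0x261835cfb) (.leaf 0x261835cfb)) (.node 9409 (.leaf 0x261835cfb) (.node 9410 (.leaf 0x261835cfb) (.leaf 0x261835cfb)))) (.node 9413 (.node 9412 (.leaf 0x261835cfb) (.leaf 0x261835cfb)) (.node 9414 (.leaf 0x261835cfb) (.node 9415 (.leaf 0x261835cfb) (.leaf 0x261835cfb))))))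

def candS_466 : Store := (.node 9426 (.node 9421 (.node 9418 (.node 9417 (.leaf 0x261835cfb) (.leaf 0x261835cfb)) (.node 9419 (.leaf 0x261835cfb) (.node 9420 (.leaf 0x261835cfb) (.leaf 0x2a261835cfb)))) (.node 9423 (.node 9422 (.leaf 0x2a261835cfb) (.leaf 0x2a261835cfb)) (.node 9424 (.leaf 0x2a261835cfb) (.node 9425 (.leaf 0x2a261835cfb) (.leaf 0x2a261835cfb))))) (.node 9431 (.node 9428 (.node 9427 (.leaf 0x2a261835cfb) (.leaf 0x2a261835cfb)) (.node 9429 (.leaf 0x2a261835cfb) (.node 9430 (.leaf 0x2a261835cfb) (.leaf 0x2a261835cfb)))) (.node 9433 (.node 9432 (.leaf 0x2a261835cfb) (.leaf 0x261835cfb)) (.node 9434 (.leaf 0x261835cfb) (.node 9435 (.leaf 0x261835cfb) (.leaf 0x261835cfb))))))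

def candS_467 : Store := (.node 9446 (.node 9441 (.node 9438 (.node 9437 (.leaf 0x261835cfb) (.leaf 0x261835cfb)) (.node 9439 (.leaf 0x261835cfb) (.node 9440 (.leaf 0x261835cfb) (.leaf 0x261835cfb)))) (.node 9443 (.node 9442 (.leaf 0x261835cfb) (.leaf 0x261835cfb)) (.node 9444 (.leaf 0x261835cfb) (.node 9445 (.leaf 0x261835cfb) (.leaf 0x261835cfb))))) (.node 9451 (.node 9448 (.node 9447 (.leaf 0x261835cfb) (.leaf 0x261835cfb)) (.node 9449 (.leaf 0x261835cfb) (.node 9450 (.leaf 0x261835cfb) (.leaf 0x261835cfb)))) (.node 9453 (.node 9452 (.leaf 0x261835cfb) (.leaf 0x261835cfb)) (.node 9454 (.leaf 0x261835cfb) (.node 9455 (.leaf 0x261835cfb) (.leaf 0x261835cfb))))))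

def candS_468 : Store := (.node 9466 (.node 9461 (.node 9458 (.node 9457 (.leaf 0x261835cfb) (.leaf 0x261835cfb)) (.node 9459 (.leaf 0x261835cfb) (.node 9460 (.leaf 0x261835cfb) (.leaf 0x261835cfb)))) (.node 9463 (.node 9462 (.leaf 0x261835cfb) (.leaf 0x261835cfb)) (.node 9464 (.leaf 0x261835cfb) (.node 9465 (.leaf 0x261835cfb) (.leaf 0x261835cfb))))) (.node 9471 (.node 9468 (.node 9467 (.leaf 0x261835cfb) (.leaf 0x261835cfb)) (.node 9469 (.leaf 0x1c261835cfb) (.node 9470 (.leaf 0x1c261835cfb) (.leaf 0x1c261835cfb)))) (.node 9474 (.node 9472 (.leaf 0x1c261835cfb) (.node 9473 (.leaf 0x1c261835cfb) (.leaf 0x1c261835cfb))) (.node 9475 (.leaf 0x1c261835cfb) (.node 9476 (.leaf 0x1c261835cfb) (.leaf 0x1c261835cfb))))))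

def candS_469 : Store := (.node 9487 (.node 9482 (.node 9479 (.node 9478 (.leaf 0x1c261835cfb) (.leaf 0x1c261835cfb)) (.node 9480 (.leaf 0x1c261835cfb) (.node 9481 (.leaf 0x261835cfb) (.leaf 0x261835cfb)))) (.node 9484 (.node 9483 (.leaf 0x261835cfb) (.leaf 0x261835cfb)) (.node 9485 (.leaf 0x261835cfb) (.node 9486 (.leaf 0x261835cfb) (.leaf 0x261835cfb))))) (.node 9492 (.node 9489 (.node 9488 (.leaf 0x261835cfb) (.leaf 0x261835cfb)) (.node 9490 (.leaf 0x261835cfb) (.node 9491 (.leaf 0x261835cfb) (.leaf 0x261835cfb)))) (.node 9494 (.node 9493 (.leaf 0x44261835cfb) (.leaf 0x44261835cfb)) (.node 9495 (.leaf 0x44261835cfb) (.node 9496 (.leaf 0x44261835cfb) (.leaf 0x44261835cfb))))))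

def candS_470 : Store := (.node 9507 (.node 9502 (.node 9499 (.node 9498 (.leaf 0x44261835cfb) (.leaf 0x44261835cfb)) (.node 9500 (.leaf 0x44261835cfb) (.node 9501 (.leaf 0x44261835cfb) (.leaf 0x44261835cfb)))) (.node 9504 (.node 9503 (.leaf 0x44261835cfb) (.leaf 0x44261835cfb)) (.node 9505 (.leaf 0x2730b5cfb) (.node 9506 (.leaf 0x2730b5cfb) (.leaf 0x2730b5cfb))))) (.node 9512 (.node 9509 (.node 9508 (.leaf 0x2730b5cfb) (.leaf 0x2730b5cfb)) (.node 9510 (.leaf 0x2730b5cfb) (.node 9511 (.leaf 0x2730b5cfb) (.leaf 0x2730b5cfb)))) (.node 9514 (.node 9513 (.leaf 0x2730b5cfb) (.leaf 0x2730b5cfb)) (.node 9515 (.leaf 0x2730b5cfb) (.node 9516 (.leaf 0x2730b5cfb) (.leaf 0x122730b5cfb))))))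

def candS_471 : Store := (.node 9527 (.node 9522 (.node 9519 (.node 9518 (.leaf 0x122730b5cfb) (.leaf 0x122730b5cfb)) (.node 9520 (.leaf 0x122730b5cfb) (.node 9521 (.leaf 0x122730b5cfb) (.leaf 0x122730b5cfb)))) (.node 9524 (.node 9523 (.leaf 0x122730b5cfb) (.leaf 0x122730b5cfb)) (.node 9525 (.leaf 0x122730b5cfb) (.node 9526 (.leaf 0x122730b5cfb) (.leaf 0x122730b5cfb))))) (.node 9532 (.node 9529 (.node 9528 (.leaf 0x122730b5cfb) (.leaf 0x2730b5cfb)) (.node 9530 (.leaf 0x2730b5cfb) (.node 9531 (.leaf 0x2730b5cfb) (.leaf 0x2730b5cfb)))) (.node 9534 (.node 9533 (.leaf 0x2730b5cfb) (.leaf 0x2730b5cfb)) (.node 9535 (.leaf 0x2730b5cfb) (.node 9536 (.leaf 0x2730b5cfb) (.leaf 0x2730b5cfb))))))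

def candS_472 : Store := (.node 9547 (.node 9542 (.node 9539 (.node 9538 (.leaf 0x2730b5cfb) (.leaf 0x2730b5cfb)) (.node 9540 (.leaf 0x2730b5cfb) (.node 9541 (.leaf 0x442730b5cfb) (.leaf 0x442730b5cfb)))) (.node 9544 (.node 9543 (.leaf 0x442730b5cfb) (.leaf 0x442730b5cfb)) (.node 9545 (.leaf 0x442730b5cfb) (.node 9546 (.leaf 0x442730b5cfb) (.leaf 0x442730b5cfb))))) (.node 9552 (.node 9549 (.node 9548 (.leaf 0x442730b5cfb) (.leaf 0x442730b5cfb)) (.node 9550 (.leaf 0x442730b5cfb) (.node 9551 (.leaf 0x442730b5cfb) (.leaf 0x442730b5cfb)))) (.node 9555 (.node 9553 (.leaf 0x1dc) (.node 9554 (.leaf 0x2c2730b5cfb) (.leaf 0x2c2730b5cfb))) (.node 9556 (.leaf 0x2c2730b5cfb) (.node 9557 (.leaf 0x2c2730b5cfb) (.leaf 0x2c2730b5cfb))))))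

def candS_473 : Store := (.node 9568 (.node 9563 (.node 9560 (.node 9559 (.leaf 0x2c2730b5cfb) (.leaf 0x2c2730b5cfb)) (.node 9561 (.leaf 0x364) (.node 9562 (.leaf 0x2c2730b5cfb) (.leaf 0x1ba)))) (.node 9565 (.node 9564 (.leaf 0x24a) (.leaf 0x462730b5cfb)) (.node 9566 (.leaf 0x7000462730b5cfb) (.node 9567 (.leaf 0x462730b5cfb) (.leaf 0x462730b5cfb))))) (.node 9573 (.node 9570 (.node 9569 (.leaf 0x8000462730b5cfb) (.leaf 0x9800462730b5cfb)) (.node 9571 (.leaf 0x462730b5cfb) (.node 9572 (.leaf 0x462730b5cfb) (.leaf 0x462730b5cfb)))) (.node 9575 (.node 9574 (.leaf 0x462730b5cfb) (.leaf 0x462730b5cfb)) (.node 9576 (.leaf 0x462730b5cfb) (.node 9577 (.leaf 0x2a2730b5cfb) (.leaf 0x2a2730b5cfb))))))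

def candS_474 : Store := (.node 9588 (.node 9583 (.node 9580 (.node 9579 (.leaf 0x2a2730b5cfb) (.leaf 0x2a2730b5cfb)) (.node 9581 (.leaf 0x2a2730b5cfb) (.node 9582 (.leaf 0x2a2730b5cfb) (.leaf 0x2a2730b5cfb)))) (.node 9585 (.node 9584 (.leaf 0x2a2730b5cfb) (.leaf 0x2a2730b5cfb)) (.node 9586 (.leaf 0x2a2730b5cfb) (.node 9587 (.leaf 0x2a2730b5cfb) (.leaf 0x2a2730b5cfb))))) (.node 9593 (.node 9590 (.node 9589 (.leaf 0x2730b5cfb) (.leaf 0x2730b5cfb)) (.node 9591 (.leaf 0x2730b5cfb) (.node 9592 (.leaf 0x2730b5cfb) (.leaf 0x2730b5cfb)))) (.node 9595 (.node 9594 (.leaf 0x2730b5cfb) (.leaf 0x2730b5cfb)) (.node 9596 (.leaf 0x2730b5cfb) (.node 9597 (.leaf 0x2730b5cfb) (.leaf 0x2730b5cfb))))))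

def candS_475 : Store := (.node 9608 (.node 9603 (.node 9600 (.node 9599 (.leaf 0x2730b5cfb) (.leaf 0x2730b5cfb)) (.node 9601 (.leaf 0x1c2730b5cfb) (.node 9602 (.leaf 0x1c2730b5cfb) (.leaf 0x1c2730b5cfb)))) (.node 9605 (.node 9604 (.leaf 0x1c2730b5cfb) (.leaf 0x1c2730b5cfb)) (.node 9606 (.leaf 0x1c2730b5cfb) (.node 9607 (.leaf 0x1c2730b5cfb) (.leaf 0x1c2730b5cfb))))) (.node 9613 (.node 9610 (.node 9609 (.leaf 0x1c2730b5cfb) (.leaf 0x1c2730b5cfb)) (.node 9611 (.leaf 0x1c2730b5cfb) (.node 9612 (.leaf 0x1c2730b5cfb) (.leaf 0x2730b5cfb)))) (.node 9615 (.node 9614 (.leaf 0x2730b5cfb) (.leaf 0x2730b5cfb)) (.node 9616 (.leaf 0x2730b5cfb) (.node 9617 (.leaf 0x2730b5cfb) (.leaf 0x2730b5cfb))))))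

def candS_476 : Store := (.node 9628 (.node 9623 (.node 9620 (.node 9619 (.leaf 0x2730b5cfb) (.leaf 0x2730b5cfb)) (.node 9621 (.leaf 0x2730b5cfb) (.node 9622 (.leaf 0x2730b5cfb) (.leaf 0x2730b5cfb)))) (.node 9625 (.node 9624 (.leaf 0x2730b5cfb) (.leaf 0x2730b5cfb)) (.node 9626 (.leaf 0x2730b5cfb) (.node 9627 (.leaf 0x2730b5cfb) (.leaf 0x2730b5cfb))))) (.node 9633 (.node 9630 (.node 9629 (.leaf 0x2730b5cfb) (.leaf 0x2730b5cfb)) (.node 9631 (.leaf 0x2730b5cfb) (.node 9632 (.leaf 0x2730b5cfb) (.leaf 0x2730b5cfb)))) (.node 9636 (.node 9634 (.leaf 0x2730b5cfb) (.node 9635 (.leaf 0x2730b5cfb) (.leaf 0x2730b5cfb))) (.node 9637 (.leaf 0x2730b5cfb) (.node 9638 (.leaf 0x2730b5cfb) (.leaf 0x2730b5cfb))))))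

def candS_477 : Store := (.node 9649 (.node 9644 (.node 9641 (.node 9640 (.leaf 0x2730b5cfb) (.leaf 0x2730b5cfb)) (.node 9642 (.leaf 0x2730b5cfb) (.node 9643 (.leaf 0x2730b5cfb) (.leaf 0x2730b5cfb)))) (.node 9646 (.node 9645 (.leaf 0x2730b5cfb) (.leaf 0x2730b5cfb)) (.node 9647 (.leaf 0x2730b5cfb) (.node 9648 (.leaf 0x2730b5cfb) (.leaf 0x164a0eb5cfb))))) (.node 9654 (.node 9651 (.node 9650 (.leaf 0x2a8) (.leaf 0x2ec)) (.node 9652 (.leaf 0x164a0eb5cfb) (.node 9653 (.leaf 0x2e) (.leaf 0x14a)))) (.node 9656 (.node 9655 (.leaf 0x164a0eb5cfb) (.leaf 0x164a0eb5cfb)) (.node 9657 (.leaf 0x164a0eb5cfb) (.node 9658 (.leaf 0x164a0eb5cfb) (.leaf 0x164a0eb5cfb))))))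

def candS_478 : Store := (.node 9669 (.node 9664 (.node 9661 (.node 9660 (.leaf 0x164a0eb5cfb) (.leaf 0x4a0eb5cfb)) (.node 9662 (.leaf 0x4a0eb5cfb) (.node 9663 (.leaf 0x4a0eb5cfb) (.leaf 0x4a0eb5cfb)))) (.node 9666 (.node 9665 (.leaf 0x4a0eb5cfb) (.leaf 0x4a0eb5cfb)) (.node 9667 (.leaf 0x4a0eb5cfb) (.node 9668 (.leaf 0x4a0eb5cfb) (.leaf 0x4a0eb5cfb))))) (.node 9674 (.node 9671 (.node 9670 (.leaf 0x4a0eb5cfb) (.leaf 0x4a0eb5cfb)) (.node 9672 (.leaf 0x4a0eb5cfb) (.node 9673 (.leaf 0x244a0eb5cfb) (.leaf 0x244a0eb5cfb)))) (.node 9676 (.node 9675 (.leaf 0x244a0eb5cfb) (.leaf 0x244a0eb5cfb)) (.node 9677 (.leaf 0x244a0eb5cfb) (.node 9678 (.leaf 0x244a0eb5cfb) (.leaf 0x244a0eb5cfb))))))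

def candS_479 : Store := (.node 9689 (.node 9684 (.node 9681 (.node 9680 (.leaf 0x244a0eb5cfb) (.leaf 0x244a0eb5cfb)) (.node 9682 (.leaf 0x244a0eb5cfb) (.node 9683 (.leaf 0x244a0eb5cfb) (.leaf 0x244a0eb5cfb)))) (.node 9686 (.node 9685 (.leaf 0x4a0eb5cfb) (.leaf 0x4a0eb5cfb)) (.node 9687 (.leaf 0x4a0eb5cfb) (.node 9688 (.leaf 0x4a0eb5cfb) (.leaf 0x4a0eb5cfb))))) (.node 9694 (.node 9691 (.node 9690 (.leaf 0x4a0eb5cfb) (.leaf 0x4a0eb5cfb)) (.node 9692 (.leaf 0x4a0eb5cfb) (.node 9693 (.leaf 0x4a0eb5cfb) (.leaf 0x4a0eb5cfb)))) (.node 9696 (.node 9695 (.leaf 0x4a0eb5cfb) (.leaf 0x4a0eb5cfb)) (.node 9697 (.leaf 0x4a0eb5cfb) (.node 9698 (.leaf 0x4a0eb5cfb) (.leaf 0x4a0eb5cfb))))))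

def candS_480 : Store := (.node 9709 (.node 9704 (.node 9701 (.node 9700 (.leaf 0x4a0eb5cfb) (.leaf 0x4a0eb5cfb)) (.node 9702 (.leaf 0x4a0eb5cfb) (.node 9703 (.leaf 0x4a0eb5cfb) (.leaf 0x4a0eb5cfb)))) (.node 9706 (.node 9705 (.leaf 0x4a0eb5cfb) (.leaf 0x4a0eb5cfb)) (.node 9707 (.leaf 0x4a0eb5cfb) (.node 9708 (.leaf 0x4a0eb5cfb) (.leaf 0x464a0eb5cfb))))) (.node 9714 (.node 9711 (.node 9710 (.leaf 0x464a0eb5cfb) (.leaf 0x464a0eb5cfb)) (.node 9712 (.leaf 0x464a0eb5cfb) (.node 9713 (.leaf 0x464a0eb5cfb) (.leaf 0x464a0eb5cfb)))) (.node 9717 (.node 9715 (.leaf 0x464a0eb5cfb) (.node 9716 (.leaf 0x464a0eb5cfb) (.leaf 0x464a0eb5cfb))) (.node 9718 (.leaf 0x464a0eb5cfb) (.node 9719 (.leaf 0x464a0eb5cfb) (.leaf 0x464a0eb5cfb))))))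

def candS_481 : Store := (.node 9730 (.node 9725 (.node 9722 (.node 9721 (.leaf 0x9800124a0eb5cfb) (.leaf 0x124a0eb5cfb)) (.node 9723 (.leaf 0x124a0eb5cfb) (.node 9724 (.leaf 0x124a0eb5cfb) (.leaf 0x124a0eb5cfb)))) (.node 9727 (.node 9726 (.leaf 0x124a0eb5cfb) (.leaf 0x8000124a0eb5cfb)) (.node 9728 (.leaf 0x124a0eb5cfb) (.node 9729 (.leaf 0x124a0eb5cfb) (.leaf 0x124a0eb5cfb))))) (.node 9735 (.node 9732 (.node 9731 (.leaf 0x124a0eb5cfb) (.leaf 0x7000124a0eb5cfb)) (.node 9733 (.leaf 0x4a0eb5cfb) (.node 9734 (.leaf 0x4a0eb5cfb) (.leaf 0x4a0eb5cfb)))) (.node 9737 (.node 9736 (.leaf 0x4a0eb5cfb) (.leaf 0x4a0eb5cfb)) (.node 9738 (.leaf 0x4a0eb5cfb) (.node 9739 (.leaf 0x4a0eb5cfb) (.leaf 0x4a0eb5cfb))))))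

def candS_482 : Store := (.node 9750 (.node 9745 (.node 9742 (.node 9741 (.leaf 0x4a0eb5cfb) (.leaf 0x4a0eb5cfb)) (.node 9743 (.leaf 0x4a0eb5cfb) (.node 9744 (.leaf 0x4a0eb5cfb) (.leaf 0x4a0eb5cfb)))) (.node 9747 (.node 9746 (.leaf 0x4a0eb5cfb) (.leaf 0x4a0eb5cfb)) (.node 9748 (.leaf 0x4a0eb5cfb) (.node 9749 (.leaf 0x4a0eb5cfb) (.leaf 0x4a0eb5cfb))))) (.node 9755 (.node 9752 (.node 9751 (.leaf 0x4a0eb5cfb) (.leaf 0x4a0eb5cfb)) (.node 9753 (.leaf 0x4a0eb5cfb) (.node 9754 (.leaf 0x4a0eb5cfb) (.leaf 0x4a0eb5cfb)))) (.node 9757 (.node 9756 (.leaf 0x4a0eb5cfb) (.leaf 0x404a0eb5cfb)) (.node 9758 (.leaf 0x404a0eb5cfb) (.node 9759 (.leaf 0x404a0eb5cfb) (.leaf 0x404a0eb5cfb))))))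

def candS_483 : Store := (.node 9770 (.node 9765 (.node 9762 (.node 9761 (.leaf 0x404a0eb5cfb) (.leaf 0x404a0eb5cfb)) (.node 9763 (.leaf 0x404a0eb5cfb) (.node 9764 (.leaf 0x404a0eb5cfb) (.leaf 0x404a0eb5cfb)))) (.node 9767 (.node 9766 (.leaf 0x404a0eb5cfb) (.leaf 0x404a0eb5cfb)) (.node 9768 (.leaf 0x404a0eb5cfb) (.node 9769 (.leaf 0x44a0eb5cfb) (.leaf 0x44a0eb5cfb))))) (.node 9775 (.node 9772 (.node 9771 (.leaf 0x44a0eb5cfb) (.leaf 0x44a0eb5cfb)) (.node 9773 (.leaf 0x44a0eb5cfb) (.node 9774 (.leaf 0x44a0eb5cfb) (.leaf 0x44a0eb5cfb)))) (.node 9777 (.node 9776 (.leaf 0x44a0eb5cfb) (.leaf 0x44a0eb5cfb)) (.node 9778 (.leaf 0x44a0eb5cfb) (.node 9779 (.leaf 0x44a0eb5cfb) (.leaf 0x44a0eb5cfb))))))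

def candS_484 : Store := (.node 9790 (.node 9785 (.node 9782 (.node 9781 (.leaf 0x4a0eb5cfb) (.leaf 0x4a0eb5cfb)) (.node 9783 (.leaf 0x4a0eb5cfb) (.node 9784 (.leaf 0x4a0eb5cfb) (.leaf 0x4a0eb5cfb)))) (.node 9787 (.node 9786 (.leaf 0x4a0eb5cfb) (.leaf 0x4a0eb5cfb)) (.node 9788 (.leaf 0x4a0eb5cfb) (.node 9789 (.leaf 0x4a0eb5cfb) (.leaf 0x4a0eb5cfb))))) (.node 9795 (.node 9792 (.node 9791 (.leaf 0x4a0eb5cfb) (.leaf 0x4a0eb5cfb)) (.node 9793 (.leaf 0x3c10b5cfb) (.node 9794 (.leaf 0x3c10b5cfb) (.leaf 0x3c10b5cfb)))) (.node 9798 (.node 9796 (.leaf 0x3c10b5cfb) (.node 9797 (.leaf 0x3c10b5cfb) (.leaf 0x3c10b5cfb))) (.node 9799 (.leaf 0x3c10b5cfb) (.node 9800 (.leaf 0x3c10b5cfb) (.leaf 0x3c10b5cfb))))))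

def candS_485 : Store := (.node 9811 (.node 9806 (.node 9803 (.node 9802 (.leaf 0x3c10b5cfb) (.leaf 0x3c10b5cfb)) (.node 9804 (.leaf 0x3c10b5cfb) (.node 9805 (.leaf 0x1c3c10b5cfb) (.leaf 0x1c3c10b5cfb)))) (.node 9808 (.node 9807 (.leaf 0x1c3c10b5cfb) (.leaf 0x1c3c10b5cfb)) (.node 9809 (.leaf 0x1c3c10b5cfb) (.node 9810 (.leaf 0x1c3c10b5cfb) (.leaf 0x1c3c10b5cfb))))) (.node 9816 (.node 9813 (.node 9812 (.leaf 0x1c3c10b5cfb) (.leaf 0x1c3c10b5cfb)) (.node 9814 (.leaf 0x1c3c10b5cfb) (.node 9815 (.leaf 0x1c3c10b5cfb) (.leaf 0x1c3c10b5cfb)))) (.node 9818 (.node 9817 (.leaf 0x3c10b5cfb) (.leaf 0x3c10b5cfb)) (.node 9819 (.leaf 0x3c10b5cfb) (.node 9820 (.leaf 0x3c10b5cfb) (.leaf 0x3c10b5cfb))))))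

def candS_486 : Store := (.node 9831 (.node 9826 (.node 9823 (.node 9822 (.leaf 0x3c10b5cfb) (.leaf 0x3c10b5cfb)) (.node 9824 (.leaf 0x3c10b5cfb) (.node 9825 (.leaf 0x3c10b5cfb) (.leaf 0x3c10b5cfb)))) (.node 9828 (.node 9827 (.leaf 0x3c10b5cfb) (.leaf 0x3c10b5cfb)) (.node 9829 (.leaf 0x3c10b5cfb) (.node 9830 (.leaf 0x3c10b5cfb) (.leaf 0x3c10b5cfb))))) (.node 9836 (.node 9833 (.node 9832 (.leaf 0x3c10b5cfb) (.leaf 0x3c10b5cfb)) (.node 9834 (.leaf 0x3c10b5cfb) (.node 9835 (.leaf 0x3c10b5cfb) (.leaf 0x3c10b5cfb)))) (.node 9838 (.node 9837 (.leaf 0x3c10b5cfb) (.leaf 0x3c10b5cfb)) (.node 9839 (.leaf 0x3c10b5cfb) (.node 9840 (.leaf 0x3c10b5cfb) (.leaf 0xda))))))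

def candS_487 : Store := (.node 9851 (.node 9846 (.node 9843 (.node 9842 (.leaf 0x83c10b5cfb) (.leaf 0x83c10b5cfb)) (.node 9844 (.leaf 0x83c10b5cfb) (.node 9845 (.leaf 0x83c10b5cfb) (.leaf 0x83c10b5cfb)))) (.node 9848 (.node 9847 (.leaf 0x37c) (.leaf 0x83c10b5cfb)) (.node 9849 (.leaf 0x83c10b5cfb) (.node 9850 (.leaf 0x83c10b5cfb) (.leaf 0x1e4))))) (.node 9856 (.node 9853 (.node 9852 (.leaf 0x4c) (.leaf 0x3c10b5cfb)) (.node 9854 (.leaf 0x3c10b5cfb) (.node 9855 (.leaf 0x3c10b5cfb) (.leaf 0x3c10b5cfb)))) (.node 9858 (.node 9857 (.leaf 0x3c10b5cfb) (.leaf 0x3c10b5cfb)) (.node 9859 (.leaf 0x3c10b5cfb) (.node 9860 (.leaf 0x3c10b5cfb) (.leaf 0x3c10b5cfb))))))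

def candS_488 : Store := (.node 9871 (.node 9866 (.node 9863 (.node 9862 (.leaf 0x3c10b5cfb) (.leaf 0x3c10b5cfb)) (.node 9864 (.leaf 0x3c10b5cfb) (.node 9865 (.leaf 0x3c10b5cfb) (.leaf 0x3c10b5cfb)))) (.node 9868 (.node 9867 (.leaf 0x3c10b5cfb) (.leaf 0x3c10b5cfb)) (.node 9869 (.leaf 0x3c10b5cfb) (.node 9870 (.leaf 0x3c10b5cfb) (.leaf 0x3c10b5cfb))))) (.node 9876 (.node 9873 (.node 9872 (.leaf 0x3c10b5cfb) (.leaf 0x3c10b5cfb)) (.node 9874 (.leaf 0x3c10b5cfb) (.node 9875 (.leaf 0x3c10b5cfb) (.leaf 0x3c10b5cfb)))) (.node 9879 (.node 9877 (.leaf 0x203c10b5cfb) (.node 9878 (.leaf 0x203c10b5cfb) (.leaf 0x203c10b5cfb))) (.node 9880 (.leaf 0x203c10b5cfb) (.node 9881 (.leaf 0x203c10b5cfb) (.leaf 0x203c10b5cfb))))))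

def candS_489 : Store := (.node 9892 (.node 9887 (.node 9884 (.node 9883 (.leaf 0x203c10b5cfb) (.leaf 0x203c10b5cfb)) (.node 9885 (.leaf 0x203c10b5cfb) (.node 9886 (.leaf 0x203c10b5cfb) (.leaf 0x203c10b5cfb)))) (.node 9889 (.node 9888 (.leaf 0x203c10b5cfb) (.leaf 0x103c10b5cfb)) (.node 9890 (.leaf 0x103c10b5cfb) (.node 9891 (.leaf 0x103c10b5cfb) (.leaf 0x103c10b5cfb))))) (.node 9897 (.node 9894 (.node 9893 (.leaf 0x103c10b5cfb) (.leaf 0x103c10b5cfb)) (.node 9895 (.leaf 0x103c10b5cfb) (.node 9896 (.leaf 0x103c10b5cfb) (.leaf 0x103c10b5cfb)))) (.node 9899 (.node 9898 (.leaf 0x103c10b5cfb) (.leaf 0x103c10b5cfb)) (.node 9900 (.leaf 0x103c10b5cfb) (.node 9901 (.leaf 0x3c10b5cfb) (.leaf 0x3c10b5cfb))))))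

def candS_490 : Store := (.node 9912 (.node 9907 (.node 9904 (.node 9903 (.leaf 0x3c10b5cfb) (.leaf 0x3c10b5cfb)) (.node 9905 (.leaf 0x3c10b5cfb) (.node 9906 (.leaf 0x3c10b5cfb) (.leaf 0x3c10b5cfb)))) (.node 9909 (.node 9908 (.leaf 0x3c10b5cfb) (.leaf 0x3c10b5cfb)) (.node 9910 (.leaf 0x3c10b5cfb) (.node 9911 (.leaf 0x3c10b5cfb) (.leaf 0x3c10b5cfb))))) (.node 9917 (.node 9914 (.node 9913 (.leaf 0x3c10b5cfb) (.leaf 0x3c10b5cfb)) (.node 9915 (.leaf 0x3c10b5cfb) (.node 9916 (.leaf 0x3c10b5cfb) (.leaf 0x3c10b5cfb)))) (.node 9919 (.node 9918 (.leaf 0x3c10b5cfb) (.leaf 0x3c10b5cfb)) (.node 9920 (.leaf 0x3c10b5cfb) (.node 9921 (.leaf 0x3c10b5cfb) (.leaf 0x3c10b5cfb))))))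

def candS_491 : Store := (.node 9932 (.node 9927 (.node 9924 (.node 9923 (.leaf 0x3c10b5cfb) (.leaf 0x3c10b5cfb)) (.node 9925 (.leaf 0x23c10b5cfb) (.node 9926 (.leaf 0x9800023c10b5cfb) (.leaf 0x7000023c10b5cfb)))) (.node 9929 (.node 9928 (.leaf 0x23c10b5cfb) (.leaf 0x8000023c10b5cfb)) (.node 9930 (.leaf 0x23c10b5cfb) (.node 9931 (.leaf 0x23c10b5cfb) (.leaf 0x23c10b5cfb))))) (.node 9937 (.node 9934 (.node 9933 (.leaf 0x23c10b5cfb) (.leaf 0x23c10b5cfb)) (.node 9935 (.leaf 0x23c10b5cfb) (.node 9936 (.leaf 0x23c10b5cfb) (.leaf 0x123126b5cfb)))) (.node 9939 (.node 9938 (.leaf 0x123126b5cfb) (.leaf 0x123126b5cfb)) (.node 9940 (.leaf 0x123126b5cfb) (.node 9941 (.leaf 0x123126b5cfb) (.leaf 0x123126b5cfb))))))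

def candS_492 : Store := (.node 9952 (.node 9947 (.node 9944 (.node 9943 (.leaf 0x123126b5cfb) (.leaf 0x123126b5cfb)) (.node 9945 (.leaf 0x123126b5cfb) (.node 9946 (.leaf 0x123126b5cfb) (.leaf 0x123126b5cfb)))) (.node 9949 (.node 9948 (.leaf 0x123126b5cfb) (.leaf 0x243126b5cfb)) (.node 9950 (.leaf 0x243126b5cfb) (.node 9951 (.leaf 0x243126b5cfb) (.leaf 0x243126b5cfb))))) (.node 9957 (.node 9954 (.node 9953 (.leaf 0x243126b5cfb) (.leaf 0x243126b5cfb)) (.node 9955 (.leaf 0x243126b5cfb) (.node 9956 (.leaf 0x243126b5cfb) (.leaf 0x243126b5cfb)))) (.node 9960 (.node 9958 (.leaf 0x243126b5cfb) (.node 9959 (.leaf 0x243126b5cfb) (.leaf 0x243126b5cfb))) (.node 9961 (.leaf 0x3126b5cfb) (.node 9962 (.leaf 0x3126b5cfb) (.leaf 0x3126b5cfb))))))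

def candS_493 : Store := (.node 9973 (.node 9968 (.node 9965 (.node 9964 (.leaf 0x3126b5cfb) (.leaf 0x3126b5cfb)) (.node 9966 (.leaf 0x3126b5cfb) (.node 9967 (.leaf 0x3126b5cfb) (.leaf 0x3126b5cfb)))) (.node 9970 (.node 9969 (.leaf 0x3126b5cfb) (.leaf 0x3126b5cfb)) (.node 9971 (.leaf 0x3126b5cfb) (.node 9972 (.leaf 0x3126b5cfb) (.leaf 0x403126b5cfb))))) (.node 9978 (.node 9975 (.node 9974 (.leaf 0x403126b5cfb) (.leaf 0x403126b5cfb)) (.node 9976 (.leaf 0x403126b5cfb) (.node 9977 (.leaf 0x403126b5cfb) (.leaf 0x403126b5cfb)))) (.node 9980 (.node 9979 (.leaf 0x403126b5cfb) (.leaf 0x403126b5cfb)) (.node 9981 (.leaf 0x403126b5cfb) (.node 9982 (.leaf 0x403126b5cfb) (.leaf 0x403126b5cfb))))))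

def candS_494 : Store := (.node 9993 (.node 9988 (.node 9985 (.node 9984 (.leaf 0x403126b5cfb) (.leaf 0x3126b5cfb)) (.node 9986 (.leaf 0x3126b5cfb) (.node 9987 (.leaf 0x3126b5cfb) (.leaf 0x3126b5cfb)))) (.node 9990 (.node 9989 (.leaf 0x3126b5cfb) (.leaf 0x3126b5cfb)) (.node 9991 (.leaf 0x3126b5cfb) (.node 9992 (.leaf 0x3126b5cfb) (.leaf 0x3126b5cfb))))) (.node 9998 (.node 9995 (.node 9994 (.leaf 0x3126b5cfb) (.leaf 0x3126b5cfb)) (.node 9996 (.leaf 0x3126b5cfb) (.node 9997 (.leaf 0x3126b5cfb) (.leaf 0x3126b5cfb)))) (.node 10000 (.node 9999 (.leaf 0x3126b5cfb) (.leaf 0x3126b5cfb)) (.node 10001 (.leaf 0x3126b5cfb) (.node 10002 (.leaf 0x3126b5cfb) (.leaf 0x3126b5cfb))))))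

def candS_495 : Store := (.node 10013 (.node 10008 (.node 10005 (.node 10004 (.leaf 0x3126b5cfb) (.leaf 0x3126b5cfb)) (.node 10006 (.leaf 0x3126b5cfb) (.node 10007 (.leaf 0x3126b5cfb) (.leaf 0x3126b5cfb)))) (.node 10010 (.node 10009 (.leaf 0x463126b5cfb) (.leaf 0x463126b5cfb)) (.node 10011 (.leaf 0x463126b5cfb) (.node 10012 (.leaf 0x463126b5cfb) (.leaf 0x463126b5cfb))))) (.node 10018 (.node 10015 (.node 10014 (.leaf 0x463126b5cfb) (.leaf 0x463126b5cfb)) (.node 10016 (.leaf 0x463126b5cfb) (.node 10017 (.leaf 0x463126b5cfb) (.leaf 0x463126b5cfb)))) (.node 10020 (.node 10019 (.leaf 0x463126b5cfb) (.leaf 0x463126b5cfb)) (.node 10021 (.leaf 0x163126b5cfb) (.node 10022 (.leaf 0x163126b5cfb) (.leaf 0x163126b5cfb))))))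

def candS_496 : Store := (.node 10033 (.node 10028 (.node 10025 (.node 10024 (.leaf 0x163126b5cfb) (.leaf 0x163126b5cfb)) (.node 10026 (.leaf 0x163126b5cfb) (.node 10027 (.leaf 0x163126b5cfb) (.leaf 0x163126b5cfb)))) (.node 10030 (.node 10029 (.leaf 0x163126b5cfb) (.leaf 0x163126b5cfb)) (.node 10031 (.leaf 0x163126b5cfb) (.node 10032 (.leaf 0x163126b5cfb) (.leaf 0x43126b5cfb))))) (.node 10038 (.node 10035 (.node 10034 (.leaf 0x43126b5cfb) (.leaf 0x43126b5cfb)) (.node 10036 (.leaf 0x43126b5cfb) (.node 10037 (.leaf 0x43126b5cfb) (.leaf 0x43126b5cfb)))) (.node 10041 (.node 10039 (.leaf 0x43126b5cfb) (.node 10040 (.leaf 0x43126b5cfb) (.leaf 0x43126b5cfb))) (.node 10042 (.leaf 0x43126b5cfb) (.node 10043 (.leaf 0x43126b5cfb) (.leaf 0x43126b5cfb))))))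

def candS_497 : Store := (.node 10054 (.node 10049 (.node 10046 (.node 10045 (.leaf 0x3126b5cfb) (.leaf 0x3126b5cfb)) (.node 10047 (.leaf 0x3126b5cfb) (.node 10048 (.leaf 0x3126b5cfb) (.leaf 0x3126b5cfb)))) (.node 10051 (.node 10050 (.leaf 0x3126b5cfb) (.leaf 0x3126b5cfb)) (.node 10052 (.leaf 0x3126b5cfb) (.node 10053 (.leaf 0x3126b5cfb) (.leaf 0x3126b5cfb))))) (.node 10059 (.node 10056 (.node 10055 (.leaf 0x3126b5cfb) (.leaf 0x3126b5cfb)) (.node 10057 (.leaf 0x3126b5cfb) (.node 10058 (.leaf 0x3126b5cfb) (.leaf 0x3126b5cfb)))) (.node 10061 (.node 10060 (.leaf 0x3126b5cfb) (.leaf 0x3126b5cfb)) (.node 10062 (.leaf 0x3126b5cfb) (.node 10063 (.leaf 0x3126b5cfb) (.leaf 0x3126b5cfb))))))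

def candS_498 : Store := (.node 10074 (.node 10069 (.node 10066 (.node 10065 (.leaf 0x3126b5cfb) (.leaf 0x3126b5cfb)) (.node 10067 (.leaf 0x3126b5cfb) (.node 10068 (.leaf 0x3126b5cfb) (.leaf 0x3126b5cfb)))) (.node 10071 (.node 10070 (.leaf 0x3126b5cfb) (.leaf 0x3126b5cfb)) (.node 10072 (.leaf 0x3126b5cfb) (.node 10073 (.leaf 0x3126b5cfb) (.leaf 0x3126b5cfb))))) (.node 10079 (.node 10076 (.node 10075 (.leaf 0x3126b5cfb) (.leaf 0x3126b5cfb)) (.node 10077 (.leaf 0x3126b5cfb) (.node 10078 (.leaf 0x3126b5cfb) (.leaf 0x3126b5cfb)))) (.node 10081 (.node 10080 (.leaf 0x3126b5cfb) (.leaf 0x1919b5cfb)) (.node 10082 (.leaf 0x1919b5cfb) (.node 10083 (.leaf 0x1919b5cfb) (.leaf 0x1919b5cfb))))))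

def candS_499 : Store := (.node 10094 (.node 10089 (.node 10086 (.node 10085 (.leaf 0x1919b5cfb) (.leaf 0x1919b5cfb)) (.node 10087 (.leaf 0x1919b5cfb) (.node 10088 (.leaf 0x1919b5cfb) (.leaf 0x1919b5cfb)))) (.node 10091 (.node 10090 (.leaf 0x1919b5cfb) (.leaf 0x1919b5cfb)) (.node 10092 (.leaf 0x1919b5cfb) (.node 10093 (.leaf 0x201919b5cfb) (.leaf 0x201919b5cfb))))) (.node 10099 (.node 10096 (.node 10095 (.leaf 0x201919b5cfb) (.leaf 0x201919b5cfb)) (.node 10097 (.leaf 0x201919b5cfb) (.node 10098 (.leaf 0x201919b5cfb) (.leaf 0x201919b5cfb)))) (.node 10101 (.node 10100 (.leaf 0x201919b5cfb) (.leaf 0x201919b5cfb)) (.node 10102 (.leaf 0x201919b5cfb) (.node 10103 (.leaf 0x201919b5cfb) (.leaf 0x201919b5cfb))))))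

def candS_500 : Store := (.node 10114 (.node 10109 (.node 10106 (.node 10105 (.leaf 0x1919b5cfb) (.leaf 0x1919b5cfb)) (.node 10107 (.leaf 0x1919b5cfb) (.node 10108 (.leaf 0x1919b5cfb) (.leaf 0x1919b5cfb)))) (.node 10111 (.node 10110 (.leaf 0x1919b5cfb) (.leaf 0x1919b5cfb)) (.node 10112 (.leaf 0x1919b5cfb) (.node 10113 (.leaf 0x1919b5cfb) (.leaf 0x1919b5cfb))))) (.node 10119 (.node 10116 (.node 10115 (.leaf 0x1919b5cfb) (.leaf 0x1919b5cfb)) (.node 10117 (.leaf 0x1919b5cfb) (.node 10118 (.leaf 0x1919b5cfb) (.leaf 0x1919b5cfb)))) (.node 10122 (.node 10120 (.leaf 0x1919b5cfb) (.node 10121 (.leaf 0x1919b5cfb) (.leaf 0x1919b5cfb))) (.node 10123 (.leaf 0x1919b5cfb) (.node 10124 (.leaf 0x1919b5cfb) (.leaf 0x1919b5cfb))))))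

def candS_501 : Store := (.node 10135 (.node 10130 (.node 10127 (.node 10126 (.leaf 0x1919b5cfb) (.leaf 0x1919b5cfb)) (.node 10128 (.leaf 0x1919b5cfb) (.node 10129 (.leaf 0xbc) (.leaf 0x2e1919b5cfb)))) (.node 10132 (.node 10131 (.leaf 0x2e1919b5cfb) (.leaf 0x2e1919b5cfb)) (.node 10133 (.leaf 0x2e1919b5cfb) (.node 10134 (.leaf 0x2e1919b5cfb) (.leaf 0xfa))))) (.node 10140 (.node 10137 (.node 10136 (.leaf 0x2e1919b5cfb) (.leaf 0x216)) (.node 10138 (.leaf 0x2e1919b5cfb) (.node 10139 (.leaf 0x2e1919b5cfb) (.leaf 0x3ba)))) (.node 10142 (.node 10141 (.leaf 0x1919b5cfb) (.leaf 0x1919b5cfb)) (.node 10143 (.leaf 0x1919b5cfb) (.node 10144 (.leaf 0x1919b5cfb) (.leaf 0x1919b5cfb))))))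

def candS_502 : Store := (.node 10155 (.node 10150 (.node 10147 (.node 10146 (.leaf 0x1919b5cfb) (.leaf 0x1919b5cfb)) (.node 10148 (.leaf 0x1919b5cfb) (.node 10149 (.leaf 0x1919b5cfb) (.leaf 0x1919b5cfb)))) (.node 10152 (.node 10151 (.leaf 0x1919b5cfb) (.leaf 0x1919b5cfb)) (.node 10153 (.leaf 0x441919b5cfb) (.node 10154 (.leaf 0x441919b5cfb) (.leaf 0x441919b5cfb))))) (.node 10160 (.node 10157 (.node 10156 (.leaf 0x441919b5cfb) (.leaf 0x441919b5cfb)) (.node 10158 (.leaf 0x441919b5cfb) (.node 10159 (.leaf 0x441919b5cfb) (.leaf 0x441919b5cfb)))) (.node 10162 (.node 10161 (.leaf 0x441919b5cfb) (.leaf 0x441919b5cfb)) (.node 10163 (.leaf 0x441919b5cfb) (.node 10164 (.leaf 0x441919b5cfb) (.leaf 0x261919b5cfb))))))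

def candS_503 : Store := (.node 10175 (.node 10170 (.node 10167 (.node 10166 (.leaf 0x261919b5cfb) (.leaf 0x261919b5cfb)) (.node 10168 (.leaf 0x261919b5cfb) (.node 10169 (.leaf 0x261919b5cfb) (.leaf 0x261919b5cfb)))) (.node 10172 (.node 10171 (.leaf 0x261919b5cfb) (.leaf 0x261919b5cfb)) (.node 10173 (.leaf 0x261919b5cfb) (.node 10174 (.leaf 0x261919b5cfb) (.leaf 0x261919b5cfb))))) (.node 10180 (.node 10177 (.node 10176 (.leaf 0x261919b5cfb) (.leaf 0xa1919b5cfb)) (.node 10178 (.leaf 0xa1919b5cfb) (.node 10179 (.leaf 0xa1919b5cfb) (.leaf 0xa1919b5cfb)))) (.node 10182 (.node 10181 (.leaf 0xa1919b5cfb) (.leaf 0xa1919b5cfb)) (.node 10183 (.leaf 0xa1919b5cfb) (.node 10184 (.leaf 0xa1919b5cfb) (.leaf 0xa1919b5cfb))))))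

def candS_504 : Store := (.node 10195 (.node 10190 (.node 10187 (.node 10186 (.leaf 0xa1919b5cfb) (.leaf 0xa1919b5cfb)) (.node 10188 (.leaf 0xa1919b5cfb) (.node 10189 (.leaf 0x321919b5cfb) (.leaf 0x321919b5cfb)))) (.node 10192 (.node 10191 (.leaf 0x2800321919b5cfb) (.leaf 0x321919b5cfb)) (.node 10193 (.leaf 0x1800321919b5cfb) (.node 10194 (.leaf 0x9000321919b5cfb) (.leaf 0x321919b5cfb))))) (.node 10200 (.node 10197 (.node 10196 (.leaf 0x3800321919b5cfb) (.leaf 0x321919b5cfb)) (.node 10198 (.leaf 0x321919b5cfb) (.node 10199 (.leaf 0x321919b5cfb) (.leaf 0x321919b5cfb)))) (.node 10203 (.node 10201 (.leaf 0x1919b5cfb) (.node 10202 (.leaf 0x1919b5cfb) (.leaf 0x1919b5cfb))) (.node 10204 (.leaf 0x1919b5cfb) (.node 10205 (.leaf 0x1919b5cfb) (.leaf 0x1919b5cfb))))))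

def candS_505 : Store := (.node 10216 (.node 10211 (.node 10208 (.node 10207 (.leaf 0x1919b5cfb) (.leaf 0x1919b5cfb)) (.node 10209 (.leaf 0x1919b5cfb) (.node 10210 (.leaf 0x1919b5cfb) (.leaf 0x1919b5cfb)))) (.node 10213 (.node 10212 (.leaf 0x1919b5cfb) (.leaf 0x1919b5cfb)) (.node 10214 (.leaf 0x1919b5cfb) (.node 10215 (.leaf 0x1919b5cfb) (.leaf 0x1919b5cfb))))) (.node 10221 (.node 10218 (.node 10217 (.leaf 0x1919b5cfb) (.leaf 0x1919b5cfb)) (.node 10219 (.leaf 0x1919b5cfb) (.node 10220 (.leaf 0x1919b5cfb) (.leaf 0x1919b5cfb)))) (.node 10223 (.node 10222 (.leaf 0x1919b5cfb) (.leaf 0x1919b5cfb)) (.node 10224 (.leaf 0x1919b5cfb) (.node 10225 (.leaf 0x1506b5cfb) (.leaf 0x1506b5cfb))))))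

def candS_506 : Store := (.node 10236 (.node 10231 (.node 10228 (.node 10227 (.leaf 0x1506b5cfb) (.leaf 0x1506b5cfb)) (.node 10229 (.leaf 0x1506b5cfb) (.node 10230 (.leaf 0x1506b5cfb) (.leaf 0x1506b5cfb)))) (.node 10233 (.node 10232 (.leaf 0x1506b5cfb) (.leaf 0x1506b5cfb)) (.node 10234 (.leaf 0x1506b5cfb) (.node 10235 (.leaf 0x1506b5cfb) (.leaf 0x1506b5cfb))))) (.node 10241 (.node 10238 (.node 10237 (.leaf 0x3c1506b5cfb) (.leaf 0x3c1506b5cfb)) (.node 10239 (.leaf 0x3c1506b5cfb) (.node 10240 (.leaf 0x3c1506b5cfb) (.leaf 0x3c1506b5cfb)))) (.node 10243 (.node 10242 (.leaf 0x3c1506b5cfb) (.leaf 0x3c1506b5cfb)) (.node 10244 (.leaf 0x3c1506b5cfb) (.node 10245 (.leaf 0x3c1506b5cfb) (.leaf 0x3c1506b5cfb))))))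

def candS_507 : Store := (.node 10256 (.node 10251 (.node 10248 (.node 10247 (.leaf 0x3c1506b5cfb) (.leaf 0x3c1506b5cfb)) (.node 10249 (.leaf 0x421506b5cfb) (.node 10250 (.leaf 0x7800421506b5cfb) (.leaf 0x3000421506b5cfb)))) (.node 10253 (.node 10252 (.leaf 0x421506b5cfb) (.leaf 0x421506b5cfb)) (.node 10254 (.leaf 0x6000421506b5cfb) (.node 10255 (.leaf 0x421506b5cfb) (.leaf 0x2000421506b5cfb))))) (.node 10261 (.node 10258 (.node 10257 (.leaf 0x421506b5cfb) (.leaf 0x421506b5cfb)) (.node 10259 (.leaf 0x421506b5cfb) (.node 10260 (.leaf 0x421506b5cfb) (.leaf 0x2e1506b5cfb)))) (.node 10263 (.node 10262 (.leaf 0x2e1506b5cfb) (.leaf 0x2e1506b5cfb)) (.node 10264 (.leaf 0x2e1506b5cfb) (.node 10265 (.leaf 0x2e1506b5cfb) (.leaf 0x2e1506b5cfb))))))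

def candS_508 : Store := (.node 10276 (.node 10271 (.node 10268 (.node 10267 (.leaf 0x2e1506b5cfb) (.leaf 0x2e1506b5cfb)) (.node 10269 (.leaf 0x2e1506b5cfb) (.node 10270 (.leaf 0x2e1506b5cfb) (.leaf 0x2e1506b5cfb)))) (.node 10273 (.node 10272 (.leaf 0x2e1506b5cfb) (.leaf 0xd8)) (.node 10274 (.leaf 0x1a1506b5cfb) (.node 10275 (.leaf 0x1a1506b5cfb) (.leaf 0x1a1506b5cfb))))) (.node 10281 (.node 10278 (.node 10277 (.leaf 0x1a1506b5cfb) (.leaf 0x1a1506b5cfb)) (.node 10279 (.leaf 0x1e6) (.node 10280 (.leaf 0x1a1506b5cfb) (.leaf 0xd4)))) (.node 10284 (.node 10282 (.leaf 0x1a1506b5cfb) (.node 10283 (.leaf 0x37a) (.leaf 0x1a1506b5cfb))) (.node 10285 (.leaf 0x1506b5cfb) (.node 10286 (.leaf 0x1506b5cfb) (.leaf 0x1506b5cfb))))))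

def candS_509 : Store := (.node 10297 (.node 10292 (.node 10289 (.node 10288 (.leaf 0x1506b5cfb) (.leaf 0x1506b5cfb)) (.node 10290 (.leaf 0x1506b5cfb) (.node 10291 (.leaf 0x1506b5cfb) (.leaf 0x1506b5cfb)))) (.node 10294 (.node 10293 (.leaf 0x1506b5cfb) (.leaf 0x1506b5cfb)) (.node 10295 (.leaf 0x1506b5cfb) (.node 10296 (.leaf 0x1506b5cfb) (.leaf 0x1e1506b5cfb))))) (.node 10302 (.node 10299 (.node 10298 (.leaf 0x1e1506b5cfb) (.leaf 0x1e1506b5cfb)) (.node 10300 (.leaf 0x1e1506b5cfb) (.node 10301 (.leaf 0x1e1506b5cfb) (.leaf 0x1e1506b5cfb)))) (.node 10304 (.node 10303 (.leaf 0x1e1506b5cfb) (.leaf 0x1e1506b5cfb)) (.node 10305 (.leaf 0x1e1506b5cfb) (.node 10306 (.leaf 0x1e1506b5cfb) (.leaf 0x1e1506b5cfb))))))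

def candS_510 : Store := (.node 10317 (.node 10312 (.node 10309 (.node 10308 (.leaf 0x1e1506b5cfb) (.leaf 0x2a1506b5cfb)) (.node 10310 (.leaf 0x2a1506b5cfb) (.node 10311 (.leaf 0x2a1506b5cfb) (.leaf 0x2a1506b5cfb)))) (.node 10314 (.node 10313 (.leaf 0x2a1506b5cfb) (.leaf 0x2a1506b5cfb)) (.node 10315 (.leaf 0x2a1506b5cfb) (.node 10316 (.leaf 0x2a1506b5cfb) (.leaf 0x2a1506b5cfb))))) (.node 10322 (.node 10319 (.node 10318 (.leaf 0x2a1506b5cfb) (.leaf 0x2a1506b5cfb)) (.node 10320 (.leaf 0x2a1506b5cfb) (.node 10321 (.leaf 0x1506b5cfb) (.leaf 0x1506b5cfb)))) (.node 10324 (.node 10323 (.leaf 0x1506b5cfb) (.leaf 0x1506b5cfb)) (.node 10325 (.leaf 0x1506b5cfb) (.node 10326 (.leaf 0x1506b5cfb) (.leaf 0x1506b5cfb))))))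

def candS_511 : Store := (.node 10337 (.node 10332 (.node 10329 (.node 10328 (.leaf 0x1506b5cfb) (.leaf 0x1506b5cfb)) (.node 10330 (.leaf 0x1506b5cfb) (.node 10331 (.leaf 0x1506b5cfb) (.leaf 0x1506b5cfb)))) (.node 10334 (.node 10333 (.leaf 0x1506b5cfb) (.leaf 0x1506b5cfb)) (.node 10335 (.leaf 0x1506b5cfb) (.node 10336 (.leaf 0x1506b5cfb) (.leaf 0x1506b5cfb))))) (.node 10342 (.node 10339 (.node 10338 (.leaf 0x1506b5cfb) (.leaf 0x1506b5cfb)) (.node 10340 (.leaf 0x1506b5cfb) (.node 10341 (.leaf 0x1506b5cfb) (.leaf 0x1506b5cfb)))) (.node 10344 (.node 10343 (.leaf 0x1506b5cfb) (.leaf 0x1506b5cfb)) (.node 10345 (.leaf 0x1506b5cfb) (.node 10346 (.leaf 0x1506b5cfb) (.leaf 0x1506b5cfb))))))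

def candS_512 : Store := (.node 10357 (.node 10352 (.node 10349 (.node 10348 (.leaf 0x1506b5cfb) (.leaf 0x1506b5cfb)) (.node 10350 (.leaf 0x1506b5cfb) (.node 10351 (.leaf 0x1506b5cfb) (.leaf 0x1506b5cfb)))) (.node 10354 (.node 10353 (.leaf 0x1506b5cfb) (.leaf 0x1506b5cfb)) (.node 10355 (.leaf 0x1506b5cfb) (.node 10356 (.leaf 0x1506b5cfb) (.leaf 0x1506b5cfb))))) (.node 10362 (.node 10359 (.node 10358 (.leaf 0x1506b5cfb) (.leaf 0x1506b5cfb)) (.node 10360 (.leaf 0x1506b5cfb) (.node 10361 (.leaf 0x1506b5cfb) (.leaf 0x1506b5cfb)))) (.node 10365 (.node 10363 (.leaf 0x1506b5cfb) (.node 10364 (.leaf 0x1506b5cfb) (.leaf 0x1506b5cfb))) (.node 10366 (.leaf 0x1506b5cfb) (.node 10367 (.leaf 0x1506b5cfb) (.leaf 0x1506b5cfb))))))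

def candS_513 : Store := (.node 10378 (.node 10373 (.node 10370 (.node 10369 (.leaf 0x103d2529055) (.leaf 0x103d2529055)) (.node 10371 (.leaf 0x103d2529055) (.node 10372 (.leaf 0x103d2529055) (.leaf 0x103d2529055)))) (.node 10375 (.node 10374 (.leaf 0x103d2529055) (.leaf 0x103d2529055)) (.node 10376 (.leaf 0x103d2529055) (.node 10377 (.leaf 0x103d2529055) (.leaf 0x103d2529055))))) (.node 10383 (.node 10380 (.node 10379 (.leaf 0x103d2529055) (.leaf 0x103d2529055)) (.node 10381 (.leaf 0x3d2529055) (.node 10382 (.leaf 0x3d2529055) (.leaf 0x3d2529055)))) (.node 10385 (.node 10384 (.leaf 0x3d2529055) (.leaf 0x3d2529055)) (.node 10386 (.leaf 0x3d2529055) (.node 10387 (.leaf 0x3d2529055) (.leaf 0x3d2529055))))))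

def candS_514 : Store := (.node 10398 (.node 10393 (.node 10390 (.node 10389 (.leaf 0x3d2529055) (.leaf 0x3d2529055)) (.node 10391 (.leaf 0x3d2529055) (.node 10392 (.leaf 0x3d2529055) (.leaf 0x3d2529055)))) (.node 10395 (.node 10394 (.leaf 0x3d2529055) (.leaf 0x3d2529055)) (.node 10396 (.leaf 0x3d2529055) (.node 10397 (.leaf 0x3d2529055) (.leaf 0x3d2529055))))) (.node 10403 (.node 10400 (.node 10399 (.leaf 0x3d2529055) (.leaf 0x3d2529055)) (.node 10401 (.leaf 0x3d2529055) (.node 10402 (.leaf 0x3d2529055) (.leaf 0x3d2529055)))) (.node 10405 (.node 10404 (.leaf 0x3d2529055) (.leaf 0x3d2529055)) (.node 10406 (.leaf 0x3d2529055) (.node 10407 (.leaf 0x3d2529055) (.leaf 0x3d2529055))))))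

def candS_515 : Store := (.node 10418 (.node 10413 (.node 10410 (.node 10409 (.leaf 0x3d2529055) (.leaf 0x3d2529055)) (.node 10411 (.leaf 0x3d2529055) (.node 10412 (.leaf 0x3d2529055) (.leaf 0x3d2529055)))) (.node 10415 (.node 10414 (.leaf 0x3d2529055) (.leaf 0x3d2529055)) (.node 10416 (.leaf 0x3d2529055) (.node 10417 (.leaf 0x3d2529055) (.leaf 0x3d2529055))))) (.node 10423 (.node 10420 (.node 10419 (.leaf 0x3d2529055) (.leaf 0x3d2529055)) (.node 10421 (.leaf 0x3d2529055) (.node 10422 (.leaf 0x3d2529055) (.leaf 0x3d2529055)))) (.node 10425 (.node 10424 (.leaf 0x3d2529055) (.leaf 0x3d2529055)) (.node 10426 (.leaf 0x3d2529055) (.node 10427 (.leaf 0x3d2529055) (.leaf 0x3d2529055))))))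

def candS_516 : Store := (.node 10438 (.node 10433 (.node 10430 (.node 10429 (.leaf 0x3d2529055) (.leaf 0x3d2529055)) (.node 10431 (.leaf 0x3d2529055) (.node 10432 (.leaf 0x3d2529055) (.leaf 0x3d2529055)))) (.node 10435 (.node 10434 (.leaf 0x3d2529055) (.leaf 0x3d2529055)) (.node 10436 (.leaf 0x3d2529055) (.node 10437 (.leaf 0x3d2529055) (.leaf 0x3d2529055))))) (.node 10443 (.node 10440 (.node 10439 (.leaf 0x3d2529055) (.leaf 0x3d2529055)) (.node 10441 (.leaf 0x2e3d2529055) (.node 10442 (.leaf 0x2e3d2529055) (.leaf 0x2e3d2529055)))) (.node 10446 (.node 10444 (.leaf 0x2e3d2529055) (.node 10445 (.leaf 0x2e3d2529055) (.leaf 0x2e3d2529055))) (.node 10447 (.leaf 0x2e3d2529055) (.node 10448 (.leaf 0x2e3d2529055) (.leaf 0x2e3d2529055))))))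

def candS_517 : Store := (.node 10459 (.node 10454 (.node 10451 (.node 10450 (.leaf 0x2e3d2529055) (.leaf 0x2e3d2529055)) (.node 10452 (.leaf 0x2e3d2529055) (.node 10453 (.leaf 0x123d2529055) (.leaf 0x123d2529055)))) (.node 10456 (.node 10455 (.leaf 0x123d2529055) (.leaf 0x123d2529055)) (.node 10457 (.leaf 0x123d2529055) (.node 10458 (.leaf 0x123d2529055) (.leaf 0x123d2529055))))) (.node 10464 (.node 10461 (.node 10460 (.leaf 0x123d2529055) (.leaf 0x123d2529055)) (.node 10462 (.leaf 0x123d2529055) (.node 10463 (.leaf 0x123d2529055) (.leaf 0x123d2529055)))) (.node 10466 (.node 10465 (.leaf 0x63d2529055) (.leaf 0x63d2529055)) (.node 10467 (.leaf 0x63d2529055) (.node 10468 (.leaf 0x63d2529055) (.leaf 0x63d2529055))))))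

def candS_518 : Store := (.node 10479 (.node 10474 (.node 10471 (.node 10470 (.leaf 0x63d2529055) (.leaf 0x63d2529055)) (.node 10472 (.leaf 0x63d2529055) (.node 10473 (.leaf 0x63d2529055) (.leaf 0x63d2529055)))) (.node 10476 (.node 10475 (.leaf 0x63d2529055) (.leaf 0x63d2529055)) (.node 10477 (.leaf 0x283d2529055) (.node 10478 (.leaf 0x283d2529055) (.leaf 0x283d2529055))))) (.node 10484 (.node 10481 (.node 10480 (.leaf 0xf4) (.leaf 0x283d2529055)) (.node 10482 (.leaf 0x283d2529055) (.node 10483 (.leaf 0x350) (.leaf 0x283d2529055)))) (.node 10486 (.node 10485 (.leaf 0x344) (.leaf 0x283d2529055)) (.node 10487 (.leaf 0x283d2529055) (.node 10488 (.leaf 0x104) (.leaf 0x163d2529055))))))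

def candS_519 : Store := (.node 10499 (.node 10494 (.node 10491 (.node 10490 (.leaf 0x163d2529055) (.leaf 0x9000163d2529055)) (.node 10492 (.leaf 0x163d2529055) (.node 10493 (.leaf 0x1800163d2529055) (.leaf 0x163d2529055)))) (.node 10496 (.node 10495 (.leaf 0x163d2529055) (.leaf 0x3800163d2529055)) (.node 10497 (.leaf 0x163d2529055) (.node 10498 (.leaf 0x2800163d2529055) (.leaf 0x163d2529055))))) (.node 10504 (.node 10501 (.node 10500 (.leaf 0x163d2529055) (.leaf 0x3d2529055)) (.node 10502 (.leaf 0x3d2529055) (.node 10503 (.leaf 0x3d2529055) (.leaf 0x3d2529055)))) (.node 10506 (.node 10505 (.leaf 0x3d2529055) (.leaf 0x3d2529055)) (.node 10507 (.leaf 0x3d2529055) (.node 10508 (.leaf 0x3d2529055) (.leaf 0x3d2529055))))))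

def candS_520 : Store := (.node 10519 (.node 10514 (.node 10511 (.node 10510 (.leaf 0x3d2529055) (.leaf 0x3d2529055)) (.node 10512 (.leaf 0x3d2529055) (.node 10513 (.leaf 0x1e120229055) (.leaf 0x1e120229055)))) (.node 10516 (.node 10515 (.leaf 0x1e120229055) (.leaf 0x1e120229055)) (.node 10517 (.leaf 0x1e120229055) (.node 10518 (.leaf 0x1e120229055) (.leaf 0x1e120229055))))) (.node 10524 (.node 10521 (.node 10520 (.leaf 0x1e120229055) (.leaf 0x1e120229055)) (.node 10522 (.leaf 0x1e120229055) (.node 10523 (.leaf 0x1e120229055) (.leaf 0x1e120229055)))) (.node 10527 (.node 10525 (.leaf 0x46120229055) (.node 10526 (.leaf 0x46120229055) (.leaf 0x46120229055))) (.node 10528 (.leaf 0x46120229055) (.node 10529 (.leaf 0x46120229055) (.leaf 0x46120229055))))))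

def candS_521 : Store := (.node 10540 (.node 10535 (.node 10532 (.node 10531 (.leaf 0x46120229055) (.leaf 0x46120229055)) (.node 10533 (.leaf 0x46120229055) (.node 10534 (.leaf 0x46120229055) (.leaf 0x46120229055)))) (.node 10537 (.node 10536 (.leaf 0x46120229055) (.leaf 0x120229055)) (.node 10538 (.leaf 0x120229055) (.node 10539 (.leaf 0x120229055) (.leaf 0x120229055))))) (.node 10545 (.node 10542 (.node 10541 (.leaf 0x120229055) (.leaf 0x120229055)) (.node 10543 (.leaf 0x120229055) (.node 10544 (.leaf 0x120229055) (.leaf 0x120229055)))) (.node 10547 (.node 10546 (.leaf 0x120229055) (.leaf 0x120229055)) (.node 10548 (.leaf 0x120229055) (.node 10549 (.leaf 0x2c120229055) (.leaf 0x2c120229055))))))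

def candS_522 : Store := (.node 10560 (.node 10555 (.node 10552 (.node 10551 (.leaf 0x2c120229055) (.leaf 0x2c120229055)) (.node 10553 (.leaf 0x2c120229055) (.node 10554 (.leaf 0x2c120229055) (.leaf 0x2c120229055)))) (.node 10557 (.node 10556 (.leaf 0x2c120229055) (.leaf 0x2c120229055)) (.node 10558 (.leaf 0x2c120229055) (.node 10559 (.leaf 0x2c120229055) (.leaf 0x2c120229055))))) (.node 10565 (.node 10562 (.node 10561 (.leaf 0x120229055) (.leaf 0x120229055)) (.node 10563 (.leaf 0x120229055) (.node 10564 (.leaf 0x120229055) (.leaf 0x120229055)))) (.node 10567 (.node 10566 (.leaf 0x120229055) (.leaf 0x120229055)) (.node 10568 (.leaf 0x120229055) (.node 10569 (.leaf 0x120229055) (.leaf 0x120229055))))))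

def candS_523 : Store := (.node 10580 (.node 10575 (.node 10572 (.node 10571 (.leaf 0x120229055) (.leaf 0x120229055)) (.node 10573 (.leaf 0x120229055) (.node 10574 (.leaf 0x120229055) (.leaf 0x120229055)))) (.node 10577 (.node 10576 (.leaf 0x120229055) (.leaf 0x120229055)) (.node 10578 (.leaf 0x120229055) (.node 10579 (.leaf 0x120229055) (.leaf 0x120229055))))) (.node 10585 (.node 10582 (.node 10581 (.leaf 0x120229055) (.leaf 0x120229055)) (.node 10583 (.leaf 0x120229055) (.node 10584 (.leaf 0x120229055) (.leaf 0x28120229055)))) (.node 10587 (.node 10586 (.leaf 0x28120229055) (.leaf 0x28120229055)) (.node 10588 (.leaf 0x28120229055) (.node 10589 (.leaf 0x28120229055) (.leaf 0x28120229055))))))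

def candS_524 : Store := (.node 10600 (.node 10595 (.node 10592 (.node 10591 (.leaf 0x28120229055) (.leaf 0x28120229055)) (.node 10593 (.leaf 0x28120229055) (.node 10594 (.leaf 0x28120229055) (.leaf 0x28120229055)))) (.node 10597 (.node 10596 (.leaf 0x28120229055) (.leaf 0x26120229055)) (.node 10598 (.leaf 0x26120229055) (.node 10599 (.leaf 0x26120229055) (.leaf 0x26120229055))))) (.node 10605 (.node 10602 (.node 10601 (.leaf 0x26120229055) (.leaf 0x26120229055)) (.node 10603 (.leaf 0x26120229055) (.node 10604 (.leaf 0x26120229055) (.leaf 0x26120229055)))) (.node 10608 (.node 10606 (.leaf 0x26120229055) (.node 10607 (.leaf 0x26120229055) (.leaf 0x26120229055))) (.node 10609 (.leaf 0xc120229055) (.node 10610 (.leaf 0xc120229055) (.leaf 0xc120229055))))))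

def candS_525 : Store := (.node 10621 (.node 10616 (.node 10613 (.node 10612 (.leaf 0xc120229055) (.leaf 0xc120229055)) (.node 10614 (.leaf 0xc120229055) (.node 10615 (.leaf 0xc120229055) (.leaf 0xc120229055)))) (.node 10618 (.node 10617 (.leaf 0xc120229055) (.leaf 0xc120229055)) (.node 10619 (.leaf 0xc120229055) (.node 10620 (.leaf 0xc120229055) (.leaf 0x120229055))))) (.node 10626 (.node 10623 (.node 10622 (.leaf 0x120229055) (.leaf 0x120229055)) (.node 10624 (.leaf 0x120229055) (.node 10625 (.leaf 0x120229055) (.leaf 0x120229055)))) (.node 10628 (.node 10627 (.leaf 0x120229055) (.leaf 0x120229055)) (.node 10629 (.leaf 0x120229055) (.node 10630 (.leaf 0x120229055) (.leaf 0x120229055))))))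

def candS_526 : Store := (.node 10641 (.node 10636 (.node 10633 (.node 10632 (.leaf 0x120229055) (.leaf 0x120229055)) (.node 10634 (.leaf 0x120229055) (.node 10635 (.leaf 0x120229055) (.leaf 0x120229055)))) (.node 10638 (.node 10637 (.leaf 0x120229055) (.leaf 0x120229055)) (.node 10639 (.leaf 0x120229055) (.node 10640 (.leaf 0x120229055) (.leaf 0x120229055))))) (.node 10646 (.node 10643 (.node 10642 (.leaf 0x120229055) (.leaf 0x120229055)) (.node 10644 (.leaf 0x120229055) (.node 10645 (.leaf 0x120229055) (.leaf 0x120229055)))) (.node 10648 (.node 10647 (.leaf 0x120229055) (.leaf 0x120229055)) (.node 10649 (.leaf 0x120229055) (.node 10650 (.leaf 0x120229055) (.leaf 0x120229055))))))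

def candS_527 : Store := (.node 10661 (.node 10656 (.node 10653 (.node 10652 (.leaf 0x120229055) (.leaf 0x120229055)) (.node 10654 (.leaf 0x120229055) (.node 10655 (.leaf 0x120229055) (.leaf 0x120229055)))) (.node 10658 (.node 10657 (.leaf 0x440a29055) (.leaf 0x440a29055)) (.node 10659 (.leaf 0x440a29055) (.node 10660 (.leaf 0x440a29055) (.leaf 0x440a29055))))) (.node 10666 (.node 10663 (.node 10662 (.leaf 0x440a29055) (.leaf 0x440a29055)) (.node 10664 (.leaf 0x440a29055) (.node 10665 (.leaf 0x440a29055) (.leaf 0x440a29055)))) (.node 10668 (.node 10667 (.leaf 0x440a29055) (.leaf 0x440a29055)) (.node 10669 (.leaf 0x440a29055) (.node 10670 (.leaf 0x440a29055) (.leaf 0x440a29055))))))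

def candS_528 : Store := (.node 10681 (.node 10676 (.node 10673 (.node 10672 (.leaf 0x440a29055) (.leaf 0x440a29055)) (.node 10674 (.leaf 0x440a29055) (.node 10675 (.leaf 0x440a29055) (.leaf 0x440a29055)))) (.node 10678 (.node 10677 (.leaf 0x440a29055) (.leaf 0x440a29055)) (.node 10679 (.leaf 0x440a29055) (.node 10680 (.leaf 0x440a29055) (.leaf 0x32440a29055))))) (.node 10686 (.node 10683 (.node 10682 (.leaf 0x32440a29055) (.leaf 0x32440a29055)) (.node 10684 (.leaf 0x32440a29055) (.node 10685 (.leaf 0x32440a29055) (.leaf 0x32440a29055)))) (.node 10689 (.node 10687 (.leaf 0x32440a29055) (.node 10688 (.leaf 0x32440a29055) (.leaf 0x32440a29055))) (.node 10690 (.leaf 0x32440a29055) (.node 10691 (.leaf 0x32440a29055) (.leaf 0x32440a29055))))))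

def candS_529 : Store := (.node 10702 (.node 10697 (.node 10694 (.node 10693 (.leaf 0x42440a29055) (.leaf 0x42440a29055)) (.node 10695 (.leaf 0x42440a29055) (.node 10696 (.leaf 0x42440a29055) (.leaf 0x36)))) (.node 10699 (.node 10698 (.leaf 0x76) (.leaf 0x42440a29055)) (.node 10700 (.leaf 0x160) (.node 10701 (.leaf 0x42440a29055) (.leaf 0x31c))))) (.node 10707 (.node 10704 (.node 10703 (.leaf 0x42440a29055) (.leaf 0x42440a29055)) (.node 10705 (.leaf 0x22440a29055) (.node 10706 (.leaf 0x22440a29055) (.leaf 0x22440a29055)))) (.node 10709 (.node 10708 (.leaf 0x22440a29055) (.leaf 0x22440a29055)) (.node 10710 (.leaf 0x22440a29055) (.node 10711 (.leaf 0x22440a29055) (.leaf 0x22440a29055))))))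

def candS_530 : Store := (.node 10722 (.node 10717 (.node 10714 (.node 10713 (.leaf 0x22440a29055) (.leaf 0x22440a29055)) (.node 10715 (.leaf 0x22440a29055) (.node 10716 (.leaf 0x22440a29055) (.leaf 0x440a29055)))) (.node 10719 (.node 10718 (.leaf 0x440a29055) (.leaf 0x440a29055)) (.node 10720 (.leaf 0x440a29055) (.node 10721 (.leaf 0x440a29055) (.leaf 0x440a29055))))) (.node 10727 (.node 10724 (.node 10723 (.leaf 0x440a29055) (.leaf 0x440a29055)) (.node 10725 (.leaf 0x440a29055) (.node 10726 (.leaf 0x440a29055) (.leaf 0x440a29055)))) (.node 10729 (.node 10728 (.leaf 0x440a29055) (.leaf 0x440a29055)) (.node 10730 (.leaf 0x440a29055) (.node 10731 (.leaf 0x440a29055) (.leaf 0x440a29055))))))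

def candS_531 : Store := (.node 10742 (.node 10737 (.node 10734 (.node 10733 (.leaf 0x440a29055) (.leaf 0x440a29055)) (.node 10735 (.leaf 0x440a29055) (.node 10736 (.leaf 0x440a29055) (.leaf 0x440a29055)))) (.node 10739 (.node 10738 (.leaf 0x440a29055) (.leaf 0x440a29055)) (.node 10740 (.leaf 0x440a29055) (.node 10741 (.leaf 0x20002e440a29055) (.leaf 0x2e440a29055))))) (.node 10747 (.node 10744 (.node 10743 (.leaf 0x2e440a29055) (.leaf 0x78002e440a29055)) (.node 10745 (.leaf 0x2e440a29055) (.node 10746 (.leaf 0x2e440a29055) (.leaf 0x2e440a29055)))) (.node 10749 (.node 10748 (.leaf 0x2e440a29055) (.leaf 0x60002e440a29055)) (.node 10750 (.leaf 0x2e440a29055) (.node 10751 (.leaf 0x2e440a29055) (.leaf 0x30002e440a29055))))))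

def candS_532 : Store := (.node 10762 (.node 10757 (.node 10754 (.node 10753 (.leaf 0x440a29055) (.leaf 0x440a29055)) (.node 10755 (.leaf 0x440a29055) (.node 10756 (.leaf 0x440a29055) (.leaf 0x440a29055)))) (.node 10759 (.node 10758 (.leaf 0x440a29055) (.leaf 0x440a29055)) (.node 10760 (.leaf 0x440a29055) (.node 10761 (.leaf 0x440a29055) (.leaf 0x440a29055))))) (.node 10767 (.node 10764 (.node 10763 (.leaf 0x440a29055) (.leaf 0x440a29055)) (.node 10765 (.leaf 0x440a29055) (.node 10766 (.leaf 0x440a29055) (.leaf 0x440a29055)))) (.node 10770 (.node 10768 (.leaf 0x440a29055) (.node 10769 (.leaf 0x440a29055) (.leaf 0x440a29055))) (.node 10771 (.leaf 0x440a29055) (.node 10772 (.leaf 0x440a29055) (.leaf 0x440a29055))))))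

def candS_533 : Store := (.node 10783 (.node 10778 (.node 10775 (.node 10774 (.leaf 0x440a29055) (.leaf 0x440a29055)) (.node 10776 (.leaf 0x440a29055) (.node 10777 (.leaf 0x16440a29055) (.leaf 0x16440a29055)))) (.node 10780 (.node 10779 (.leaf 0x16440a29055) (.leaf 0x16440a29055)) (.node 10781 (.leaf 0x16440a29055) (.node 10782 (.leaf 0x16440a29055) (.leaf 0x16440a29055))))) (.node 10788 (.node 10785 (.node 10784 (.leaf 0x16440a29055) (.leaf 0x16440a29055)) (.node 10786 (.leaf 0x16440a29055) (.node 10787 (.leaf 0x16440a29055) (.leaf 0x16440a29055)))) (.node 10790 (.node 10789 (.leaf 0xe440a29055) (.leaf 0xe440a29055)) (.node 10791 (.leaf 0xe440a29055) (.node 10792 (.leaf 0xe440a29055) (.leaf 0xe440a29055))))))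

def candS_534 : Store := (.node 10803 (.node 10798 (.node 10795 (.node 10794 (.leaf 0xe440a29055) (.leaf 0xe440a29055)) (.node 10796 (.leaf 0xe440a29055) (.node 10797 (.leaf 0xe440a29055) (.leaf 0xe440a29055)))) (.node 10800 (.node 10799 (.leaf 0xe440a29055) (.leaf 0xe440a29055)) (.node 10801 (.leaf 0x452e29055) (.node 10802 (.leaf 0x452e29055) (.leaf 0x452e29055))))) (.node 10808 (.node 10805 (.node 10804 (.leaf 0x452e29055) (.leaf 0x452e29055)) (.node 10806 (.leaf 0x452e29055) (.node 10807 (.leaf 0x452e29055) (.leaf 0x452e29055)))) (.node 10810 (.node 10809 (.leaf 0x452e29055) (.leaf 0x452e29055)) (.node 10811 (.leaf 0x452e29055) (.node 10812 (.leaf 0x452e29055) (.leaf 0x3e452e29055))))))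

def candS_535 : Store := (.node 10823 (.node 10818 (.node 10815 (.node 10814 (.leaf 0x3e452e29055) (.leaf 0x3e452e29055)) (.node 10816 (.leaf 0x3e452e29055) (.node 10817 (.leaf 0x3e452e29055) (.leaf 0x3e452e29055)))) (.node 10820 (.node 10819 (.leaf 0x3e452e29055) (.leaf 0x3e452e29055)) (.node 10821 (.leaf 0x3e452e29055) (.node 10822 (.leaf 0x3e452e29055) (.leaf 0x3e452e29055))))) (.node 10828 (.node 10825 (.node 10824 (.leaf 0x3e452e29055) (.leaf 0x452e29055)) (.node 10826 (.leaf 0x452e29055) (.node 10827 (.leaf 0x452e29055) (.leaf 0x452e29055)))) (.node 10830 (.node 10829 (.leaf 0x452e29055) (.leaf 0x452e29055)) (.node 10831 (.leaf 0x452e29055) (.node 10832 (.leaf 0x452e29055) (.leaf 0x452e29055))))))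

def candS_536 : Store := (.node 10843 (.node 10838 (.node 10835 (.node 10834 (.leaf 0x452e29055) (.leaf 0x452e29055)) (.node 10836 (.leaf 0x452e29055) (.node 10837 (.leaf 0x452e29055) (.leaf 0x452e29055)))) (.node 10840 (.node 10839 (.leaf 0x452e29055) (.leaf 0x452e29055)) (.node 10841 (.leaf 0x452e29055) (.node 10842 (.leaf 0x452e29055) (.leaf 0x452e29055))))) (.node 10848 (.node 10845 (.node 10844 (.leaf 0x452e29055) (.leaf 0x452e29055)) (.node 10846 (.leaf 0x452e29055) (.node 10847 (.leaf 0x452e29055) (.leaf 0x452e29055)))) (.node 10851 (.node 10849 (.leaf 0x8452e29055) (.node 10850 (.leaf 0x8452e29055) (.leaf 0x500008452e29055))) (.node 10852 (.leaf 0x8452e29055) (.node 10853 (.leaf 0x80008452e29055) (.leaf 0x680008452e29055))))))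

def candS_537 : Store := (.node 10864 (.node 10859 (.node 10856 (.node 10855 (.leaf 0x8452e29055) (.leaf 0x580008452e29055)) (.node 10857 (.leaf 0x8452e29055) (.node 10858 (.leaf 0x8452e29055) (.leaf 0x8452e29055)))) (.node 10861 (.node 10860 (.leaf 0x8452e29055) (.leaf 0x452e29055)) (.node 10862 (.leaf 0x452e29055) (.node 10863 (.leaf 0x452e29055) (.leaf 0x452e29055))))) (.node 10869 (.node 10866 (.node 10865 (.leaf 0x452e29055) (.leaf 0x452e29055)) (.node 10867 (.leaf 0x452e29055) (.node 10868 (.leaf 0x452e29055) (.leaf 0x452e29055)))) (.node 10871 (.node 10870 (.leaf 0x452e29055) (.leaf 0x452e29055)) (.node 10872 (.leaf 0x452e29055) (.node 10873 (.leaf 0x2a452e29055) (.leaf 0x2a452e29055))))))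

def candS_538 : Store := (.node 10884 (.node 10879 (.node 10876 (.node 10875 (.leaf 0x2a452e29055) (.leaf 0x2a452e29055)) (.node 10877 (.leaf 0x2a452e29055) (.node 10878 (.leaf 0x2a452e29055) (.leaf 0x2a452e29055)))) (.node 10881 (.node 10880 (.leaf 0x2a452e29055) (.leaf 0x2a452e29055)) (.node 10882 (.leaf 0x2a452e29055) (.node 10883 (.leaf 0x2a452e29055) (.leaf 0x2a452e29055))))) (.node 10889 (.node 10886 (.node 10885 (.leaf 0xe452e29055) (.leaf 0xe452e29055)) (.node 10887 (.leaf 0xe452e29055) (.node 10888 (.leaf 0xe452e29055) (.leaf 0xe452e29055)))) (.node 10891 (.node 10890 (.leaf 0xe452e29055) (.leaf 0xe452e29055)) (.node 10892 (.leaf 0xe452e29055) (.node 10893 (.leaf 0xe452e29055) (.leaf 0xe452e29055))))))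

def candS_539 : Store := (.node 10904 (.node 10899 (.node 10896 (.node 10895 (.leaf 0xe452e29055) (.leaf 0xe452e29055)) (.node 10897 (.leaf 0x28452e29055) (.node 10898 (.leaf 0x28452e29055) (.leaf 0x28452e29055)))) (.node 10901 (.node 10900 (.leaf 0x28452e29055) (.leaf 0x28452e29055)) (.node 10902 (.leaf 0x28452e29055) (.node 10903 (.leaf 0x28452e29055) (.leaf 0x28452e29055))))) (.node 10909 (.node 10906 (.node 10905 (.leaf 0x28452e29055) (.leaf 0x28452e29055)) (.node 10907 (.leaf 0x28452e29055) (.node 10908 (.leaf 0x28452e29055) (.leaf 0xb2)))) (.node 10911 (.node 10910 (.leaf 0x2452e29055) (.leaf 0x2452e29055)) (.node 10912 (.leaf 0x2452e29055) (.node 10913 (.leaf 0x2452e29055) (.leaf 0x2452e29055))))))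

def candS_540 : Store := (.node 10924 (.node 10919 (.node 10916 (.node 10915 (.leaf 0x35a) (.leaf 0x2452e29055)) (.node 10917 (.leaf 0xfe) (.node 10918 (.leaf 0x2452e29055) (.leaf 0x2452e29055)))) (.node 10921 (.node 10920 (.leaf 0x338) (.leaf 0x452e29055)) (.node 10922 (.leaf 0x452e29055) (.node 10923 (.leaf 0x452e29055) (.leaf 0x452e29055))))) (.node 10929 (.node 10926 (.node 10925 (.leaf 0x452e29055) (.leaf 0x452e29055)) (.node 10927 (.leaf 0x452e29055) (.node 10928 (.leaf 0x452e29055) (.leaf 0x452e29055)))) (.node 10932 (.node 10930 (.leaf 0x452e29055) (.node 10931 (.leaf 0x452e29055) (.leaf 0x452e29055))) (.node 10933 (.leaf 0x452e29055) (.node 10934 (.leaf 0x452e29055) (.leaf 0x452e29055))))))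

def candS_541 : Store := (.node 10945 (.node 10940 (.node 10937 (.node 10936 (.leaf 0x452e29055) (.leaf 0x452e29055)) (.node 10938 (.leaf 0x452e29055) (.node 10939 (.leaf 0x452e29055) (.leaf 0x452e29055)))) (.node 10942 (.node 10941 (.leaf 0x452e29055) (.leaf 0x452e29055)) (.node 10943 (.leaf 0x452e29055) (.node 10944 (.leaf 0x452e29055) (.leaf 0x460429055))))) (.node 10950 (.node 10947 (.node 10946 (.leaf 0x460429055) (.leaf 0x460429055)) (.node 10948 (.leaf 0x460429055) (.node 10949 (.leaf 0x460429055) (.leaf 0x460429055)))) (.node 10952 (.node 10951 (.leaf 0x460429055) (.leaf 0x460429055)) (.node 10953 (.leaf 0x460429055) (.node 10954 (.leaf 0x460429055) (.leaf 0x460429055))))))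

def candS_542 : Store := (.node 10965 (.node 10960 (.node 10957 (.node 10956 (.leaf 0x460429055) (.leaf 0x460429055)) (.node 10958 (.leaf 0x460429055) (.node 10959 (.leaf 0x460429055) (.leaf 0x460429055)))) (.node 10962 (.node 10961 (.leaf 0x460429055) (.leaf 0x460429055)) (.node 10963 (.leaf 0x460429055) (.node 10964 (.leaf 0x460429055) (.leaf 0x460429055))))) (.node 10970 (.node 10967 (.node 10966 (.leaf 0x460429055) (.leaf 0x460429055)) (.node 10968 (.leaf 0x460429055) (.node 10969 (.leaf 0x460429055) (.leaf 0x460429055)))) (.node 10972 (.node 10971 (.leaf 0x460429055) (.leaf 0x460429055)) (.node 10973 (.leaf 0x460429055) (.node 10974 (.leaf 0x460429055) (.leaf 0x460429055))))))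

def candS_543 : Store := (.node 10985 (.node 10980 (.node 10977 (.node 10976 (.leaf 0x460429055) (.leaf 0x460429055)) (.node 10978 (.leaf 0x460429055) (.node 10979 (.leaf 0x460429055) (.leaf 0x460429055)))) (.node 10982 (.node 10981 (.leaf 0x40460429055) (.leaf 0x40460429055)) (.node 10983 (.leaf 0x6c) (.node 10984 (.leaf 0x40460429055) (.leaf 0x40460429055))))) (.node 10990 (.node 10987 (.node 10986 (.leaf 0x292) (.leaf 0x40460429055)) (.node 10988 (.leaf 0x2b6) (.node 10989 (.leaf 0x40460429055) (.leaf 0x188)))) (.node 10992 (.node 10991 (.leaf 0x40460429055) (.leaf 0x40460429055)) (.node 10993 (.leaf 0x46460429055) (.node 10994 (.leaf 0x46460429055) (.leaf 0x46460429055))))))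

def candS_544 : Store := (.node 11005 (.node 11000 (.node 10997 (.node 10996 (.leaf 0x46460429055) (.leaf 0x46460429055)) (.node 10998 (.leaf 0x46460429055) (.node 10999 (.leaf 0x46460429055) (.leaf 0x46460429055)))) (.node 11002 (.node 11001 (.leaf 0x46460429055) (.leaf 0x46460429055)) (.node 11003 (.leaf 0x46460429055) (.node 11004 (.leaf 0x46460429055) (.leaf 0x16460429055))))) (.node 11010 (.node 11007 (.node 11006 (.leaf 0x16460429055) (.leaf 0x16460429055)) (.node 11008 (.leaf 0x16460429055) (.node 11009 (.leaf 0x16460429055) (.leaf 0x16460429055)))) (.node 11013 (.node 11011 (.leaf 0x16460429055) (.node 11012 (.leaf 0x16460429055) (.leaf 0x16460429055))) (.node 11014 (.leaf 0x16460429055) (.node 11015 (.leaf 0x16460429055) (.leaf 0x16460429055))))))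

def candS_545 : Store := (.node 11026 (.node 11021 (.node 11018 (.node 11017 (.leaf 0x460429055) (.leaf 0x460429055)) (.node 11019 (.leaf 0x460429055) (.node 11020 (.leaf 0x460429055) (.leaf 0x460429055)))) (.node 11023 (.node 11022 (.leaf 0x460429055) (.leaf 0x460429055)) (.node 11024 (.leaf 0x460429055) (.node 11025 (.leaf 0x460429055) (.leaf 0x460429055))))) (.node 11031 (.node 11028 (.node 11027 (.leaf 0x460429055) (.leaf 0x460429055)) (.node 11029 (.leaf 0x460429055) (.node 11030 (.leaf 0x460429055) (.leaf 0x460429055)))) (.node 11033 (.node 11032 (.leaf 0x460429055) (.leaf 0x460429055)) (.node 11034 (.leaf 0x460429055) (.node 11035 (.leaf 0x460429055) (.leaf 0x460429055))))))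

def candS_546 : Store := (.node 11046 (.node 11041 (.node 11038 (.node 11037 (.leaf 0x460429055) (.leaf 0x460429055)) (.node 11039 (.leaf 0x460429055) (.node 11040 (.leaf 0x460429055) (.leaf 0x900012460429055)))) (.node 11043 (.node 11042 (.leaf 0x12460429055) (.leaf 0x12460429055)) (.node 11044 (.leaf 0x380012460429055) (.node 11045 (.leaf 0x12460429055) (.leaf 0x12460429055))))) (.node 11051 (.node 11048 (.node 11047 (.leaf 0x280012460429055) (.leaf 0x12460429055)) (.node 11049 (.leaf 0x180012460429055) (.node 11050 (.leaf 0x12460429055) (.leaf 0x12460429055)))) (.node 11053 (.node 11052 (.leaf 0x12460429055) (.leaf 0x460429055)) (.node 11054 (.leaf 0x460429055) (.node 11055 (.leaf 0x460429055) (.leaf 0x460429055))))))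

def candS_547 : Store := (.node 11066 (.node 11061 (.node 11058 (.node 11057 (.leaf 0x460429055) (.leaf 0x460429055)) (.node 11059 (.leaf 0x460429055) (.node 11060 (.leaf 0x460429055) (.leaf 0x460429055)))) (.node 11063 (.node 11062 (.leaf 0x460429055) (.leaf 0x460429055)) (.node 11064 (.leaf 0x460429055) (.node 11065 (.leaf 0x24460429055) (.leaf 0x24460429055))))) (.node 11071 (.node 11068 (.node 11067 (.leaf 0x24460429055) (.leaf 0x24460429055)) (.node 11069 (.leaf 0x24460429055) (.node 11070 (.leaf 0x24460429055) (.leaf 0x24460429055)))) (.node 11073 (.node 11072 (.leaf 0x24460429055) (.leaf 0x24460429055)) (.node 11074 (.leaf 0x24460429055) (.node 11075 (.leaf 0x24460429055) (.leaf 0x24460429055))))))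

def candS_548 : Store := (.node 11086 (.node 11081 (.node 11078 (.node 11077 (.leaf 0x4460429055) (.leaf 0x4460429055)) (.node 11079 (.leaf 0x4460429055) (.node 11080 (.leaf 0x4460429055) (.leaf 0x4460429055)))) (.node 11083 (.node 11082 (.leaf 0x4460429055) (.leaf 0x4460429055)) (.node 11084 (.leaf 0x4460429055) (.node 11085 (.leaf 0x4460429055) (.leaf 0x4460429055))))) (.node 11091 (.node 11088 (.node 11087 (.leaf 0x4460429055) (.leaf 0x4460429055)) (.node 11089 (.leaf 0x1c1729055) (.node 11090 (.leaf 0x1c1729055) (.leaf 0x1c1729055)))) (.node 11094 (.node 11092 (.leaf 0x1c1729055) (.node 11093 (.leaf 0x1c1729055) (.leaf 0x1c1729055))) (.node 11095 (.leaf 0x1c1729055) (.node 11096 (.leaf 0x1c1729055) (.leaf 0x1c1729055))))))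

def candS_549 : Store := (.node 11107 (.node 11102 (.node 11099 (.node 11098 (.leaf 0x1c1729055) (.leaf 0x1c1729055)) (.node 11100 (.leaf 0x1c1729055) (.node 11101 (.leaf 0x81c1729055) (.leaf 0x81c1729055)))) (.node 11104 (.node 11103 (.leaf 0x81c1729055) (.leaf 0x9800081c1729055)) (.node 11105 (.leaf 0x81c1729055) (.node 11106 (.leaf 0x81c1729055) (.leaf 0x8000081c1729055))))) (.node 11112 (.node 11109 (.node 11108 (.leaf 0x81c1729055) (.leaf 0x81c1729055)) (.node 11110 (.leaf 0x81c1729055) (.node 11111 (.leaf 0x81c1729055) (.leaf 0x7000081c1729055)))) (.node 11114 (.node 11113 (.leaf 0x2a1c1729055) (.leaf 0x2a1c1729055)) (.node 11115 (.leaf 0x2a1c1729055) (.node 11116 (.leaf 0x2a1c1729055) (.leaf 0x2a1c1729055))))))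

def candS_550 : Store := (.node 11127 (.node 11122 (.node 11119 (.node 11118 (.leaf 0x2a1c1729055) (.leaf 0x2a1c1729055)) (.node 11120 (.leaf 0x2a1c1729055) (.node 11121 (.leaf 0x2a1c1729055) (.leaf 0x2a1c1729055)))) (.node 11124 (.node 11123 (.leaf 0x2a1c1729055) (.leaf 0x2a1c1729055)) (.node 11125 (.leaf 0xe1c1729055) (.node 11126 (.leaf 0xe1c1729055) (.leaf 0x3a0))))) (.node 11132 (.node 11129 (.node 11128 (.leaf 0xe1c1729055) (.leaf 0x17c)) (.node 11130 (.leaf 0xe1c1729055) (.node 11131 (.leaf 0xe1c1729055) (.leaf 0x29c)))) (.node 11134 (.node 11133 (.leaf 0xe1c1729055) (.leaf 0xa6)) (.node 11135 (.leaf 0xe1c1729055) (.node 11136 (.leaf 0xe1c1729055) (.leaf 0x21c1729055))))))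

def candS_551 : Store := (.node 11147 (.node 11142 (.node 11139 (.node 11138 (.leaf 0x21c1729055) (.leaf 0x21c1729055)) (.node 11140 (.leaf 0x21c1729055) (.node 11141 (.leaf 0x21c1729055) (.leaf 0x21c1729055)))) (.node 11144 (.node 11143 (.leaf 0x21c1729055) (.leaf 0x21c1729055)) (.node 11145 (.leaf 0x21c1729055) (.node 11146 (.leaf 0x21c1729055) (.leaf 0x21c1729055))))) (.node 11152 (.node 11149 (.node 11148 (.leaf 0x21c1729055) (.leaf 0x281c1729055)) (.node 11150 (.leaf 0x281c1729055) (.node 11151 (.leaf 0x281c1729055) (.leaf 0x281c1729055)))) (.node 11154 (.node 11153 (.leaf 0x281c1729055) (.leaf 0x281c1729055)) (.node 11155 (.leaf 0x281c1729055) (.node 11156 (.leaf 0x281c1729055) (.leaf 0x281c1729055))))))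

def candS_552 : Store := (.node 11167 (.node 11162 (.node 11159 (.node 11158 (.leaf 0x281c1729055) (.leaf 0x281c1729055)) (.node 11160 (.leaf 0x281c1729055) (.node 11161 (.leaf 0x1c1729055) (.leaf 0x1c1729055)))) (.node 11164 (.node 11163 (.leaf 0x1c1729055) (.leaf 0x1c1729055)) (.node 11165 (.leaf 0x1c1729055) (.node 11166 (.leaf 0x1c1729055) (.leaf 0x1c1729055))))) (.node 11172 (.node 11169 (.node 11168 (.leaf 0x1c1729055) (.leaf 0x1c1729055)) (.node 11170 (.leaf 0x1c1729055) (.node 11171 (.leaf 0x1c1729055) (.leaf 0x1c1729055)))) (.node 11175 (.node 11173 (.leaf 0x1c1729055) (.node 11174 (.leaf 0x1c1729055) (.leaf 0x1c1729055))) (.node 11176 (.leaf 0x1c1729055) (.node 11177 (.leaf 0x1c1729055) (.leaf 0x1c1729055))))))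

def candS_553 : Store := (.node 11188 (.node 11183 (.node 11180 (.node 11179 (.leaf 0x1c1729055) (.leaf 0x1c1729055)) (.node 11181 (.leaf 0x1c1729055) (.node 11182 (.leaf 0x1c1729055) (.leaf 0x1c1729055)))) (.node 11185 (.node 11184 (.leaf 0x1c1729055) (.leaf 0x1c1729055)) (.node 11186 (.leaf 0x1c1729055) (.node 11187 (.leaf 0x1c1729055) (.leaf 0x1c1729055))))) (.node 11193 (.node 11190 (.node 11189 (.leaf 0x1c1729055) (.leaf 0x1c1729055)) (.node 11191 (.leaf 0x1c1729055) (.node 11192 (.leaf 0x1c1729055) (.leaf 0x1c1729055)))) (.node 11195 (.node 11194 (.leaf 0x1c1729055) (.leaf 0x1c1729055)) (.node 11196 (.leaf 0x1c1729055) (.node 11197 (.leaf 0x1c1729055) (.leaf 0x1c1729055))))))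

def candS_554 : Store := (.node 11208 (.node 11203 (.node 11200 (.node 11199 (.leaf 0x1c1729055) (.leaf 0x1c1729055)) (.node 11201 (.leaf 0x1c1729055) (.node 11202 (.leaf 0x1c1729055) (.leaf 0x1c1729055)))) (.node 11205 (.node 11204 (.leaf 0x1c1729055) (.leaf 0x1c1729055)) (.node 11206 (.leaf 0x1c1729055) (.node 11207 (.leaf 0x1c1729055) (.leaf 0x1c1729055))))) (.node 11213 (.node 11210 (.node 11209 (.leaf 0x1c1729055) (.leaf 0x1c1729055)) (.node 11211 (.leaf 0x1c1729055) (.node 11212 (.leaf 0x1c1729055) (.leaf 0x1c1729055)))) (.node 11215 (.node 11214 (.leaf 0x1c1729055) (.leaf 0x1c1729055)) (.node 11216 (.leaf 0x1c1729055) (.node 11217 (.leaf 0x1c1729055) (.leaf 0x1c1729055))))))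

def candS_555 : Store := (.node 11228 (.node 11223 (.node 11220 (.node 11219 (.leaf 0x1c1729055) (.leaf 0x1c1729055)) (.node 11221 (.leaf 0x3e1c1729055) (.node 11222 (.leaf 0x3e1c1729055) (.leaf 0x3e1c1729055)))) (.node 11225 (.node 11224 (.leaf 0x3e1c1729055) (.leaf 0x3e1c1729055)) (.node 11226 (.leaf 0x3e1c1729055) (.node 11227 (.leaf 0x3e1c1729055) (.leaf 0x3e1c1729055))))) (.node 11233 (.node 11230 (.node 11229 (.leaf 0x3e1c1729055) (.leaf 0x3e1c1729055)) (.node 11231 (.leaf 0x3e1c1729055) (.node 11232 (.leaf 0x3e1c1729055) (.leaf 0x2e2a36a9055)))) (.node 11235 (.node 11234 (.leaf 0x2e2a36a9055) (.leaf 0x2e2a36a9055)) (.node 11236 (.leaf 0x2e2a36a9055) (.node 11237 (.leaf 0x2e2a36a9055) (.leaf 0x2e2a36a9055))))))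

def candS_556 : Store := (.node 11248 (.node 11243 (.node 11240 (.node 11239 (.leaf 0x2e2a36a9055) (.leaf 0x2e2a36a9055)) (.node 11241 (.leaf 0x2e2a36a9055) (.node 11242 (.leaf 0x2e2a36a9055) (.leaf 0x2e2a36a9055)))) (.node 11245 (.node 11244 (.leaf 0x2e2a36a9055) (.leaf 0x402a36a9055)) (.node 11246 (.leaf 0x402a36a9055) (.node 11247 (.leaf 0x402a36a9055) (.leaf 0x402a36a9055))))) (.node 11253 (.node 11250 (.node 11249 (.leaf 0x402a36a9055) (.leaf 0x402a36a9055)) (.node 11251 (.leaf 0x402a36a9055) (.node 11252 (.leaf 0x402a36a9055) (.leaf 0x402a36a9055)))) (.node 11256 (.node 11254 (.leaf 0x402a36a9055) (.node 11255 (.leaf 0x402a36a9055) (.leaf 0x402a36a9055))) (.node 11257 (.leaf 0x2a36a9055) (.node 11258 (.leaf 0x2a36a9055) (.leaf 0x2a36a9055))))))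

def candS_557 : Store := (.node 11269 (.node 11264 (.node 11261 (.node 11260 (.leaf 0x2a36a9055) (.leaf 0x2a36a9055)) (.node 11262 (.leaf 0x2a36a9055) (.node 11263 (.leaf 0x2a36a9055) (.leaf 0x2a36a9055)))) (.node 11266 (.node 11265 (.leaf 0x2a36a9055) (.leaf 0x2a36a9055)) (.node 11267 (.leaf 0x2a36a9055) (.node 11268 (.leaf 0x2a36a9055) (.leaf 0x2a36a9055))))) (.node 11274 (.node 11271 (.node 11270 (.leaf 0x2a36a9055) (.leaf 0x2a36a9055)) (.node 11272 (.leaf 0x2a36a9055) (.node 11273 (.leaf 0x2a36a9055) (.leaf 0x2a36a9055)))) (.node 11276 (.node 11275 (.leaf 0x2a36a9055) (.leaf 0x2a36a9055)) (.node 11277 (.leaf 0x2a36a9055) (.node 11278 (.leaf 0x2a36a9055) (.leaf 0x2a36a9055))))))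

def candS_558 : Store := (.node 11289 (.node 11284 (.node 11281 (.node 11280 (.leaf 0x2a36a9055) (.leaf 0x2a36a9055)) (.node 11282 (.leaf 0x2a36a9055) (.node 11283 (.leaf 0x2a36a9055) (.leaf 0x2a36a9055)))) (.node 11286 (.node 11285 (.leaf 0x2a36a9055) (.leaf 0x2a36a9055)) (.node 11287 (.leaf 0x2a36a9055) (.node 11288 (.leaf 0x2a36a9055) (.leaf 0x2a36a9055))))) (.node 11294 (.node 11291 (.node 11290 (.leaf 0x2a36a9055) (.leaf 0x2a36a9055)) (.node 11292 (.leaf 0x2a36a9055) (.node 11293 (.leaf 0x222a36a9055) (.leaf 0x222a36a9055)))) (.node 11296 (.node 11295 (.leaf 0x222a36a9055) (.leaf 0x222a36a9055)) (.node 11297 (.leaf 0x9800222a36a9055) (.node 11298 (.leaf 0x8000222a36a9055) (.leaf 0x222a36a9055))))))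

def candS_559 : Store := (.node 11309 (.node 11304 (.node 11301 (.node 11300 (.leaf 0x222a36a9055) (.leaf 0x222a36a9055)) (.node 11302 (.leaf 0x7000222a36a9055) (.node 11303 (.leaf 0x222a36a9055) (.leaf 0x222a36a9055)))) (.node 11306 (.node 11305 (.leaf 0x1c2a36a9055) (.leaf 0x1c2a36a9055)) (.node 11307 (.leaf 0x1c2a36a9055) (.node 11308 (.leaf 0x1c2a36a9055) (.leaf 0x1c2a36a9055))))) (.node 11314 (.node 11311 (.node 11310 (.leaf 0x1c2a36a9055) (.leaf 0x1c2a36a9055)) (.node 11312 (.leaf 0x1c2a36a9055) (.node 11313 (.leaf 0x1c2a36a9055) (.leaf 0x1c2a36a9055)))) (.node 11316 (.node 11315 (.leaf 0x1c2a36a9055) (.leaf 0x1c2a36a9055)) (.node 11317 (.leaf 0x2a36a9055) (.node 11318 (.leaf 0x2a36a9055) (.leaf 0x2a36a9055))))))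

def candS_560 : Store := (.node 11329 (.node 11324 (.node 11321 (.node 11320 (.leaf 0x2a36a9055) (.leaf 0x2a36a9055)) (.node 11322 (.leaf 0x2a36a9055) (.node 11323 (.leaf 0x2a36a9055) (.leaf 0x2a36a9055)))) (.node 11326 (.node 11325 (.leaf 0x2a36a9055) (.leaf 0x2a36a9055)) (.node 11327 (.leaf 0x2a36a9055) (.node 11328 (.leaf 0x2a36a9055) (.leaf 0x182a36a9055))))) (.node 11334 (.node 11331 (.node 11330 (.leaf 0x182a36a9055) (.leaf 0x182a36a9055)) (.node 11332 (.leaf 0x182a36a9055) (.node 11333 (.leaf 0x182a36a9055) (.leaf 0x182a36a9055)))) (.node 11337 (.node 11335 (.leaf 0x182a36a9055) (.node 11336 (.leaf 0x182a36a9055) (.leaf 0x182a36a9055))) (.node 11338 (.leaf 0x182a36a9055) (.node 11339 (.leaf 0x182a36a9055) (.leaf 0x182a36a9055))))))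

def candS_561 : Store := (.node 11350 (.node 11345 (.node 11342 (.node 11341 (.leaf 0x4a) (.leaf 0xc2a36a9055)) (.node 11343 (.leaf 0xc2a36a9055) (.node 11344 (.leaf 0x268) (.leaf 0xc2a36a9055)))) (.node 11347 (.node 11346 (.leaf 0xc2a36a9055) (.leaf 0xc2a36a9055)) (.node 11348 (.leaf 0xc2a36a9055) (.node 11349 (.leaf 0x1fe) (.leaf 0xc2a36a9055))))) (.node 11355 (.node 11352 (.node 11351 (.leaf 0xc2a36a9055) (.leaf 0x56)) (.node 11353 (.leaf 0x2a36a9055) (.node 11354 (.leaf 0x2a36a9055) (.leaf 0x2a36a9055)))) (.node 11357 (.node 11356 (.leaf 0x2a36a9055) (.leaf 0x2a36a9055)) (.node 11358 (.leaf 0x2a36a9055) (.node 11359 (.leaf 0x2a36a9055) (.leaf 0x2a36a9055))))))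

def candS_562 : Store := (.node 11370 (.node 11365 (.node 11362 (.node 11361 (.leaf 0x2a36a9055) (.leaf 0x2a36a9055)) (.node 11363 (.leaf 0x2a36a9055) (.node 11364 (.leaf 0x2a36a9055) (.leaf 0x2a36a9055)))) (.node 11367 (.node 11366 (.leaf 0x2a36a9055) (.leaf 0x2a36a9055)) (.node 11368 (.leaf 0x2a36a9055) (.node 11369 (.leaf 0x2a36a9055) (.leaf 0x2a36a9055))))) (.node 11375 (.node 11372 (.node 11371 (.leaf 0x2a36a9055) (.leaf 0x2a36a9055)) (.node 11373 (.leaf 0x2a36a9055) (.node 11374 (.leaf 0x2a36a9055) (.leaf 0x2a36a9055)))) (.node 11377 (.node 11376 (.leaf 0x2a36a9055) (.leaf 0x30329055)) (.node 11378 (.leaf 0x30329055) (.node 11379 (.leaf 0x30329055) (.leaf 0x30329055))))))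

def candS_563 : Store := (.node 11390 (.node 11385 (.node 11382 (.node 11381 (.leaf 0x30329055) (.leaf 0x30329055)) (.node 11383 (.leaf 0x30329055) (.node 11384 (.leaf 0x30329055) (.leaf 0x30329055)))) (.node 11387 (.node 11386 (.leaf 0x30329055) (.leaf 0x30329055)) (.node 11388 (.leaf 0x30329055) (.node 11389 (.leaf 0x30329055) (.leaf 0x30329055))))) (.node 11395 (.node 11392 (.node 11391 (.leaf 0x30329055) (.leaf 0x30329055)) (.node 11393 (.leaf 0x30329055) (.node 11394 (.leaf 0x30329055) (.leaf 0x30329055)))) (.node 11397 (.node 11396 (.leaf 0x30329055) (.leaf 0x30329055)) (.node 11398 (.leaf 0x30329055) (.node 11399 (.leaf 0x30329055) (.leaf 0x30329055))))))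

def candS_564 : Store := (.node 11410 (.node 11405 (.node 11402 (.node 11401 (.leaf 0x44030329055) (.leaf 0x44030329055)) (.node 11403 (.leaf 0x44030329055) (.node 11404 (.leaf 0x44030329055) (.leaf 0x44030329055)))) (.node 11407 (.node 11406 (.leaf 0x44030329055) (.leaf 0x44030329055)) (.node 11408 (.leaf 0x44030329055) (.node 11409 (.leaf 0x44030329055) (.leaf 0x44030329055))))) (.node 11415 (.node 11412 (.node 11411 (.leaf 0x44030329055) (.leaf 0x44030329055)) (.node 11413 (.leaf 0xc030329055) (.node 11414 (.leaf 0xc030329055) (.leaf 0x166)))) (.node 11418 (.node 11416 (.leaf 0xc030329055) (.node 11417 (.leaf 0x274) (.leaf 0x2bc))) (.node 11419 (.leaf 0xc030329055) (.node 11420 (.leaf 0xc030329055) (.leaf 0xc030329055))))))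

def candS_565 : Store := (.node 11431 (.node 11426 (.node 11423 (.node 11422 (.leaf 0xa) (.leaf 0xc030329055)) (.node 11424 (.leaf 0xc030329055) (.node 11425 (.leaf 0x3a030329055) (.leaf 0x3a030329055)))) (.node 11428 (.node 11427 (.leaf 0x3a030329055) (.leaf 0x3a030329055)) (.node 11429 (.leaf 0x3a030329055) (.node 11430 (.leaf 0x3a030329055) (.leaf 0x3a030329055))))) (.node 11436 (.node 11433 (.node 11432 (.leaf 0x3a030329055) (.leaf 0x3a030329055)) (.node 11434 (.leaf 0x3a030329055) (.node 11435 (.leaf 0x3a030329055) (.leaf 0x3a030329055)))) (.node 11438 (.node 11437 (.leaf 0xe030329055) (.leaf 0xe030329055)) (.node 11439 (.leaf 0xe030329055) (.node 11440 (.leaf 0xe030329055) (.leaf 0xe030329055))))))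

def candS_566 : Store := (.node 11451 (.node 11446 (.node 11443 (.node 11442 (.leaf 0xe030329055) (.leaf 0xe030329055)) (.node 11444 (.leaf 0xe030329055) (.node 11445 (.leaf 0xe030329055) (.leaf 0xe030329055)))) (.node 11448 (.node 11447 (.leaf 0xe030329055) (.leaf 0xe030329055)) (.node 11449 (.leaf 0x500030030329055) (.node 11450 (.leaf 0x30030329055) (.leaf 0x30030329055))))) (.node 11456 (.node 11453 (.node 11452 (.leaf 0x680030030329055) (.leaf 0x30030329055)) (.node 11454 (.leaf 0x30030329055) (.node 11455 (.leaf 0x580030030329055) (.leaf 0x30030329055)))) (.node 11458 (.node 11457 (.leaf 0x30030329055) (.leaf 0x30030329055)) (.node 11459 (.leaf 0x30030329055) (.node 11460 (.leaf 0x80030030329055) (.leaf 0x30329055))))))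

def candS_567 : Store := (.node 11471 (.node 11466 (.node 11463 (.node 11462 (.leaf 0x30329055) (.leaf 0x30329055)) (.node 11464 (.leaf 0x30329055) (.node 11465 (.leaf 0x30329055) (.leaf 0x30329055)))) (.node 11468 (.node 11467 (.leaf 0x30329055) (.leaf 0x30329055)) (.node 11469 (.leaf 0x30329055) (.node 11470 (.leaf 0x30329055) (.leaf 0x30329055))))) (.node 11476 (.node 11473 (.node 11472 (.leaf 0x30329055) (.leaf 0x30329055)) (.node 11474 (.leaf 0x30329055) (.node 11475 (.leaf 0x30329055) (.leaf 0x30329055)))) (.node 11478 (.node 11477 (.leaf 0x30329055) (.leaf 0x30329055)) (.node 11479 (.leaf 0x30329055) (.node 11480 (.leaf 0x30329055) (.leaf 0x30329055))))))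

def candS_568 : Store := (.node 11491 (.node 11486 (.node 11483 (.node 11482 (.leaf 0x30329055) (.leaf 0x30329055)) (.node 11484 (.leaf 0x30329055) (.node 11485 (.leaf 0x30329055) (.leaf 0x30329055)))) (.node 11488 (.node 11487 (.leaf 0x30329055) (.leaf 0x30329055)) (.node 11489 (.leaf 0x30329055) (.node 11490 (.leaf 0x30329055) (.leaf 0x30329055))))) (.node 11496 (.node 11493 (.node 11492 (.leaf 0x30329055) (.leaf 0x30329055)) (.node 11494 (.leaf 0x30329055) (.node 11495 (.leaf 0x30329055) (.leaf 0x30329055)))) (.node 11499 (.node 11497 (.leaf 0x36030329055) (.node 11498 (.leaf 0x36030329055) (.leaf 0x36030329055))) (.node 11500 (.leaf 0x36030329055) (.node 11501 (.leaf 0x36030329055) (.leaf 0x36030329055))))))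

def candS_569 : Store := (.node 11512 (.node 11507 (.node 11504 (.node 11503 (.leaf 0x36030329055) (.leaf 0x36030329055)) (.node 11505 (.leaf 0x36030329055) (.node 11506 (.leaf 0x36030329055) (.leaf 0x36030329055)))) (.node 11509 (.node 11508 (.leaf 0x36030329055) (.leaf 0x30329055)) (.node 11510 (.leaf 0x30329055) (.node 11511 (.leaf 0x30329055) (.leaf 0x30329055))))) (.node 11517 (.node 11514 (.node 11513 (.leaf 0x30329055) (.leaf 0x30329055)) (.node 11515 (.leaf 0x30329055) (.node 11516 (.leaf 0x30329055) (.leaf 0x30329055)))) (.node 11519 (.node 11518 (.leaf 0x30329055) (.leaf 0x30329055)) (.node 11520 (.leaf 0x30329055) (.node 11521 (.leaf 0x362d2729055) (.leaf 0x362d2729055))))))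

def candS_570 : Store := (.node 11532 (.node 11527 (.node 11524 (.node 11523 (.leaf 0x362d2729055) (.leaf 0x362d2729055)) (.node 11525 (.leaf 0x362d2729055) (.node 11526 (.leaf 0x362d2729055) (.leaf 0x362d2729055)))) (.node 11529 (.node 11528 (.leaf 0x362d2729055) (.leaf 0x362d2729055)) (.node 11530 (.leaf 0x362d2729055) (.node 11531 (.leaf 0x362d2729055) (.leaf 0x362d2729055))))) (.node 11537 (.node 11534 (.node 11533 (.leaf 0x2d2729055) (.leaf 0x2d2729055)) (.node 11535 (.leaf 0x2d2729055) (.node 11536 (.leaf 0x2d2729055) (.leaf 0x2d2729055)))) (.node 11539 (.node 11538 (.leaf 0x2d2729055) (.leaf 0x2d2729055)) (.node 11540 (.leaf 0x2d2729055) (.node 11541 (.leaf 0x2d2729055) (.leaf 0x2d2729055))))))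

def candS_571 : Store := (.node 11552 (.node 11547 (.node 11544 (.node 11543 (.leaf 0x2d2729055) (.leaf 0x2d2729055)) (.node 11545 (.leaf 0x2d2729055) (.node 11546 (.leaf 0x2d2729055) (.leaf 0x2d2729055)))) (.node 11549 (.node 11548 (.leaf 0x2d2729055) (.leaf 0x2d2729055)) (.node 11550 (.leaf 0x2d2729055) (.node 11551 (.leaf 0x2d2729055) (.leaf 0x2d2729055))))) (.node 11557 (.node 11554 (.node 11553 (.leaf 0x2d2729055) (.leaf 0x2d2729055)) (.node 11555 (.leaf 0x2d2729055) (.node 11556 (.leaf 0x2d2729055) (.leaf 0x2d2729055)))) (.node 11559 (.node 11558 (.leaf 0x2d2729055) (.leaf 0x2d2729055)) (.node 11560 (.leaf 0x2d2729055) (.node 11561 (.leaf 0x2d2729055) (.leaf 0x2d2729055))))))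

def candS_572 : Store := (.node 11572 (.node 11567 (.node 11564 (.node 11563 (.leaf 0x2d2729055) (.leaf 0x2d2729055)) (.node 11565 (.leaf 0x2d2729055) (.node 11566 (.leaf 0x2d2729055) (.leaf 0x2d2729055)))) (.node 11569 (.node 11568 (.leaf 0x2d2729055) (.leaf 0x2d2729055)) (.node 11570 (.leaf 0x2d2729055) (.node 11571 (.leaf 0x2d2729055) (.leaf 0x2d2729055))))) (.node 11577 (.node 11574 (.node 11573 (.leaf 0x2d2729055) (.leaf 0x2d2729055)) (.node 11575 (.leaf 0x2d2729055) (.node 11576 (.leaf 0x2d2729055) (.leaf 0x2d2729055)))) (.node 11580 (.node 11578 (.leaf 0x2d2729055) (.node 11579 (.leaf 0x2d2729055) (.leaf 0x2d2729055))) (.node 11581 (.leaf 0x2d2729055) (.node 11582 (.leaf 0x2d2729055) (.leaf 0x2d2729055))))))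

def candS_573 : Store := (.node 11593 (.node 11588 (.node 11585 (.node 11584 (.leaf 0x2d2729055) (.leaf 0x2d2729055)) (.node 11586 (.leaf 0x2d2729055) (.node 11587 (.leaf 0x2d2729055) (.leaf 0x2d2729055)))) (.node 11590 (.node 11589 (.leaf 0x2d2729055) (.leaf 0x2d2729055)) (.node 11591 (.leaf 0x2d2729055) (.node 11592 (.leaf 0x2d2729055) (.leaf 0x2d2729055))))) (.node 11598 (.node 11595 (.node 11594 (.leaf 0x2d2729055) (.leaf 0x2d2729055)) (.node 11596 (.leaf 0x2d2729055) (.node 11597 (.leaf 0x2d2729055) (.leaf 0x2d2729055)))) (.node 11600 (.node 11599 (.leaf 0x2d2729055) (.leaf 0x2d2729055)) (.node 11601 (.leaf 0x2d2729055) (.node 11602 (.leaf 0x2d2729055) (.leaf 0x2d2729055))))))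

def candS_574 : Store := (.node 11613 (.node 11608 (.node 11605 (.node 11604 (.leaf 0x2d2729055) (.leaf 0x162d2729055)) (.node 11606 (.leaf 0x162d2729055) (.node 11607 (.leaf 0x162d2729055) (.leaf 0x162d2729055)))) (.node 11610 (.node 11609 (.leaf 0x162d2729055) (.leaf 0x162d2729055)) (.node 11611 (.leaf 0x162d2729055) (.node 11612 (.leaf 0x162d2729055) (.leaf 0x162d2729055))))) (.node 11618 (.node 11615 (.node 11614 (.leaf 0x162d2729055) (.leaf 0x162d2729055)) (.node 11616 (.leaf 0x162d2729055) (.node 11617 (.leaf 0x3c2d2729055) (.leaf 0x3c2d2729055)))) (.node 11620 (.node 11619 (.leaf 0x3c2d2729055) (.leaf 0x3c2d2729055)) (.node 11621 (.leaf 0x3c2d2729055) (.node 11622 (.leaf 0x3c2d2729055) (.leaf 0x3c2d2729055))))))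

def candS_575 : Store := (.node 11633 (.node 11628 (.node 11625 (.node 11624 (.leaf 0x3c2d2729055) (.leaf 0x3c2d2729055)) (.node 11626 (.leaf 0x3c2d2729055) (.node 11627 (.leaf 0x3c2d2729055) (.leaf 0x3c2d2729055)))) (.node 11630 (.node 11629 (.leaf 0x360) (.leaf 0x262d2729055)) (.node 11631 (.leaf 0x262d2729055) (.node 11632 (.leaf 0x2) (.leaf 0x262d2729055))))) (.node 11638 (.node 11635 (.node 11634 (.leaf 0x262d2729055) (.leaf 0x204)) (.node 11636 (.leaf 0x262d2729055) (.node 11637 (.leaf 0x262d2729055) (.leaf 0x262d2729055)))) (.node 11640 (.node 11639 (.leaf 0x262d2729055) (.leaf 0x1ae)) (.node 11641 (.leaf 0x2d2729055) (.node 11642 (.leaf 0x2d2729055) (.leaf 0x2d2729055))))))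

def candS_576 : Store := (.node 11653 (.node 11648 (.node 11645 (.node 11644 (.leaf 0x2d2729055) (.leaf 0x2d2729055)) (.node 11646 (.leaf 0x2d2729055) (.node 11647 (.leaf 0x2d2729055) (.leaf 0x2d2729055)))) (.node 11650 (.node 11649 (.leaf 0x2d2729055) (.leaf 0x2d2729055)) (.node 11651 (.leaf 0x2d2729055) (.node 11652 (.leaf 0x2d2729055) (.leaf 0x62d2729055))))) (.node 11658 (.node 11655 (.node 11654 (.leaf 0x62d2729055) (.leaf 0x8800062d2729055)) (.node 11656 (.leaf 0x62d2729055) (.node 11657 (.leaf 0x4000062d2729055) (.leaf 0x1000062d2729055)))) (.node 11661 (.node 11659 (.leaf 0x62d2729055) (.node 11660 (.leaf 0x62d2729055) (.leaf 0x62d2729055))) (.node 11662 (.leaf 0x4800062d2729055) (.node 11663 (.leaf 0x62d2729055) (.leaf 0x62d2729055))))))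

def candS_577 : Store := (.node 11674 (.node 11669 (.node 11666 (.node 11665 (.leaf 0x800020f3629055) (.leaf 0x20f3629055)) (.node 11667 (.leaf 0x20f3629055) (.node 11668 (.leaf 0x20f3629055) (.leaf 0x20f3629055)))) (.node 11671 (.node 11670 (.leaf 0x20f3629055) (.leaf 0x5800020f3629055)) (.node 11672 (.leaf 0x20f3629055) (.node 11673 (.leaf 0x5000020f3629055) (.leaf 0x20f3629055))))) (.node 11679 (.node 11676 (.node 11675 (.leaf 0x20f3629055) (.leaf 0x6800020f3629055)) (.node 11677 (.leaf 0xf3629055) (.node 11678 (.leaf 0xf3629055) (.leaf 0xf3629055)))) (.node 11681 (.node 11680 (.leaf 0xf3629055) (.leaf 0xf3629055)) (.node 11682 (.leaf 0xf3629055) (.node 11683 (.leaf 0xf3629055) (.leaf 0xf3629055))))))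

def candS_578 : Store := (.node 11694 (.node 11689 (.node 11686 (.node 11685 (.leaf 0xf3629055) (.leaf 0xf3629055)) (.node 11687 (.leaf 0xf3629055) (.node 11688 (.leaf 0xf3629055) (.leaf 0x1c0f3629055)))) (.node 11691 (.node 11690 (.leaf 0x1c0f3629055) (.leaf 0x1c0f3629055)) (.node 11692 (.leaf 0x1c0f3629055) (.node 11693 (.leaf 0x1c0f3629055) (.leaf 0x1c0f3629055))))) (.node 11699 (.node 11696 (.node 11695 (.leaf 0x1c0f3629055) (.leaf 0x1c0f3629055)) (.node 11697 (.leaf 0x1c0f3629055) (.node 11698 (.leaf 0x1c0f3629055) (.leaf 0x1c0f3629055)))) (.node 11701 (.node 11700 (.leaf 0x1c0f3629055) (.leaf 0xf3629055)) (.node 11702 (.leaf 0xf3629055) (.node 11703 (.leaf 0x3aa) (.leaf 0xf3629055))))))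

def candS_579 : Store := (.node 11714 (.node 11709 (.node 11706 (.node 11705 (.leaf 0x286) (.leaf 0x70)) (.node 11707 (.leaf 0xf3629055) (.node 11708 (.leaf 0x176) (.leaf 0xf3629055)))) (.node 11711 (.node 11710 (.leaf 0xf3629055) (.leaf 0xf3629055)) (.node 11712 (.leaf 0xf3629055) (.node 11713 (.leaf 0xf3629055) (.leaf 0xf3629055))))) (.node 11719 (.node 11716 (.node 11715 (.leaf 0xf3629055) (.leaf 0xf3629055)) (.node 11717 (.leaf 0xf3629055) (.node 11718 (.leaf 0xf3629055) (.leaf 0xf3629055)))) (.node 11721 (.node 11720 (.leaf 0xf3629055) (.leaf 0xf3629055)) (.node 11722 (.leaf 0xf3629055) (.node 11723 (.leaf 0xf3629055) (.leaf 0xf3629055))))))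

def candS_580 : Store := (.node 11734 (.node 11729 (.node 11726 (.node 11725 (.leaf 0x200f3629055) (.leaf 0x200f3629055)) (.node 11727 (.leaf 0x200f3629055) (.node 11728 (.leaf 0x200f3629055) (.leaf 0x200f3629055)))) (.node 11731 (.node 11730 (.leaf 0x200f3629055) (.leaf 0x200f3629055)) (.node 11732 (.leaf 0x200f3629055) (.node 11733 (.leaf 0x200f3629055) (.leaf 0x200f3629055))))) (.node 11739 (.node 11736 (.node 11735 (.leaf 0x200f3629055) (.leaf 0x200f3629055)) (.node 11737 (.leaf 0xf3629055) (.node 11738 (.leaf 0xf3629055) (.leaf 0xf3629055)))) (.node 11742 (.node 11740 (.leaf 0xf3629055) (.node 11741 (.leaf 0xf3629055) (.leaf 0xf3629055))) (.node 11743 (.leaf 0xf3629055) (.node 11744 (.leaf 0xf3629055) (.leaf 0xf3629055))))))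

def candS_581 : Store := (.node 11755 (.node 11750 (.node 11747 (.node 11746 (.leaf 0xf3629055) (.leaf 0xf3629055)) (.node 11748 (.leaf 0xf3629055) (.node 11749 (.leaf 0xf3629055) (.leaf 0xf3629055)))) (.node 11752 (.node 11751 (.leaf 0xf3629055) (.leaf 0xf3629055)) (.node 11753 (.leaf 0xf3629055) (.node 11754 (.leaf 0xf3629055) (.leaf 0xf3629055))))) (.node 11760 (.node 11757 (.node 11756 (.leaf 0xf3629055) (.leaf 0xf3629055)) (.node 11758 (.leaf 0xf3629055) (.node 11759 (.leaf 0xf3629055) (.leaf 0xf3629055)))) (.node 11762 (.node 11761 (.leaf 0xf3629055) (.leaf 0xf3629055)) (.node 11763 (.leaf 0xf3629055) (.node 11764 (.leaf 0xf3629055) (.leaf 0xf3629055))))))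

def candS_582 : Store := (.node 11775 (.node 11770 (.node 11767 (.node 11766 (.leaf 0xf3629055) (.leaf 0xf3629055)) (.node 11768 (.leaf 0xf3629055) (.node 11769 (.leaf 0xf3629055) (.leaf 0xf3629055)))) (.node 11772 (.node 11771 (.leaf 0xf3629055) (.leaf 0xf3629055)) (.node 11773 (.leaf 0xf3629055) (.node 11774 (.leaf 0xf3629055) (.leaf 0xf3629055))))) (.node 11780 (.node 11777 (.node 11776 (.leaf 0xf3629055) (.leaf 0xf3629055)) (.node 11778 (.leaf 0xf3629055) (.node 11779 (.leaf 0xf3629055) (.leaf 0xf3629055)))) (.node 11782 (.node 11781 (.leaf 0xf3629055) (.leaf 0xf3629055)) (.node 11783 (.leaf 0xf3629055) (.node 11784 (.leaf 0xf3629055) (.leaf 0x100f3629055))))))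

def candS_583 : Store := (.node 11795 (.node 11790 (.node 11787 (.node 11786 (.leaf 0x100f3629055) (.leaf 0x100f3629055)) (.node 11788 (.leaf 0x100f3629055) (.node 11789 (.leaf 0x100f3629055) (.leaf 0x100f3629055)))) (.node 11792 (.node 11791 (.leaf 0x100f3629055) (.leaf 0x100f3629055)) (.node 11793 (.leaf 0x100f3629055) (.node 11794 (.leaf 0x100f3629055) (.leaf 0x100f3629055))))) (.node 11800 (.node 11797 (.node 11796 (.leaf 0x100f3629055) (.leaf 0x80f3629055)) (.node 11798 (.leaf 0x80f3629055) (.node 11799 (.leaf 0x80f3629055) (.leaf 0x80f3629055)))) (.node 11802 (.node 11801 (.leaf 0x80f3629055) (.leaf 0x80f3629055)) (.node 11803 (.leaf 0x80f3629055) (.node 11804 (.leaf 0x80f3629055) (.leaf 0x80f3629055))))))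

def candS_584 : Store := (.node 11815 (.node 11810 (.node 11807 (.node 11806 (.leaf 0x80f3629055) (.leaf 0x80f3629055)) (.node 11808 (.leaf 0x80f3629055) (.node 11809 (.leaf 0x452029055) (.leaf 0x452029055)))) (.node 11812 (.node 11811 (.leaf 0x452029055) (.leaf 0x452029055)) (.node 11813 (.leaf 0x452029055) (.node 11814 (.leaf 0x452029055) (.leaf 0x452029055))))) (.node 11820 (.node 11817 (.node 11816 (.leaf 0x452029055) (.leaf 0x452029055)) (.node 11818 (.leaf 0x452029055) (.node 11819 (.leaf 0x452029055) (.leaf 0x452029055)))) (.node 11823 (.node 11821 (.leaf 0x452029055) (.node 11822 (.leaf 0x452029055) (.leaf 0x452029055))) (.node 11824 (.leaf 0x452029055) (.node 11825 (.leaf 0x452029055) (.leaf 0x452029055))))))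

def candS_585 : Store := (.node 11836 (.node 11831 (.node 11828 (.node 11827 (.leaf 0x452029055) (.leaf 0x452029055)) (.node 11829 (.leaf 0x452029055) (.node 11830 (.leaf 0x452029055) (.leaf 0x452029055)))) (.node 11833 (.node 11832 (.leaf 0x452029055) (.leaf 0x22452029055)) (.node 11834 (.leaf 0x22452029055) (.node 11835 (.leaf 0x22452029055) (.leaf 0x22452029055))))) (.node 11841 (.node 11838 (.node 11837 (.leaf 0x22452029055) (.leaf 0x22452029055)) (.node 11839 (.leaf 0x22452029055) (.node 11840 (.leaf 0x22452029055) (.leaf 0x22452029055)))) (.node 11843 (.node 11842 (.leaf 0x22452029055) (.leaf 0x22452029055)) (.node 11844 (.leaf 0x22452029055) (.node 11845 (.leaf 0x452029055) (.leaf 0x452029055))))))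

def candS_586 : Store := (.node 11856 (.node 11851 (.node 11848 (.node 11847 (.leaf 0x452029055) (.leaf 0x452029055)) (.node 11849 (.leaf 0x452029055) (.node 11850 (.leaf 0x452029055) (.leaf 0x452029055)))) (.node 11853 (.node 11852 (.leaf 0x452029055) (.leaf 0x452029055)) (.node 11854 (.leaf 0x452029055) (.node 11855 (.leaf 0x452029055) (.leaf 0x452029055))))) (.node 11861 (.node 11858 (.node 11857 (.leaf 0x36452029055) (.leaf 0x36452029055)) (.node 11859 (.leaf 0x36452029055) (.node 11860 (.leaf 0x36452029055) (.leaf 0x36452029055)))) (.node 11863 (.node 11862 (.leaf 0x36452029055) (.leaf 0x36452029055)) (.node 11864 (.leaf 0x36452029055) (.node 11865 (.leaf 0x36452029055) (.leaf 0x36452029055))))))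

def candS_587 : Store := (.node 11876 (.node 11871 (.node 11868 (.node 11867 (.leaf 0x36452029055) (.leaf 0x36452029055)) (.node 11869 (.leaf 0x3e452029055) (.node 11870 (.leaf 0x3e452029055) (.leaf 0x3e452029055)))) (.node 11873 (.node 11872 (.leaf 0x3e452029055) (.leaf 0x3e452029055)) (.node 11874 (.leaf 0x3e452029055) (.node 11875 (.leaf 0x3e452029055) (.leaf 0x3e452029055))))) (.node 11881 (.node 11878 (.node 11877 (.leaf 0x3e452029055) (.leaf 0x3e452029055)) (.node 11879 (.leaf 0x3e452029055) (.node 11880 (.leaf 0x3e452029055) (.leaf 0x452029055)))) (.node 11883 (.node 11882 (.leaf 0x452029055) (.leaf 0x452029055)) (.node 11884 (.leaf 0x452029055) (.node 11885 (.leaf 0x452029055) (.leaf 0x452029055))))))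

def candS_588 : Store := (.node 11896 (.node 11891 (.node 11888 (.node 11887 (.leaf 0x452029055) (.leaf 0x452029055)) (.node 11889 (.leaf 0x452029055) (.node 11890 (.leaf 0x452029055) (.leaf 0x452029055)))) (.node 11893 (.node 11892 (.leaf 0x452029055) (.leaf 0x452029055)) (.node 11894 (.leaf 0x452029055) (.node 11895 (.leaf 0x452029055) (.leaf 0x452029055))))) (.node 11901 (.node 11898 (.node 11897 (.leaf 0x452029055) (.leaf 0x452029055)) (.node 11899 (.leaf 0x452029055) (.node 11900 (.leaf 0x452029055) (.leaf 0x452029055)))) (.node 11904 (.node 11902 (.leaf 0x452029055) (.node 11903 (.leaf 0x452029055) (.leaf 0x452029055))) (.node 11905 (.leaf 0x452029055) (.node 11906 (.leaf 0x452029055) (.leaf 0x452029055))))))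

def candS_589 : Store := (.node 11917 (.node 11912 (.node 11909 (.node 11908 (.leaf 0x452029055) (.leaf 0x452029055)) (.node 11910 (.leaf 0x452029055) (.node 11911 (.leaf 0x452029055) (.leaf 0x452029055)))) (.node 11914 (.node 11913 (.leaf 0x452029055) (.leaf 0x452029055)) (.node 11915 (.leaf 0x452029055) (.node 11916 (.leaf 0x452029055) (.leaf 0x40452029055))))) (.node 11922 (.node 11919 (.node 11918 (.leaf 0x40452029055) (.leaf 0x40452029055)) (.node 11920 (.leaf 0x40452029055) (.node 11921 (.leaf 0x40452029055) (.leaf 0x40452029055)))) (.node 11924 (.node 11923 (.leaf 0x40452029055) (.leaf 0x40452029055)) (.node 11925 (.leaf 0x40452029055) (.node 11926 (.leaf 0x40452029055) (.leaf 0x40452029055))))))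

def candS_590 : Store := (.node 11937 (.node 11932 (.node 11929 (.node 11928 (.leaf 0x40452029055) (.leaf 0x20452029055)) (.node 11930 (.leaf 0x20452029055) (.node 11931 (.leaf 0x20452029055) (.leaf 0x20452029055)))) (.node 11934 (.node 11933 (.leaf 0x20452029055) (.leaf 0x20452029055)) (.node 11935 (.leaf 0x20452029055) (.node 11936 (.leaf 0x20452029055) (.leaf 0x20452029055))))) (.node 11942 (.node 11939 (.node 11938 (.leaf 0x20452029055) (.leaf 0x20452029055)) (.node 11940 (.leaf 0x20452029055) (.node 11941 (.leaf 0x12452029055) (.leaf 0x12452029055)))) (.node 11944 (.node 11943 (.leaf 0x12452029055) (.leaf 0x12452029055)) (.node 11945 (.leaf 0x12452029055) (.node 11946 (.leaf 0x12452029055) (.leaf 0x12452029055))))))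

def candS_591 : Store := (.node 11957 (.node 11952 (.node 11949 (.node 11948 (.leaf 0x12452029055) (.leaf 0x12452029055)) (.node 11950 (.leaf 0x12452029055) (.node 11951 (.leaf 0x12452029055) (.leaf 0x12452029055)))) (.node 11954 (.node 11953 (.leaf 0x440d0fa9055) (.leaf 0x440d0fa9055)) (.node 11955 (.leaf 0x440d0fa9055) (.node 11956 (.leaf 0x440d0fa9055) (.leaf 0x440d0fa9055))))) (.node 11962 (.node 11959 (.node 11958 (.leaf 0x440d0fa9055) (.leaf 0x440d0fa9055)) (.node 11960 (.leaf 0x440d0fa9055) (.node 11961 (.leaf 0x440d0fa9055) (.leaf 0x440d0fa9055)))) (.node 11964 (.node 11963 (.leaf 0x440d0fa9055) (.leaf 0x440d0fa9055)) (.node 11965 (.leaf 0x1a0d0fa9055) (.node 11966 (.leaf 0x1a0d0fa9055) (.leaf 0x1a0d0fa9055))))))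

def candS_592 : Store := (.node 11977 (.node 11972 (.node 11969 (.node 11968 (.leaf 0x1a0d0fa9055) (.leaf 0x1a0d0fa9055)) (.node 11970 (.leaf 0x1a0d0fa9055) (.node 11971 (.leaf 0x1a0d0fa9055) (.leaf 0x1a0d0fa9055)))) (.node 11974 (.node 11973 (.leaf 0x1a0d0fa9055) (.leaf 0x1a0d0fa9055)) (.node 11975 (.leaf 0x1a0d0fa9055) (.node 11976 (.leaf 0x1a0d0fa9055) (.leaf 0x100d0fa9055))))) (.node 11982 (.node 11979 (.node 11978 (.leaf 0x100d0fa9055) (.leaf 0x2800100d0fa9055)) (.node 11980 (.leaf 0x100d0fa9055) (.node 11981 (.leaf 0x100d0fa9055) (.leaf 0x9000100d0fa9055)))) (.node 11985 (.node 11983 (.leaf 0x100d0fa9055) (.node 11984 (.leaf 0x1800100d0fa9055) (.leaf 0x100d0fa9055))) (.node 11986 (.leaf 0x3800100d0fa9055) (.node 11987 (.leaf 0x100d0fa9055) (.leaf 0x100d0fa9055))))))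

def candS_593 : Store := (.node 11998 (.node 11993 (.node 11990 (.node 11989 (.leaf 0xd0fa9055) (.leaf 0xd0fa9055)) (.node 11991 (.leaf 0xd0fa9055) (.node 11992 (.leaf 0xd0fa9055) (.leaf 0xd0fa9055)))) (.node 11995 (.node 11994 (.leaf 0xd0fa9055) (.leaf 0xd0fa9055)) (.node 11996 (.leaf 0xd0fa9055) (.node 11997 (.leaf 0xd0fa9055) (.leaf 0xd0fa9055))))) (.node 12003 (.node 12000 (.node 11999 (.leaf 0xd0fa9055) (.leaf 0xd0fa9055)) (.node 12001 (.leaf 0xd0fa9055) (.node 12002 (.leaf 0xd0fa9055) (.leaf 0xd0fa9055)))) (.node 12005 (.node 12004 (.leaf 0xd0fa9055) (.leaf 0xd0fa9055)) (.node 12006 (.leaf 0xd0fa9055) (.node 12007 (.leaf 0xd0fa9055) (.leaf 0xd0fa9055))))))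

def candS_594 : Store := (.node 12018 (.node 12013 (.node 12010 (.node 12009 (.leaf 0xd0fa9055) (.leaf 0xd0fa9055)) (.node 12011 (.leaf 0xd0fa9055) (.node 12012 (.leaf 0xd0fa9055) (.leaf 0xd0fa9055)))) (.node 12015 (.node 12014 (.leaf 0xd0fa9055) (.leaf 0xd0fa9055)) (.node 12016 (.leaf 0xd0fa9055) (.node 12017 (.leaf 0xd0fa9055) (.leaf 0xd0fa9055))))) (.node 12023 (.node 12020 (.node 12019 (.leaf 0xd0fa9055) (.leaf 0xd0fa9055)) (.node 12021 (.leaf 0xd0fa9055) (.node 12022 (.leaf 0xd0fa9055) (.leaf 0xd0fa9055)))) (.node 12025 (.node 12024 (.leaf 0xd0fa9055) (.leaf 0x20d0fa9055)) (.node 12026 (.leaf 0x20d0fa9055) (.node 12027 (.leaf 0x20d0fa9055) (.leaf 0x20d0fa9055))))))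

def candS_595 : Store := (.node 12038 (.node 12033 (.node 12030 (.node 12029 (.leaf 0x20d0fa9055) (.leaf 0x20d0fa9055)) (.node 12031 (.leaf 0x20d0fa9055) (.node 12032 (.leaf 0x20d0fa9055) (.leaf 0x20d0fa9055)))) (.node 12035 (.node 12034 (.leaf 0x20d0fa9055) (.leaf 0x20d0fa9055)) (.node 12036 (.leaf 0x20d0fa9055) (.node 12037 (.leaf 0x160d0fa9055) (.leaf 0x160d0fa9055))))) (.node 12043 (.node 12040 (.node 12039 (.leaf 0x160d0fa9055) (.leaf 0x160d0fa9055)) (.node 12041 (.leaf 0x160d0fa9055) (.node 12042 (.leaf 0x160d0fa9055) (.leaf 0x160d0fa9055)))) (.node 12045 (.node 12044 (.leaf 0x160d0fa9055) (.leaf 0x160d0fa9055)) (.node 12046 (.leaf 0x160d0fa9055) (.node 12047 (.leaf 0x160d0fa9055) (.leaf 0x160d0fa9055))))))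

def candS_596 : Store := (.node 12058 (.node 12053 (.node 12050 (.node 12049 (.leaf 0xd0fa9055) (.leaf 0xd0fa9055)) (.node 12051 (.leaf 0xd0fa9055) (.node 12052 (.leaf 0xd0fa9055) (.leaf 0xd0fa9055)))) (.node 12055 (.node 12054 (.leaf 0xd0fa9055) (.leaf 0xd0fa9055)) (.node 12056 (.leaf 0xd0fa9055) (.node 12057 (.leaf 0xd0fa9055) (.leaf 0xd0fa9055))))) (.node 12063 (.node 12060 (.node 12059 (.leaf 0xd0fa9055) (.leaf 0xd0fa9055)) (.node 12061 (.leaf 0x1d0) (.node 12062 (.leaf 0x380d0fa9055) (.leaf 0x380d0fa9055)))) (.node 12066 (.node 12064 (.leaf 0x22c) (.node 12065 (.leaf 0x380d0fa9055) (.leaf 0x380d0fa9055))) (.node 12067 (.leaf 0xac) (.node 12068 (.leaf 0x380d0fa9055) (.leaf 0x1f2))))))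

def candS_597 : Store := (.node 12079 (.node 12074 (.node 12071 (.node 12070 (.leaf 0x380d0fa9055) (.leaf 0x380d0fa9055)) (.node 12072 (.leaf 0x380d0fa9055) (.node 12073 (.leaf 0xd0fa9055) (.leaf 0xd0fa9055)))) (.node 12076 (.node 12075 (.leaf 0xd0fa9055) (.leaf 0xd0fa9055)) (.node 12077 (.leaf 0xd0fa9055) (.node 12078 (.leaf 0xd0fa9055) (.leaf 0xd0fa9055))))) (.node 12084 (.node 12081 (.node 12080 (.leaf 0xd0fa9055) (.leaf 0xd0fa9055)) (.node 12082 (.leaf 0xd0fa9055) (.node 12083 (.leaf 0xd0fa9055) (.leaf 0xd0fa9055)))) (.node 12086 (.node 12085 (.leaf 0xd0fa9055) (.leaf 0xd0fa9055)) (.node 12087 (.leaf 0xd0fa9055) (.node 12088 (.leaf 0xd0fa9055) (.leaf 0xd0fa9055))))))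

def candS_598 : Store := (.node 12099 (.node 12094 (.node 12091 (.node 12090 (.leaf 0xd0fa9055) (.leaf 0xd0fa9055)) (.node 12092 (.leaf 0xd0fa9055) (.node 12093 (.leaf 0xd0fa9055) (.leaf 0xd0fa9055)))) (.node 12096 (.node 12095 (.leaf 0xd0fa9055) (.leaf 0xd0fa9055)) (.node 12097 (.leaf 0x47363b0e3) (.node 12098 (.leaf 0x47363b0e3) (.leaf 0x47363b0e3))))) (.node 12104 (.node 12101 (.node 12100 (.leaf 0x47363b0e3) (.leaf 0x47363b0e3)) (.node 12102 (.leaf 0x47363b0e3) (.node 12103 (.leaf 0x47363b0e3) (.leaf 0x47363b0e3)))) (.node 12106 (.node 12105 (.leaf 0x47363b0e3) (.leaf 0x47363b0e3)) (.node 12107 (.leaf 0x47363b0e3) (.node 12108 (.leaf 0x47363b0e3) (.leaf 0x4447363b0e3))))))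

def candS_599 : Store := (.node 12119 (.node 12114 (.node 12111 (.node 12110 (.leaf 0x30004447363b0e3) (.leaf 0x20004447363b0e3)) (.node 12112 (.leaf 0x4447363b0e3) (.node 12113 (.leaf 0x4447363b0e3) (.leaf 0x4447363b0e3)))) (.node 12116 (.node 12115 (.leaf 0x4447363b0e3) (.leaf 0x78004447363b0e3)) (.node 12117 (.leaf 0x4447363b0e3) (.node 12118 (.leaf 0x60004447363b0e3) (.leaf 0x4447363b0e3))))) (.node 12124 (.node 12121 (.node 12120 (.leaf 0x4447363b0e3) (.leaf 0x47363b0e3)) (.node 12122 (.leaf 0x47363b0e3) (.node 12123 (.leaf 0x47363b0e3) (.leaf 0x47363b0e3)))) (.node 12126 (.node 12125 (.leaf 0x47363b0e3) (.leaf 0x47363b0e3)) (.node 12127 (.leaf 0x47363b0e3) (.node 12128 (.leaf 0x47363b0e3) (.leaf 0x47363b0e3))))))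

def candS_600 : Store := (.node 12139 (.node 12134 (.node 12131 (.node 12130 (.leaf 0x47363b0e3) (.leaf 0x47363b0e3)) (.node 12132 (.leaf 0x47363b0e3) (.node 12133 (.leaf 0x47363b0e3) (.leaf 0x47363b0e3)))) (.node 12136 (.node 12135 (.leaf 0x47363b0e3) (.leaf 0x47363b0e3)) (.node 12137 (.leaf 0x47363b0e3) (.node 12138 (.leaf 0x47363b0e3) (.leaf 0x47363b0e3))))) (.node 12144 (.node 12141 (.node 12140 (.leaf 0x47363b0e3) (.leaf 0x47363b0e3)) (.node 12142 (.leaf 0x47363b0e3) (.node 12143 (.leaf 0x47363b0e3) (.leaf 0x47363b0e3)))) (.node 12147 (.node 12145 (.leaf 0x1047363b0e3) (.node 12146 (.leaf 0x1047363b0e3) (.leaf 0x1047363b0e3))) (.node 12148 (.leaf 0x1047363b0e3) (.node 12149 (.leaf 0x1047363b0e3) (.leaf 0x1047363b0e3))))))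

def candS_601 : Store := (.node 12160 (.node 12155 (.node 12152 (.node 12151 (.leaf 0x1047363b0e3) (.leaf 0x1047363b0e3)) (.node 12153 (.leaf 0x1047363b0e3) (.node 12154 (.leaf 0x1047363b0e3) (.leaf 0x1047363b0e3)))) (.node 12157 (.node 12156 (.leaf 0x1047363b0e3) (.leaf 0x4647363b0e3)) (.node 12158 (.leaf 0x4647363b0e3) (.node 12159 (.leaf 0x4647363b0e3) (.leaf 0x4647363b0e3))))) (.node 12165 (.node 12162 (.node 12161 (.leaf 0x4647363b0e3) (.leaf 0x4647363b0e3)) (.node 12163 (.leaf 0x4647363b0e3) (.node 12164 (.leaf 0x4647363b0e3) (.leaf 0x4647363b0e3)))) (.node 12167 (.node 12166 (.leaf 0x4647363b0e3) (.leaf 0x4647363b0e3)) (.node 12168 (.leaf 0x4647363b0e3) (.node 12169 (.leaf 0x47363b0e3) (.leaf 0x47363b0e3))))))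

def candS_602 : Store := (.node 12180 (.node 12175 (.node 12172 (.node 12171 (.leaf 0x47363b0e3) (.leaf 0x47363b0e3)) (.node 12173 (.leaf 0x47363b0e3) (.node 12174 (.leaf 0x47363b0e3) (.leaf 0x47363b0e3)))) (.node 12177 (.node 12176 (.leaf 0x47363b0e3) (.leaf 0x47363b0e3)) (.node 12178 (.leaf 0x47363b0e3) (.node 12179 (.leaf 0x47363b0e3) (.leaf 0x47363b0e3))))) (.node 12185 (.node 12182 (.node 12181 (.leaf 0x47363b0e3) (.leaf 0x47363b0e3)) (.node 12183 (.leaf 0x47363b0e3) (.node 12184 (.leaf 0x47363b0e3) (.leaf 0x47363b0e3)))) (.node 12187 (.node 12186 (.leaf 0x47363b0e3) (.leaf 0x47363b0e3)) (.node 12188 (.leaf 0x47363b0e3) (.node 12189 (.leaf 0x47363b0e3) (.leaf 0x47363b0e3))))))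

def candS_603 : Store := (.node 12200 (.node 12195 (.node 12192 (.node 12191 (.leaf 0x47363b0e3) (.leaf 0x47363b0e3)) (.node 12193 (.leaf 0x3247363b0e3) (.node 12194 (.leaf 0x3247363b0e3) (.leaf 0x3247363b0e3)))) (.node 12197 (.node 12196 (.leaf 0x220) (.leaf 0x3247363b0e3)) (.node 12198 (.leaf 0x3247363b0e3) (.node 12199 (.leaf 0x334) (.leaf 0x3247363b0e3))))) (.node 12205 (.node 12202 (.node 12201 (.leaf 0x14) (.leaf 0x3247363b0e3)) (.node 12203 (.leaf 0xde) (.node 12204 (.leaf 0x3247363b0e3) (.leaf 0x3047363b0e3)))) (.node 12207 (.node 12206 (.leaf 0x3047363b0e3) (.leaf 0x3047363b0e3)) (.node 12208 (.leaf 0x3047363b0e3) (.node 12209 (.leaf 0x3047363b0e3) (.leaf 0x3047363b0e3))))))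

def candS_604 : Store := (.node 12220 (.node 12215 (.node 12212 (.node 12211 (.leaf 0x3047363b0e3) (.leaf 0x3047363b0e3)) (.node 12213 (.leaf 0x3047363b0e3) (.node 12214 (.leaf 0x3047363b0e3) (.leaf 0x3047363b0e3)))) (.node 12217 (.node 12216 (.leaf 0x3047363b0e3) (.leaf 0x47363b0e3)) (.node 12218 (.leaf 0x47363b0e3) (.node 12219 (.leaf 0x47363b0e3) (.leaf 0x47363b0e3))))) (.node 12225 (.node 12222 (.node 12221 (.leaf 0x47363b0e3) (.leaf 0x47363b0e3)) (.node 12223 (.leaf 0x47363b0e3) (.node 12224 (.leaf 0x47363b0e3) (.leaf 0x47363b0e3)))) (.node 12228 (.node 12226 (.leaf 0x47363b0e3) (.node 12227 (.leaf 0x47363b0e3) (.leaf 0x47363b0e3))) (.node 12229 (.leaf 0x1447363b0e3) (.node 12230 (.leaf 0x1447363b0e3) (.leaf 0x1447363b0e3))))))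

def candS_605 : Store := (.node 12241 (.node 12236 (.node 12233 (.node 12232 (.leaf 0x1447363b0e3) (.leaf 0x1447363b0e3)) (.node 12234 (.leaf 0x1447363b0e3) (.node 12235 (.leaf 0x1447363b0e3) (.leaf 0x1447363b0e3)))) (.node 12238 (.node 12237 (.leaf 0x1447363b0e3) (.leaf 0x1447363b0e3)) (.node 12239 (.leaf 0x1447363b0e3) (.node 12240 (.leaf 0x1447363b0e3) (.leaf 0x2c3428bb0e3))))) (.node 12246 (.node 12243 (.node 12242 (.leaf 0x2c3428bb0e3) (.leaf 0x2c3428bb0e3)) (.node 12244 (.leaf 0x2c3428bb0e3) (.node 12245 (.leaf 0x2c3428bb0e3) (.leaf 0x2c3428bb0e3)))) (.node 12248 (.node 12247 (.leaf 0x2c3428bb0e3) (.leaf 0x2c3428bb0e3)) (.node 12249 (.leaf 0x2c3428bb0e3) (.node 12250 (.leaf 0x2c3428bb0e3) (.leaf 0x2c3428bb0e3))))))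

def candS_606 : Store := (.node 12261 (.node 12256 (.node 12253 (.node 12252 (.leaf 0x2c3428bb0e3) (.leaf 0x203428bb0e3)) (.node 12254 (.leaf 0x203428bb0e3) (.node 12255 (.leaf 0x203428bb0e3) (.leaf 0x203428bb0e3)))) (.node 12258 (.node 12257 (.leaf 0x203428bb0e3) (.leaf 0x203428bb0e3)) (.node 12259 (.leaf 0x203428bb0e3) (.node 12260 (.leaf 0x203428bb0e3) (.leaf 0x203428bb0e3))))) (.node 12266 (.node 12263 (.node 12262 (.leaf 0x203428bb0e3) (.leaf 0x203428bb0e3)) (.node 12264 (.leaf 0x203428bb0e3) (.node 12265 (.leaf 0x423428bb0e3) (.leaf 0x423428bb0e3)))) (.node 12268 (.node 12267 (.leaf 0x156) (.leaf 0x423428bb0e3)) (.node 12269 (.leaf 0x423428bb0e3) (.node 12270 (.leaf 0x152) (.leaf 0x423428bb0e3))))))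

def candS_607 : Store := (.node 12281 (.node 12276 (.node 12273 (.node 12272 (.leaf 0x182) (.leaf 0x423428bb0e3)) (.node 12274 (.leaf 0x3ac) (.node 12275 (.leaf 0x423428bb0e3) (.leaf 0x423428bb0e3)))) (.node 12278 (.node 12277 (.leaf 0x3428bb0e3) (.leaf 0x3428bb0e3)) (.node 12279 (.leaf 0x3428bb0e3) (.node 12280 (.leaf 0x3428bb0e3) (.leaf 0x3428bb0e3))))) (.node 12286 (.node 12283 (.node 12282 (.leaf 0x3428bb0e3) (.leaf 0x3428bb0e3)) (.node 12284 (.leaf 0x3428bb0e3) (.node 12285 (.leaf 0x3428bb0e3) (.leaf 0x3428bb0e3)))) (.node 12288 (.node 12287 (.leaf 0x3428bb0e3) (.leaf 0x3428bb0e3)) (.node 12289 (.leaf 0x3428bb0e3) (.node 12290 (.leaf 0x3428bb0e3) (.leaf 0x3428bb0e3))))))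

def candS_608 : Store := (.node 12301 (.node 12296 (.node 12293 (.node 12292 (.leaf 0x3428bb0e3) (.leaf 0x3428bb0e3)) (.node 12294 (.leaf 0x3428bb0e3) (.node 12295 (.leaf 0x3428bb0e3) (.leaf 0x3428bb0e3)))) (.node 12298 (.node 12297 (.leaf 0x3428bb0e3) (.leaf 0x3428bb0e3)) (.node 12299 (.leaf 0x3428bb0e3) (.node 12300 (.leaf 0x3428bb0e3) (.leaf 0x3428bb0e3))))) (.node 12306 (.node 12303 (.node 12302 (.leaf 0x3428bb0e3) (.leaf 0x3428bb0e3)) (.node 12304 (.leaf 0x3428bb0e3) (.node 12305 (.leaf 0x3428bb0e3) (.leaf 0x3428bb0e3)))) (.node 12309 (.node 12307 (.leaf 0x3428bb0e3) (.node 12308 (.leaf 0x3428bb0e3) (.leaf 0x3428bb0e3))) (.node 12310 (.leaf 0x3428bb0e3) (.node 12311 (.leaf 0x3428bb0e3) (.leaf 0x3428bb0e3))))))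

def candS_609 : Store := (.node 12322 (.node 12317 (.node 12314 (.node 12313 (.leaf 0x43428bb0e3) (.leaf 0x43428bb0e3)) (.node 12315 (.leaf 0x43428bb0e3) (.node 12316 (.leaf 0x43428bb0e3) (.leaf 0x43428bb0e3)))) (.node 12319 (.node 12318 (.leaf 0x43428bb0e3) (.leaf 0x43428bb0e3)) (.node 12320 (.leaf 0x43428bb0e3) (.node 12321 (.leaf 0x43428bb0e3) (.leaf 0x43428bb0e3))))) (.node 12327 (.node 12324 (.node 12323 (.leaf 0x43428bb0e3) (.leaf 0x43428bb0e3)) (.node 12325 (.leaf 0x383428bb0e3) (.node 12326 (.leaf 0x383428bb0e3) (.leaf 0x383428bb0e3)))) (.node 12329 (.node 12328 (.leaf 0x383428bb0e3) (.leaf 0x383428bb0e3)) (.node 12330 (.leaf 0x383428bb0e3) (.node 12331 (.leaf 0x383428bb0e3) (.leaf 0x383428bb0e3))))))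

def candS_610 : Store := (.node 12342 (.node 12337 (.node 12334 (.node 12333 (.leaf 0x383428bb0e3) (.leaf 0x383428bb0e3)) (.node 12335 (.leaf 0x383428bb0e3) (.node 12336 (.leaf 0x383428bb0e3) (.leaf 0x3428bb0e3)))) (.node 12339 (.node 12338 (.leaf 0x3428bb0e3) (.leaf 0x3428bb0e3)) (.node 12340 (.leaf 0x3428bb0e3) (.node 12341 (.leaf 0x3428bb0e3) (.leaf 0x3428bb0e3))))) (.node 12347 (.node 12344 (.node 12343 (.leaf 0x3428bb0e3) (.leaf 0x3428bb0e3)) (.node 12345 (.leaf 0x3428bb0e3) (.node 12346 (.leaf 0x3428bb0e3) (.leaf 0x3428bb0e3)))) (.node 12349 (.node 12348 (.leaf 0x3428bb0e3) (.leaf 0x30001e3428bb0e3)) (.node 12350 (.leaf 0x1e3428bb0e3) (.node 12351 (.leaf 0x1e3428bb0e3) (.leaf 0x78001e3428bb0e3))))))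

def candS_611 : Store := (.node 12362 (.node 12357 (.node 12354 (.node 12353 (.leaf 0x1e3428bb0e3) (.leaf 0x1e3428bb0e3)) (.node 12355 (.leaf 0x20001e3428bb0e3) (.node 12356 (.leaf 0x1e3428bb0e3) (.leaf 0x60001e3428bb0e3)))) (.node 12359 (.node 12358 (.leaf 0x1e3428bb0e3) (.leaf 0x1e3428bb0e3)) (.node 12360 (.leaf 0x1e3428bb0e3) (.node 12361 (.leaf 0x3428bb0e3) (.leaf 0x3428bb0e3))))) (.node 12367 (.node 12364 (.node 12363 (.leaf 0x3428bb0e3) (.leaf 0x3428bb0e3)) (.node 12365 (.leaf 0x3428bb0e3) (.node 12366 (.leaf 0x3428bb0e3) (.leaf 0x3428bb0e3)))) (.node 12369 (.node 12368 (.leaf 0x3428bb0e3) (.leaf 0x3428bb0e3)) (.node 12370 (.leaf 0x3428bb0e3) (.node 12371 (.leaf 0x3428bb0e3) (.leaf 0x3428bb0e3))))))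

def candS_612 : Store := (.node 12382 (.node 12377 (.node 12374 (.node 12373 (.leaf 0x3428bb0e3) (.leaf 0x3428bb0e3)) (.node 12375 (.leaf 0x3428bb0e3) (.node 12376 (.leaf 0x3428bb0e3) (.leaf 0x3428bb0e3)))) (.node 12379 (.node 12378 (.leaf 0x3428bb0e3) (.leaf 0x3428bb0e3)) (.node 12380 (.leaf 0x3428bb0e3) (.node 12381 (.leaf 0x3428bb0e3) (.leaf 0x3428bb0e3))))) (.node 12387 (.node 12384 (.node 12383 (.leaf 0x3428bb0e3) (.leaf 0x3428bb0e3)) (.node 12385 (.leaf 0x382f133b0e3) (.node 12386 (.leaf 0x382f133b0e3) (.leaf 0x382f133b0e3)))) (.node 12390 (.node 12388 (.leaf 0x382f133b0e3) (.node 12389 (.leaf 0x382f133b0e3) (.leaf 0x382f133b0e3))) (.node 12391 (.leaf 0x382f133b0e3) (.node 12392 (.leaf 0x382f133b0e3) (.leaf 0x382f133b0e3))))))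

def candS_613 : Store := (.node 12403 (.node 12398 (.node 12395 (.node 12394 (.leaf 0x382f133b0e3) (.leaf 0x382f133b0e3)) (.node 12396 (.leaf 0x382f133b0e3) (.node 12397 (.leaf 0x202f133b0e3) (.leaf 0x202f133b0e3)))) (.node 12400 (.node 12399 (.leaf 0x202f133b0e3) (.leaf 0x202f133b0e3)) (.node 12401 (.leaf 0x202f133b0e3) (.node 12402 (.leaf 0x202f133b0e3) (.leaf 0x202f133b0e3))))) (.node 12408 (.node 12405 (.node 12404 (.leaf 0x202f133b0e3) (.leaf 0x202f133b0e3)) (.node 12406 (.leaf 0x202f133b0e3) (.node 12407 (.leaf 0x202f133b0e3) (.leaf 0x202f133b0e3)))) (.node 12410 (.node 12409 (.leaf 0x422f133b0e3) (.leaf 0x29e)) (.node 12411 (.leaf 0x422f133b0e3) (.node 12412 (.leaf 0x422f133b0e3) (.leaf 0x422f133b0e3))))))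

def candS_614 : Store := (.node 12423 (.node 12418 (.node 12415 (.node 12414 (.leaf 0x2c4) (.leaf 0x422f133b0e3)) (.node 12416 (.leaf 0x302) (.node 12417 (.leaf 0x422f133b0e3) (.leaf 0x114)))) (.node 12420 (.node 12419 (.leaf 0x422f133b0e3) (.leaf 0x422f133b0e3)) (.node 12421 (.leaf 0x42f133b0e3) (.node 12422 (.leaf 0x42f133b0e3) (.leaf 0x42f133b0e3))))) (.node 12428 (.node 12425 (.node 12424 (.leaf 0x42f133b0e3) (.leaf 0x42f133b0e3)) (.node 12426 (.leaf 0x42f133b0e3) (.node 12427 (.leaf 0x42f133b0e3) (.leaf 0x42f133b0e3)))) (.node 12430 (.node 12429 (.leaf 0x42f133b0e3) (.leaf 0x42f133b0e3)) (.node 12431 (.leaf 0x42f133b0e3) (.node 12432 (.leaf 0x42f133b0e3) (.leaf 0x2f133b0e3))))))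

def candS_615 : Store := (.node 12443 (.node 12438 (.node 12435 (.node 12434 (.leaf 0x2f133b0e3) (.leaf 0x2f133b0e3)) (.node 12436 (.leaf 0x2f133b0e3) (.node 12437 (.leaf 0x2f133b0e3) (.leaf 0x2f133b0e3)))) (.node 12440 (.node 12439 (.leaf 0x2f133b0e3) (.leaf 0x2f133b0e3)) (.node 12441 (.leaf 0x2f133b0e3) (.node 12442 (.leaf 0x2f133b0e3) (.leaf 0x2f133b0e3))))) (.node 12448 (.node 12445 (.node 12444 (.leaf 0x2f133b0e3) (.leaf 0x30001e2f133b0e3)) (.node 12446 (.leaf 0x1e2f133b0e3) (.node 12447 (.leaf 0x1e2f133b0e3) (.leaf 0x20001e2f133b0e3)))) (.node 12450 (.node 12449 (.leaf 0x1e2f133b0e3) (.leaf 0x1e2f133b0e3)) (.node 12451 (.leaf 0x1e2f133b0e3) (.node 12452 (.leaf 0x1e2f133b0e3) (.leaf 0x78001e2f133b0e3))))))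

def candS_616 : Store := (.node 12463 (.node 12458 (.node 12455 (.node 12454 (.leaf 0x1e2f133b0e3) (.leaf 0x60001e2f133b0e3)) (.node 12456 (.leaf 0x1e2f133b0e3) (.node 12457 (.leaf 0x2c2f133b0e3) (.leaf 0x2c2f133b0e3)))) (.node 12460 (.node 12459 (.leaf 0x2c2f133b0e3) (.leaf 0x2c2f133b0e3)) (.node 12461 (.leaf 0x2c2f133b0e3) (.node 12462 (.leaf 0x2c2f133b0e3) (.leaf 0x2c2f133b0e3))))) (.node 12468 (.node 12465 (.node 12464 (.leaf 0x2c2f133b0e3) (.leaf 0x2c2f133b0e3)) (.node 12466 (.leaf 0x2c2f133b0e3) (.node 12467 (.leaf 0x2c2f133b0e3) (.leaf 0x2c2f133b0e3)))) (.node 12471 (.node 12469 (.leaf 0x2f133b0e3) (.node 12470 (.leaf 0x2f133b0e3) (.leaf 0x2f133b0e3))) (.node 12472 (.leaf 0x2f133b0e3) (.node 12473 (.leaf 0x2f133b0e3) (.leaf 0x2f133b0e3))))))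

def candS_617 : Store := (.node 12484 (.node 12479 (.node 12476 (.node 12475 (.leaf 0x2f133b0e3) (.leaf 0x2f133b0e3)) (.node 12477 (.leaf 0x2f133b0e3) (.node 12478 (.leaf 0x2f133b0e3) (.leaf 0x2f133b0e3)))) (.node 12481 (.node 12480 (.leaf 0x2f133b0e3) (.leaf 0x2f133b0e3)) (.node 12482 (.leaf 0x2f133b0e3) (.node 12483 (.leaf 0x2f133b0e3) (.leaf 0x2f133b0e3))))) (.node 12489 (.node 12486 (.node 12485 (.leaf 0x2f133b0e3) (.leaf 0x2f133b0e3)) (.node 12487 (.leaf 0x2f133b0e3) (.node 12488 (.leaf 0x2f133b0e3) (.leaf 0x2f133b0e3)))) (.node 12491 (.node 12490 (.leaf 0x2f133b0e3) (.leaf 0x2f133b0e3)) (.node 12492 (.leaf 0x2f133b0e3) (.node 12493 (.leaf 0x2f133b0e3) (.leaf 0x2f133b0e3))))))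

def candS_618 : Store := (.node 12504 (.node 12499 (.node 12496 (.node 12495 (.leaf 0x2f133b0e3) (.leaf 0x2f133b0e3)) (.node 12497 (.leaf 0x2f133b0e3) (.node 12498 (.leaf 0x2f133b0e3) (.leaf 0x2f133b0e3)))) (.node 12501 (.node 12500 (.leaf 0x2f133b0e3) (.leaf 0x2f133b0e3)) (.node 12502 (.leaf 0x2f133b0e3) (.node 12503 (.leaf 0x2f133b0e3) (.leaf 0x2f133b0e3))))) (.node 12509 (.node 12506 (.node 12505 (.leaf 0x2f133b0e3) (.leaf 0x2f133b0e3)) (.node 12507 (.leaf 0x2f133b0e3) (.node 12508 (.leaf 0x2f133b0e3) (.leaf 0x2f133b0e3)))) (.node 12511 (.node 12510 (.leaf 0x2f133b0e3) (.leaf 0x2f133b0e3)) (.node 12512 (.leaf 0x2f133b0e3) (.node 12513 (.leaf 0x2f133b0e3) (.leaf 0x2f133b0e3))))))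

def candS_619 : Store := (.node 12524 (.node 12519 (.node 12516 (.node 12515 (.leaf 0x2f133b0e3) (.leaf 0x2f133b0e3)) (.node 12517 (.leaf 0x2f133b0e3) (.node 12518 (.leaf 0x2f133b0e3) (.leaf 0x2f133b0e3)))) (.node 12521 (.node 12520 (.leaf 0x2f133b0e3) (.leaf 0x2f133b0e3)) (.node 12522 (.leaf 0x2f133b0e3) (.node 12523 (.leaf 0x2f133b0e3) (.leaf 0x2f133b0e3))))) (.node 12529 (.node 12526 (.node 12525 (.leaf 0x2f133b0e3) (.leaf 0x2f133b0e3)) (.node 12527 (.leaf 0x2f133b0e3) (.node 12528 (.leaf 0x2f133b0e3) (.leaf 0x42122d3b0e3)))) (.node 12531 (.node 12530 (.leaf 0x800042122d3b0e3) (.leaf 0x980042122d3b0e3)) (.node 12532 (.leaf 0x42122d3b0e3) (.node 12533 (.leaf 0x42122d3b0e3) (.leaf 0x42122d3b0e3))))))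

def candS_620 : Store := (.node 12544 (.node 12539 (.node 12536 (.node 12535 (.leaf 0x42122d3b0e3) (.leaf 0x700042122d3b0e3)) (.node 12537 (.leaf 0x42122d3b0e3) (.node 12538 (.leaf 0x42122d3b0e3) (.leaf 0x42122d3b0e3)))) (.node 12541 (.node 12540 (.leaf 0x42122d3b0e3) (.leaf 0x122d3b0e3)) (.node 12542 (.leaf 0x122d3b0e3) (.node 12543 (.leaf 0x122d3b0e3) (.leaf 0x122d3b0e3))))) (.node 12549 (.node 12546 (.node 12545 (.leaf 0x122d3b0e3) (.leaf 0x122d3b0e3)) (.node 12547 (.leaf 0x122d3b0e3) (.node 12548 (.leaf 0x122d3b0e3) (.leaf 0x122d3b0e3)))) (.node 12552 (.node 12550 (.leaf 0x122d3b0e3) (.node 12551 (.leaf 0x122d3b0e3) (.leaf 0x122d3b0e3))) (.node 12553 (.leaf 0x122d3b0e3) (.node 12554 (.leaf 0x122d3b0e3) (.leaf 0x122d3b0e3))))))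

def candS_621 : Store := (.node 12565 (.node 12560 (.node 12557 (.node 12556 (.leaf 0x122d3b0e3) (.leaf 0x122d3b0e3)) (.node 12558 (.leaf 0x122d3b0e3) (.node 12559 (.leaf 0x122d3b0e3) (.leaf 0x122d3b0e3)))) (.node 12562 (.node 12561 (.leaf 0x122d3b0e3) (.leaf 0x122d3b0e3)) (.node 12563 (.leaf 0x122d3b0e3) (.node 12564 (.leaf 0x122d3b0e3) (.leaf 0x122d3b0e3))))) (.node 12570 (.node 12567 (.node 12566 (.leaf 0x122d3b0e3) (.leaf 0x122d3b0e3)) (.node 12568 (.leaf 0x122d3b0e3) (.node 12569 (.leaf 0x122d3b0e3) (.leaf 0x122d3b0e3)))) (.node 12572 (.node 12571 (.leaf 0x122d3b0e3) (.leaf 0x122d3b0e3)) (.node 12573 (.leaf 0x122d3b0e3) (.node 12574 (.leaf 0x122d3b0e3) (.leaf 0x122d3b0e3))))))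

def candS_622 : Store := (.node 12585 (.node 12580 (.node 12577 (.node 12576 (.leaf 0x122d3b0e3) (.leaf 0x122d3b0e3)) (.node 12578 (.leaf 0x122d3b0e3) (.node 12579 (.leaf 0x122d3b0e3) (.leaf 0x122d3b0e3)))) (.node 12582 (.node 12581 (.leaf 0x122d3b0e3) (.leaf 0x122d3b0e3)) (.node 12583 (.leaf 0x122d3b0e3) (.node 12584 (.leaf 0x122d3b0e3) (.leaf 0x122d3b0e3))))) (.node 12590 (.node 12587 (.node 12586 (.leaf 0x122d3b0e3) (.leaf 0x122d3b0e3)) (.node 12588 (.leaf 0x122d3b0e3) (.node 12589 (.leaf 0x3c122d3b0e3) (.leaf 0x3c122d3b0e3)))) (.node 12592 (.node 12591 (.leaf 0x3c122d3b0e3) (.leaf 0x3c122d3b0e3)) (.node 12593 (.leaf 0x3c122d3b0e3) (.node 12594 (.leaf 0x3c122d3b0e3) (.leaf 0x3c122d3b0e3))))))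

def candS_623 : Store := (.node 12605 (.node 12600 (.node 12597 (.node 12596 (.leaf 0x3c122d3b0e3) (.leaf 0x3c122d3b0e3)) (.node 12598 (.leaf 0x3c122d3b0e3) (.node 12599 (.leaf 0x3c122d3b0e3) (.leaf 0x3c122d3b0e3)))) (.node 12602 (.node 12601 (.leaf 0x122d3b0e3) (.leaf 0x122d3b0e3)) (.node 12603 (.leaf 0x122d3b0e3) (.node 12604 (.leaf 0x122d3b0e3) (.leaf 0x122d3b0e3))))) (.node 12610 (.node 12607 (.node 12606 (.leaf 0x122d3b0e3) (.leaf 0x122d3b0e3)) (.node 12608 (.leaf 0x122d3b0e3) (.node 12609 (.leaf 0x122d3b0e3) (.leaf 0x122d3b0e3)))) (.node 12612 (.node 12611 (.leaf 0x122d3b0e3) (.leaf 0x122d3b0e3)) (.node 12613 (.leaf 0x122d3b0e3) (.node 12614 (.leaf 0x122d3b0e3) (.leaf 0x122d3b0e3))))))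

def candS_624 : Store := (.node 12625 (.node 12620 (.node 12617 (.node 12616 (.leaf 0x122d3b0e3) (.leaf 0x122d3b0e3)) (.node 12618 (.leaf 0x122d3b0e3) (.node 12619 (.leaf 0x122d3b0e3) (.leaf 0x122d3b0e3)))) (.node 12622 (.node 12621 (.leaf 0x122d3b0e3) (.leaf 0x122d3b0e3)) (.node 12623 (.leaf 0x122d3b0e3) (.node 12624 (.leaf 0x122d3b0e3) (.leaf 0x21a))))) (.node 12630 (.node 12627 (.node 12626 (.leaf 0x1e122d3b0e3) (.leaf 0x1e122d3b0e3)) (.node 12628 (.leaf 0x1e122d3b0e3) (.node 12629 (.leaf 0x1e122d3b0e3) (.leaf 0x1e122d3b0e3)))) (.node 12633 (.node 12631 (.leaf 0x5c) (.node 12632 (.leaf 0x1e122d3b0e3) (.leaf 0x390))) (.node 12634 (.leaf 0x1e122d3b0e3) (.node 12635 (.leaf 0xc0) (.leaf 0x1e122d3b0e3))))))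

def candS_625 : Store := (.node 12646 (.node 12641 (.node 12638 (.node 12637 (.leaf 0x2a122d3b0e3) (.leaf 0x2a122d3b0e3)) (.node 12639 (.leaf 0x2a122d3b0e3) (.node 12640 (.leaf 0x2a122d3b0e3) (.leaf 0x2a122d3b0e3)))) (.node 12643 (.node 12642 (.leaf 0x2a122d3b0e3) (.leaf 0x2a122d3b0e3)) (.node 12644 (.leaf 0x2a122d3b0e3) (.node 12645 (.leaf 0x2a122d3b0e3) (.leaf 0x2a122d3b0e3))))) (.node 12651 (.node 12648 (.node 12647 (.leaf 0x2a122d3b0e3) (.leaf 0x2a122d3b0e3)) (.node 12649 (.leaf 0x2e122d3b0e3) (.node 12650 (.leaf 0x2e122d3b0e3) (.leaf 0x2e122d3b0e3)))) (.node 12653 (.node 12652 (.leaf 0x2e122d3b0e3) (.leaf 0x2e122d3b0e3)) (.node 12654 (.leaf 0x2e122d3b0e3) (.node 12655 (.leaf 0x2e122d3b0e3) (.leaf 0x2e122d3b0e3))))))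

def candS_626 : Store := (.node 12666 (.node 12661 (.node 12658 (.node 12657 (.leaf 0x2e122d3b0e3) (.leaf 0x2e122d3b0e3)) (.node 12659 (.leaf 0x2e122d3b0e3) (.node 12660 (.leaf 0x2e122d3b0e3) (.leaf 0x1a122d3b0e3)))) (.node 12663 (.node 12662 (.leaf 0x1a122d3b0e3) (.leaf 0x1a122d3b0e3)) (.node 12664 (.leaf 0x1a122d3b0e3) (.node 12665 (.leaf 0x1a122d3b0e3) (.leaf 0x1a122d3b0e3))))) (.node 12671 (.node 12668 (.node 12667 (.leaf 0x1a122d3b0e3) (.leaf 0x1a122d3b0e3)) (.node 12669 (.leaf 0x1a122d3b0e3) (.node 12670 (.leaf 0x1a122d3b0e3) (.leaf 0x1a122d3b0e3)))) (.node 12673 (.node 12672 (.leaf 0x1a122d3b0e3) (.leaf 0xd09bb0e3)) (.node 12674 (.leaf 0xd09bb0e3) (.node 12675 (.leaf 0xd09bb0e3) (.leaf 0xd09bb0e3))))))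

def candS_627 : Store := (.node 12686 (.node 12681 (.node 12678 (.node 12677 (.leaf 0xd09bb0e3) (.leaf 0xd09bb0e3)) (.node 12679 (.leaf 0xd09bb0e3) (.node 12680 (.leaf 0xd09bb0e3) (.leaf 0xd09bb0e3)))) (.node 12683 (.node 12682 (.leaf 0xd09bb0e3) (.leaf 0xd09bb0e3)) (.node 12684 (.leaf 0xd09bb0e3) (.node 12685 (.leaf 0xd09bb0e3) (.leaf 0xd09bb0e3))))) (.node 12691 (.node 12688 (.node 12687 (.leaf 0xd09bb0e3) (.leaf 0xd09bb0e3)) (.node 12689 (.leaf 0xd09bb0e3) (.node 12690 (.leaf 0xd09bb0e3) (.leaf 0xd09bb0e3)))) (.node 12693 (.node 12692 (.leaf 0xd09bb0e3) (.leaf 0xd09bb0e3)) (.node 12694 (.leaf 0xd09bb0e3) (.node 12695 (.leaf 0xd09bb0e3) (.leaf 0xd09bb0e3))))))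

def candS_628 : Store := (.node 12706 (.node 12701 (.node 12698 (.node 12697 (.leaf 0x460d09bb0e3) (.leaf 0x460d09bb0e3)) (.node 12699 (.leaf 0x460d09bb0e3) (.node 12700 (.leaf 0x460d09bb0e3) (.leaf 0x460d09bb0e3)))) (.node 12703 (.node 12702 (.leaf 0x460d09bb0e3) (.leaf 0x460d09bb0e3)) (.node 12704 (.leaf 0x460d09bb0e3) (.node 12705 (.leaf 0x460d09bb0e3) (.leaf 0x460d09bb0e3))))) (.node 12711 (.node 12708 (.node 12707 (.leaf 0x460d09bb0e3) (.leaf 0x460d09bb0e3)) (.node 12709 (.leaf 0xd09bb0e3) (.node 12710 (.leaf 0xd09bb0e3) (.leaf 0xd09bb0e3)))) (.node 12714 (.node 12712 (.leaf 0xd09bb0e3) (.node 12713 (.leaf 0xd09bb0e3) (.leaf 0xd09bb0e3))) (.node 12715 (.leaf 0xd09bb0e3) (.node 12716 (.leaf 0xd09bb0e3) (.leaf 0xd09bb0e3))))))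

def candS_629 : Store := (.node 12727 (.node 12722 (.node 12719 (.node 12718 (.leaf 0xd09bb0e3) (.leaf 0xd09bb0e3)) (.node 12720 (.leaf 0xd09bb0e3) (.node 12721 (.leaf 0x2a0d09bb0e3) (.leaf 0x2a0d09bb0e3)))) (.node 12724 (.node 12723 (.leaf 0x2a0d09bb0e3) (.leaf 0x2a0d09bb0e3)) (.node 12725 (.leaf 0x2a0d09bb0e3) (.node 12726 (.leaf 0x2a0d09bb0e3) (.leaf 0x2a0d09bb0e3))))) (.node 12732 (.node 12729 (.node 12728 (.leaf 0x2a0d09bb0e3) (.leaf 0x2a0d09bb0e3)) (.node 12730 (.leaf 0x2a0d09bb0e3) (.node 12731 (.leaf 0x2a0d09bb0e3) (.leaf 0x2a0d09bb0e3)))) (.node 12734 (.node 12733 (.leaf 0x440d09bb0e3) (.leaf 0x440d09bb0e3)) (.node 12735 (.leaf 0x440d09bb0e3) (.node 12736 (.leaf 0x440d09bb0e3) (.leaf 0x440d09bb0e3))))))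

def candS_630 : Store := (.node 12747 (.node 12742 (.node 12739 (.node 12738 (.leaf 0x440d09bb0e3) (.leaf 0x440d09bb0e3)) (.node 12740 (.leaf 0x440d09bb0e3) (.node 12741 (.leaf 0x440d09bb0e3) (.leaf 0x440d09bb0e3)))) (.node 12744 (.node 12743 (.leaf 0x440d09bb0e3) (.leaf 0x440d09bb0e3)) (.node 12745 (.leaf 0xd09bb0e3) (.node 12746 (.leaf 0xd09bb0e3) (.leaf 0xd09bb0e3))))) (.node 12752 (.node 12749 (.node 12748 (.leaf 0xd09bb0e3) (.leaf 0xd09bb0e3)) (.node 12750 (.leaf 0xd09bb0e3) (.node 12751 (.leaf 0xd09bb0e3) (.leaf 0xd09bb0e3)))) (.node 12754 (.node 12753 (.leaf 0xd09bb0e3) (.leaf 0xd09bb0e3)) (.node 12755 (.leaf 0xd09bb0e3) (.node 12756 (.leaf 0xd09bb0e3) (.leaf 0xd09bb0e3))))))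

def candS_631 : Store := (.node 12767 (.node 12762 (.node 12759 (.node 12758 (.leaf 0xd09bb0e3) (.leaf 0xd09bb0e3)) (.node 12760 (.leaf 0xd09bb0e3) (.node 12761 (.leaf 0xd09bb0e3) (.leaf 0xd09bb0e3)))) (.node 12764 (.node 12763 (.leaf 0xd09bb0e3) (.leaf 0xd09bb0e3)) (.node 12765 (.leaf 0xd09bb0e3) (.node 12766 (.leaf 0xd09bb0e3) (.leaf 0xd09bb0e3))))) (.node 12772 (.node 12769 (.node 12768 (.leaf 0xd09bb0e3) (.leaf 0xd09bb0e3)) (.node 12770 (.leaf 0xd09bb0e3) (.node 12771 (.leaf 0xd09bb0e3) (.leaf 0xd09bb0e3)))) (.node 12774 (.node 12773 (.leaf 0xd09bb0e3) (.leaf 0xd09bb0e3)) (.node 12775 (.leaf 0xd09bb0e3) (.node 12776 (.leaf 0xd09bb0e3) (.leaf 0xd09bb0e3))))))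

def candS_632 : Store := (.node 12787 (.node 12782 (.node 12779 (.node 12778 (.leaf 0xd09bb0e3) (.leaf 0xd09bb0e3)) (.node 12780 (.leaf 0xd09bb0e3) (.node 12781 (.leaf 0x1c0d09bb0e3) (.leaf 0x1c0d09bb0e3)))) (.node 12784 (.node 12783 (.leaf 0x1c0d09bb0e3) (.leaf 0x1c0d09bb0e3)) (.node 12785 (.leaf 0x1c0d09bb0e3) (.node 12786 (.leaf 0x1c0d09bb0e3) (.leaf 0x1c0d09bb0e3))))) (.node 12792 (.node 12789 (.node 12788 (.leaf 0x1c0d09bb0e3) (.leaf 0x1c0d09bb0e3)) (.node 12790 (.leaf 0x1c0d09bb0e3) (.node 12791 (.leaf 0x1c0d09bb0e3) (.leaf 0x1c0d09bb0e3)))) (.node 12795 (.node 12793 (.leaf 0x120d09bb0e3) (.node 12794 (.leaf 0x120d09bb0e3) (.leaf 0x120d09bb0e3))) (.node 12796 (.leaf 0x120d09bb0e3) (.node 12797 (.leaf 0x120d09bb0e3) (.leaf 0x120d09bb0e3))))))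

def candS_633 : Store := (.node 12808 (.node 12803 (.node 12800 (.node 12799 (.leaf 0x120d09bb0e3) (.leaf 0x120d09bb0e3)) (.node 12801 (.leaf 0x120d09bb0e3) (.node 12802 (.leaf 0x120d09bb0e3) (.leaf 0x120d09bb0e3)))) (.node 12805 (.node 12804 (.leaf 0x120d09bb0e3) (.leaf 0x2c0d09bb0e3)) (.node 12806 (.leaf 0x2c0d09bb0e3) (.node 12807 (.leaf 0x2c0d09bb0e3) (.leaf 0x2c0d09bb0e3))))) (.node 12813 (.node 12810 (.node 12809 (.leaf 0x2c0d09bb0e3) (.leaf 0x2c0d09bb0e3)) (.node 12811 (.leaf 0x2c0d09bb0e3) (.node 12812 (.leaf 0x2c0d09bb0e3) (.leaf 0x2c0d09bb0e3)))) (.node 12815 (.node 12814 (.leaf 0x2c0d09bb0e3) (.leaf 0x2c0d09bb0e3)) (.node 12816 (.leaf 0x2c0d09bb0e3) (.node 12817 (.leaf 0x3e4904bb0e3) (.leaf 0x3e4904bb0e3))))))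

def candS_634 : Store := (.node 12828 (.node 12823 (.node 12820 (.node 12819 (.leaf 0x3e4904bb0e3) (.leaf 0x3e4904bb0e3)) (.node 12821 (.leaf 0x3e4904bb0e3) (.node 12822 (.leaf 0x3e4904bb0e3) (.leaf 0x3e4904bb0e3)))) (.node 12825 (.node 12824 (.leaf 0x3e4904bb0e3) (.leaf 0x3e4904bb0e3)) (.node 12826 (.leaf 0x3e4904bb0e3) (.node 12827 (.leaf 0x3e4904bb0e3) (.leaf 0x3e4904bb0e3))))) (.node 12833 (.node 12830 (.node 12829 (.leaf 0x4904bb0e3) (.leaf 0x4904bb0e3)) (.node 12831 (.leaf 0x4904bb0e3) (.node 12832 (.leaf 0x4904bb0e3) (.leaf 0x4904bb0e3)))) (.node 12835 (.node 12834 (.leaf 0x4904bb0e3) (.leaf 0x4904bb0e3)) (.node 12836 (.leaf 0x4904bb0e3) (.node 12837 (.leaf 0x4904bb0e3) (.leaf 0x4904bb0e3))))))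

def candS_635 : Store := (.node 12848 (.node 12843 (.node 12840 (.node 12839 (.leaf 0x4904bb0e3) (.leaf 0x4904bb0e3)) (.node 12841 (.leaf 0x3c4904bb0e3) (.node 12842 (.leaf 0x14e) (.leaf 0x27a)))) (.node 12845 (.node 12844 (.leaf 0x3c4904bb0e3) (.leaf 0x3c4904bb0e3)) (.node 12846 (.leaf 0x3c4904bb0e3) (.node 12847 (.leaf 0x3c4904bb0e3) (.leaf 0x8))))) (.node 12853 (.node 12850 (.node 12849 (.leaf 0x3c4904bb0e3) (.leaf 0x2da)) (.node 12851 (.leaf 0x3c4904bb0e3) (.node 12852 (.leaf 0x3c4904bb0e3) (.leaf 0x44904bb0e3)))) (.node 12855 (.node 12854 (.leaf 0x44904bb0e3) (.leaf 0x44904bb0e3)) (.node 12856 (.leaf 0x44904bb0e3) (.node 12857 (.leaf 0x44904bb0e3) (.leaf 0x44904bb0e3))))))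

def candS_636 : Store := (.node 12868 (.node 12863 (.node 12860 (.node 12859 (.leaf 0x44904bb0e3) (.leaf 0x44904bb0e3)) (.node 12861 (.leaf 0x44904bb0e3) (.node 12862 (.leaf 0x44904bb0e3) (.leaf 0x44904bb0e3)))) (.node 12865 (.node 12864 (.leaf 0x44904bb0e3) (.leaf 0x4904bb0e3)) (.node 12866 (.leaf 0x4904bb0e3) (.node 12867 (.leaf 0x4904bb0e3) (.leaf 0x4904bb0e3))))) (.node 12873 (.node 12870 (.node 12869 (.leaf 0x4904bb0e3) (.leaf 0x4904bb0e3)) (.node 12871 (.leaf 0x4904bb0e3) (.node 12872 (.leaf 0x4904bb0e3) (.leaf 0x4904bb0e3)))) (.node 12876 (.node 12874 (.leaf 0x4904bb0e3) (.node 12875 (.leaf 0x4904bb0e3) (.leaf 0x4904bb0e3))) (.node 12877 (.leaf 0x4904bb0e3) (.node 12878 (.leaf 0x4904bb0e3) (.leaf 0x4904bb0e3))))))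

def candS_637 : Store := (.node 12889 (.node 12884 (.node 12881 (.node 12880 (.leaf 0x4904bb0e3) (.leaf 0x4904bb0e3)) (.node 12882 (.leaf 0x4904bb0e3) (.node 12883 (.leaf 0x4904bb0e3) (.leaf 0x4904bb0e3)))) (.node 12886 (.node 12885 (.leaf 0x4904bb0e3) (.leaf 0x4904bb0e3)) (.node 12887 (.leaf 0x4904bb0e3) (.node 12888 (.leaf 0x4904bb0e3) (.leaf 0x184904bb0e3))))) (.node 12894 (.node 12891 (.node 12890 (.leaf 0x184904bb0e3) (.leaf 0x184904bb0e3)) (.node 12892 (.leaf 0x184904bb0e3) (.node 12893 (.leaf 0x184904bb0e3) (.leaf 0x184904bb0e3)))) (.node 12896 (.node 12895 (.leaf 0x184904bb0e3) (.leaf 0x184904bb0e3)) (.node 12897 (.leaf 0x184904bb0e3) (.node 12898 (.leaf 0x184904bb0e3) (.leaf 0x184904bb0e3))))))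

def candS_638 : Store := (.node 12909 (.node 12904 (.node 12901 (.node 12900 (.leaf 0x184904bb0e3) (.leaf 0x444904bb0e3)) (.node 12902 (.leaf 0x444904bb0e3) (.node 12903 (.leaf 0x444904bb0e3) (.leaf 0x444904bb0e3)))) (.node 12906 (.node 12905 (.leaf 0x444904bb0e3) (.leaf 0x444904bb0e3)) (.node 12907 (.leaf 0x444904bb0e3) (.node 12908 (.leaf 0x444904bb0e3) (.leaf 0x444904bb0e3))))) (.node 12914 (.node 12911 (.node 12910 (.leaf 0x444904bb0e3) (.leaf 0x444904bb0e3)) (.node 12912 (.leaf 0x444904bb0e3) (.node 12913 (.leaf 0x4904bb0e3) (.leaf 0x4904bb0e3)))) (.node 12916 (.node 12915 (.leaf 0x4904bb0e3) (.leaf 0x4904bb0e3)) (.node 12917 (.leaf 0x4904bb0e3) (.node 12918 (.leaf 0x4904bb0e3) (.leaf 0x4904bb0e3))))))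

def candS_639 : Store := (.node 12929 (.node 12924 (.node 12921 (.node 12920 (.leaf 0x4904bb0e3) (.leaf 0x4904bb0e3)) (.node 12922 (.leaf 0x4904bb0e3) (.node 12923 (.leaf 0x4904bb0e3) (.leaf 0x4904bb0e3)))) (.node 12926 (.node 12925 (.leaf 0x4904bb0e3) (.leaf 0x4904bb0e3)) (.node 12927 (.leaf 0x4904bb0e3) (.node 12928 (.leaf 0x4904bb0e3) (.leaf 0x4904bb0e3))))) (.node 12934 (.node 12931 (.node 12930 (.leaf 0x4904bb0e3) (.leaf 0x4904bb0e3)) (.node 12932 (.leaf 0x4904bb0e3) (.node 12933 (.leaf 0x4904bb0e3) (.leaf 0x4904bb0e3)))) (.node 12936 (.node 12935 (.leaf 0x4904bb0e3) (.leaf 0x4904bb0e3)) (.node 12937 (.leaf 0x144904bb0e3) (.node 12938 (.leaf 0x144904bb0e3) (.leaf 0x144904bb0e3))))))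

def candS_640 : Store := (.node 12949 (.node 12944 (.node 12941 (.node 12940 (.leaf 0x3000144904bb0e3) (.leaf 0x144904bb0e3)) (.node 12942 (.leaf 0x144904bb0e3) (.node 12943 (.leaf 0x7800144904bb0e3) (.leaf 0x144904bb0e3)))) (.node 12946 (.node 12945 (.leaf 0x2000144904bb0e3) (.leaf 0x144904bb0e3)) (.node 12947 (.leaf 0x6000144904bb0e3) (.node 12948 (.leaf 0x144904bb0e3) (.leaf 0x4904bb0e3))))) (.node 12954 (.node 12951 (.node 12950 (.leaf 0x4904bb0e3) (.leaf 0x4904bb0e3)) (.node 12952 (.leaf 0x4904bb0e3) (.node 12953 (.leaf 0x4904bb0e3) (.leaf 0x4904bb0e3)))) (.node 12957 (.node 12955 (.leaf 0x4904bb0e3) (.node 12956 (.leaf 0x4904bb0e3) (.leaf 0x4904bb0e3))) (.node 12958 (.leaf 0x4904bb0e3) (.node 12959 (.leaf 0x4904bb0e3) (.leaf 0x4904bb0e3))))))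

def candS_641 : Store := (.node 12970 (.node 12965 (.node 12962 (.node 12961 (.leaf 0x39353b0e3) (.leaf 0x39353b0e3)) (.node 12963 (.leaf 0x39353b0e3) (.node 12964 (.leaf 0x39353b0e3) (.leaf 0x39353b0e3)))) (.node 12967 (.node 12966 (.leaf 0x39353b0e3) (.leaf 0x39353b0e3)) (.node 12968 (.leaf 0x39353b0e3) (.node 12969 (.leaf 0x39353b0e3) (.leaf 0x39353b0e3))))) (.node 12975 (.node 12972 (.node 12971 (.leaf 0x39353b0e3) (.leaf 0x39353b0e3)) (.node 12973 (.leaf 0x39353b0e3) (.node 12974 (.leaf 0x39353b0e3) (.leaf 0x39353b0e3)))) (.node 12977 (.node 12976 (.leaf 0x39353b0e3) (.leaf 0x39353b0e3)) (.node 12978 (.leaf 0x39353b0e3) (.node 12979 (.leaf 0x39353b0e3) (.leaf 0x39353b0e3))))))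

def candS_642 : Store := (.node 12990 (.node 12985 (.node 12982 (.node 12981 (.leaf 0x39353b0e3) (.leaf 0x39353b0e3)) (.node 12983 (.leaf 0x39353b0e3) (.node 12984 (.leaf 0x39353b0e3) (.leaf 0x39353b0e3)))) (.node 12987 (.node 12986 (.leaf 0x39353b0e3) (.leaf 0x39353b0e3)) (.node 12988 (.leaf 0x39353b0e3) (.node 12989 (.leaf 0x39353b0e3) (.leaf 0x39353b0e3))))) (.node 12995 (.node 12992 (.node 12991 (.leaf 0x39353b0e3) (.leaf 0x39353b0e3)) (.node 12993 (.leaf 0x39353b0e3) (.node 12994 (.leaf 0x39353b0e3) (.leaf 0x39353b0e3)))) (.node 12997 (.node 12996 (.leaf 0x39353b0e3) (.leaf 0x39353b0e3)) (.node 12998 (.leaf 0x39353b0e3) (.node 12999 (.leaf 0x39353b0e3) (.leaf 0x39353b0e3))))))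

def candS_643 : Store := (.node 13010 (.node 13005 (.node 13002 (.node 13001 (.leaf 0x39353b0e3) (.leaf 0x39353b0e3)) (.node 13003 (.leaf 0x39353b0e3) (.node 13004 (.leaf 0x39353b0e3) (.leaf 0x39353b0e3)))) (.node 13007 (.node 13006 (.leaf 0x39353b0e3) (.leaf 0x39353b0e3)) (.node 13008 (.leaf 0x39353b0e3) (.node 13009 (.leaf 0x2c39353b0e3) (.leaf 0x2c39353b0e3))))) (.node 13015 (.node 13012 (.node 13011 (.leaf 0x2c39353b0e3) (.leaf 0x2c39353b0e3)) (.node 13013 (.leaf 0x2c39353b0e3) (.node 13014 (.leaf 0x2c39353b0e3) (.leaf 0x2c39353b0e3)))) (.node 13017 (.node 13016 (.leaf 0x2c39353b0e3) (.leaf 0x2c39353b0e3)) (.node 13018 (.leaf 0x2c39353b0e3) (.node 13019 (.leaf 0x2c39353b0e3) (.leaf 0x2c39353b0e3))))))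

def candS_644 : Store := (.node 13030 (.node 13025 (.node 13022 (.node 13021 (.leaf 0x39353b0e3) (.leaf 0x39353b0e3)) (.node 13023 (.leaf 0x39353b0e3) (.node 13024 (.leaf 0x39353b0e3) (.leaf 0x39353b0e3)))) (.node 13027 (.node 13026 (.leaf 0x39353b0e3) (.leaf 0x39353b0e3)) (.node 13028 (.leaf 0x39353b0e3) (.node 13029 (.leaf 0x39353b0e3) (.leaf 0x39353b0e3))))) (.node 13035 (.node 13032 (.node 13031 (.leaf 0x39353b0e3) (.leaf 0x39353b0e3)) (.node 13033 (.leaf 0x39353b0e3) (.node 13034 (.leaf 0x39353b0e3) (.leaf 0x39353b0e3)))) (.node 13038 (.node 13036 (.leaf 0x39353b0e3) (.node 13037 (.leaf 0x39353b0e3) (.leaf 0x39353b0e3))) (.node 13039 (.leaf 0x39353b0e3) (.node 13040 (.leaf 0x39353b0e3) (.leaf 0x39353b0e3))))))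

def candS_645 : Store := (.node 13051 (.node 13046 (.node 13043 (.node 13042 (.leaf 0x39353b0e3) (.leaf 0x39353b0e3)) (.node 13044 (.leaf 0x39353b0e3) (.node 13045 (.leaf 0x2639353b0e3) (.leaf 0x68002639353b0e3)))) (.node 13048 (.node 13047 (.leaf 0x2639353b0e3) (.leaf 0x2639353b0e3)) (.node 13049 (.leaf 0x2639353b0e3) (.node 13050 (.leaf 0x8002639353b0e3) (.leaf 0x2639353b0e3))))) (.node 13056 (.node 13053 (.node 13052 (.leaf 0x50002639353b0e3) (.leaf 0x2639353b0e3)) (.node 13054 (.leaf 0x58002639353b0e3) (.node 13055 (.leaf 0x2639353b0e3) (.leaf 0x2639353b0e3)))) (.node 13058 (.node 13057 (.leaf 0x368) (.leaf 0x639353b0e3)) (.node 13059 (.leaf 0x639353b0e3) (.node 13060 (.leaf 0xae) (.leaf 0x639353b0e3))))))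

def candS_646 : Store := (.node 13071 (.node 13066 (.node 13063 (.node 13062 (.leaf 0x639353b0e3) (.leaf 0x639353b0e3)) (.node 13064 (.leaf 0x639353b0e3) (.node 13065 (.leaf 0x24e) (.leaf 0x639353b0e3)))) (.node 13068 (.node 13067 (.leaf 0x346) (.leaf 0x639353b0e3)) (.node 13069 (.leaf 0x3439353b0e3) (.node 13070 (.leaf 0x3439353b0e3) (.leaf 0x3439353b0e3))))) (.node 13076 (.node 13073 (.node 13072 (.leaf 0x3439353b0e3) (.leaf 0x3439353b0e3)) (.node 13074 (.leaf 0x3439353b0e3) (.node 13075 (.leaf 0x3439353b0e3) (.leaf 0x3439353b0e3)))) (.node 13078 (.node 13077 (.leaf 0x3439353b0e3) (.leaf 0x3439353b0e3)) (.node 13079 (.leaf 0x3439353b0e3) (.node 13080 (.leaf 0x3439353b0e3) (.leaf 0x3e39353b0e3))))))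

def candS_647 : Store := (.node 13091 (.node 13086 (.node 13083 (.node 13082 (.leaf 0x3e39353b0e3) (.leaf 0x3e39353b0e3)) (.node 13084 (.leaf 0x3e39353b0e3) (.node 13085 (.leaf 0x3e39353b0e3) (.leaf 0x3e39353b0e3)))) (.node 13088 (.node 13087 (.leaf 0x3e39353b0e3) (.leaf 0x3e39353b0e3)) (.node 13089 (.leaf 0x3e39353b0e3) (.node 13090 (.leaf 0x3e39353b0e3) (.leaf 0x3e39353b0e3))))) (.node 13096 (.node 13093 (.node 13092 (.leaf 0x3e39353b0e3) (.leaf 0x3239353b0e3)) (.node 13094 (.leaf 0x3239353b0e3) (.node 13095 (.leaf 0x3239353b0e3) (.leaf 0x3239353b0e3)))) (.node 13098 (.node 13097 (.leaf 0x3239353b0e3) (.leaf 0x3239353b0e3)) (.node 13099 (.leaf 0x3239353b0e3) (.node 13100 (.leaf 0x3239353b0e3) (.leaf 0x3239353b0e3))))))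

def candS_648 : Store := (.node 13111 (.node 13106 (.node 13103 (.node 13102 (.leaf 0x3239353b0e3) (.leaf 0x3239353b0e3)) (.node 13104 (.leaf 0x3239353b0e3) (.node 13105 (.leaf 0xa4f0bbb0e3) (.leaf 0xa4f0bbb0e3)))) (.node 13108 (.node 13107 (.leaf 0xa4f0bbb0e3) (.leaf 0xa4f0bbb0e3)) (.node 13109 (.leaf 0xa4f0bbb0e3) (.node 13110 (.leaf 0xa4f0bbb0e3) (.leaf 0xa4f0bbb0e3))))) (.node 13116 (.node 13113 (.node 13112 (.leaf 0xa4f0bbb0e3) (.leaf 0xa4f0bbb0e3)) (.node 13114 (.leaf 0xa4f0bbb0e3) (.node 13115 (.leaf 0xa4f0bbb0e3) (.leaf 0xa4f0bbb0e3)))) (.node 13119 (.node 13117 (.leaf 0x44f0bbb0e3) (.node 13118 (.leaf 0x44f0bbb0e3) (.leaf 0x44f0bbb0e3))) (.node 13120 (.leaf 0x44f0bbb0e3) (.node 13121 (.leaf 0x44f0bbb0e3) (.leaf 0x44f0bbb0e3))))))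

def candS_649 : Store := (.node 13132 (.node 13127 (.node 13124 (.node 13123 (.leaf 0x44f0bbb0e3) (.leaf 0x44f0bbb0e3)) (.node 13125 (.leaf 0x44f0bbb0e3) (.node 13126 (.leaf 0x44f0bbb0e3) (.leaf 0x44f0bbb0e3)))) (.node 13129 (.node 13128 (.leaf 0x44f0bbb0e3) (.leaf 0x24f0bbb0e3)) (.node 13130 (.leaf 0x11e) (.node 13131 (.leaf 0x2ac) (.leaf 0x24f0bbb0e3))))) (.node 13137 (.node 13134 (.node 13133 (.leaf 0x24f0bbb0e3) (.leaf 0x190)) (.node 13135 (.leaf 0x24f0bbb0e3) (.node 13136 (.leaf 0x24f0bbb0e3) (.leaf 0x24f0bbb0e3)))) (.node 13139 (.node 13138 (.leaf 0x324) (.leaf 0x24f0bbb0e3)) (.node 13140 (.leaf 0x24f0bbb0e3) (.node 13141 (.leaf 0x64f0bbb0e3) (.leaf 0x64f0bbb0e3))))))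

def candS_650 : Store := (.node 13152 (.node 13147 (.node 13144 (.node 13143 (.leaf 0x64f0bbb0e3) (.leaf 0x64f0bbb0e3)) (.node 13145 (.leaf 0x64f0bbb0e3) (.node 13146 (.leaf 0x64f0bbb0e3) (.leaf 0x64f0bbb0e3)))) (.node 13149 (.node 13148 (.leaf 0x64f0bbb0e3) (.leaf 0x64f0bbb0e3)) (.node 13150 (.leaf 0x64f0bbb0e3) (.node 13151 (.leaf 0x64f0bbb0e3) (.leaf 0x64f0bbb0e3))))) (.node 13157 (.node 13154 (.node 13153 (.leaf 0x4f0bbb0e3) (.leaf 0x4f0bbb0e3)) (.node 13155 (.leaf 0x4f0bbb0e3) (.node 13156 (.leaf 0x4f0bbb0e3) (.leaf 0x4f0bbb0e3)))) (.node 13159 (.node 13158 (.leaf 0x4f0bbb0e3) (.leaf 0x4f0bbb0e3)) (.node 13160 (.leaf 0x4f0bbb0e3) (.node 13161 (.leaf 0x4f0bbb0e3) (.leaf 0x4f0bbb0e3))))))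

def candS_651 : Store := (.node 13172 (.node 13167 (.node 13164 (.node 13163 (.leaf 0x4f0bbb0e3) (.leaf 0x4f0bbb0e3)) (.node 13165 (.leaf 0x4f0bbb0e3) (.node 13166 (.leaf 0x4f0bbb0e3) (.leaf 0x4f0bbb0e3)))) (.node 13169 (.node 13168 (.leaf 0x4f0bbb0e3) (.leaf 0x4f0bbb0e3)) (.node 13170 (.leaf 0x4f0bbb0e3) (.node 13171 (.leaf 0x4f0bbb0e3) (.leaf 0x4f0bbb0e3))))) (.node 13177 (.node 13174 (.node 13173 (.leaf 0x4f0bbb0e3) (.leaf 0x4f0bbb0e3)) (.node 13175 (.leaf 0x4f0bbb0e3) (.node 13176 (.leaf 0x4f0bbb0e3) (.leaf 0x4f0bbb0e3)))) (.node 13179 (.node 13178 (.leaf 0x4f0bbb0e3) (.leaf 0x4f0bbb0e3)) (.node 13180 (.leaf 0x4f0bbb0e3) (.node 13181 (.leaf 0x4f0bbb0e3) (.leaf 0x4f0bbb0e3))))))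

def candS_652 : Store := (.node 13192 (.node 13187 (.node 13184 (.node 13183 (.leaf 0x4f0bbb0e3) (.leaf 0x4f0bbb0e3)) (.node 13185 (.leaf 0x4f0bbb0e3) (.node 13186 (.leaf 0x4f0bbb0e3) (.leaf 0x4f0bbb0e3)))) (.node 13189 (.node 13188 (.leaf 0x4f0bbb0e3) (.leaf 0xc4f0bbb0e3)) (.node 13190 (.leaf 0xc4f0bbb0e3) (.node 13191 (.leaf 0xc4f0bbb0e3) (.leaf 0xc4f0bbb0e3))))) (.node 13197 (.node 13194 (.node 13193 (.leaf 0xc4f0bbb0e3) (.leaf 0xc4f0bbb0e3)) (.node 13195 (.leaf 0xc4f0bbb0e3) (.node 13196 (.leaf 0xc4f0bbb0e3) (.leaf 0xc4f0bbb0e3)))) (.node 13200 (.node 13198 (.leaf 0xc4f0bbb0e3) (.node 13199 (.leaf 0xc4f0bbb0e3) (.leaf 0xc4f0bbb0e3))) (.node 13201 (.leaf 0x4f0bbb0e3) (.node 13202 (.leaf 0x4f0bbb0e3) (.leaf 0x4f0bbb0e3))))))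

def candS_653 : Store := (.node 13213 (.node 13208 (.node 13205 (.node 13204 (.leaf 0x4f0bbb0e3) (.leaf 0x4f0bbb0e3)) (.node 13206 (.leaf 0x4f0bbb0e3) (.node 13207 (.leaf 0x4f0bbb0e3) (.leaf 0x4f0bbb0e3)))) (.node 13210 (.node 13209 (.leaf 0x4f0bbb0e3) (.leaf 0x4f0bbb0e3)) (.node 13211 (.leaf 0x4f0bbb0e3) (.node 13212 (.leaf 0x4f0bbb0e3) (.leaf 0x4f0bbb0e3))))) (.node 13218 (.node 13215 (.node 13214 (.leaf 0x4f0bbb0e3) (.leaf 0x4f0bbb0e3)) (.node 13216 (.leaf 0x4f0bbb0e3) (.node 13217 (.leaf 0x4f0bbb0e3) (.leaf 0x4f0bbb0e3)))) (.node 13220 (.node 13219 (.leaf 0x4f0bbb0e3) (.leaf 0x4f0bbb0e3)) (.node 13221 (.leaf 0x4f0bbb0e3) (.node 13222 (.leaf 0x4f0bbb0e3) (.leaf 0x4f0bbb0e3))))))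

def candS_654 : Store := (.node 13233 (.node 13228 (.node 13225 (.node 13224 (.leaf 0x4f0bbb0e3) (.leaf 0x4f0bbb0e3)) (.node 13226 (.leaf 0x4f0bbb0e3) (.node 13227 (.leaf 0x4f0bbb0e3) (.leaf 0x4f0bbb0e3)))) (.node 13230 (.node 13229 (.leaf 0x4f0bbb0e3) (.leaf 0x4f0bbb0e3)) (.node 13231 (.leaf 0x4f0bbb0e3) (.node 13232 (.leaf 0x4f0bbb0e3) (.leaf 0x4f0bbb0e3))))) (.node 13238 (.node 13235 (.node 13234 (.leaf 0x4f0bbb0e3) (.leaf 0x4f0bbb0e3)) (.node 13236 (.leaf 0x4f0bbb0e3) (.node 13237 (.leaf 0x9800004f0bbb0e3) (.leaf 0x4f0bbb0e3)))) (.node 13240 (.node 13239 (.leaf 0x4f0bbb0e3) (.leaf 0x4f0bbb0e3)) (.node 13241 (.leaf 0x4f0bbb0e3) (.node 13242 (.leaf 0x4f0bbb0e3) (.leaf 0x7000004f0bbb0e3))))))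

def candS_655 : Store := (.node 13253 (.node 13248 (.node 13245 (.node 13244 (.leaf 0x4f0bbb0e3) (.leaf 0x4f0bbb0e3)) (.node 13246 (.leaf 0x4f0bbb0e3) (.node 13247 (.leaf 0x8000004f0bbb0e3) (.leaf 0x4f0bbb0e3)))) (.node 13250 (.node 13249 (.leaf 0x4f173b0e3) (.leaf 0x4f173b0e3)) (.node 13251 (.leaf 0x4f173b0e3) (.node 13252 (.leaf 0x4f173b0e3) (.leaf 0x4f173b0e3))))) (.node 13258 (.node 13255 (.node 13254 (.leaf 0x4f173b0e3) (.leaf 0x4f173b0e3)) (.node 13256 (.leaf 0x4f173b0e3) (.node 13257 (.leaf 0x4f173b0e3) (.leaf 0x4f173b0e3)))) (.node 13260 (.node 13259 (.leaf 0x4f173b0e3) (.leaf 0x4f173b0e3)) (.node 13261 (.leaf 0x4f173b0e3) (.node 13262 (.leaf 0x4f173b0e3) (.leaf 0x4f173b0e3))))))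

def candS_656 : Store := (.node 13273 (.node 13268 (.node 13265 (.node 13264 (.leaf 0x4f173b0e3) (.leaf 0x4f173b0e3)) (.node 13266 (.leaf 0x4f173b0e3) (.node 13267 (.leaf 0x4f173b0e3) (.leaf 0x4f173b0e3)))) (.node 13270 (.node 13269 (.leaf 0x4f173b0e3) (.leaf 0x4f173b0e3)) (.node 13271 (.leaf 0x4f173b0e3) (.node 13272 (.leaf 0x4f173b0e3) (.leaf 0x4f173b0e3))))) (.node 13278 (.node 13275 (.node 13274 (.leaf 0x4f173b0e3) (.leaf 0x4f173b0e3)) (.node 13276 (.leaf 0x4f173b0e3) (.node 13277 (.leaf 0x4f173b0e3) (.leaf 0x4f173b0e3)))) (.node 13281 (.node 13279 (.leaf 0x4f173b0e3) (.node 13280 (.leaf 0x4f173b0e3) (.leaf 0x4f173b0e3))) (.node 13282 (.leaf 0x4f173b0e3) (.node 13283 (.leaf 0x4f173b0e3) (.leaf 0x4f173b0e3))))))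

def candS_657 : Store := (.node 13294 (.node 13289 (.node 13286 (.node 13285 (.leaf 0x4f173b0e3) (.leaf 0x4f173b0e3)) (.node 13287 (.leaf 0x4f173b0e3) (.node 13288 (.leaf 0x4f173b0e3) (.leaf 0x4f173b0e3)))) (.node 13291 (.node 13290 (.leaf 0x4f173b0e3) (.leaf 0x4f173b0e3)) (.node 13292 (.leaf 0x4f173b0e3) (.node 13293 (.leaf 0x4f173b0e3) (.leaf 0x4f173b0e3))))) (.node 13299 (.node 13296 (.node 13295 (.leaf 0x4f173b0e3) (.leaf 0x4f173b0e3)) (.node 13297 (.leaf 0x2e4f173b0e3) (.node 13298 (.leaf 0x2e4f173b0e3) (.leaf 0x2e4f173b0e3)))) (.node 13301 (.node 13300 (.leaf 0x2e4f173b0e3) (.leaf 0x2e4f173b0e3)) (.node 13302 (.leaf 0x2e4f173b0e3) (.node 13303 (.leaf 0x2e4f173b0e3) (.leaf 0x2e4f173b0e3))))))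

def candS_658 : Store := (.node 13314 (.node 13309 (.node 13306 (.node 13305 (.leaf 0x2e4f173b0e3) (.leaf 0x2e4f173b0e3)) (.node 13307 (.leaf 0x2e4f173b0e3) (.node 13308 (.leaf 0x2e4f173b0e3) (.leaf 0xc4f173b0e3)))) (.node 13311 (.node 13310 (.leaf 0xc4f173b0e3) (.leaf 0xc4f173b0e3)) (.node 13312 (.leaf 0xc4f173b0e3) (.node 13313 (.leaf 0xc4f173b0e3) (.leaf 0xc4f173b0e3))))) (.node 13319 (.node 13316 (.node 13315 (.leaf 0xc4f173b0e3) (.leaf 0xc4f173b0e3)) (.node 13317 (.leaf 0xc4f173b0e3) (.node 13318 (.leaf 0xc4f173b0e3) (.leaf 0xc4f173b0e3)))) (.node 13321 (.node 13320 (.leaf 0xc4f173b0e3) (.leaf 0x224f173b0e3)) (.node 13322 (.leaf 0x1000224f173b0e3) (.node 13323 (.leaf 0x8800224f173b0e3) (.leaf 0x224f173b0e3))))))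

def candS_659 : Store := (.node 13334 (.node 13329 (.node 13326 (.node 13325 (.leaf 0x224f173b0e3) (.leaf 0x4800224f173b0e3)) (.node 13327 (.leaf 0x224f173b0e3) (.node 13328 (.leaf 0x224f173b0e3) (.leaf 0x224f173b0e3)))) (.node 13331 (.node 13330 (.leaf 0x4000224f173b0e3) (.leaf 0x224f173b0e3)) (.node 13332 (.leaf 0x224f173b0e3) (.node 13333 (.leaf 0x4f173b0e3) (.leaf 0x4f173b0e3))))) (.node 13339 (.node 13336 (.node 13335 (.leaf 0x4f173b0e3) (.leaf 0x4f173b0e3)) (.node 13337 (.leaf 0x4f173b0e3) (.node 13338 (.leaf 0x4f173b0e3) (.leaf 0x4f173b0e3)))) (.node 13341 (.node 13340 (.leaf 0x4f173b0e3) (.leaf 0x4f173b0e3)) (.node 13342 (.leaf 0x4f173b0e3) (.node 13343 (.leaf 0x4f173b0e3) (.leaf 0x4f173b0e3))))))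

def candS_660 : Store := (.node 13354 (.node 13349 (.node 13346 (.node 13345 (.leaf 0x234) (.leaf 0x404f173b0e3)) (.node 13347 (.leaf 0x404f173b0e3) (.node 13348 (.leaf 0x38e) (.leaf 0x404f173b0e3)))) (.node 13351 (.node 13350 (.leaf 0x404f173b0e3) (.leaf 0x1e8)) (.node 13352 (.leaf 0x404f173b0e3) (.node 13353 (.leaf 0x404f173b0e3) (.leaf 0x404f173b0e3))))) (.node 13359 (.node 13356 (.node 13355 (.leaf 0xb6) (.leaf 0x404f173b0e3)) (.node 13357 (.leaf 0x184f173b0e3) (.node 13358 (.leaf 0x184f173b0e3) (.leaf 0x184f173b0e3)))) (.node 13362 (.node 13360 (.leaf 0x184f173b0e3) (.node 13361 (.leaf 0x184f173b0e3) (.leaf 0x184f173b0e3))) (.node 13363 (.leaf 0x184f173b0e3) (.node 13364 (.leaf 0x184f173b0e3) (.leaf 0x184f173b0e3))))))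

def candS_661 : Store := (.node 13375 (.node 13370 (.node 13367 (.node 13366 (.leaf 0x184f173b0e3) (.leaf 0x184f173b0e3)) (.node 13368 (.leaf 0x184f173b0e3) (.node 13369 (.leaf 0x1c4f173b0e3) (.leaf 0x1c4f173b0e3)))) (.node 13372 (.node 13371 (.leaf 0x1c4f173b0e3) (.leaf 0x1c4f173b0e3)) (.node 13373 (.leaf 0x1c4f173b0e3) (.node 13374 (.leaf 0x1c4f173b0e3) (.leaf 0x1c4f173b0e3))))) (.node 13380 (.node 13377 (.node 13376 (.leaf 0x1c4f173b0e3) (.leaf 0x1c4f173b0e3)) (.node 13378 (.leaf 0x1c4f173b0e3) (.node 13379 (.leaf 0x1c4f173b0e3) (.leaf 0x1c4f173b0e3)))) (.node 13382 (.node 13381 (.leaf 0x4f173b0e3) (.leaf 0x4f173b0e3)) (.node 13383 (.leaf 0x4f173b0e3) (.node 13384 (.leaf 0x4f173b0e3) (.leaf 0x4f173b0e3))))))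

def candS_662 : Store := (.node 13395 (.node 13390 (.node 13387 (.node 13386 (.leaf 0x4f173b0e3) (.leaf 0x4f173b0e3)) (.node 13388 (.leaf 0x4f173b0e3) (.node 13389 (.leaf 0x4f173b0e3) (.leaf 0x4f173b0e3)))) (.node 13392 (.node 13391 (.leaf 0x4f173b0e3) (.leaf 0x4f173b0e3)) (.node 13393 (.leaf 0x1c3b0e3) (.node 13394 (.leaf 0x1c3b0e3) (.leaf 0x1c3b0e3))))) (.node 13400 (.node 13397 (.node 13396 (.leaf 0x1c3b0e3) (.leaf 0x1c3b0e3)) (.node 13398 (.leaf 0x1c3b0e3) (.node 13399 (.leaf 0x1c3b0e3) (.leaf 0x1c3b0e3)))) (.node 13402 (.node 13401 (.leaf 0x1c3b0e3) (.leaf 0x1c3b0e3)) (.node 13403 (.leaf 0x1c3b0e3) (.node 13404 (.leaf 0x1c3b0e3) (.leaf 0x2001c3b0e3))))))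

def candS_663 : Store := (.node 13415 (.node 13410 (.node 13407 (.node 13406 (.leaf 0x2001c3b0e3) (.leaf 0x2001c3b0e3)) (.node 13408 (.leaf 0x2001c3b0e3) (.node 13409 (.leaf 0x2001c3b0e3) (.leaf 0x2001c3b0e3)))) (.node 13412 (.node 13411 (.leaf 0x2001c3b0e3) (.leaf 0x2001c3b0e3)) (.node 13413 (.leaf 0x2001c3b0e3) (.node 13414 (.leaf 0x2001c3b0e3) (.leaf 0x2001c3b0e3))))) (.node 13420 (.node 13417 (.node 13416 (.leaf 0x2001c3b0e3) (.leaf 0x16001c3b0e3)) (.node 13418 (.leaf 0x7c) (.node 13419 (.leaf 0x8e) (.leaf 0x16001c3b0e3)))) (.node 13422 (.node 13421 (.leaf 0x16001c3b0e3) (.leaf 0x2d4)) (.node 13423 (.leaf 0x16001c3b0e3) (.node 13424 (.leaf 0x326) (.leaf 0x16001c3b0e3))))))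

def candS_664 : Store := (.node 13435 (.node 13430 (.node 13427 (.node 13426 (.leaf 0x16001c3b0e3) (.leaf 0x16001c3b0e3)) (.node 13428 (.leaf 0x16001c3b0e3) (.node 13429 (.leaf 0x1a001c3b0e3) (.leaf 0x1a001c3b0e3)))) (.node 13432 (.node 13431 (.leaf 0x1a001c3b0e3) (.leaf 0x1a001c3b0e3)) (.node 13433 (.leaf 0x1a001c3b0e3) (.node 13434 (.leaf 0x1a001c3b0e3) (.leaf 0x1a001c3b0e3))))) (.node 13440 (.node 13437 (.node 13436 (.leaf 0x1a001c3b0e3) (.leaf 0x1a001c3b0e3)) (.node 13438 (.leaf 0x1a001c3b0e3) (.node 13439 (.leaf 0x1a001c3b0e3) (.leaf 0x1a001c3b0e3)))) (.node 13443 (.node 13441 (.leaf 0x980010001c3b0e3) (.node 13442 (.leaf 0x10001c3b0e3) (.leaf 0x10001c3b0e3))) (.node 13444 (.leaf 0x10001c3b0e3) (.node 13445 (.leaf 0x10001c3b0e3) (.leaf 0x10001c3b0e3))))))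

def candS_665 : Store := (.node 13456 (.node 13451 (.node 13448 (.node 13447 (.leaf 0x10001c3b0e3) (.leaf 0x10001c3b0e3)) (.node 13449 (.leaf 0x800010001c3b0e3) (.node 13450 (.leaf 0x10001c3b0e3) (.leaf 0x700010001c3b0e3)))) (.node 13453 (.node 13452 (.leaf 0x10001c3b0e3) (.leaf 0x1c3b0e3)) (.node 13454 (.leaf 0x1c3b0e3) (.node 13455 (.leaf 0x1c3b0e3) (.leaf 0x1c3b0e3))))) (.node 13461 (.node 13458 (.node 13457 (.leaf 0x1c3b0e3) (.leaf 0x1c3b0e3)) (.node 13459 (.leaf 0x1c3b0e3) (.node 13460 (.leaf 0x1c3b0e3) (.leaf 0x1c3b0e3)))) (.node 13463 (.node 13462 (.leaf 0x1c3b0e3) (.leaf 0x1c3b0e3)) (.node 13464 (.leaf 0x1c3b0e3) (.node 13465 (.leaf 0x44001c3b0e3) (.leaf 0x44001c3b0e3))))))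

def candS_666 : Store := (.node 13476 (.node 13471 (.node 13468 (.node 13467 (.leaf 0x44001c3b0e3) (.leaf 0x44001c3b0e3)) (.node 13469 (.leaf 0x44001c3b0e3) (.node 13470 (.leaf 0x44001c3b0e3) (.leaf 0x44001c3b0e3)))) (.node 13473 (.node 13472 (.leaf 0x44001c3b0e3) (.leaf 0x44001c3b0e3)) (.node 13474 (.leaf 0x44001c3b0e3) (.node 13475 (.leaf 0x44001c3b0e3) (.leaf 0x44001c3b0e3))))) (.node 13481 (.node 13478 (.node 13477 (.leaf 0x38001c3b0e3) (.leaf 0x38001c3b0e3)) (.node 13479 (.leaf 0x38001c3b0e3) (.node 13480 (.leaf 0x38001c3b0e3) (.leaf 0x38001c3b0e3)))) (.node 13483 (.node 13482 (.leaf 0x38001c3b0e3) (.leaf 0x38001c3b0e3)) (.node 13484 (.leaf 0x38001c3b0e3) (.node 13485 (.leaf 0x38001c3b0e3) (.leaf 0x38001c3b0e3))))))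

def candS_667 : Store := (.node 13496 (.node 13491 (.node 13488 (.node 13487 (.leaf 0x38001c3b0e3) (.leaf 0x38001c3b0e3)) (.node 13489 (.leaf 0x1c3b0e3) (.node 13490 (.leaf 0x1c3b0e3) (.leaf 0x1c3b0e3)))) (.node 13493 (.node 13492 (.leaf 0x1c3b0e3) (.leaf 0x1c3b0e3)) (.node 13494 (.leaf 0x1c3b0e3) (.node 13495 (.leaf 0x1c3b0e3) (.leaf 0x1c3b0e3))))) (.node 13501 (.node 13498 (.node 13497 (.leaf 0x1c3b0e3) (.leaf 0x1c3b0e3)) (.node 13499 (.leaf 0x1c3b0e3) (.node 13500 (.leaf 0x1c3b0e3) (.leaf 0x1c3b0e3)))) (.node 13503 (.node 13502 (.leaf 0x1c3b0e3) (.leaf 0x1c3b0e3)) (.node 13504 (.leaf 0x1c3b0e3) (.node 13505 (.leaf 0x1c3b0e3) (.leaf 0x1c3b0e3))))))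

def candS_668 : Store := (.node 13516 (.node 13511 (.node 13508 (.node 13507 (.leaf 0x1c3b0e3) (.leaf 0x1c3b0e3)) (.node 13509 (.leaf 0x1c3b0e3) (.node 13510 (.leaf 0x1c3b0e3) (.leaf 0x1c3b0e3)))) (.node 13513 (.node 13512 (.leaf 0x1c3b0e3) (.leaf 0x1c3b0e3)) (.node 13514 (.leaf 0x1c3b0e3) (.node 13515 (.leaf 0x1c3b0e3) (.leaf 0x1c3b0e3))))) (.node 13521 (.node 13518 (.node 13517 (.leaf 0x1c3b0e3) (.leaf 0x1c3b0e3)) (.node 13519 (.leaf 0x1c3b0e3) (.node 13520 (.leaf 0x1c3b0e3) (.leaf 0x1c3b0e3)))) (.node 13524 (.node 13522 (.leaf 0x1c3b0e3) (.node 13523 (.leaf 0x1c3b0e3) (.leaf 0x1c3b0e3))) (.node 13525 (.leaf 0x1c3b0e3) (.node 13526 (.leaf 0x1c3b0e3) (.leaf 0x1c3b0e3))))))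

def candS_669 : Store := (.node 13537 (.node 13532 (.node 13529 (.node 13528 (.leaf 0x1c3b0e3) (.leaf 0x1c3b0e3)) (.node 13530 (.leaf 0x1c3b0e3) (.node 13531 (.leaf 0x1c3b0e3) (.leaf 0x1c3b0e3)))) (.node 13534 (.node 13533 (.leaf 0x1c3b0e3) (.leaf 0x1c3b0e3)) (.node 13535 (.leaf 0x1c3b0e3) (.node 13536 (.leaf 0x1c3b0e3) (.leaf 0x2f1fbb0e3))))) (.node 13542 (.node 13539 (.node 13538 (.leaf 0x2f1fbb0e3) (.leaf 0x2f1fbb0e3)) (.node 13540 (.leaf 0x2f1fbb0e3) (.node 13541 (.leaf 0x2f1fbb0e3) (.leaf 0x2f1fbb0e3)))) (.node 13544 (.node 13543 (.leaf 0x2f1fbb0e3) (.leaf 0x2f1fbb0e3)) (.node 13545 (.leaf 0x2f1fbb0e3) (.node 13546 (.leaf 0x2f1fbb0e3) (.leaf 0x2f1fbb0e3))))))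

def candS_670 : Store := (.node 13557 (.node 13552 (.node 13549 (.node 13548 (.leaf 0x2f1fbb0e3) (.leaf 0x2f1fbb0e3)) (.node 13550 (.leaf 0x2f1fbb0e3) (.node 13551 (.leaf 0x2f1fbb0e3) (.leaf 0x2f1fbb0e3)))) (.node 13554 (.node 13553 (.leaf 0x2f1fbb0e3) (.leaf 0x2f1fbb0e3)) (.node 13555 (.leaf 0x2f1fbb0e3) (.node 13556 (.leaf 0x2f1fbb0e3) (.leaf 0x2f1fbb0e3))))) (.node 13562 (.node 13559 (.node 13558 (.leaf 0x2f1fbb0e3) (.leaf 0x2f1fbb0e3)) (.node 13560 (.leaf 0x2f1fbb0e3) (.node 13561 (.leaf 0x2f1fbb0e3) (.leaf 0x2f1fbb0e3)))) (.node 13564 (.node 13563 (.leaf 0x2f1fbb0e3) (.leaf 0x2f1fbb0e3)) (.node 13565 (.leaf 0x2f1fbb0e3) (.node 13566 (.leaf 0x2f1fbb0e3) (.leaf 0x2f1fbb0e3))))))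

def candS_671 : Store := (.node 13577 (.node 13572 (.node 13569 (.node 13568 (.leaf 0x2f1fbb0e3) (.leaf 0x2f1fbb0e3)) (.node 13570 (.leaf 0x2f1fbb0e3) (.node 13571 (.leaf 0x2f1fbb0e3) (.leaf 0x2f1fbb0e3)))) (.node 13574 (.node 13573 (.leaf 0x3e2f1fbb0e3) (.leaf 0x3e2f1fbb0e3)) (.node 13575 (.leaf 0x70003e2f1fbb0e3) (.node 13576 (.leaf 0x3e2f1fbb0e3) (.leaf 0x3e2f1fbb0e3))))) (.node 13582 (.node 13579 (.node 13578 (.leaf 0x3e2f1fbb0e3) (.leaf 0x3e2f1fbb0e3)) (.node 13580 (.leaf 0x98003e2f1fbb0e3) (.node 13581 (.leaf 0x3e2f1fbb0e3) (.leaf 0x80003e2f1fbb0e3)))) (.node 13584 (.node 13583 (.leaf 0x3e2f1fbb0e3) (.leaf 0x3e2f1fbb0e3)) (.node 13585 (.leaf 0x142f1fbb0e3) (.node 13586 (.leaf 0x142f1fbb0e3) (.leaf 0x142f1fbb0e3))))))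

def candS_672 : Store := (.node 13597 (.node 13592 (.node 13589 (.node 13588 (.leaf 0x142f1fbb0e3) (.leaf 0x142f1fbb0e3)) (.node 13590 (.leaf 0x142f1fbb0e3) (.node 13591 (.leaf 0x142f1fbb0e3) (.leaf 0x142f1fbb0e3)))) (.node 13594 (.node 13593 (.leaf 0x142f1fbb0e3) (.leaf 0x142f1fbb0e3)) (.node 13595 (.leaf 0x142f1fbb0e3) (.node 13596 (.leaf 0x142f1fbb0e3) (.leaf 0x1a2f1fbb0e3))))) (.node 13602 (.node 13599 (.node 13598 (.leaf 0x1a2f1fbb0e3) (.leaf 0x1a2f1fbb0e3)) (.node 13600 (.leaf 0x1a2f1fbb0e3) (.node 13601 (.leaf 0x1a2f1fbb0e3) (.leaf 0x1a2f1fbb0e3)))) (.node 13605 (.node 13603 (.leaf 0x1a2f1fbb0e3) (.node 13604 (.leaf 0x1a2f1fbb0e3) (.leaf 0x1a2f1fbb0e3))) (.node 13606 (.leaf 0x1a2f1fbb0e3) (.node 13607 (.leaf 0x1a2f1fbb0e3) (.leaf 0x1a2f1fbb0e3))))))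

def candS_673 : Store := (.node 13618 (.node 13613 (.node 13610 (.node 13609 (.leaf 0x2f1fbb0e3) (.leaf 0x2f1fbb0e3)) (.node 13611 (.leaf 0x2f1fbb0e3) (.node 13612 (.leaf 0x2f1fbb0e3) (.leaf 0x2f1fbb0e3)))) (.node 13615 (.node 13614 (.leaf 0x2f1fbb0e3) (.leaf 0x2f1fbb0e3)) (.node 13616 (.leaf 0x2f1fbb0e3) (.node 13617 (.leaf 0x2f1fbb0e3) (.leaf 0x2f1fbb0e3))))) (.node 13623 (.node 13620 (.node 13619 (.leaf 0x2f1fbb0e3) (.leaf 0x2f1fbb0e3)) (.node 13621 (.leaf 0x2f1fbb0e3) (.node 13622 (.leaf 0x2f1fbb0e3) (.leaf 0x2f1fbb0e3)))) (.node 13625 (.node 13624 (.leaf 0x2f1fbb0e3) (.leaf 0x2f1fbb0e3)) (.node 13626 (.leaf 0x2f1fbb0e3) (.node 13627 (.leaf 0x2f1fbb0e3) (.leaf 0x2f1fbb0e3))))))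

def candS_674 : Store := (.node 13638 (.node 13633 (.node 13630 (.node 13629 (.leaf 0x2f1fbb0e3) (.leaf 0x2f1fbb0e3)) (.node 13631 (.leaf 0x2f1fbb0e3) (.node 13632 (.leaf 0x2f1fbb0e3) (.leaf 0xe2)))) (.node 13635 (.node 13634 (.leaf 0x402f1fbb0e3) (.leaf 0x402f1fbb0e3)) (.node 13636 (.leaf 0x3bc) (.node 13637 (.leaf 0x402f1fbb0e3) (.leaf 0x402f1fbb0e3))))) (.node 13643 (.node 13640 (.node 13639 (.leaf 0x1f4) (.leaf 0x402f1fbb0e3)) (.node 13641 (.leaf 0x10a) (.node 13642 (.leaf 0x402f1fbb0e3) (.leaf 0x402f1fbb0e3)))) (.node 13645 (.node 13644 (.leaf 0x402f1fbb0e3) (.leaf 0x2f1fbb0e3)) (.node 13646 (.leaf 0x2f1fbb0e3) (.node 13647 (.leaf 0x2f1fbb0e3) (.leaf 0x2f1fbb0e3))))))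

def candS_675 : Store := (.node 13658 (.node 13653 (.node 13650 (.node 13649 (.leaf 0x2f1fbb0e3) (.leaf 0x2f1fbb0e3)) (.node 13651 (.leaf 0x2f1fbb0e3) (.node 13652 (.leaf 0x2f1fbb0e3) (.leaf 0x2f1fbb0e3)))) (.node 13655 (.node 13654 (.leaf 0x2f1fbb0e3) (.leaf 0x2f1fbb0e3)) (.node 13656 (.leaf 0x2f1fbb0e3) (.node 13657 (.leaf 0x262f1fbb0e3) (.leaf 0x262f1fbb0e3))))) (.node 13663 (.node 13660 (.node 13659 (.leaf 0x262f1fbb0e3) (.leaf 0x262f1fbb0e3)) (.node 13661 (.leaf 0x262f1fbb0e3) (.node 13662 (.leaf 0x262f1fbb0e3) (.leaf 0x262f1fbb0e3)))) (.node 13665 (.node 13664 (.leaf 0x262f1fbb0e3) (.leaf 0x262f1fbb0e3)) (.node 13666 (.leaf 0x262f1fbb0e3) (.node 13667 (.leaf 0x262f1fbb0e3) (.leaf 0x262f1fbb0e3))))))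

def candS_676 : Store := (.node 13678 (.node 13673 (.node 13670 (.node 13669 (.leaf 0x82f1fbb0e3) (.leaf 0x82f1fbb0e3)) (.node 13671 (.leaf 0x82f1fbb0e3) (.node 13672 (.leaf 0x82f1fbb0e3) (.leaf 0x82f1fbb0e3)))) (.node 13675 (.node 13674 (.leaf 0x82f1fbb0e3) (.leaf 0x82f1fbb0e3)) (.node 13676 (.leaf 0x82f1fbb0e3) (.node 13677 (.leaf 0x82f1fbb0e3) (.leaf 0x82f1fbb0e3))))) (.node 13683 (.node 13680 (.node 13679 (.leaf 0x82f1fbb0e3) (.leaf 0x82f1fbb0e3)) (.node 13681 (.leaf 0x62500bb0e3) (.node 13682 (.leaf 0x62500bb0e3) (.leaf 0x62500bb0e3)))) (.node 13686 (.node 13684 (.leaf 0x62500bb0e3) (.node 13685 (.leaf 0x62500bb0e3) (.leaf 0x62500bb0e3))) (.node 13687 (.leaf 0x62500bb0e3) (.node 13688 (.leaf 0x62500bb0e3) (.leaf 0x62500bb0e3))))))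

def candS_677 : Store := (.node 13699 (.node 13694 (.node 13691 (.node 13690 (.leaf 0x62500bb0e3) (.leaf 0x62500bb0e3)) (.node 13692 (.leaf 0x62500bb0e3) (.node 13693 (.leaf 0xc2500bb0e3) (.leaf 0xc2500bb0e3)))) (.node 13696 (.node 13695 (.leaf 0xc2500bb0e3) (.leaf 0xc2500bb0e3)) (.node 13697 (.leaf 0xc2500bb0e3) (.node 13698 (.leaf 0xc2500bb0e3) (.leaf 0xc2500bb0e3))))) (.node 13704 (.node 13701 (.node 13700 (.leaf 0xc2500bb0e3) (.leaf 0xc2500bb0e3)) (.node 13702 (.leaf 0xc2500bb0e3) (.node 13703 (.leaf 0xc2500bb0e3) (.leaf 0xc2500bb0e3)))) (.node 13706 (.node 13705 (.leaf 0x2500bb0e3) (.leaf 0x2500bb0e3)) (.node 13707 (.leaf 0x2500bb0e3) (.node 13708 (.leaf 0x2500bb0e3) (.leaf 0x2500bb0e3))))))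

def candS_678 : Store := (.node 13719 (.node 13714 (.node 13711 (.node 13710 (.leaf 0x2500bb0e3) (.leaf 0x2500bb0e3)) (.node 13712 (.leaf 0x2500bb0e3) (.node 13713 (.leaf 0x2500bb0e3) (.leaf 0x2500bb0e3)))) (.node 13716 (.node 13715 (.leaf 0x2500bb0e3) (.leaf 0x2500bb0e3)) (.node 13717 (.leaf 0x42500bb0e3) (.node 13718 (.leaf 0x42500bb0e3) (.leaf 0x42500bb0e3))))) (.node 13724 (.node 13721 (.node 13720 (.leaf 0x42500bb0e3) (.leaf 0x42500bb0e3)) (.node 13722 (.leaf 0x42500bb0e3) (.node 13723 (.leaf 0x42500bb0e3) (.leaf 0x42500bb0e3)))) (.node 13726 (.node 13725 (.leaf 0x42500bb0e3) (.leaf 0x42500bb0e3)) (.node 13727 (.leaf 0x42500bb0e3) (.node 13728 (.leaf 0x42500bb0e3) (.leaf 0x2500bb0e3))))))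

def candS_679 : Store := (.node 13739 (.node 13734 (.node 13731 (.node 13730 (.leaf 0x2500bb0e3) (.leaf 0x2500bb0e3)) (.node 13732 (.leaf 0x2500bb0e3) (.node 13733 (.leaf 0x2500bb0e3) (.leaf 0x2500bb0e3)))) (.node 13736 (.node 13735 (.leaf 0x2500bb0e3) (.leaf 0x2500bb0e3)) (.node 13737 (.leaf 0x2500bb0e3) (.node 13738 (.leaf 0x2500bb0e3) (.leaf 0x2500bb0e3))))) (.node 13744 (.node 13741 (.node 13740 (.leaf 0x2500bb0e3) (.leaf 0x2500bb0e3)) (.node 13742 (.leaf 0x2500bb0e3) (.node 13743 (.leaf 0x2500bb0e3) (.leaf 0x2500bb0e3)))) (.node 13746 (.node 13745 (.leaf 0x2500bb0e3) (.leaf 0x2500bb0e3)) (.node 13747 (.leaf 0x2500bb0e3) (.node 13748 (.leaf 0x2500bb0e3) (.leaf 0x2500bb0e3))))))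

def candS_680 : Store := (.node 13759 (.node 13754 (.node 13751 (.node 13750 (.leaf 0x2500bb0e3) (.leaf 0x2500bb0e3)) (.node 13752 (.leaf 0x2500bb0e3) (.node 13753 (.leaf 0x22500bb0e3) (.leaf 0x22500bb0e3)))) (.node 13756 (.node 13755 (.leaf 0x22500bb0e3) (.leaf 0x22500bb0e3)) (.node 13757 (.leaf 0x22500bb0e3) (.node 13758 (.leaf 0x22500bb0e3) (.leaf 0x22500bb0e3))))) (.node 13764 (.node 13761 (.node 13760 (.leaf 0x22500bb0e3) (.leaf 0x22500bb0e3)) (.node 13762 (.leaf 0x22500bb0e3) (.node 13763 (.leaf 0x22500bb0e3) (.leaf 0x22500bb0e3)))) (.node 13767 (.node 13765 (.leaf 0xa2500bb0e3) (.node 13766 (.leaf 0xa2500bb0e3) (.leaf 0xa2500bb0e3))) (.node 13768 (.leaf 0xa2500bb0e3) (.node 13769 (.leaf 0xa2500bb0e3) (.leaf 0xa2500bb0e3))))))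

def candS_681 : Store := (.node 13780 (.node 13775 (.node 13772 (.node 13771 (.leaf 0xa2500bb0e3) (.leaf 0xa2500bb0e3)) (.node 13773 (.leaf 0xa2500bb0e3) (.node 13774 (.leaf 0xa2500bb0e3) (.leaf 0xa2500bb0e3)))) (.node 13777 (.node 13776 (.leaf 0xa2500bb0e3) (.leaf 0x2500bb0e3)) (.node 13778 (.leaf 0x2500bb0e3) (.node 13779 (.leaf 0x2500bb0e3) (.leaf 0x2500bb0e3))))) (.node 13785 (.node 13782 (.node 13781 (.leaf 0x2500bb0e3) (.leaf 0x2500bb0e3)) (.node 13783 (.leaf 0x2500bb0e3) (.node 13784 (.leaf 0x2500bb0e3) (.leaf 0x2500bb0e3)))) (.node 13787 (.node 13786 (.leaf 0x2500bb0e3) (.leaf 0x2500bb0e3)) (.node 13788 (.leaf 0x2500bb0e3) (.node 13789 (.leaf 0x2500bb0e3) (.leaf 0x2500bb0e3))))))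

def candS_682 : Store := (.node 13800 (.node 13795 (.node 13792 (.node 13791 (.leaf 0x2500bb0e3) (.leaf 0x2500bb0e3)) (.node 13793 (.leaf 0x2500bb0e3) (.node 13794 (.leaf 0x2500bb0e3) (.leaf 0x2500bb0e3)))) (.node 13797 (.node 13796 (.leaf 0x2500bb0e3) (.leaf 0x2500bb0e3)) (.node 13798 (.leaf 0x2500bb0e3) (.node 13799 (.leaf 0x2500bb0e3) (.leaf 0x2500bb0e3))))) (.node 13805 (.node 13802 (.node 13801 (.leaf 0x2500bb0e3) (.leaf 0x2500bb0e3)) (.node 13803 (.leaf 0x2500bb0e3) (.node 13804 (.leaf 0x2500bb0e3) (.leaf 0x2500bb0e3)))) (.node 13807 (.node 13806 (.leaf 0x2500bb0e3) (.leaf 0x2500bb0e3)) (.node 13808 (.leaf 0x2500bb0e3) (.node 13809 (.leaf 0x2500bb0e3) (.leaf 0x2500bb0e3))))))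

def candS_683 : Store := (.node 13820 (.node 13815 (.node 13812 (.node 13811 (.leaf 0x2500bb0e3) (.leaf 0x2500bb0e3)) (.node 13813 (.leaf 0x2500bb0e3) (.node 13814 (.leaf 0x2500bb0e3) (.leaf 0x2500bb0e3)))) (.node 13817 (.node 13816 (.leaf 0x2500bb0e3) (.leaf 0x2500bb0e3)) (.node 13818 (.leaf 0x2500bb0e3) (.node 13819 (.leaf 0x2500bb0e3) (.leaf 0x2500bb0e3))))) (.node 13825 (.node 13822 (.node 13821 (.leaf 0x2500bb0e3) (.leaf 0x2500bb0e3)) (.node 13823 (.leaf 0x2500bb0e3) (.node 13824 (.leaf 0x2500bb0e3) (.leaf 0x30230643837)))) (.node 13827 (.node 13826 (.leaf 0x30230643837) (.leaf 0x30230643837)) (.node 13828 (.leaf 0x30230643837) (.node 13829 (.leaf 0x30230643837) (.leaf 0x30230643837))))))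

def candS_684 : Store := (.node 13840 (.node 13835 (.node 13832 (.node 13831 (.leaf 0x1de) (.leaf 0x30230643837)) (.node 13833 (.leaf 0x6) (.node 13834 (.leaf 0x30230643837) (.leaf 0x362)))) (.node 13837 (.node 13836 (.leaf 0xaa) (.leaf 0x36230643837)) (.node 13838 (.leaf 0x600036230643837) (.node 13839 (.leaf 0x300036230643837) (.leaf 0x36230643837))))) (.node 13845 (.node 13842 (.node 13841 (.leaf 0x200036230643837) (.leaf 0x36230643837)) (.node 13843 (.leaf 0x36230643837) (.node 13844 (.leaf 0x780036230643837) (.leaf 0x36230643837)))) (.node 13848 (.node 13846 (.leaf 0x36230643837) (.node 13847 (.leaf 0x36230643837) (.leaf 0x36230643837))) (.node 13849 (.leaf 0x2a230643837) (.node 13850 (.leaf 0x2a230643837) (.leaf 0x2a230643837))))))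

def candS_685 : Store := (.node 13861 (.node 13856 (.node 13853 (.node 13852 (.leaf 0x2a230643837) (.leaf 0x2a230643837)) (.node 13854 (.leaf 0x2a230643837) (.node 13855 (.leaf 0x2a230643837) (.leaf 0x2a230643837)))) (.node 13858 (.node 13857 (.leaf 0x2a230643837) (.leaf 0x2a230643837)) (.node 13859 (.leaf 0x2a230643837) (.node 13860 (.leaf 0x2a230643837) (.leaf 0x230643837))))) (.node 13866 (.node 13863 (.node 13862 (.leaf 0x230643837) (.leaf 0x230643837)) (.node 13864 (.leaf 0x230643837) (.node 13865 (.leaf 0x230643837) (.leaf 0x230643837)))) (.node 13868 (.node 13867 (.leaf 0x230643837) (.leaf 0x230643837)) (.node 13869 (.leaf 0x230643837) (.node 13870 (.leaf 0x230643837) (.leaf 0x230643837))))))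

def candS_686 : Store := (.node 13881 (.node 13876 (.node 13873 (.node 13872 (.leaf 0x230643837) (.leaf 0x230643837)) (.node 13874 (.leaf 0x230643837) (.node 13875 (.leaf 0x230643837) (.leaf 0x230643837)))) (.node 13878 (.node 13877 (.leaf 0x230643837) (.leaf 0x230643837)) (.node 13879 (.leaf 0x230643837) (.node 13880 (.leaf 0x230643837) (.leaf 0x230643837))))) (.node 13886 (.node 13883 (.node 13882 (.leaf 0x230643837) (.leaf 0x230643837)) (.node 13884 (.leaf 0x230643837) (.node 13885 (.leaf 0x40230643837) (.leaf 0x40230643837)))) (.node 13888 (.node 13887 (.leaf 0x40230643837) (.leaf 0x40230643837)) (.node 13889 (.leaf 0x40230643837) (.node 13890 (.leaf 0x40230643837) (.leaf 0x40230643837))))))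

def candS_687 : Store := (.node 13901 (.node 13896 (.node 13893 (.node 13892 (.leaf 0x40230643837) (.leaf 0x40230643837)) (.node 13894 (.leaf 0x40230643837) (.node 13895 (.leaf 0x40230643837) (.leaf 0x40230643837)))) (.node 13898 (.node 13897 (.leaf 0x230643837) (.leaf 0x230643837)) (.node 13899 (.leaf 0x230643837) (.node 13900 (.leaf 0x230643837) (.leaf 0x230643837))))) (.node 13906 (.node 13903 (.node 13902 (.leaf 0x230643837) (.leaf 0x230643837)) (.node 13904 (.leaf 0x230643837) (.node 13905 (.leaf 0x230643837) (.leaf 0x230643837)))) (.node 13908 (.node 13907 (.leaf 0x230643837) (.leaf 0x230643837)) (.node 13909 (.leaf 0x230643837) (.node 13910 (.leaf 0x230643837) (.leaf 0x230643837))))))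

def candS_688 : Store := (.node 13921 (.node 13916 (.node 13913 (.node 13912 (.leaf 0x230643837) (.leaf 0x230643837)) (.node 13914 (.leaf 0x230643837) (.node 13915 (.leaf 0x230643837) (.leaf 0x230643837)))) (.node 13918 (.node 13917 (.leaf 0x230643837) (.leaf 0x230643837)) (.node 13919 (.leaf 0x230643837) (.node 13920 (.leaf 0x230643837) (.leaf 0x230643837))))) (.node 13926 (.node 13923 (.node 13922 (.leaf 0x230643837) (.leaf 0x230643837)) (.node 13924 (.leaf 0x230643837) (.node 13925 (.leaf 0x230643837) (.leaf 0x230643837)))) (.node 13929 (.node 13927 (.leaf 0x230643837) (.node 13928 (.leaf 0x230643837) (.leaf 0x230643837))) (.node 13930 (.leaf 0x230643837) (.node 13931 (.leaf 0x230643837) (.leaf 0x230643837))))))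

def candS_689 : Store := (.node 13942 (.node 13937 (.node 13934 (.node 13933 (.leaf 0x6230643837) (.leaf 0x6230643837)) (.node 13935 (.leaf 0x6230643837) (.node 13936 (.leaf 0x6230643837) (.leaf 0x6230643837)))) (.node 13939 (.node 13938 (.leaf 0x6230643837) (.leaf 0x6230643837)) (.node 13940 (.leaf 0x6230643837) (.node 13941 (.leaf 0x6230643837) (.leaf 0x6230643837))))) (.node 13947 (.node 13944 (.node 13943 (.leaf 0x6230643837) (.leaf 0x6230643837)) (.node 13945 (.leaf 0x230643837) (.node 13946 (.leaf 0x230643837) (.leaf 0x230643837)))) (.node 13949 (.node 13948 (.leaf 0x230643837) (.leaf 0x230643837)) (.node 13950 (.leaf 0x230643837) (.node 13951 (.leaf 0x230643837) (.leaf 0x230643837))))))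

def candS_690 : Store := (.node 13962 (.node 13957 (.node 13954 (.node 13953 (.leaf 0x230643837) (.leaf 0x230643837)) (.node 13955 (.leaf 0x230643837) (.node 13956 (.leaf 0x230643837) (.leaf 0x38230643837)))) (.node 13959 (.node 13958 (.leaf 0x38230643837) (.leaf 0x38230643837)) (.node 13960 (.leaf 0x38230643837) (.node 13961 (.leaf 0x38230643837) (.leaf 0x38230643837))))) (.node 13967 (.node 13964 (.node 13963 (.leaf 0x38230643837) (.leaf 0x38230643837)) (.node 13965 (.leaf 0x38230643837) (.node 13966 (.leaf 0x38230643837) (.leaf 0x38230643837)))) (.node 13969 (.node 13968 (.leaf 0x38230643837) (.leaf 0x4c09c3837)) (.node 13970 (.leaf 0x4c09c3837) (.node 13971 (.leaf 0x4c09c3837) (.leaf 0x4c09c3837))))))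

def candS_691 : Store := (.node 13982 (.node 13977 (.node 13974 (.node 13973 (.leaf 0x4c09c3837) (.leaf 0x4c09c3837)) (.node 13975 (.leaf 0x4c09c3837) (.node 13976 (.leaf 0x4c09c3837) (.leaf 0x4c09c3837)))) (.node 13979 (.node 13978 (.leaf 0x4c09c3837) (.leaf 0x4c09c3837)) (.node 13980 (.leaf 0x4c09c3837) (.node 13981 (.leaf 0x444c09c3837) (.leaf 0x444c09c3837))))) (.node 13987 (.node 13984 (.node 13983 (.leaf 0x444c09c3837) (.leaf 0x444c09c3837)) (.node 13985 (.leaf 0x444c09c3837) (.node 13986 (.leaf 0x444c09c3837) (.leaf 0x444c09c3837)))) (.node 13989 (.node 13988 (.leaf 0x444c09c3837) (.leaf 0x444c09c3837)) (.node 13990 (.leaf 0x444c09c3837) (.node 13991 (.leaf 0x444c09c3837) (.leaf 0x444c09c3837))))))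

def candS_692 : Store := (.node 14002 (.node 13997 (.node 13994 (.node 13993 (.leaf 0x4c09c3837) (.leaf 0x4c09c3837)) (.node 13995 (.leaf 0x4c09c3837) (.node 13996 (.leaf 0x4c09c3837) (.leaf 0x4c09c3837)))) (.node 13999 (.node 13998 (.leaf 0x4c09c3837) (.leaf 0x4c09c3837)) (.node 14000 (.leaf 0x4c09c3837) (.node 14001 (.leaf 0x4c09c3837) (.leaf 0x4c09c3837))))) (.node 14007 (.node 14004 (.node 14003 (.leaf 0x4c09c3837) (.leaf 0x4c09c3837)) (.node 14005 (.leaf 0x4c09c3837) (.node 14006 (.leaf 0x4c09c3837) (.leaf 0x4c09c3837)))) (.node 14010 (.node 14008 (.leaf 0x4c09c3837) (.node 14009 (.leaf 0x4c09c3837) (.leaf 0x4c09c3837))) (.node 14011 (.leaf 0x4c09c3837) (.node 14012 (.leaf 0x4c09c3837) (.leaf 0x4c09c3837))))))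

def candS_693 : Store := (.node 14023 (.node 14018 (.node 14015 (.node 14014 (.leaf 0x4c09c3837) (.leaf 0x4c09c3837)) (.node 14016 (.leaf 0x4c09c3837) (.node 14017 (.leaf 0x124c09c3837) (.leaf 0x124c09c3837)))) (.node 14020 (.node 14019 (.leaf 0x28a) (.leaf 0x124c09c3837)) (.node 14021 (.leaf 0x38) (.node 14022 (.leaf 0x276) (.leaf 0x124c09c3837))))) (.node 14028 (.node 14025 (.node 14024 (.leaf 0x180) (.leaf 0x124c09c3837)) (.node 14026 (.leaf 0x124c09c3837) (.node 14027 (.leaf 0x124c09c3837) (.leaf 0x124c09c3837)))) (.node 14030 (.node 14029 (.leaf 0x4c09c3837) (.leaf 0x4c09c3837)) (.node 14031 (.leaf 0x4c09c3837) (.node 14032 (.leaf 0x4c09c3837) (.leaf 0x4c09c3837))))))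

def candS_694 : Store := (.node 14043 (.node 14038 (.node 14035 (.node 14034 (.leaf 0x4c09c3837) (.leaf 0x4c09c3837)) (.node 14036 (.leaf 0x4c09c3837) (.node 14037 (.leaf 0x4c09c3837) (.leaf 0x4c09c3837)))) (.node 14040 (.node 14039 (.leaf 0x4c09c3837) (.leaf 0x4c09c3837)) (.node 14041 (.leaf 0x2a4c09c3837) (.node 14042 (.leaf 0x2a4c09c3837) (.leaf 0x2a4c09c3837))))) (.node 14048 (.node 14045 (.node 14044 (.leaf 0x2a4c09c3837) (.leaf 0x2a4c09c3837)) (.node 14046 (.leaf 0x2a4c09c3837) (.node 14047 (.leaf 0x2a4c09c3837) (.leaf 0x2a4c09c3837)))) (.node 14050 (.node 14049 (.leaf 0x2a4c09c3837) (.leaf 0x2a4c09c3837)) (.node 14051 (.leaf 0x2a4c09c3837) (.node 14052 (.leaf 0x2a4c09c3837) (.leaf 0x1c4c09c3837))))))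

def candS_695 : Store := (.node 14063 (.node 14058 (.node 14055 (.node 14054 (.leaf 0x1c4c09c3837) (.leaf 0x1c4c09c3837)) (.node 14056 (.leaf 0x1c4c09c3837) (.node 14057 (.leaf 0x1c4c09c3837) (.leaf 0x1c4c09c3837)))) (.node 14060 (.node 14059 (.leaf 0x1c4c09c3837) (.leaf 0x1c4c09c3837)) (.node 14061 (.leaf 0x1c4c09c3837) (.node 14062 (.leaf 0x1c4c09c3837) (.leaf 0x1c4c09c3837))))) (.node 14068 (.node 14065 (.node 14064 (.leaf 0x1c4c09c3837) (.leaf 0x2c4c09c3837)) (.node 14066 (.leaf 0x2c4c09c3837) (.node 14067 (.leaf 0x2c4c09c3837) (.leaf 0x2c4c09c3837)))) (.node 14070 (.node 14069 (.leaf 0x2c4c09c3837) (.leaf 0x2c4c09c3837)) (.node 14071 (.leaf 0x2c4c09c3837) (.node 14072 (.leaf 0x2c4c09c3837) (.leaf 0x2c4c09c3837))))))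

def candS_696 : Store := (.node 14083 (.node 14078 (.node 14075 (.node 14074 (.leaf 0x2c4c09c3837) (.leaf 0x2c4c09c3837)) (.node 14076 (.leaf 0x2c4c09c3837) (.node 14077 (.leaf 0x5800464c09c3837) (.leaf 0x464c09c3837)))) (.node 14080 (.node 14079 (.leaf 0x464c09c3837) (.leaf 0x464c09c3837)) (.node 14081 (.leaf 0x464c09c3837) (.node 14082 (.leaf 0x464c09c3837) (.leaf 0x800464c09c3837))))) (.node 14088 (.node 14085 (.node 14084 (.leaf 0x464c09c3837) (.leaf 0x6800464c09c3837)) (.node 14086 (.leaf 0x464c09c3837) (.node 14087 (.leaf 0x464c09c3837) (.leaf 0x5000464c09c3837)))) (.node 14091 (.node 14089 (.leaf 0x4c09c3837) (.node 14090 (.leaf 0x4c09c3837) (.leaf 0x4c09c3837))) (.node 14092 (.leaf 0x4c09c3837) (.node 14093 (.leaf 0x4c09c3837) (.leaf 0x4c09c3837))))))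

def candS_697 : Store := (.node 14104 (.node 14099 (.node 14096 (.node 14095 (.leaf 0x4c09c3837) (.leaf 0x4c09c3837)) (.node 14097 (.leaf 0x4c09c3837) (.node 14098 (.leaf 0x4c09c3837) (.leaf 0x4c09c3837)))) (.node 14101 (.node 14100 (.leaf 0x4c09c3837) (.leaf 0x4c09c3837)) (.node 14102 (.leaf 0x4c09c3837) (.node 14103 (.leaf 0x4c09c3837) (.leaf 0x4c09c3837))))) (.node 14109 (.node 14106 (.node 14105 (.leaf 0x4c09c3837) (.leaf 0x4c09c3837)) (.node 14107 (.leaf 0x4c09c3837) (.node 14108 (.leaf 0x4c09c3837) (.leaf 0x4c09c3837)))) (.node 14111 (.node 14110 (.leaf 0x4c09c3837) (.leaf 0x4c09c3837)) (.node 14112 (.leaf 0x4c09c3837) (.node 14113 (.leaf 0x82243837) (.leaf 0x82243837))))))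

def candS_698 : Store := (.node 14124 (.node 14119 (.node 14116 (.node 14115 (.leaf 0x82243837) (.leaf 0x82243837)) (.node 14117 (.leaf 0x82243837) (.node 14118 (.leaf 0x82243837) (.leaf 0x82243837)))) (.node 14121 (.node 14120 (.leaf 0x82243837) (.leaf 0x82243837)) (.node 14122 (.leaf 0x82243837) (.node 14123 (.leaf 0x82243837) (.leaf 0x82243837))))) (.node 14129 (.node 14126 (.node 14125 (.leaf 0x2082243837) (.leaf 0x2082243837)) (.node 14127 (.leaf 0x2082243837) (.node 14128 (.leaf 0x2082243837) (.leaf 0x2082243837)))) (.node 14131 (.node 14130 (.leaf 0x2082243837) (.leaf 0x2082243837)) (.node 14132 (.leaf 0x2082243837) (.node 14133 (.leaf 0x2082243837) (.leaf 0x2082243837))))))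

def candS_699 : Store := (.node 14144 (.node 14139 (.node 14136 (.node 14135 (.leaf 0x2082243837) (.leaf 0x2082243837)) (.node 14137 (.leaf 0x82243837) (.node 14138 (.leaf 0x82243837) (.leaf 0x82243837)))) (.node 14141 (.node 14140 (.leaf 0x82243837) (.leaf 0x82243837)) (.node 14142 (.leaf 0x82243837) (.node 14143 (.leaf 0x82243837) (.leaf 0x82243837))))) (.node 14149 (.node 14146 (.node 14145 (.leaf 0x82243837) (.leaf 0x82243837)) (.node 14147 (.leaf 0x82243837) (.node 14148 (.leaf 0x82243837) (.leaf 0x16082243837)))) (.node 14151 (.node 14150 (.leaf 0x16082243837) (.leaf 0x16082243837)) (.node 14152 (.leaf 0x16082243837) (.node 14153 (.leaf 0x16082243837) (.leaf 0x16082243837))))))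

def candS_700 : Store := (.node 14164 (.node 14159 (.node 14156 (.node 14155 (.leaf 0x16082243837) (.leaf 0x16082243837)) (.node 14157 (.leaf 0x16082243837) (.node 14158 (.leaf 0x16082243837) (.leaf 0x16082243837)))) (.node 14161 (.node 14160 (.leaf 0x16082243837) (.leaf 0x1a082243837)) (.node 14162 (.leaf 0x31e) (.node 14163 (.leaf 0x1a082243837) (.leaf 0x1a082243837))))) (.node 14169 (.node 14166 (.node 14165 (.leaf 0x17e) (.leaf 0x278)) (.node 14167 (.leaf 0x1a082243837) (.node 14168 (.leaf 0x3a) (.leaf 0x1a082243837)))) (.node 14172 (.node 14170 (.leaf 0x1a082243837) (.node 14171 (.leaf 0x1a082243837) (.leaf 0x1a082243837))) (.node 14173 (.leaf 0x600010082243837) (.node 14174 (.leaf 0x10082243837) (.leaf 0x10082243837))))))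

def candS_701 : Store := (.node 14185 (.node 14180 (.node 14177 (.node 14176 (.leaf 0x10082243837) (.leaf 0x10082243837)) (.node 14178 (.leaf 0x10082243837) (.node 14179 (.leaf 0x10082243837) (.leaf 0x10082243837)))) (.node 14182 (.node 14181 (.leaf 0x300010082243837) (.leaf 0x10082243837)) (.node 14183 (.leaf 0x200010082243837) (.node 14184 (.leaf 0x780010082243837) (.leaf 0x44082243837))))) (.node 14190 (.node 14187 (.node 14186 (.leaf 0x44082243837) (.leaf 0x44082243837)) (.node 14188 (.leaf 0x44082243837) (.node 14189 (.leaf 0x44082243837) (.leaf 0x44082243837)))) (.node 14192 (.node 14191 (.leaf 0x44082243837) (.leaf 0x44082243837)) (.node 14193 (.leaf 0x44082243837) (.node 14194 (.leaf 0x44082243837) (.leaf 0x44082243837))))))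

def candS_702 : Store := (.node 14205 (.node 14200 (.node 14197 (.node 14196 (.leaf 0x44082243837) (.leaf 0x82243837)) (.node 14198 (.leaf 0x82243837) (.node 14199 (.leaf 0x82243837) (.leaf 0x82243837)))) (.node 14202 (.node 14201 (.leaf 0x82243837) (.leaf 0x82243837)) (.node 14203 (.leaf 0x82243837) (.node 14204 (.leaf 0x82243837) (.leaf 0x82243837))))) (.node 14210 (.node 14207 (.node 14206 (.leaf 0x82243837) (.leaf 0x82243837)) (.node 14208 (.leaf 0x82243837) (.node 14209 (.leaf 0x38082243837) (.leaf 0x38082243837)))) (.node 14212 (.node 14211 (.leaf 0x38082243837) (.leaf 0x38082243837)) (.node 14213 (.leaf 0x38082243837) (.node 14214 (.leaf 0x38082243837) (.leaf 0x38082243837))))))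

def candS_703 : Store := (.node 14225 (.node 14220 (.node 14217 (.node 14216 (.leaf 0x38082243837) (.leaf 0x38082243837)) (.node 14218 (.leaf 0x38082243837) (.node 14219 (.leaf 0x38082243837) (.leaf 0x38082243837)))) (.node 14222 (.node 14221 (.leaf 0x82243837) (.leaf 0x82243837)) (.node 14223 (.leaf 0x82243837) (.node 14224 (.leaf 0x82243837) (.leaf 0x82243837))))) (.node 14230 (.node 14227 (.node 14226 (.leaf 0x82243837) (.leaf 0x82243837)) (.node 14228 (.leaf 0x82243837) (.node 14229 (.leaf 0x82243837) (.leaf 0x82243837)))) (.node 14232 (.node 14231 (.leaf 0x82243837) (.leaf 0x82243837)) (.node 14233 (.leaf 0x82243837) (.node 14234 (.leaf 0x82243837) (.leaf 0x82243837))))))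

def candS_704 : Store := (.node 14245 (.node 14240 (.node 14237 (.node 14236 (.leaf 0x82243837) (.leaf 0x82243837)) (.node 14238 (.leaf 0x82243837) (.node 14239 (.leaf 0x82243837) (.leaf 0x82243837)))) (.node 14242 (.node 14241 (.leaf 0x82243837) (.leaf 0x82243837)) (.node 14243 (.leaf 0x82243837) (.node 14244 (.leaf 0x82243837) (.leaf 0x82243837))))) (.node 14250 (.node 14247 (.node 14246 (.leaf 0x82243837) (.leaf 0x82243837)) (.node 14248 (.leaf 0x82243837) (.node 14249 (.leaf 0x82243837) (.leaf 0x82243837)))) (.node 14253 (.node 14251 (.leaf 0x82243837) (.node 14252 (.leaf 0x82243837) (.leaf 0x82243837))) (.node 14254 (.leaf 0x82243837) (.node 14255 (.leaf 0x82243837) (.leaf 0x82243837))))))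

def candS_705 : Store := (.node 14266 (.node 14261 (.node 14258 (.node 14257 (.leaf 0x3c3d19c3837) (.leaf 0x3c3d19c3837)) (.node 14259 (.leaf 0x3c3d19c3837) (.node 14260 (.leaf 0x3c3d19c3837) (.leaf 0x3c3d19c3837)))) (.node 14263 (.node 14262 (.leaf 0x3c3d19c3837) (.leaf 0x3c3d19c3837)) (.node 14264 (.leaf 0x3c3d19c3837) (.node 14265 (.leaf 0x3c3d19c3837) (.leaf 0x3c3d19c3837))))) (.node 14271 (.node 14268 (.node 14267 (.leaf 0x3c3d19c3837) (.leaf 0x3c3d19c3837)) (.node 14269 (.leaf 0x423d19c3837) (.node 14270 (.leaf 0x423d19c3837) (.leaf 0x423d19c3837)))) (.node 14273 (.node 14272 (.leaf 0x423d19c3837) (.leaf 0x423d19c3837)) (.node 14274 (.leaf 0x423d19c3837) (.node 14275 (.leaf 0x423d19c3837) (.leaf 0x423d19c3837))))))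

def candS_706 : Store := (.node 14286 (.node 14281 (.node 14278 (.node 14277 (.leaf 0x423d19c3837) (.leaf 0x423d19c3837)) (.node 14279 (.leaf 0x423d19c3837) (.node 14280 (.leaf 0x423d19c3837) (.leaf 0x3d19c3837)))) (.node 14283 (.node 14282 (.leaf 0x3d19c3837) (.leaf 0x3d19c3837)) (.node 14284 (.leaf 0x3d19c3837) (.node 14285 (.leaf 0x3d19c3837) (.leaf 0x3d19c3837))))) (.node 14291 (.node 14288 (.node 14287 (.leaf 0x3d19c3837) (.leaf 0x3d19c3837)) (.node 14289 (.leaf 0x3d19c3837) (.node 14290 (.leaf 0x3d19c3837) (.leaf 0x3d19c3837)))) (.node 14293 (.node 14292 (.leaf 0x3d19c3837) (.leaf 0x1c3d19c3837)) (.node 14294 (.leaf 0x1c3d19c3837) (.node 14295 (.leaf 0x1c3d19c3837) (.leaf 0x1c3d19c3837))))))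

def candS_707 : Store := (.node 14306 (.node 14301 (.node 14298 (.node 14297 (.leaf 0x1c3d19c3837) (.leaf 0x1c3d19c3837)) (.node 14299 (.leaf 0x1c3d19c3837) (.node 14300 (.leaf 0x1c3d19c3837) (.leaf 0x1c3d19c3837)))) (.node 14303 (.node 14302 (.leaf 0x1c3d19c3837) (.leaf 0x1c3d19c3837)) (.node 14304 (.leaf 0x1c3d19c3837) (.node 14305 (.leaf 0x3d19c3837) (.leaf 0x3d19c3837))))) (.node 14311 (.node 14308 (.node 14307 (.leaf 0x3d19c3837) (.leaf 0x3d19c3837)) (.node 14309 (.leaf 0x3d19c3837) (.node 14310 (.leaf 0x3d19c3837) (.leaf 0x3d19c3837)))) (.node 14313 (.node 14312 (.leaf 0x3d19c3837) (.leaf 0x3d19c3837)) (.node 14314 (.leaf 0x3d19c3837) (.node 14315 (.leaf 0x3d19c3837) (.leaf 0x3d19c3837))))))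

def candS_708 : Store := (.node 14326 (.node 14321 (.node 14318 (.node 14317 (.leaf 0x3d19c3837) (.leaf 0x3d19c3837)) (.node 14319 (.leaf 0x3d19c3837) (.node 14320 (.leaf 0x3d19c3837) (.leaf 0x3d19c3837)))) (.node 14323 (.node 14322 (.leaf 0x3d19c3837) (.leaf 0x3d19c3837)) (.node 14324 (.leaf 0x3d19c3837) (.node 14325 (.leaf 0x3d19c3837) (.leaf 0x3d19c3837))))) (.node 14331 (.node 14328 (.node 14327 (.leaf 0x3d19c3837) (.leaf 0x3d19c3837)) (.node 14329 (.leaf 0x3a3d19c3837) (.node 14330 (.leaf 0x3a3d19c3837) (.leaf 0x3a3d19c3837)))) (.node 14334 (.node 14332 (.leaf 0x3a3d19c3837) (.node 14333 (.leaf 0x3a3d19c3837) (.leaf 0x3a3d19c3837))) (.node 14335 (.leaf 0x3a3d19c3837) (.node 14336 (.leaf 0x3a3d19c3837) (.leaf 0x3a3d19c3837))))))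

def candS_709 : Store := (.node 14347 (.node 14342 (.node 14339 (.node 14338 (.leaf 0x3a3d19c3837) (.leaf 0x3a3d19c3837)) (.node 14340 (.leaf 0x3a3d19c3837) (.node 14341 (.leaf 0x63d19c3837) (.leaf 0x63d19c3837)))) (.node 14344 (.node 14343 (.leaf 0x63d19c3837) (.leaf 0x63d19c3837)) (.node 14345 (.leaf 0x63d19c3837) (.node 14346 (.leaf 0x63d19c3837) (.leaf 0x63d19c3837))))) (.node 14352 (.node 14349 (.node 14348 (.leaf 0x63d19c3837) (.leaf 0x63d19c3837)) (.node 14350 (.leaf 0x63d19c3837) (.node 14351 (.leaf 0x63d19c3837) (.leaf 0x63d19c3837)))) (.node 14354 (.node 14353 (.leaf 0x143d19c3837) (.leaf 0x143d19c3837)) (.node 14355 (.leaf 0x143d19c3837) (.node 14356 (.leaf 0x143d19c3837) (.leaf 0x143d19c3837))))))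

def candS_710 : Store := (.node 14367 (.node 14362 (.node 14359 (.node 14358 (.leaf 0x143d19c3837) (.leaf 0x143d19c3837)) (.node 14360 (.leaf 0x143d19c3837) (.node 14361 (.leaf 0x143d19c3837) (.leaf 0x143d19c3837)))) (.node 14364 (.node 14363 (.leaf 0x143d19c3837) (.leaf 0x143d19c3837)) (.node 14365 (.leaf 0x3d19c3837) (.node 14366 (.leaf 0x3d19c3837) (.leaf 0x3d19c3837))))) (.node 14372 (.node 14369 (.node 14368 (.leaf 0x3d19c3837) (.leaf 0x3d19c3837)) (.node 14370 (.leaf 0x3d19c3837) (.node 14371 (.leaf 0x3d19c3837) (.leaf 0x3d19c3837)))) (.node 14374 (.node 14373 (.leaf 0x3d19c3837) (.leaf 0x3d19c3837)) (.node 14375 (.leaf 0x3d19c3837) (.node 14376 (.leaf 0x3d19c3837) (.leaf 0x3d19c3837))))))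

def candS_711 : Store := (.node 14387 (.node 14382 (.node 14379 (.node 14378 (.leaf 0x3d19c3837) (.leaf 0x3d19c3837)) (.node 14380 (.leaf 0x3d19c3837) (.node 14381 (.leaf 0x3d19c3837) (.leaf 0x3d19c3837)))) (.node 14384 (.node 14383 (.leaf 0x3d19c3837) (.leaf 0x3d19c3837)) (.node 14385 (.leaf 0x3d19c3837) (.node 14386 (.leaf 0x3d19c3837) (.leaf 0x3d19c3837))))) (.node 14392 (.node 14389 (.node 14388 (.leaf 0x3d19c3837) (.leaf 0x3d19c3837)) (.node 14390 (.leaf 0x3d19c3837) (.node 14391 (.leaf 0x3d19c3837) (.leaf 0x3d19c3837)))) (.node 14394 (.node 14393 (.leaf 0x3d19c3837) (.leaf 0x3d19c3837)) (.node 14395 (.leaf 0x3d19c3837) (.node 14396 (.leaf 0x3d19c3837) (.leaf 0x3d19c3837))))))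

def candS_712 : Store := (.node 14407 (.node 14402 (.node 14399 (.node 14398 (.leaf 0x3d19c3837) (.leaf 0x3d19c3837)) (.node 14400 (.leaf 0x3d19c3837) (.node 14401 (.leaf 0x3933c3837) (.leaf 0x3933c3837)))) (.node 14404 (.node 14403 (.leaf 0x3933c3837) (.leaf 0x3933c3837)) (.node 14405 (.leaf 0x3933c3837) (.node 14406 (.leaf 0x3933c3837) (.leaf 0x3933c3837))))) (.node 14412 (.node 14409 (.node 14408 (.leaf 0x3933c3837) (.leaf 0x3933c3837)) (.node 14410 (.leaf 0x3933c3837) (.node 14411 (.leaf 0x3933c3837) (.leaf 0x3933c3837)))) (.node 14415 (.node 14413 (.leaf 0x1e3933c3837) (.node 14414 (.leaf 0x1e3933c3837) (.leaf 0x1e3933c3837))) (.node 14416 (.leaf 0x1e3933c3837) (.node 14417 (.leaf 0x1e3933c3837) (.leaf 0x1e3933c3837))))))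

def candS_713 : Store := (.node 14428 (.node 14423 (.node 14420 (.node 14419 (.leaf 0x1e3933c3837) (.leaf 0x1e3933c3837)) (.node 14421 (.leaf 0x1e3933c3837) (.node 14422 (.leaf 0x1e3933c3837) (.leaf 0x1e3933c3837)))) (.node 14425 (.node 14424 (.leaf 0x1e3933c3837) (.leaf 0x8800423933c3837)) (.node 14426 (.leaf 0x423933c3837) (.node 14427 (.leaf 0x423933c3837) (.leaf 0x423933c3837))))) (.node 14433 (.node 14430 (.node 14429 (.leaf 0x423933c3837) (.leaf 0x423933c3837)) (.node 14431 (.leaf 0x1000423933c3837) (.node 14432 (.leaf 0x423933c3837) (.leaf 0x4000423933c3837)))) (.node 14435 (.node 14434 (.leaf 0x423933c3837) (.leaf 0x4800423933c3837)) (.node 14436 (.leaf 0x423933c3837) (.node 14437 (.leaf 0x2e3933c3837) (.leaf 0x2e3933c3837))))))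

def candS_714 : Store := (.node 14448 (.node 14443 (.node 14440 (.node 14439 (.leaf 0x2e3933c3837) (.leaf 0x2e3933c3837)) (.node 14441 (.leaf 0x2e3933c3837) (.node 14442 (.leaf 0x2e3933c3837) (.leaf 0x2e3933c3837)))) (.node 14445 (.node 14444 (.leaf 0x2e3933c3837) (.leaf 0x2e3933c3837)) (.node 14446 (.leaf 0x2e3933c3837) (.node 14447 (.leaf 0x2e3933c3837) (.leaf 0x2e3933c3837))))) (.node 14453 (.node 14450 (.node 14449 (.leaf 0x2a3933c3837) (.leaf 0x22)) (.node 14451 (.leaf 0x294) (.node 14452 (.leaf 0x2a3933c3837) (.leaf 0x2a3933c3837)))) (.node 14455 (.node 14454 (.leaf 0x17a) (.leaf 0x2a3933c3837)) (.node 14456 (.leaf 0x32e) (.node 14457 (.leaf 0x2a3933c3837) (.leaf 0x2a3933c3837))))))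

def candS_715 : Store := (.node 14468 (.node 14463 (.node 14460 (.node 14459 (.leaf 0x2a3933c3837) (.leaf 0x2a3933c3837)) (.node 14461 (.leaf 0x3933c3837) (.node 14462 (.leaf 0x3933c3837) (.leaf 0x3933c3837)))) (.node 14465 (.node 14464 (.leaf 0x3933c3837) (.leaf 0x3933c3837)) (.node 14466 (.leaf 0x3933c3837) (.node 14467 (.leaf 0x3933c3837) (.leaf 0x3933c3837))))) (.node 14473 (.node 14470 (.node 14469 (.leaf 0x3933c3837) (.leaf 0x3933c3837)) (.node 14471 (.leaf 0x3933c3837) (.node 14472 (.leaf 0x3933c3837) (.leaf 0x1a3933c3837)))) (.node 14475 (.node 14474 (.leaf 0x1a3933c3837) (.leaf 0x1a3933c3837)) (.node 14476 (.leaf 0x1a3933c3837) (.node 14477 (.leaf 0x1a3933c3837) (.leaf 0x1a3933c3837))))))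

def candS_716 : Store := (.node 14488 (.node 14483 (.node 14480 (.node 14479 (.leaf 0x1a3933c3837) (.leaf 0x1a3933c3837)) (.node 14481 (.leaf 0x1a3933c3837) (.node 14482 (.leaf 0x1a3933c3837) (.leaf 0x1a3933c3837)))) (.node 14485 (.node 14484 (.leaf 0x1a3933c3837) (.leaf 0x3c3933c3837)) (.node 14486 (.leaf 0x3c3933c3837) (.node 14487 (.leaf 0x3c3933c3837) (.leaf 0x3c3933c3837))))) (.node 14493 (.node 14490 (.node 14489 (.leaf 0x3c3933c3837) (.leaf 0x3c3933c3837)) (.node 14491 (.leaf 0x3c3933c3837) (.node 14492 (.leaf 0x3c3933c3837) (.leaf 0x3c3933c3837)))) (.node 14496 (.node 14494 (.leaf 0x3c3933c3837) (.node 14495 (.leaf 0x3c3933c3837) (.leaf 0x3c3933c3837))) (.node 14497 (.leaf 0x3933c3837) (.node 14498 (.leaf 0x3933c3837) (.leaf 0x3933c3837))))))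

def candS_717 : Store := (.node 14509 (.node 14504 (.node 14501 (.node 14500 (.leaf 0x3933c3837) (.leaf 0x3933c3837)) (.node 14502 (.leaf 0x3933c3837) (.node 14503 (.leaf 0x3933c3837) (.leaf 0x3933c3837)))) (.node 14506 (.node 14505 (.leaf 0x3933c3837) (.leaf 0x3933c3837)) (.node 14507 (.leaf 0x3933c3837) (.node 14508 (.leaf 0x3933c3837) (.leaf 0x3933c3837))))) (.node 14514 (.node 14511 (.node 14510 (.leaf 0x3933c3837) (.leaf 0x3933c3837)) (.node 14512 (.leaf 0x3933c3837) (.node 14513 (.leaf 0x3933c3837) (.leaf 0x3933c3837)))) (.node 14516 (.node 14515 (.leaf 0x3933c3837) (.leaf 0x3933c3837)) (.node 14517 (.leaf 0x3933c3837) (.node 14518 (.leaf 0x3933c3837) (.leaf 0x3933c3837))))))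

def candS_718 : Store := (.node 14529 (.node 14524 (.node 14521 (.node 14520 (.leaf 0x3933c3837) (.leaf 0x3933c3837)) (.node 14522 (.leaf 0x3933c3837) (.node 14523 (.leaf 0x3933c3837) (.leaf 0x3933c3837)))) (.node 14526 (.node 14525 (.leaf 0x3933c3837) (.leaf 0x3933c3837)) (.node 14527 (.leaf 0x3933c3837) (.node 14528 (.leaf 0x3933c3837) (.leaf 0x3933c3837))))) (.node 14534 (.node 14531 (.node 14530 (.leaf 0x3933c3837) (.leaf 0x3933c3837)) (.node 14532 (.leaf 0x3933c3837) (.node 14533 (.leaf 0x3933c3837) (.leaf 0x3933c3837)))) (.node 14536 (.node 14535 (.leaf 0x3933c3837) (.leaf 0x3933c3837)) (.node 14537 (.leaf 0x3933c3837) (.node 14538 (.leaf 0x3933c3837) (.leaf 0x3933c3837))))))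

def candS_719 : Store := (.node 14549 (.node 14544 (.node 14541 (.node 14540 (.leaf 0x3933c3837) (.leaf 0x3933c3837)) (.node 14542 (.leaf 0x3933c3837) (.node 14543 (.leaf 0x3933c3837) (.leaf 0x3933c3837)))) (.node 14546 (.node 14545 (.leaf 0x472c43837) (.leaf 0x472c43837)) (.node 14547 (.leaf 0x472c43837) (.node 14548 (.leaf 0x472c43837) (.leaf 0x472c43837))))) (.node 14554 (.node 14551 (.node 14550 (.leaf 0x472c43837) (.leaf 0x472c43837)) (.node 14552 (.leaf 0x472c43837) (.node 14553 (.leaf 0x472c43837) (.leaf 0x472c43837)))) (.node 14556 (.node 14555 (.leaf 0x472c43837) (.leaf 0x472c43837)) (.node 14557 (.leaf 0x472c43837) (.node 14558 (.leaf 0x472c43837) (.leaf 0x472c43837))))))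

def candS_720 : Store := (.node 14569 (.node 14564 (.node 14561 (.node 14560 (.leaf 0x472c43837) (.leaf 0x472c43837)) (.node 14562 (.leaf 0x472c43837) (.node 14563 (.leaf 0x472c43837) (.leaf 0x472c43837)))) (.node 14566 (.node 14565 (.leaf 0x472c43837) (.leaf 0x472c43837)) (.node 14567 (.leaf 0x472c43837) (.node 14568 (.leaf 0x472c43837) (.leaf 0x472c43837))))) (.node 14574 (.node 14571 (.node 14570 (.leaf 0x472c43837) (.leaf 0x472c43837)) (.node 14572 (.leaf 0x472c43837) (.node 14573 (.leaf 0x472c43837) (.leaf 0x472c43837)))) (.node 14577 (.node 14575 (.leaf 0x472c43837) (.node 14576 (.leaf 0x472c43837) (.leaf 0x472c43837))) (.node 14578 (.leaf 0x472c43837) (.node 14579 (.leaf 0x472c43837) (.leaf 0x472c43837))))))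

def candS_721 : Store := (.node 14590 (.node 14585 (.node 14582 (.node 14581 (.leaf 0x1c472c43837) (.leaf 0x1c472c43837)) (.node 14583 (.leaf 0x1c472c43837) (.node 14584 (.leaf 0x1c472c43837) (.leaf 0x1c472c43837)))) (.node 14587 (.node 14586 (.leaf 0x1c472c43837) (.leaf 0x1c472c43837)) (.node 14588 (.leaf 0x1c472c43837) (.node 14589 (.leaf 0x1c472c43837) (.leaf 0x1c472c43837))))) (.node 14595 (.node 14592 (.node 14591 (.leaf 0x1c472c43837) (.leaf 0x1c472c43837)) (.node 14593 (.leaf 0x2e472c43837) (.node 14594 (.leaf 0x2be) (.leaf 0x140)))) (.node 14597 (.node 14596 (.leaf 0x2e472c43837) (.leaf 0x10e)) (.node 14598 (.leaf 0x2e472c43837) (.node 14599 (.leaf 0x2e472c43837) (.leaf 0xe))))))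

def candS_722 : Store := (.node 14610 (.node 14605 (.node 14602 (.node 14601 (.leaf 0x2e472c43837) (.leaf 0x2e472c43837)) (.node 14603 (.leaf 0x2e472c43837) (.node 14604 (.leaf 0x2e472c43837) (.leaf 0x472c43837)))) (.node 14607 (.node 14606 (.leaf 0x472c43837) (.leaf 0x472c43837)) (.node 14608 (.leaf 0x472c43837) (.node 14609 (.leaf 0x472c43837) (.leaf 0x472c43837))))) (.node 14615 (.node 14612 (.node 14611 (.leaf 0x472c43837) (.leaf 0x472c43837)) (.node 14613 (.leaf 0x472c43837) (.node 14614 (.leaf 0x472c43837) (.leaf 0x472c43837)))) (.node 14617 (.node 14616 (.leaf 0x472c43837) (.leaf 0x40472c43837)) (.node 14618 (.leaf 0x40472c43837) (.node 14619 (.leaf 0x40472c43837) (.leaf 0x40472c43837))))))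

def candS_723 : Store := (.node 14630 (.node 14625 (.node 14622 (.node 14621 (.leaf 0x40472c43837) (.leaf 0x40472c43837)) (.node 14623 (.leaf 0x40472c43837) (.node 14624 (.leaf 0x40472c43837) (.leaf 0x40472c43837)))) (.node 14627 (.node 14626 (.leaf 0x40472c43837) (.leaf 0x40472c43837)) (.node 14628 (.leaf 0x40472c43837) (.node 14629 (.leaf 0xc472c43837) (.leaf 0xc472c43837))))) (.node 14635 (.node 14632 (.node 14631 (.leaf 0xc472c43837) (.leaf 0xc472c43837)) (.node 14633 (.leaf 0xc472c43837) (.node 14634 (.leaf 0xc472c43837) (.leaf 0xc472c43837)))) (.node 14637 (.node 14636 (.leaf 0xc472c43837) (.leaf 0xc472c43837)) (.node 14638 (.leaf 0xc472c43837) (.node 14639 (.leaf 0xc472c43837) (.leaf 0xc472c43837))))))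

def candS_724 : Store := (.node 14650 (.node 14645 (.node 14642 (.node 14641 (.leaf 0x18472c43837) (.leaf 0x18472c43837)) (.node 14643 (.leaf 0x18472c43837) (.node 14644 (.leaf 0x18472c43837) (.leaf 0x18472c43837)))) (.node 14647 (.node 14646 (.leaf 0x18472c43837) (.leaf 0x18472c43837)) (.node 14648 (.leaf 0x18472c43837) (.node 14649 (.leaf 0x18472c43837) (.leaf 0x18472c43837))))) (.node 14655 (.node 14652 (.node 14651 (.leaf 0x18472c43837) (.leaf 0x18472c43837)) (.node 14653 (.leaf 0x472c43837) (.node 14654 (.leaf 0x472c43837) (.leaf 0x472c43837)))) (.node 14658 (.node 14656 (.leaf 0x472c43837) (.node 14657 (.leaf 0x472c43837) (.leaf 0x472c43837))) (.node 14659 (.leaf 0x472c43837) (.node 14660 (.leaf 0x472c43837) (.leaf 0x472c43837))))))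

def candS_725 : Store := (.node 14671 (.node 14666 (.node 14663 (.node 14662 (.leaf 0x472c43837) (.leaf 0x472c43837)) (.node 14664 (.leaf 0x472c43837) (.node 14665 (.leaf 0x22472c43837) (.leaf 0x22472c43837)))) (.node 14668 (.node 14667 (.leaf 0x22472c43837) (.leaf 0x22472c43837)) (.node 14669 (.leaf 0x22472c43837) (.node 14670 (.leaf 0x22472c43837) (.leaf 0x200022472c43837))))) (.node 14676 (.node 14673 (.node 14672 (.leaf 0x22472c43837) (.leaf 0x300022472c43837)) (.node 14674 (.leaf 0x22472c43837) (.node 14675 (.leaf 0x780022472c43837) (.leaf 0x600022472c43837)))) (.node 14678 (.node 14677 (.leaf 0x472c43837) (.leaf 0x472c43837)) (.node 14679 (.leaf 0x472c43837) (.node 14680 (.leaf 0x472c43837) (.leaf 0x472c43837))))))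

def candS_726 : Store := (.node 14691 (.node 14686 (.node 14683 (.node 14682 (.leaf 0x472c43837) (.leaf 0x472c43837)) (.node 14684 (.leaf 0x472c43837) (.node 14685 (.leaf 0x472c43837) (.leaf 0x472c43837)))) (.node 14688 (.node 14687 (.leaf 0x472c43837) (.leaf 0x472c43837)) (.node 14689 (.leaf 0x332) (.node 14690 (.leaf 0x142337c3837) (.leaf 0x142337c3837))))) (.node 14696 (.node 14693 (.node 14692 (.leaf 0x142337c3837) (.leaf 0x142337c3837)) (.node 14694 (.leaf 0x142337c3837) (.node 14695 (.leaf 0x142337c3837) (.leaf 0x142337c3837)))) (.node 14698 (.node 14697 (.leaf 0x5a) (.leaf 0x142337c3837)) (.node 14699 (.leaf 0x26a) (.node 14700 (.leaf 0x106) (.leaf 0x2337c3837))))))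

def candS_727 : Store := (.node 14711 (.node 14706 (.node 14703 (.node 14702 (.leaf 0x2337c3837) (.leaf 0x2337c3837)) (.node 14704 (.leaf 0x2337c3837) (.node 14705 (.leaf 0x2337c3837) (.leaf 0x2337c3837)))) (.node 14708 (.node 14707 (.leaf 0x2337c3837) (.leaf 0x2337c3837)) (.node 14709 (.leaf 0x2337c3837) (.node 14710 (.leaf 0x2337c3837) (.leaf 0x2337c3837))))) (.node 14716 (.node 14713 (.node 14712 (.leaf 0x2337c3837) (.leaf 0x1c2337c3837)) (.node 14714 (.leaf 0x1c2337c3837) (.node 14715 (.leaf 0x1c2337c3837) (.leaf 0x1c2337c3837)))) (.node 14718 (.node 14717 (.leaf 0x1c2337c3837) (.leaf 0x1c2337c3837)) (.node 14719 (.leaf 0x1c2337c3837) (.node 14720 (.leaf 0x1c2337c3837) (.leaf 0x1c2337c3837))))))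

def candS_728 : Store := (.node 14731 (.node 14726 (.node 14723 (.node 14722 (.leaf 0x1c2337c3837) (.leaf 0x1c2337c3837)) (.node 14724 (.leaf 0x1c2337c3837) (.node 14725 (.leaf 0x2337c3837) (.leaf 0x2337c3837)))) (.node 14728 (.node 14727 (.leaf 0x2337c3837) (.leaf 0x2337c3837)) (.node 14729 (.leaf 0x2337c3837) (.node 14730 (.leaf 0x2337c3837) (.leaf 0x2337c3837))))) (.node 14736 (.node 14733 (.node 14732 (.leaf 0x2337c3837) (.leaf 0x2337c3837)) (.node 14734 (.leaf 0x2337c3837) (.node 14735 (.leaf 0x2337c3837) (.leaf 0x2337c3837)))) (.node 14739 (.node 14737 (.leaf 0x2337c3837) (.node 14738 (.leaf 0x2337c3837) (.leaf 0x2337c3837))) (.node 14740 (.leaf 0x2337c3837) (.node 14741 (.leaf 0x2337c3837) (.leaf 0x2337c3837))))))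

def candS_729 : Store := (.node 14752 (.node 14747 (.node 14744 (.node 14743 (.leaf 0x2337c3837) (.leaf 0x2337c3837)) (.node 14745 (.leaf 0x2337c3837) (.node 14746 (.leaf 0x2337c3837) (.leaf 0x2337c3837)))) (.node 14749 (.node 14748 (.leaf 0x2337c3837) (.leaf 0x2337c3837)) (.node 14750 (.leaf 0x2337c3837) (.node 14751 (.leaf 0x2337c3837) (.leaf 0x2337c3837))))) (.node 14757 (.node 14754 (.node 14753 (.leaf 0x2337c3837) (.leaf 0x2337c3837)) (.node 14755 (.leaf 0x2337c3837) (.node 14756 (.leaf 0x2337c3837) (.leaf 0x2337c3837)))) (.node 14759 (.node 14758 (.leaf 0x2337c3837) (.leaf 0x2337c3837)) (.node 14760 (.leaf 0x2337c3837) (.node 14761 (.leaf 0x2337c3837) (.leaf 0x2337c3837))))))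

def candS_730 : Store := (.node 14772 (.node 14767 (.node 14764 (.node 14763 (.leaf 0x2337c3837) (.leaf 0x2337c3837)) (.node 14765 (.leaf 0x2337c3837) (.node 14766 (.leaf 0x2337c3837) (.leaf 0x2337c3837)))) (.node 14769 (.node 14768 (.leaf 0x2337c3837) (.leaf 0x2337c3837)) (.node 14770 (.leaf 0x2337c3837) (.node 14771 (.leaf 0x2337c3837) (.leaf 0x2337c3837))))) (.node 14777 (.node 14774 (.node 14773 (.leaf 0x3c2337c3837) (.leaf 0x68003c2337c3837)) (.node 14775 (.leaf 0x3c2337c3837) (.node 14776 (.leaf 0x3c2337c3837) (.leaf 0x8003c2337c3837)))) (.node 14779 (.node 14778 (.leaf 0x50003c2337c3837) (.leaf 0x3c2337c3837)) (.node 14780 (.leaf 0x58003c2337c3837) (.node 14781 (.leaf 0x3c2337c3837) (.leaf 0x3c2337c3837))))))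

def candS_731 : Store := (.node 14792 (.node 14787 (.node 14784 (.node 14783 (.leaf 0x3c2337c3837) (.leaf 0x3c2337c3837)) (.node 14785 (.leaf 0x2337c3837) (.node 14786 (.leaf 0x2337c3837) (.leaf 0x2337c3837)))) (.node 14789 (.node 14788 (.leaf 0x2337c3837) (.leaf 0x2337c3837)) (.node 14790 (.leaf 0x2337c3837) (.node 14791 (.leaf 0x2337c3837) (.leaf 0x2337c3837))))) (.node 14797 (.node 14794 (.node 14793 (.leaf 0x2337c3837) (.leaf 0x2337c3837)) (.node 14795 (.leaf 0x2337c3837) (.node 14796 (.leaf 0x2337c3837) (.leaf 0x3a2337c3837)))) (.node 14799 (.node 14798 (.leaf 0x3a2337c3837) (.leaf 0x3a2337c3837)) (.node 14800 (.leaf 0x3a2337c3837) (.node 14801 (.leaf 0x3a2337c3837) (.leaf 0x3a2337c3837))))))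

def candS_732 : Store := (.node 14812 (.node 14807 (.node 14804 (.node 14803 (.leaf 0x3a2337c3837) (.leaf 0x3a2337c3837)) (.node 14805 (.leaf 0x3a2337c3837) (.node 14806 (.leaf 0x3a2337c3837) (.leaf 0x3a2337c3837)))) (.node 14809 (.node 14808 (.leaf 0x3a2337c3837) (.leaf 0x422337c3837)) (.node 14810 (.leaf 0x422337c3837) (.node 14811 (.leaf 0x422337c3837) (.leaf 0x422337c3837))))) (.node 14817 (.node 14814 (.node 14813 (.leaf 0x422337c3837) (.leaf 0x422337c3837)) (.node 14815 (.leaf 0x422337c3837) (.node 14816 (.leaf 0x422337c3837) (.leaf 0x422337c3837)))) (.node 14820 (.node 14818 (.leaf 0x422337c3837) (.node 14819 (.leaf 0x422337c3837) (.leaf 0x422337c3837))) (.node 14821 (.leaf 0x62337c3837) (.node 14822 (.leaf 0x62337c3837) (.leaf 0x62337c3837))))))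

def candS_733 : Store := (.node 14833 (.node 14828 (.node 14825 (.node 14824 (.leaf 0x62337c3837) (.leaf 0x62337c3837)) (.node 14826 (.leaf 0x62337c3837) (.node 14827 (.leaf 0x62337c3837) (.leaf 0x62337c3837)))) (.node 14830 (.node 14829 (.leaf 0x62337c3837) (.leaf 0x62337c3837)) (.node 14831 (.leaf 0x62337c3837) (.node 14832 (.leaf 0x62337c3837) (.leaf 0x242f43837))))) (.node 14838 (.node 14835 (.node 14834 (.leaf 0x242f43837) (.leaf 0x242f43837)) (.node 14836 (.leaf 0x242f43837) (.node 14837 (.leaf 0x242f43837) (.leaf 0x242f43837)))) (.node 14840 (.node 14839 (.leaf 0x242f43837) (.leaf 0x242f43837)) (.node 14841 (.leaf 0x242f43837) (.node 14842 (.leaf 0x242f43837) (.leaf 0x242f43837))))))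

def candS_734 : Store := (.node 14853 (.node 14848 (.node 14845 (.node 14844 (.leaf 0x242f43837) (.leaf 0x24242f43837)) (.node 14846 (.leaf 0x24242f43837) (.node 14847 (.leaf 0x24242f43837) (.leaf 0x24242f43837)))) (.node 14850 (.node 14849 (.leaf 0x24242f43837) (.leaf 0x24242f43837)) (.node 14851 (.leaf 0x24242f43837) (.node 14852 (.leaf 0x24242f43837) (.leaf 0x24242f43837))))) (.node 14858 (.node 14855 (.node 14854 (.leaf 0x24242f43837) (.leaf 0x24242f43837)) (.node 14856 (.leaf 0x24242f43837) (.node 14857 (.leaf 0x242f43837) (.leaf 0x242f43837)))) (.node 14860 (.node 14859 (.leaf 0x242f43837) (.leaf 0x242f43837)) (.node 14861 (.leaf 0x242f43837) (.node 14862 (.leaf 0x242f43837) (.leaf 0x242f43837))))))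

def candS_735 : Store := (.node 14873 (.node 14868 (.node 14865 (.node 14864 (.leaf 0x242f43837) (.leaf 0x242f43837)) (.node 14866 (.leaf 0x242f43837) (.node 14867 (.leaf 0x242f43837) (.leaf 0x242f43837)))) (.node 14870 (.node 14869 (.leaf 0x3e242f43837) (.leaf 0x3e242f43837)) (.node 14871 (.leaf 0x3e242f43837) (.node 14872 (.leaf 0x3e242f43837) (.leaf 0x3e242f43837))))) (.node 14878 (.node 14875 (.node 14874 (.leaf 0x3e242f43837) (.leaf 0x3e242f43837)) (.node 14876 (.leaf 0x3e242f43837) (.node 14877 (.leaf 0x3e242f43837) (.leaf 0x3e242f43837)))) (.node 14880 (.node 14879 (.leaf 0x3e242f43837) (.leaf 0x3e242f43837)) (.node 14881 (.leaf 0x42242f43837) (.node 14882 (.leaf 0x296) (.leaf 0x72))))))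

def candS_736 : Store := (.node 14893 (.node 14888 (.node 14885 (.node 14884 (.leaf 0x42242f43837) (.leaf 0x32c)) (.node 14886 (.leaf 0x178) (.node 14887 (.leaf 0x42242f43837) (.leaf 0x42242f43837)))) (.node 14890 (.node 14889 (.leaf 0x42242f43837) (.leaf 0x42242f43837)) (.node 14891 (.leaf 0x42242f43837) (.node 14892 (.leaf 0x42242f43837) (.leaf 0x242f43837))))) (.node 14898 (.node 14895 (.node 14894 (.leaf 0x242f43837) (.leaf 0x242f43837)) (.node 14896 (.leaf 0x242f43837) (.node 14897 (.leaf 0x242f43837) (.leaf 0x242f43837)))) (.node 14901 (.node 14899 (.leaf 0x242f43837) (.node 14900 (.leaf 0x242f43837) (.leaf 0x242f43837))) (.node 14902 (.leaf 0x242f43837) (.node 14903 (.leaf 0x242f43837) (.leaf 0x242f43837))))))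

def candS_737 : Store := (.node 14914 (.node 14909 (.node 14906 (.node 14905 (.leaf 0x242f43837) (.leaf 0x242f43837)) (.node 14907 (.leaf 0x242f43837) (.node 14908 (.leaf 0x242f43837) (.leaf 0x242f43837)))) (.node 14911 (.node 14910 (.leaf 0x242f43837) (.leaf 0x242f43837)) (.node 14912 (.leaf 0x242f43837) (.node 14913 (.leaf 0x242f43837) (.leaf 0x242f43837))))) (.node 14919 (.node 14916 (.node 14915 (.leaf 0x242f43837) (.leaf 0x242f43837)) (.node 14917 (.leaf 0x10242f43837) (.node 14918 (.leaf 0x10242f43837) (.leaf 0x10242f43837)))) (.node 14921 (.node 14920 (.leaf 0x10242f43837) (.leaf 0x10242f43837)) (.node 14922 (.leaf 0x10242f43837) (.node 14923 (.leaf 0x10242f43837) (.leaf 0x10242f43837))))))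

def candS_738 : Store := (.node 14934 (.node 14929 (.node 14926 (.node 14925 (.leaf 0x10242f43837) (.leaf 0x10242f43837)) (.node 14927 (.leaf 0x10242f43837) (.node 14928 (.leaf 0x10242f43837) (.leaf 0xc242f43837)))) (.node 14931 (.node 14930 (.leaf 0xc242f43837) (.leaf 0xc242f43837)) (.node 14932 (.leaf 0xc242f43837) (.node 14933 (.leaf 0xc242f43837) (.leaf 0xc242f43837))))) (.node 14939 (.node 14936 (.node 14935 (.leaf 0xc242f43837) (.leaf 0xc242f43837)) (.node 14937 (.leaf 0xc242f43837) (.node 14938 (.leaf 0xc242f43837) (.leaf 0xc242f43837)))) (.node 14941 (.node 14940 (.leaf 0xc242f43837) (.leaf 0x242f43837)) (.node 14942 (.leaf 0x242f43837) (.node 14943 (.leaf 0x242f43837) (.leaf 0x242f43837))))))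

def candS_739 : Store := (.node 14954 (.node 14949 (.node 14946 (.node 14945 (.leaf 0x242f43837) (.leaf 0x242f43837)) (.node 14947 (.leaf 0x242f43837) (.node 14948 (.leaf 0x242f43837) (.leaf 0x242f43837)))) (.node 14951 (.node 14950 (.leaf 0x242f43837) (.leaf 0x242f43837)) (.node 14952 (.leaf 0x242f43837) (.node 14953 (.leaf 0x242f43837) (.leaf 0x242f43837))))) (.node 14959 (.node 14956 (.node 14955 (.leaf 0x242f43837) (.leaf 0x242f43837)) (.node 14957 (.leaf 0x242f43837) (.node 14958 (.leaf 0x242f43837) (.leaf 0x242f43837)))) (.node 14961 (.node 14960 (.leaf 0x242f43837) (.leaf 0x242f43837)) (.node 14962 (.leaf 0x242f43837) (.node 14963 (.leaf 0x242f43837) (.leaf 0x242f43837))))))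

def candS_740 : Store := (.node 14974 (.node 14969 (.node 14966 (.node 14965 (.leaf 0x28001a242f43837) (.leaf 0x1a242f43837)) (.node 14967 (.leaf 0x1a242f43837) (.node 14968 (.leaf 0x1a242f43837) (.leaf 0x1a242f43837)))) (.node 14971 (.node 14970 (.leaf 0x1a242f43837) (.leaf 0x90001a242f43837)) (.node 14972 (.leaf 0x1a242f43837) (.node 14973 (.leaf 0x1a242f43837) (.leaf 0x1a242f43837))))) (.node 14979 (.node 14976 (.node 14975 (.leaf 0x38001a242f43837) (.leaf 0x18001a242f43837)) (.node 14977 (.leaf 0x100) (.node 14978 (.leaf 0x41e25c3837) (.leaf 0x41e25c3837)))) (.node 14982 (.node 14980 (.leaf 0x41e25c3837) (.node 14981 (.leaf 0x41e25c3837) (.leaf 0x41e25c3837))) (.node 14983 (.leaf 0xb4) (.node 14984 (.leaf 0x41e25c3837) (.leaf 0x41e25c3837))))))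

def candS_741 : Store := (.node 14995 (.node 14990 (.node 14987 (.node 14986 (.leaf 0x41e25c3837) (.leaf 0x1d4)) (.node 14988 (.leaf 0x396) (.node 14989 (.leaf 0x1e25c3837) (.leaf 0x1e25c3837)))) (.node 14992 (.node 14991 (.leaf 0x1e25c3837) (.leaf 0x1e25c3837)) (.node 14993 (.leaf 0x1e25c3837) (.node 14994 (.leaf 0x1e25c3837) (.leaf 0x1e25c3837))))) (.node 15000 (.node 14997 (.node 14996 (.leaf 0x1e25c3837) (.leaf 0x1e25c3837)) (.node 14998 (.leaf 0x1e25c3837) (.node 14999 (.leaf 0x1e25c3837) (.leaf 0x1e25c3837)))) (.node 15002 (.node 15001 (.leaf 0x21e25c3837) (.leaf 0x21e25c3837)) (.node 15003 (.leaf 0x21e25c3837) (.node 15004 (.leaf 0x21e25c3837) (.leaf 0x21e25c3837))))))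

def candS_742 : Store := (.node 15015 (.node 15010 (.node 15007 (.node 15006 (.leaf 0x21e25c3837) (.leaf 0x21e25c3837)) (.node 15008 (.leaf 0x21e25c3837) (.node 15009 (.leaf 0x21e25c3837) (.leaf 0x21e25c3837)))) (.node 15012 (.node 15011 (.leaf 0x21e25c3837) (.leaf 0x21e25c3837)) (.node 15013 (.leaf 0x1e25c3837) (.node 15014 (.leaf 0x1e25c3837) (.leaf 0x1e25c3837))))) (.node 15020 (.node 15017 (.node 15016 (.leaf 0x1e25c3837) (.leaf 0x1e25c3837)) (.node 15018 (.leaf 0x1e25c3837) (.node 15019 (.leaf 0x1e25c3837) (.leaf 0x1e25c3837)))) (.node 15022 (.node 15021 (.leaf 0x1e25c3837) (.leaf 0x1e25c3837)) (.node 15023 (.leaf 0x1e25c3837) (.node 15024 (.leaf 0x1e25c3837) (.leaf 0x1e25c3837))))))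

def candS_743 : Store := (.node 15035 (.node 15030 (.node 15027 (.node 15026 (.leaf 0x1e25c3837) (.leaf 0x1e25c3837)) (.node 15028 (.leaf 0x1e25c3837) (.node 15029 (.leaf 0x1e25c3837) (.leaf 0x1e25c3837)))) (.node 15032 (.node 15031 (.leaf 0x1e25c3837) (.leaf 0x1e25c3837)) (.node 15033 (.leaf 0x1e25c3837) (.node 15034 (.leaf 0x1e25c3837) (.leaf 0x1e25c3837))))) (.node 15040 (.node 15037 (.node 15036 (.leaf 0x1e25c3837) (.leaf 0xc1e25c3837)) (.node 15038 (.leaf 0xc1e25c3837) (.node 15039 (.leaf 0xc1e25c3837) (.leaf 0xc1e25c3837)))) (.node 15042 (.node 15041 (.leaf 0xc1e25c3837) (.leaf 0xc1e25c3837)) (.node 15043 (.leaf 0xc1e25c3837) (.node 15044 (.leaf 0xc1e25c3837) (.leaf 0xc1e25c3837))))))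

def candS_744 : Store := (.node 15055 (.node 15050 (.node 15047 (.node 15046 (.leaf 0xc1e25c3837) (.leaf 0xc1e25c3837)) (.node 15048 (.leaf 0xc1e25c3837) (.node 15049 (.leaf 0x1e25c3837) (.leaf 0x6800001e25c3837)))) (.node 15052 (.node 15051 (.leaf 0x5800001e25c3837) (.leaf 0x1e25c3837)) (.node 15053 (.leaf 0x5000001e25c3837) (.node 15054 (.leaf 0x800001e25c3837) (.leaf 0x1e25c3837))))) (.node 15060 (.node 15057 (.node 15056 (.leaf 0x1e25c3837) (.leaf 0x1e25c3837)) (.node 15058 (.leaf 0x1e25c3837) (.node 15059 (.leaf 0x1e25c3837) (.leaf 0x1e25c3837)))) (.node 15063 (.node 15061 (.leaf 0x1e25c3837) (.node 15062 (.leaf 0x1e25c3837) (.leaf 0x1e25c3837))) (.node 15064 (.leaf 0x1e25c3837) (.node 15065 (.leaf 0x1e25c3837) (.leaf 0x1e25c3837))))))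

def candS_745 : Store := (.node 15076 (.node 15071 (.node 15068 (.node 15067 (.leaf 0x1e25c3837) (.leaf 0x1e25c3837)) (.node 15069 (.leaf 0x1e25c3837) (.node 15070 (.leaf 0x1e25c3837) (.leaf 0x1e25c3837)))) (.node 15073 (.node 15072 (.leaf 0x1e25c3837) (.leaf 0x1e25c3837)) (.node 15074 (.leaf 0x1e25c3837) (.node 15075 (.leaf 0x1e25c3837) (.leaf 0x1e25c3837))))) (.node 15081 (.node 15078 (.node 15077 (.leaf 0x1e25c3837) (.leaf 0x1e25c3837)) (.node 15079 (.leaf 0x1e25c3837) (.node 15080 (.leaf 0x1e25c3837) (.leaf 0x1e25c3837)))) (.node 15083 (.node 15082 (.leaf 0x1e25c3837) (.leaf 0x1e25c3837)) (.node 15084 (.leaf 0x1e25c3837) (.node 15085 (.leaf 0xa1e25c3837) (.leaf 0xa1e25c3837))))))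

def candS_746 : Store := (.node 15096 (.node 15091 (.node 15088 (.node 15087 (.leaf 0xa1e25c3837) (.leaf 0xa1e25c3837)) (.node 15089 (.leaf 0xa1e25c3837) (.node 15090 (.leaf 0xa1e25c3837) (.leaf 0xa1e25c3837)))) (.node 15093 (.node 15092 (.leaf 0xa1e25c3837) (.leaf 0xa1e25c3837)) (.node 15094 (.leaf 0xa1e25c3837) (.node 15095 (.leaf 0xa1e25c3837) (.leaf 0xa1e25c3837))))) (.node 15101 (.node 15098 (.node 15097 (.leaf 0x61e25c3837) (.leaf 0x61e25c3837)) (.node 15099 (.leaf 0x61e25c3837) (.node 15100 (.leaf 0x61e25c3837) (.leaf 0x61e25c3837)))) (.node 15103 (.node 15102 (.leaf 0x61e25c3837) (.leaf 0x61e25c3837)) (.node 15104 (.leaf 0x61e25c3837) (.node 15105 (.leaf 0x61e25c3837) (.leaf 0x61e25c3837))))))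

def candS_747 : Store := (.node 15116 (.node 15111 (.node 15108 (.node 15107 (.leaf 0x61e25c3837) (.leaf 0x61e25c3837)) (.node 15109 (.leaf 0x1e25c3837) (.node 15110 (.leaf 0x1e25c3837) (.leaf 0x1e25c3837)))) (.node 15113 (.node 15112 (.leaf 0x1e25c3837) (.leaf 0x1e25c3837)) (.node 15114 (.leaf 0x1e25c3837) (.node 15115 (.leaf 0x1e25c3837) (.leaf 0x1e25c3837))))) (.node 15121 (.node 15118 (.node 15117 (.leaf 0x1e25c3837) (.leaf 0x1e25c3837)) (.node 15119 (.leaf 0x1e25c3837) (.node 15120 (.leaf 0x1e25c3837) (.leaf 0x190c43837)))) (.node 15123 (.node 15122 (.leaf 0x190c43837) (.leaf 0x190c43837)) (.node 15124 (.leaf 0x190c43837) (.node 15125 (.leaf 0x190c43837) (.leaf 0x190c43837))))))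

def candS_748 : Store := (.node 15136 (.node 15131 (.node 15128 (.node 15127 (.leaf 0x190c43837) (.leaf 0x190c43837)) (.node 15129 (.leaf 0x190c43837) (.node 15130 (.leaf 0x190c43837) (.leaf 0x190c43837)))) (.node 15133 (.node 15132 (.leaf 0x190c43837) (.leaf 0x190c43837)) (.node 15134 (.leaf 0x190c43837) (.node 15135 (.leaf 0x190c43837) (.leaf 0x190c43837))))) (.node 15141 (.node 15138 (.node 15137 (.leaf 0x190c43837) (.leaf 0x190c43837)) (.node 15139 (.leaf 0x190c43837) (.node 15140 (.leaf 0x190c43837) (.leaf 0x190c43837)))) (.node 15144 (.node 15142 (.leaf 0x190c43837) (.node 15143 (.leaf 0x190c43837) (.leaf 0x190c43837))) (.node 15145 (.leaf 0x1c190c43837) (.node 15146 (.leaf 0x1c190c43837) (.leaf 0x1c190c43837))))))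

def candS_749 : Store := (.node 15157 (.node 15152 (.node 15149 (.node 15148 (.leaf 0x1c190c43837) (.leaf 0x1c190c43837)) (.node 15150 (.leaf 0x1c190c43837) (.node 15151 (.leaf 0x1c190c43837) (.leaf 0x1c190c43837)))) (.node 15154 (.node 15153 (.leaf 0x1c190c43837) (.leaf 0x1c190c43837)) (.node 15155 (.leaf 0x1c190c43837) (.node 15156 (.leaf 0x1c190c43837) (.leaf 0x190c43837))))) (.node 15162 (.node 15159 (.node 15158 (.leaf 0x190c43837) (.leaf 0x190c43837)) (.node 15160 (.leaf 0x190c43837) (.node 15161 (.leaf 0x190c43837) (.leaf 0x190c43837)))) (.node 15164 (.node 15163 (.leaf 0x190c43837) (.leaf 0x190c43837)) (.node 15165 (.leaf 0x190c43837) (.node 15166 (.leaf 0x190c43837) (.leaf 0x190c43837))))))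

def candS_750 : Store := (.node 15177 (.node 15172 (.node 15169 (.node 15168 (.leaf 0x190c43837) (.leaf 0x46190c43837)) (.node 15170 (.leaf 0x46190c43837) (.node 15171 (.leaf 0x46190c43837) (.leaf 0x46190c43837)))) (.node 15174 (.node 15173 (.leaf 0x46190c43837) (.leaf 0x46190c43837)) (.node 15175 (.leaf 0x46190c43837) (.node 15176 (.leaf 0x46190c43837) (.leaf 0x46190c43837))))) (.node 15182 (.node 15179 (.node 15178 (.leaf 0x46190c43837) (.leaf 0x46190c43837)) (.node 15180 (.leaf 0x46190c43837) (.node 15181 (.leaf 0x12190c43837) (.leaf 0x12190c43837)))) (.node 15184 (.node 15183 (.leaf 0x12190c43837) (.leaf 0x12190c43837)) (.node 15185 (.leaf 0x12190c43837) (.node 15186 (.leaf 0x12190c43837) (.leaf 0x12190c43837))))))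

def candS_751 : Store := (.node 15197 (.node 15192 (.node 15189 (.node 15188 (.leaf 0x12190c43837) (.leaf 0x12190c43837)) (.node 15190 (.leaf 0x12190c43837) (.node 15191 (.leaf 0x12190c43837) (.leaf 0x12190c43837)))) (.node 15194 (.node 15193 (.leaf 0x190c43837) (.leaf 0x190c43837)) (.node 15195 (.leaf 0x190c43837) (.node 15196 (.leaf 0x190c43837) (.leaf 0x190c43837))))) (.node 15202 (.node 15199 (.node 15198 (.leaf 0x190c43837) (.leaf 0x190c43837)) (.node 15200 (.leaf 0x190c43837) (.node 15201 (.leaf 0x190c43837) (.leaf 0x190c43837)))) (.node 15204 (.node 15203 (.leaf 0x190c43837) (.leaf 0x190c43837)) (.node 15205 (.leaf 0x190c43837) (.node 15206 (.leaf 0x190c43837) (.leaf 0x190c43837))))))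

def candS_752 : Store := (.node 15217 (.node 15212 (.node 15209 (.node 15208 (.leaf 0x190c43837) (.leaf 0x190c43837)) (.node 15210 (.leaf 0x190c43837) (.node 15211 (.leaf 0x190c43837) (.leaf 0x190c43837)))) (.node 15214 (.node 15213 (.leaf 0x190c43837) (.leaf 0x190c43837)) (.node 15215 (.leaf 0x190c43837) (.node 15216 (.leaf 0x190c43837) (.leaf 0x190c43837))))) (.node 15222 (.node 15219 (.node 15218 (.leaf 0x190c43837) (.leaf 0x190c43837)) (.node 15220 (.leaf 0x190c43837) (.node 15221 (.leaf 0x190c43837) (.leaf 0x190c43837)))) (.node 15225 (.node 15223 (.leaf 0x190c43837) (.node 15224 (.leaf 0x190c43837) (.leaf 0x190c43837))) (.node 15226 (.leaf 0x190c43837) (.node 15227 (.leaf 0x190c43837) (.leaf 0x190c43837))))))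

def candS_753 : Store := (.node 15238 (.node 15233 (.node 15230 (.node 15229 (.leaf 0x2a190c43837) (.leaf 0x2a190c43837)) (.node 15231 (.leaf 0x2a190c43837) (.node 15232 (.leaf 0x2a190c43837) (.leaf 0x2a190c43837)))) (.node 15235 (.node 15234 (.leaf 0x2a190c43837) (.leaf 0x2a190c43837)) (.node 15236 (.leaf 0x2a190c43837) (.node 15237 (.leaf 0x2a190c43837) (.leaf 0x2a190c43837))))) (.node 15243 (.node 15240 (.node 15239 (.leaf 0x2a190c43837) (.leaf 0x2a190c43837)) (.node 15241 (.leaf 0x2c190c43837) (.node 15242 (.leaf 0x2c190c43837) (.leaf 0x2c190c43837)))) (.node 15245 (.node 15244 (.leaf 0x2c190c43837) (.leaf 0x2c190c43837)) (.node 15246 (.leaf 0x2c190c43837) (.node 15247 (.leaf 0x2c190c43837) (.leaf 0x2c190c43837))))))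

def candS_754 : Store := (.node 15258 (.node 15253 (.node 15250 (.node 15249 (.leaf 0x2c190c43837) (.leaf 0x2c190c43837)) (.node 15251 (.leaf 0x2c190c43837) (.node 15252 (.leaf 0x2c190c43837) (.leaf 0x44190c43837)))) (.node 15255 (.node 15254 (.leaf 0x44190c43837) (.leaf 0x44190c43837)) (.node 15256 (.leaf 0x44190c43837) (.node 15257 (.leaf 0x44190c43837) (.leaf 0x44190c43837))))) (.node 15263 (.node 15260 (.node 15259 (.leaf 0x44190c43837) (.leaf 0x44190c43837)) (.node 15261 (.leaf 0x44190c43837) (.node 15262 (.leaf 0x44190c43837) (.leaf 0x44190c43837)))) (.node 15265 (.node 15264 (.leaf 0x44190c43837) (.leaf 0x330)) (.node 15266 (.leaf 0x30212743837) (.node 15267 (.leaf 0x30212743837) (.leaf 0x30212743837))))))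

def candS_755 : Store := (.node 15278 (.node 15273 (.node 15270 (.node 15269 (.leaf 0x30212743837) (.leaf 0x30212743837)) (.node 15271 (.leaf 0x1c8) (.node 15272 (.leaf 0x30212743837) (.leaf 0x108)))) (.node 15275 (.node 15274 (.leaf 0x30212743837) (.leaf 0x30212743837)) (.node 15276 (.leaf 0x58) (.node 15277 (.leaf 0x212743837) (.leaf 0x212743837))))) (.node 15283 (.node 15280 (.node 15279 (.leaf 0x212743837) (.leaf 0x212743837)) (.node 15281 (.leaf 0x212743837) (.node 15282 (.leaf 0x212743837) (.leaf 0x212743837)))) (.node 15285 (.node 15284 (.leaf 0x212743837) (.leaf 0x212743837)) (.node 15286 (.leaf 0x212743837) (.node 15287 (.leaf 0x212743837) (.leaf 0x212743837))))))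

def candS_756 : Store := (.node 15298 (.node 15293 (.node 15290 (.node 15289 (.leaf 0x22212743837) (.leaf 0x22212743837)) (.node 15291 (.leaf 0x22212743837) (.node 15292 (.leaf 0x22212743837) (.leaf 0x22212743837)))) (.node 15295 (.node 15294 (.leaf 0x22212743837) (.leaf 0x22212743837)) (.node 15296 (.leaf 0x22212743837) (.node 15297 (.leaf 0x22212743837) (.leaf 0x22212743837))))) (.node 15303 (.node 15300 (.node 15299 (.leaf 0x22212743837) (.leaf 0x22212743837)) (.node 15301 (.leaf 0xc212743837) (.node 15302 (.leaf 0xc212743837) (.leaf 0x38000c212743837)))) (.node 15306 (.node 15304 (.leaf 0xc212743837) (.node 15305 (.leaf 0x90000c212743837) (.leaf 0x18000c212743837))) (.node 15307 (.leaf 0xc212743837) (.node 15308 (.leaf 0x28000c212743837) (.leaf 0xc212743837))))))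

def candS_757 : Store := (.node 15319 (.node 15314 (.node 15311 (.node 15310 (.leaf 0xc212743837) (.leaf 0xc212743837)) (.node 15312 (.leaf 0xc212743837) (.node 15313 (.leaf 0x212743837) (.leaf 0x212743837)))) (.node 15316 (.node 15315 (.leaf 0x212743837) (.leaf 0x212743837)) (.node 15317 (.leaf 0x212743837) (.node 15318 (.leaf 0x212743837) (.leaf 0x212743837))))) (.node 15324 (.node 15321 (.node 15320 (.leaf 0x212743837) (.leaf 0x212743837)) (.node 15322 (.leaf 0x212743837) (.node 15323 (.leaf 0x212743837) (.leaf 0x212743837)))) (.node 15326 (.node 15325 (.leaf 0x2c212743837) (.leaf 0x2c212743837)) (.node 15327 (.leaf 0x2c212743837) (.node 15328 (.leaf 0x2c212743837) (.leaf 0x2c212743837))))))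

def candS_758 : Store := (.node 15339 (.node 15334 (.node 15331 (.node 15330 (.leaf 0x2c212743837) (.leaf 0x2c212743837)) (.node 15332 (.leaf 0x2c212743837) (.node 15333 (.leaf 0x2c212743837) (.leaf 0x2c212743837)))) (.node 15336 (.node 15335 (.leaf 0x2c212743837) (.leaf 0x2c212743837)) (.node 15337 (.leaf 0x212743837) (.node 15338 (.leaf 0x212743837) (.leaf 0x212743837))))) (.node 15344 (.node 15341 (.node 15340 (.leaf 0x212743837) (.leaf 0x212743837)) (.node 15342 (.leaf 0x212743837) (.node 15343 (.leaf 0x212743837) (.leaf 0x212743837)))) (.node 15346 (.node 15345 (.leaf 0x212743837) (.leaf 0x212743837)) (.node 15347 (.leaf 0x212743837) (.node 15348 (.leaf 0x212743837) (.leaf 0x212743837))))))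

def candS_759 : Store := (.node 15359 (.node 15354 (.node 15351 (.node 15350 (.leaf 0x212743837) (.leaf 0x212743837)) (.node 15352 (.leaf 0x212743837) (.node 15353 (.leaf 0x212743837) (.leaf 0x212743837)))) (.node 15356 (.node 15355 (.leaf 0x212743837) (.leaf 0x212743837)) (.node 15357 (.leaf 0x212743837) (.node 15358 (.leaf 0x212743837) (.leaf 0x212743837))))) (.node 15364 (.node 15361 (.node 15360 (.leaf 0x212743837) (.leaf 0x212743837)) (.node 15362 (.leaf 0x212743837) (.node 15363 (.leaf 0x212743837) (.leaf 0x212743837)))) (.node 15366 (.node 15365 (.leaf 0x212743837) (.leaf 0x212743837)) (.node 15367 (.leaf 0x212743837) (.node 15368 (.leaf 0x212743837) (.leaf 0x212743837))))))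

def candS_760 : Store := (.node 15379 (.node 15374 (.node 15371 (.node 15370 (.leaf 0x212743837) (.leaf 0x212743837)) (.node 15372 (.leaf 0x212743837) (.node 15373 (.leaf 0x212743837) (.leaf 0x212743837)))) (.node 15376 (.node 15375 (.leaf 0x212743837) (.leaf 0x212743837)) (.node 15377 (.leaf 0x212743837) (.node 15378 (.leaf 0x212743837) (.leaf 0x212743837))))) (.node 15384 (.node 15381 (.node 15380 (.leaf 0x212743837) (.leaf 0x212743837)) (.node 15382 (.leaf 0x212743837) (.node 15383 (.leaf 0x212743837) (.leaf 0x212743837)))) (.node 15387 (.node 15385 (.leaf 0x212743837) (.node 15386 (.leaf 0x212743837) (.leaf 0x212743837))) (.node 15388 (.leaf 0x212743837) (.node 15389 (.leaf 0x212743837) (.leaf 0x212743837))))))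

def candS_761 : Store := (.node 15400 (.node 15395 (.node 15392 (.node 15391 (.leaf 0x212743837) (.leaf 0x212743837)) (.node 15393 (.leaf 0x212743837) (.node 15394 (.leaf 0x212743837) (.leaf 0x212743837)))) (.node 15397 (.node 15396 (.leaf 0x212743837) (.leaf 0x1a212743837)) (.node 15398 (.leaf 0x1a212743837) (.node 15399 (.leaf 0x1a212743837) (.leaf 0x1a212743837))))) (.node 15405 (.node 15402 (.node 15401 (.leaf 0x1a212743837) (.leaf 0x1a212743837)) (.node 15403 (.leaf 0x1a212743837) (.node 15404 (.leaf 0x1a212743837) (.leaf 0x1a212743837)))) (.node 15407 (.node 15406 (.leaf 0x1a212743837) (.leaf 0x1a212743837)) (.node 15408 (.leaf 0x1a212743837) (.node 15409 (.leaf 0x102) (.leaf 0x2c433143837))))))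

def candS_762 : Store := (.node 15420 (.node 15415 (.node 15412 (.node 15411 (.leaf 0x2c433143837) (.leaf 0x2c433143837)) (.node 15413 (.leaf 0x2c433143837) (.node 15414 (.leaf 0x2c433143837) (.leaf 0x1d2)))) (.node 15417 (.node 15416 (.leaf 0x2c433143837) (.leaf 0x398)) (.node 15418 (.leaf 0x2c433143837) (.node 15419 (.leaf 0x3e) (.leaf 0x2c433143837))))) (.node 15425 (.node 15422 (.node 15421 (.leaf 0x433143837) (.leaf 0x433143837)) (.node 15423 (.leaf 0x433143837) (.node 15424 (.leaf 0x433143837) (.leaf 0x433143837)))) (.node 15427 (.node 15426 (.leaf 0x433143837) (.leaf 0x433143837)) (.node 15428 (.leaf 0x433143837) (.node 15429 (.leaf 0x433143837) (.leaf 0x433143837))))))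

def candS_763 : Store := (.node 15440 (.node 15435 (.node 15432 (.node 15431 (.leaf 0x433143837) (.leaf 0x433143837)) (.node 15433 (.leaf 0x433143837) (.node 15434 (.leaf 0x433143837) (.leaf 0x433143837)))) (.node 15437 (.node 15436 (.leaf 0x433143837) (.leaf 0x433143837)) (.node 15438 (.leaf 0x433143837) (.node 15439 (.leaf 0x433143837) (.leaf 0x433143837))))) (.node 15445 (.node 15442 (.node 15441 (.leaf 0x433143837) (.leaf 0x433143837)) (.node 15443 (.leaf 0x433143837) (.node 15444 (.leaf 0x433143837) (.leaf 0x433143837)))) (.node 15447 (.node 15446 (.leaf 0x433143837) (.leaf 0x433143837)) (.node 15448 (.leaf 0x433143837) (.node 15449 (.leaf 0x433143837) (.leaf 0x433143837))))))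

def candS_764 : Store := (.node 15460 (.node 15455 (.node 15452 (.node 15451 (.leaf 0x433143837) (.leaf 0x433143837)) (.node 15453 (.leaf 0x433143837) (.node 15454 (.leaf 0x433143837) (.leaf 0x433143837)))) (.node 15457 (.node 15456 (.leaf 0x433143837) (.leaf 0x433143837)) (.node 15458 (.leaf 0x433143837) (.node 15459 (.leaf 0x433143837) (.leaf 0x433143837))))) (.node 15465 (.node 15462 (.node 15461 (.leaf 0x433143837) (.leaf 0x433143837)) (.node 15463 (.leaf 0x433143837) (.node 15464 (.leaf 0x433143837) (.leaf 0x433143837)))) (.node 15468 (.node 15466 (.leaf 0x433143837) (.node 15467 (.leaf 0x433143837) (.leaf 0x433143837))) (.node 15469 (.leaf 0x32433143837) (.node 15470 (.leaf 0x32433143837) (.leaf 0x32433143837))))))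

def candS_765 : Store := (.node 15481 (.node 15476 (.node 15473 (.node 15472 (.leaf 0x32433143837) (.leaf 0x32433143837)) (.node 15474 (.leaf 0x32433143837) (.node 15475 (.leaf 0x32433143837) (.leaf 0x32433143837)))) (.node 15478 (.node 15477 (.leaf 0x32433143837) (.leaf 0x32433143837)) (.node 15479 (.leaf 0x32433143837) (.node 15480 (.leaf 0x32433143837) (.leaf 0x433143837))))) (.node 15486 (.node 15483 (.node 15482 (.leaf 0x433143837) (.leaf 0x433143837)) (.node 15484 (.leaf 0x433143837) (.node 15485 (.leaf 0x433143837) (.leaf 0x433143837)))) (.node 15488 (.node 15487 (.leaf 0x433143837) (.leaf 0x433143837)) (.node 15489 (.leaf 0x433143837) (.node 15490 (.leaf 0x433143837) (.leaf 0x433143837))))))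

def candS_766 : Store := (.node 15501 (.node 15496 (.node 15493 (.node 15492 (.leaf 0x433143837) (.leaf 0x433143837)) (.node 15494 (.leaf 0x433143837) (.node 15495 (.leaf 0x433143837) (.leaf 0x433143837)))) (.node 15498 (.node 15497 (.leaf 0x433143837) (.leaf 0x433143837)) (.node 15499 (.leaf 0x433143837) (.node 15500 (.leaf 0x433143837) (.leaf 0x433143837))))) (.node 15506 (.node 15503 (.node 15502 (.leaf 0x433143837) (.leaf 0x433143837)) (.node 15504 (.leaf 0x433143837) (.node 15505 (.leaf 0x26433143837) (.leaf 0x300026433143837)))) (.node 15508 (.node 15507 (.leaf 0x200026433143837) (.leaf 0x26433143837)) (.node 15509 (.leaf 0x26433143837) (.node 15510 (.leaf 0x780026433143837) (.leaf 0x26433143837))))))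

def candS_767 : Store := (.node 15521 (.node 15516 (.node 15513 (.node 15512 (.leaf 0x600026433143837) (.leaf 0x26433143837)) (.node 15514 (.leaf 0x26433143837) (.node 15515 (.leaf 0x26433143837) (.leaf 0x26433143837)))) (.node 15518 (.node 15517 (.leaf 0x3e433143837) (.leaf 0x3e433143837)) (.node 15519 (.leaf 0x3e433143837) (.node 15520 (.leaf 0x3e433143837) (.leaf 0x3e433143837))))) (.node 15526 (.node 15523 (.node 15522 (.leaf 0x3e433143837) (.leaf 0x3e433143837)) (.node 15524 (.leaf 0x3e433143837) (.node 15525 (.leaf 0x3e433143837) (.leaf 0x3e433143837)))) (.node 15528 (.node 15527 (.leaf 0x3e433143837) (.leaf 0x3e433143837)) (.node 15529 (.leaf 0x34433143837) (.node 15530 (.leaf 0x34433143837) (.leaf 0x34433143837))))))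

def candS_768 : Store := (.node 15541 (.node 15536 (.node 15533 (.node 15532 (.leaf 0x34433143837) (.leaf 0x34433143837)) (.node 15534 (.leaf 0x34433143837) (.node 15535 (.leaf 0x34433143837) (.leaf 0x34433143837)))) (.node 15538 (.node 15537 (.leaf 0x34433143837) (.leaf 0x34433143837)) (.node 15539 (.leaf 0x34433143837) (.node 15540 (.leaf 0x34433143837) (.leaf 0x6433143837))))) (.node 15546 (.node 15543 (.node 15542 (.leaf 0x6433143837) (.leaf 0x6433143837)) (.node 15544 (.leaf 0x6433143837) (.node 15545 (.leaf 0x6433143837) (.leaf 0x6433143837)))) (.node 15549 (.node 15547 (.leaf 0x6433143837) (.node 15548 (.leaf 0x6433143837) (.leaf 0x6433143837))) (.node 15550 (.leaf 0x6433143837) (.node 15551 (.leaf 0x6433143837) (.leaf 0x6433143837))))))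

def candS_769 : Store := (.node 15562 (.node 15557 (.node 15554 (.node 15553 (.leaf 0xa012d939) (.leaf 0xa012d939)) (.node 15555 (.leaf 0xa012d939) (.node 15556 (.leaf 0xa012d939) (.leaf 0xa012d939)))) (.node 15559 (.node 15558 (.leaf 0xa012d939) (.leaf 0xa012d939)) (.node 15560 (.leaf 0xa012d939) (.node 15561 (.leaf 0xa012d939) (.leaf 0xa012d939))))) (.node 15567 (.node 15564 (.node 15563 (.leaf 0xa012d939) (.leaf 0xa012d939)) (.node 15565 (.leaf 0x80a012d939) (.node 15566 (.leaf 0x9800080a012d939) (.leaf 0x80a012d939)))) (.node 15569 (.node 15568 (.leaf 0x80a012d939) (.leaf 0x8000080a012d939)) (.node 15570 (.leaf 0x80a012d939) (.node 15571 (.leaf 0x80a012d939) (.leaf 0x80a012d939))))))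

def candS_770 : Store := (.node 15582 (.node 15577 (.node 15574 (.node 15573 (.leaf 0x80a012d939) (.leaf 0x7000080a012d939)) (.node 15575 (.leaf 0x80a012d939) (.node 15576 (.leaf 0x80a012d939) (.leaf 0x280a012d939)))) (.node 15579 (.node 15578 (.leaf 0x280a012d939) (.leaf 0x280a012d939)) (.node 15580 (.leaf 0x280a012d939) (.node 15581 (.leaf 0x280a012d939) (.leaf 0x280a012d939))))) (.node 15587 (.node 15584 (.node 15583 (.leaf 0x280a012d939) (.leaf 0x280a012d939)) (.node 15585 (.leaf 0x280a012d939) (.node 15586 (.leaf 0x280a012d939) (.leaf 0x280a012d939)))) (.node 15589 (.node 15588 (.leaf 0x280a012d939) (.leaf 0xa012d939)) (.node 15590 (.leaf 0xa012d939) (.node 15591 (.leaf 0xa012d939) (.leaf 0xa012d939))))))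

def candS_771 : Store := (.node 15602 (.node 15597 (.node 15594 (.node 15593 (.leaf 0xa012d939) (.leaf 0xa012d939)) (.node 15595 (.leaf 0xa012d939) (.node 15596 (.leaf 0xa012d939) (.leaf 0xa012d939)))) (.node 15599 (.node 15598 (.leaf 0xa012d939) (.leaf 0xa012d939)) (.node 15600 (.leaf 0xa012d939) (.node 15601 (.leaf 0x2a0a012d939) (.leaf 0x2a0a012d939))))) (.node 15607 (.node 15604 (.node 15603 (.leaf 0x2a0a012d939) (.leaf 0x2a0a012d939)) (.node 15605 (.leaf 0x2a0a012d939) (.node 15606 (.leaf 0x2a0a012d939) (.leaf 0x2a0a012d939)))) (.node 15609 (.node 15608 (.leaf 0x2a0a012d939) (.leaf 0x2a0a012d939)) (.node 15610 (.leaf 0x2a0a012d939) (.node 15611 (.leaf 0x2a0a012d939) (.leaf 0x2a0a012d939))))))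

def candS_772 : Store := (.node 15622 (.node 15617 (.node 15614 (.node 15613 (.leaf 0xa012d939) (.leaf 0xa012d939)) (.node 15615 (.leaf 0xa012d939) (.node 15616 (.leaf 0xa012d939) (.leaf 0xa012d939)))) (.node 15619 (.node 15618 (.leaf 0xa012d939) (.leaf 0xa012d939)) (.node 15620 (.leaf 0xa012d939) (.node 15621 (.leaf 0xa012d939) (.leaf 0xa012d939))))) (.node 15627 (.node 15624 (.node 15623 (.leaf 0xa012d939) (.leaf 0xa012d939)) (.node 15625 (.leaf 0xa012d939) (.node 15626 (.leaf 0xa012d939) (.leaf 0xa012d939)))) (.node 15630 (.node 15628 (.leaf 0xa012d939) (.node 15629 (.leaf 0xa012d939) (.leaf 0xa012d939))) (.node 15631 (.leaf 0xa012d939) (.node 15632 (.leaf 0xa012d939) (.leaf 0xa012d939))))))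

def candS_773 : Store := (.node 15643 (.node 15638 (.node 15635 (.node 15634 (.leaf 0xa012d939) (.leaf 0xa012d939)) (.node 15636 (.leaf 0xa012d939) (.node 15637 (.leaf 0xe0a012d939) (.leaf 0xe0a012d939)))) (.node 15640 (.node 15639 (.leaf 0xe0a012d939) (.leaf 0x1fc)) (.node 15641 (.leaf 0xe0a012d939) (.node 15642 (.leaf 0xe0a012d939) (.leaf 0xe0a012d939))))) (.node 15648 (.node 15645 (.node 15644 (.leaf 0xe0a012d939) (.leaf 0x48)) (.node 15646 (.leaf 0xe0a012d939) (.node 15647 (.leaf 0x33e) (.leaf 0xea)))) (.node 15650 (.node 15649 (.leaf 0xa012d939) (.leaf 0xa012d939)) (.node 15651 (.leaf 0xa012d939) (.node 15652 (.leaf 0xa012d939) (.leaf 0xa012d939))))))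

def candS_774 : Store := (.node 15663 (.node 15658 (.node 15655 (.node 15654 (.leaf 0xa012d939) (.leaf 0xa012d939)) (.node 15656 (.leaf 0xa012d939) (.node 15657 (.leaf 0xa012d939) (.leaf 0xa012d939)))) (.node 15660 (.node 15659 (.leaf 0xa012d939) (.leaf 0xa012d939)) (.node 15661 (.leaf 0x20a012d939) (.node 15662 (.leaf 0x20a012d939) (.leaf 0x20a012d939))))) (.node 15668 (.node 15665 (.node 15664 (.leaf 0x20a012d939) (.leaf 0x20a012d939)) (.node 15666 (.leaf 0x20a012d939) (.node 15667 (.leaf 0x20a012d939) (.leaf 0x20a012d939)))) (.node 15670 (.node 15669 (.leaf 0x20a012d939) (.leaf 0x20a012d939)) (.node 15671 (.leaf 0x20a012d939) (.node 15672 (.leaf 0x20a012d939) (.leaf 0xa012d939))))))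

def candS_775 : Store := (.node 15683 (.node 15678 (.node 15675 (.node 15674 (.leaf 0xa012d939) (.leaf 0xa012d939)) (.node 15676 (.leaf 0xa012d939) (.node 15677 (.leaf 0xa012d939) (.leaf 0xa012d939)))) (.node 15680 (.node 15679 (.leaf 0xa012d939) (.leaf 0xa012d939)) (.node 15681 (.leaf 0xa012d939) (.node 15682 (.leaf 0xa012d939) (.leaf 0xa012d939))))) (.node 15688 (.node 15685 (.node 15684 (.leaf 0xa012d939) (.leaf 0x3e0a012d939)) (.node 15686 (.leaf 0x3e0a012d939) (.node 15687 (.leaf 0x3e0a012d939) (.leaf 0x3e0a012d939)))) (.node 15690 (.node 15689 (.leaf 0x3e0a012d939) (.leaf 0x3e0a012d939)) (.node 15691 (.leaf 0x3e0a012d939) (.node 15692 (.leaf 0x3e0a012d939) (.leaf 0x3e0a012d939))))))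

def candS_776 : Store := (.node 15703 (.node 15698 (.node 15695 (.node 15694 (.leaf 0x3e0a012d939) (.leaf 0x3e0a012d939)) (.node 15696 (.leaf 0x3e0a012d939) (.node 15697 (.leaf 0x1620352d939) (.leaf 0x1620352d939)))) (.node 15700 (.node 15699 (.leaf 0x1620352d939) (.leaf 0x1620352d939)) (.node 15701 (.leaf 0x1620352d939) (.node 15702 (.leaf 0x1620352d939) (.leaf 0x1620352d939))))) (.node 15708 (.node 15705 (.node 15704 (.leaf 0x1620352d939) (.leaf 0x1620352d939)) (.node 15706 (.leaf 0x1620352d939) (.node 15707 (.leaf 0x1620352d939) (.leaf 0x1620352d939)))) (.node 15711 (.node 15709 (.leaf 0x220352d939) (.node 15710 (.leaf 0x220352d939) (.leaf 0x220352d939))) (.node 15712 (.leaf 0x220352d939) (.node 15713 (.leaf 0x220352d939) (.leaf 0x220352d939))))))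

def candS_777 : Store := (.node 15724 (.node 15719 (.node 15716 (.node 15715 (.leaf 0x220352d939) (.leaf 0x220352d939)) (.node 15717 (.leaf 0x220352d939) (.node 15718 (.leaf 0x220352d939) (.leaf 0x220352d939)))) (.node 15721 (.node 15720 (.leaf 0x220352d939) (.leaf 0x20352d939)) (.node 15722 (.leaf 0x20352d939) (.node 15723 (.leaf 0x20352d939) (.leaf 0x20352d939))))) (.node 15729 (.node 15726 (.node 15725 (.leaf 0x20352d939) (.leaf 0x20352d939)) (.node 15727 (.leaf 0x20352d939) (.node 15728 (.leaf 0x20352d939) (.leaf 0x20352d939)))) (.node 15731 (.node 15730 (.leaf 0x20352d939) (.leaf 0x20352d939)) (.node 15732 (.leaf 0x20352d939) (.node 15733 (.leaf 0x20352d939) (.leaf 0x20352d939))))))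

def candS_778 : Store := (.node 15744 (.node 15739 (.node 15736 (.node 15735 (.leaf 0x20352d939) (.leaf 0x20352d939)) (.node 15737 (.leaf 0x20352d939) (.node 15738 (.leaf 0x20352d939) (.leaf 0x20352d939)))) (.node 15741 (.node 15740 (.leaf 0x20352d939) (.leaf 0x20352d939)) (.node 15742 (.leaf 0x20352d939) (.node 15743 (.leaf 0x20352d939) (.leaf 0x20352d939))))) (.node 15749 (.node 15746 (.node 15745 (.leaf 0x20352d939) (.leaf 0x20352d939)) (.node 15747 (.leaf 0x20352d939) (.node 15748 (.leaf 0x20352d939) (.leaf 0x20352d939)))) (.node 15751 (.node 15750 (.leaf 0x20352d939) (.leaf 0x20352d939)) (.node 15752 (.leaf 0x20352d939) (.node 15753 (.leaf 0x20352d939) (.leaf 0x20352d939))))))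

def candS_779 : Store := (.node 15764 (.node 15759 (.node 15756 (.node 15755 (.leaf 0x20352d939) (.leaf 0x20352d939)) (.node 15757 (.leaf 0x4420352d939) (.node 15758 (.leaf 0x4420352d939) (.leaf 0x4420352d939)))) (.node 15761 (.node 15760 (.leaf 0x4420352d939) (.leaf 0x13a)) (.node 15762 (.leaf 0x306) (.node 15763 (.leaf 0x4420352d939) (.leaf 0x128))))) (.node 15769 (.node 15766 (.node 15765 (.leaf 0x4420352d939) (.leaf 0x310)) (.node 15767 (.leaf 0x4420352d939) (.node 15768 (.leaf 0x4420352d939) (.leaf 0x3820352d939)))) (.node 15771 (.node 15770 (.leaf 0x3820352d939) (.leaf 0x3820352d939)) (.node 15772 (.leaf 0x3820352d939) (.node 15773 (.leaf 0x3820352d939) (.leaf 0x3820352d939))))))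

def candS_780 : Store := (.node 15784 (.node 15779 (.node 15776 (.node 15775 (.leaf 0x3820352d939) (.leaf 0x3820352d939)) (.node 15777 (.leaf 0x3820352d939) (.node 15778 (.leaf 0x3820352d939) (.leaf 0x3820352d939)))) (.node 15781 (.node 15780 (.leaf 0x3820352d939) (.leaf 0x20352d939)) (.node 15782 (.leaf 0x20352d939) (.node 15783 (.leaf 0x20352d939) (.leaf 0x20352d939))))) (.node 15789 (.node 15786 (.node 15785 (.leaf 0x20352d939) (.leaf 0x20352d939)) (.node 15787 (.leaf 0x20352d939) (.node 15788 (.leaf 0x20352d939) (.leaf 0x20352d939)))) (.node 15792 (.node 15790 (.leaf 0x20352d939) (.node 15791 (.leaf 0x20352d939) (.leaf 0x20352d939))) (.node 15793 (.leaf 0x1a20352d939) (.node 15794 (.leaf 0x1a20352d939) (.leaf 0x1a20352d939))))))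

def candS_781 : Store := (.node 15805 (.node 15800 (.node 15797 (.node 15796 (.leaf 0x1a20352d939) (.leaf 0x1a20352d939)) (.node 15798 (.leaf 0x1a20352d939) (.node 15799 (.leaf 0x1a20352d939) (.leaf 0x1a20352d939)))) (.node 15802 (.node 15801 (.leaf 0x1a20352d939) (.leaf 0x1a20352d939)) (.node 15803 (.leaf 0x1a20352d939) (.node 15804 (.leaf 0x1a20352d939) (.leaf 0x10001020352d939))))) (.node 15810 (.node 15807 (.node 15806 (.leaf 0x1020352d939) (.leaf 0x1020352d939)) (.node 15808 (.leaf 0x88001020352d939) (.node 15809 (.leaf 0x1020352d939) (.leaf 0x1020352d939)))) (.node 15812 (.node 15811 (.leaf 0x1020352d939) (.leaf 0x1020352d939)) (.node 15813 (.leaf 0x48001020352d939) (.node 15814 (.leaf 0x1020352d939) (.leaf 0x1020352d939))))))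

def candS_782 : Store := (.node 15825 (.node 15820 (.node 15817 (.node 15816 (.leaf 0x40001020352d939) (.leaf 0x20352d939)) (.node 15818 (.leaf 0x20352d939) (.node 15819 (.leaf 0x20352d939) (.leaf 0x20352d939)))) (.node 15822 (.node 15821 (.leaf 0x20352d939) (.leaf 0x20352d939)) (.node 15823 (.leaf 0x20352d939) (.node 15824 (.leaf 0x20352d939) (.leaf 0x20352d939))))) (.node 15830 (.node 15827 (.node 15826 (.leaf 0x20352d939) (.leaf 0x20352d939)) (.node 15828 (.leaf 0x20352d939) (.node 15829 (.leaf 0x20352d939) (.leaf 0x20352d939)))) (.node 15832 (.node 15831 (.leaf 0x20352d939) (.leaf 0x20352d939)) (.node 15833 (.leaf 0x20352d939) (.node 15834 (.leaf 0x20352d939) (.leaf 0x20352d939))))))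

def candS_783 : Store := (.node 15845 (.node 15840 (.node 15837 (.node 15836 (.leaf 0x20352d939) (.leaf 0x20352d939)) (.node 15838 (.leaf 0x20352d939) (.node 15839 (.leaf 0x20352d939) (.leaf 0x20352d939)))) (.node 15842 (.node 15841 (.leaf 0x4a0e2d939) (.leaf 0x4a0e2d939)) (.node 15843 (.leaf 0x4a0e2d939) (.node 15844 (.leaf 0x4a0e2d939) (.leaf 0x4a0e2d939))))) (.node 15850 (.node 15847 (.node 15846 (.leaf 0x4a0e2d939) (.leaf 0x4a0e2d939)) (.node 15848 (.leaf 0x4a0e2d939) (.node 15849 (.leaf 0x4a0e2d939) (.leaf 0x4a0e2d939)))) (.node 15852 (.node 15851 (.leaf 0x4a0e2d939) (.leaf 0x4a0e2d939)) (.node 15853 (.leaf 0x4a0e2d939) (.node 15854 (.leaf 0x4a0e2d939) (.leaf 0x4a0e2d939))))))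

def candS_784 : Store := (.node 15865 (.node 15860 (.node 15857 (.node 15856 (.leaf 0x4a0e2d939) (.leaf 0x4a0e2d939)) (.node 15858 (.leaf 0x4a0e2d939) (.node 15859 (.leaf 0x4a0e2d939) (.leaf 0x4a0e2d939)))) (.node 15862 (.node 15861 (.leaf 0x4a0e2d939) (.leaf 0x4a0e2d939)) (.node 15863 (.leaf 0x4a0e2d939) (.node 15864 (.leaf 0x4a0e2d939) (.leaf 0x3e4a0e2d939))))) (.node 15870 (.node 15867 (.node 15866 (.leaf 0x3e4a0e2d939) (.leaf 0x3e4a0e2d939)) (.node 15868 (.leaf 0x3e4a0e2d939) (.node 15869 (.leaf 0x3e4a0e2d939) (.leaf 0x3e4a0e2d939)))) (.node 15873 (.node 15871 (.leaf 0x3e4a0e2d939) (.node 15872 (.leaf 0x3e4a0e2d939) (.leaf 0x3e4a0e2d939))) (.node 15874 (.leaf 0x3e4a0e2d939) (.node 15875 (.leaf 0x3e4a0e2d939) (.leaf 0x3e4a0e2d939))))))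

def candS_785 : Store := (.node 15886 (.node 15881 (.node 15878 (.node 15877 (.leaf 0x4a0e2d939) (.leaf 0x4a0e2d939)) (.node 15879 (.leaf 0x4a0e2d939) (.node 15880 (.leaf 0x4a0e2d939) (.leaf 0x4a0e2d939)))) (.node 15883 (.node 15882 (.leaf 0x4a0e2d939) (.leaf 0x4a0e2d939)) (.node 15884 (.leaf 0x4a0e2d939) (.node 15885 (.leaf 0x4a0e2d939) (.leaf 0x4a0e2d939))))) (.node 15891 (.node 15888 (.node 15887 (.leaf 0x4a0e2d939) (.leaf 0x4a0e2d939)) (.node 15889 (.leaf 0x324a0e2d939) (.node 15890 (.leaf 0x324a0e2d939) (.leaf 0x324a0e2d939)))) (.node 15893 (.node 15892 (.leaf 0x324a0e2d939) (.leaf 0x324a0e2d939)) (.node 15894 (.leaf 0x324a0e2d939) (.node 15895 (.leaf 0x324a0e2d939) (.leaf 0x324a0e2d939))))))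

def candS_786 : Store := (.node 15906 (.node 15901 (.node 15898 (.node 15897 (.leaf 0x324a0e2d939) (.leaf 0x324a0e2d939)) (.node 15899 (.leaf 0x324a0e2d939) (.node 15900 (.leaf 0x324a0e2d939) (.leaf 0x264a0e2d939)))) (.node 15903 (.node 15902 (.leaf 0x264a0e2d939) (.leaf 0x264a0e2d939)) (.node 15904 (.leaf 0x264a0e2d939) (.node 15905 (.leaf 0x264a0e2d939) (.leaf 0x264a0e2d939))))) (.node 15911 (.node 15908 (.node 15907 (.leaf 0x264a0e2d939) (.leaf 0x264a0e2d939)) (.node 15909 (.leaf 0x264a0e2d939) (.node 15910 (.leaf 0x264a0e2d939) (.leaf 0x264a0e2d939)))) (.node 15913 (.node 15912 (.leaf 0x264a0e2d939) (.leaf 0x4a0e2d939)) (.node 15914 (.leaf 0x4a0e2d939) (.node 15915 (.leaf 0x4a0e2d939) (.leaf 0x4a0e2d939))))))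

def candS_787 : Store := (.node 15926 (.node 15921 (.node 15918 (.node 15917 (.leaf 0x4a0e2d939) (.leaf 0x4a0e2d939)) (.node 15919 (.leaf 0x4a0e2d939) (.node 15920 (.leaf 0x4a0e2d939) (.leaf 0x4a0e2d939)))) (.node 15923 (.node 15922 (.leaf 0x4a0e2d939) (.leaf 0x4a0e2d939)) (.node 15924 (.leaf 0x4a0e2d939) (.node 15925 (.leaf 0x4a0e2d939) (.leaf 0x4a0e2d939))))) (.node 15931 (.node 15928 (.node 15927 (.leaf 0x4a0e2d939) (.leaf 0x4a0e2d939)) (.node 15929 (.leaf 0x4a0e2d939) (.node 15930 (.leaf 0x4a0e2d939) (.leaf 0x4a0e2d939)))) (.node 15933 (.node 15932 (.leaf 0x4a0e2d939) (.leaf 0x4a0e2d939)) (.node 15934 (.leaf 0x4a0e2d939) (.node 15935 (.leaf 0x4a0e2d939) (.leaf 0x4a0e2d939))))))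

def candS_788 : Store := (.node 15946 (.node 15941 (.node 15938 (.node 15937 (.leaf 0x4a0e2d939) (.leaf 0x4a0e2d939)) (.node 15939 (.leaf 0x4a0e2d939) (.node 15940 (.leaf 0x4a0e2d939) (.leaf 0x4a0e2d939)))) (.node 15943 (.node 15942 (.leaf 0x4a0e2d939) (.leaf 0x4a0e2d939)) (.node 15944 (.leaf 0x4a0e2d939) (.node 15945 (.leaf 0x4a0e2d939) (.leaf 0x4a0e2d939))))) (.node 15951 (.node 15948 (.node 15947 (.leaf 0x4a0e2d939) (.leaf 0x4a0e2d939)) (.node 15949 (.leaf 0x2c4a0e2d939) (.node 15950 (.leaf 0x2c4a0e2d939) (.leaf 0x2c4a0e2d939)))) (.node 15954 (.node 15952 (.leaf 0x2c4a0e2d939) (.node 15953 (.leaf 0x2c4a0e2d939) (.leaf 0x2c4a0e2d939))) (.node 15955 (.leaf 0x2c4a0e2d939) (.node 15956 (.leaf 0x2c4a0e2d939) (.leaf 0x2c4a0e2d939))))))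

def candS_789 : Store := (.node 15967 (.node 15962 (.node 15959 (.node 15958 (.leaf 0x2c4a0e2d939) (.leaf 0x2c4a0e2d939)) (.node 15960 (.leaf 0x2c4a0e2d939) (.node 15961 (.leaf 0x344a0e2d939) (.leaf 0x344a0e2d939)))) (.node 15964 (.node 15963 (.leaf 0x344a0e2d939) (.leaf 0x344a0e2d939)) (.node 15965 (.leaf 0x344a0e2d939) (.node 15966 (.leaf 0x344a0e2d939) (.leaf 0x344a0e2d939))))) (.node 15972 (.node 15969 (.node 15968 (.leaf 0x344a0e2d939) (.leaf 0x344a0e2d939)) (.node 15970 (.leaf 0x344a0e2d939) (.node 15971 (.leaf 0x344a0e2d939) (.leaf 0x344a0e2d939)))) (.node 15974 (.node 15973 (.leaf 0x64a0e2d939) (.leaf 0x64a0e2d939)) (.node 15975 (.leaf 0x64a0e2d939) (.node 15976 (.leaf 0x64a0e2d939) (.leaf 0x64a0e2d939))))))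

def candS_790 : Store := (.node 15987 (.node 15982 (.node 15979 (.node 15978 (.leaf 0x64a0e2d939) (.leaf 0x64a0e2d939)) (.node 15980 (.leaf 0x64a0e2d939) (.node 15981 (.leaf 0x64a0e2d939) (.leaf 0x64a0e2d939)))) (.node 15984 (.node 15983 (.leaf 0x64a0e2d939) (.leaf 0x64a0e2d939)) (.node 15985 (.leaf 0x24a1e2d939) (.node 15986 (.leaf 0x1800024a1e2d939) (.leaf 0x24a1e2d939))))) (.node 15992 (.node 15989 (.node 15988 (.leaf 0x24a1e2d939) (.leaf 0x9000024a1e2d939)) (.node 15990 (.leaf 0x3800024a1e2d939) (.node 15991 (.leaf 0x24a1e2d939) (.leaf 0x2800024a1e2d939)))) (.node 15994 (.node 15993 (.leaf 0x24a1e2d939) (.leaf 0x24a1e2d939)) (.node 15995 (.leaf 0x24a1e2d939) (.node 15996 (.leaf 0x24a1e2d939) (.leaf 0x4a1e2d939))))))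

def candS_791 : Store := (.node 16007 (.node 16002 (.node 15999 (.node 15998 (.leaf 0x4a1e2d939) (.leaf 0x4a1e2d939)) (.node 16000 (.leaf 0x4a1e2d939) (.node 16001 (.leaf 0x4a1e2d939) (.leaf 0x4a1e2d939)))) (.node 16004 (.node 16003 (.leaf 0x4a1e2d939) (.leaf 0x4a1e2d939)) (.node 16005 (.leaf 0x4a1e2d939) (.node 16006 (.leaf 0x4a1e2d939) (.leaf 0x4a1e2d939))))) (.node 16012 (.node 16009 (.node 16008 (.leaf 0x4a1e2d939) (.leaf 0x204a1e2d939)) (.node 16010 (.leaf 0x204a1e2d939) (.node 16011 (.leaf 0x204a1e2d939) (.leaf 0x204a1e2d939)))) (.node 16014 (.node 16013 (.leaf 0x204a1e2d939) (.leaf 0x204a1e2d939)) (.node 16015 (.leaf 0x204a1e2d939) (.node 16016 (.leaf 0x204a1e2d939) (.leaf 0x204a1e2d939))))))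

def candS_792 : Store := (.node 16027 (.node 16022 (.node 16019 (.node 16018 (.leaf 0x204a1e2d939) (.leaf 0x204a1e2d939)) (.node 16020 (.leaf 0x204a1e2d939) (.node 16021 (.leaf 0x4a1e2d939) (.leaf 0x4a1e2d939)))) (.node 16024 (.node 16023 (.leaf 0x4a1e2d939) (.leaf 0x4a1e2d939)) (.node 16025 (.leaf 0x4a1e2d939) (.node 16026 (.leaf 0x4a1e2d939) (.leaf 0x4a1e2d939))))) (.node 16032 (.node 16029 (.node 16028 (.leaf 0x4a1e2d939) (.leaf 0x4a1e2d939)) (.node 16030 (.leaf 0x4a1e2d939) (.node 16031 (.leaf 0x4a1e2d939) (.leaf 0x4a1e2d939)))) (.node 16035 (.node 16033 (.leaf 0x4a1e2d939) (.node 16034 (.leaf 0x4a1e2d939) (.leaf 0x4a1e2d939))) (.node 16036 (.leaf 0x4a1e2d939) (.node 16037 (.leaf 0x4a1e2d939) (.leaf 0x4a1e2d939))))))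

def candS_793 : Store := (.node 16048 (.node 16043 (.node 16040 (.node 16039 (.leaf 0x4a1e2d939) (.leaf 0x4a1e2d939)) (.node 16041 (.leaf 0x4a1e2d939) (.node 16042 (.leaf 0x4a1e2d939) (.leaf 0x4a1e2d939)))) (.node 16045 (.node 16044 (.leaf 0x4a1e2d939) (.leaf 0x4a1e2d939)) (.node 16046 (.leaf 0x4a1e2d939) (.node 16047 (.leaf 0x4a1e2d939) (.leaf 0x4a1e2d939))))) (.node 16053 (.node 16050 (.node 16049 (.leaf 0x4a1e2d939) (.leaf 0x4a1e2d939)) (.node 16051 (.leaf 0x4a1e2d939) (.node 16052 (.leaf 0x4a1e2d939) (.leaf 0x4a1e2d939)))) (.node 16055 (.node 16054 (.leaf 0x4a1e2d939) (.leaf 0x4a1e2d939)) (.node 16056 (.leaf 0x4a1e2d939) (.node 16057 (.leaf 0x4a1e2d939) (.leaf 0x4a1e2d939))))))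

def candS_794 : Store := (.node 16068 (.node 16063 (.node 16060 (.node 16059 (.leaf 0x4a1e2d939) (.leaf 0x4a1e2d939)) (.node 16061 (.leaf 0x4a1e2d939) (.node 16062 (.leaf 0x4a1e2d939) (.leaf 0x4a1e2d939)))) (.node 16065 (.node 16064 (.leaf 0x4a1e2d939) (.leaf 0x4a1e2d939)) (.node 16066 (.leaf 0x4a1e2d939) (.node 16067 (.leaf 0x4a1e2d939) (.leaf 0x4a1e2d939))))) (.node 16073 (.node 16070 (.node 16069 (.leaf 0x202) (.leaf 0x1c4a1e2d939)) (.node 16071 (.leaf 0x1c4a1e2d939) (.node 16072 (.leaf 0x1c4a1e2d939) (.leaf 0x1c4a1e2d939)))) (.node 16075 (.node 16074 (.leaf 0x1c4a1e2d939) (.leaf 0x1c4a1e2d939)) (.node 16076 (.leaf 0x1c4a1e2d939) (.node 16077 (.leaf 0xce) (.leaf 0x1c4a1e2d939))))))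

def candS_795 : Store := (.node 16088 (.node 16083 (.node 16080 (.node 16079 (.leaf 0x1a) (.leaf 0x212)) (.node 16081 (.leaf 0x4a1e2d939) (.node 16082 (.leaf 0x4a1e2d939) (.leaf 0x4a1e2d939)))) (.node 16085 (.node 16084 (.leaf 0x4a1e2d939) (.leaf 0x4a1e2d939)) (.node 16086 (.leaf 0x4a1e2d939) (.node 16087 (.leaf 0x4a1e2d939) (.leaf 0x4a1e2d939))))) (.node 16093 (.node 16090 (.node 16089 (.leaf 0x4a1e2d939) (.leaf 0x4a1e2d939)) (.node 16091 (.leaf 0x4a1e2d939) (.node 16092 (.leaf 0x4a1e2d939) (.leaf 0x4a1e2d939)))) (.node 16095 (.node 16094 (.leaf 0x4a1e2d939) (.leaf 0x4a1e2d939)) (.node 16096 (.leaf 0x4a1e2d939) (.node 16097 (.leaf 0x4a1e2d939) (.leaf 0x4a1e2d939))))))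

def candS_796 : Store := (.node 16108 (.node 16103 (.node 16100 (.node 16099 (.leaf 0x4a1e2d939) (.leaf 0x4a1e2d939)) (.node 16101 (.leaf 0x4a1e2d939) (.node 16102 (.leaf 0x4a1e2d939) (.leaf 0x4a1e2d939)))) (.node 16105 (.node 16104 (.leaf 0x4a1e2d939) (.leaf 0x104a1e2d939)) (.node 16106 (.leaf 0x104a1e2d939) (.node 16107 (.leaf 0x104a1e2d939) (.leaf 0x104a1e2d939))))) (.node 16113 (.node 16110 (.node 16109 (.leaf 0x104a1e2d939) (.leaf 0x104a1e2d939)) (.node 16111 (.leaf 0x104a1e2d939) (.node 16112 (.leaf 0x104a1e2d939) (.leaf 0x104a1e2d939)))) (.node 16116 (.node 16114 (.leaf 0x104a1e2d939) (.node 16115 (.leaf 0x104a1e2d939) (.leaf 0x104a1e2d939))) (.node 16117 (.leaf 0x84a1e2d939) (.node 16118 (.leaf 0x84a1e2d939) (.leaf 0x84a1e2d939))))))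

def candS_797 : Store := (.node 16129 (.node 16124 (.node 16121 (.node 16120 (.leaf 0x84a1e2d939) (.leaf 0x84a1e2d939)) (.node 16122 (.leaf 0x84a1e2d939) (.node 16123 (.leaf 0x84a1e2d939) (.leaf 0x84a1e2d939)))) (.node 16126 (.node 16125 (.leaf 0x84a1e2d939) (.leaf 0x84a1e2d939)) (.node 16127 (.leaf 0x84a1e2d939) (.node 16128 (.leaf 0x84a1e2d939) (.leaf 0x164c29ad939))))) (.node 16134 (.node 16131 (.node 16130 (.leaf 0x164c29ad939) (.leaf 0x164c29ad939)) (.node 16132 (.leaf 0x164c29ad939) (.node 16133 (.leaf 0x164c29ad939) (.leaf 0x164c29ad939)))) (.node 16136 (.node 16135 (.leaf 0x164c29ad939) (.leaf 0x164c29ad939)) (.node 16137 (.leaf 0x164c29ad939) (.node 16138 (.leaf 0x164c29ad939) (.leaf 0x164c29ad939))))))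

def candS_798 : Store := (.node 16149 (.node 16144 (.node 16141 (.node 16140 (.leaf 0x164c29ad939) (.leaf 0x464c29ad939)) (.node 16142 (.leaf 0x464c29ad939) (.node 16143 (.leaf 0x464c29ad939) (.leaf 0x464c29ad939)))) (.node 16146 (.node 16145 (.leaf 0x464c29ad939) (.leaf 0x464c29ad939)) (.node 16147 (.leaf 0x464c29ad939) (.node 16148 (.leaf 0x464c29ad939) (.leaf 0x464c29ad939))))) (.node 16154 (.node 16151 (.node 16150 (.leaf 0x464c29ad939) (.leaf 0x464c29ad939)) (.node 16152 (.leaf 0x464c29ad939) (.node 16153 (.leaf 0x800124c29ad939) (.leaf 0x124c29ad939)))) (.node 16156 (.node 16155 (.leaf 0x124c29ad939) (.leaf 0x5000124c29ad939)) (.node 16157 (.leaf 0x124c29ad939) (.node 16158 (.leaf 0x124c29ad939) (.leaf 0x124c29ad939))))))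

def candS_799 : Store := (.node 16169 (.node 16164 (.node 16161 (.node 16160 (.leaf 0x124c29ad939) (.leaf 0x5800124c29ad939)) (.node 16162 (.leaf 0x124c29ad939) (.node 16163 (.leaf 0x6800124c29ad939) (.leaf 0x124c29ad939)))) (.node 16166 (.node 16165 (.leaf 0x404c29ad939) (.leaf 0x404c29ad939)) (.node 16167 (.leaf 0x404c29ad939) (.node 16168 (.leaf 0x404c29ad939) (.leaf 0x404c29ad939))))) (.node 16174 (.node 16171 (.node 16170 (.leaf 0x404c29ad939) (.leaf 0x404c29ad939)) (.node 16172 (.leaf 0x404c29ad939) (.node 16173 (.leaf 0x404c29ad939) (.leaf 0x404c29ad939)))) (.node 16176 (.node 16175 (.leaf 0x404c29ad939) (.leaf 0x404c29ad939)) (.node 16177 (.leaf 0x4c29ad939) (.node 16178 (.leaf 0x4c29ad939) (.leaf 0x4c29ad939))))))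

def candS_800 : Store := (.node 16189 (.node 16184 (.node 16181 (.node 16180 (.leaf 0x4c29ad939) (.leaf 0x4c29ad939)) (.node 16182 (.leaf 0x4c29ad939) (.node 16183 (.leaf 0x4c29ad939) (.leaf 0x4c29ad939)))) (.node 16186 (.node 16185 (.leaf 0x4c29ad939) (.leaf 0x4c29ad939)) (.node 16187 (.leaf 0x4c29ad939) (.node 16188 (.leaf 0x4c29ad939) (.leaf 0x44c29ad939))))) (.node 16194 (.node 16191 (.node 16190 (.leaf 0x186) (.leaf 0x44c29ad939)) (.node 16192 (.leaf 0x44c29ad939) (.node 16193 (.leaf 0x44c29ad939) (.leaf 0x11c)))) (.node 16197 (.node 16195 (.leaf 0x44c29ad939) (.node 16196 (.leaf 0x3a2) (.leaf 0x44c29ad939))) (.node 16198 (.leaf 0x2b4) (.node 16199 (.leaf 0x44c29ad939) (.leaf 0x44c29ad939))))))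

def candS_801 : Store := (.node 16210 (.node 16205 (.node 16202 (.node 16201 (.leaf 0x244c29ad939) (.leaf 0x244c29ad939)) (.node 16203 (.leaf 0x244c29ad939) (.node 16204 (.leaf 0x244c29ad939) (.leaf 0x244c29ad939)))) (.node 16207 (.node 16206 (.leaf 0x244c29ad939) (.leaf 0x244c29ad939)) (.node 16208 (.leaf 0x244c29ad939) (.node 16209 (.leaf 0x244c29ad939) (.leaf 0x244c29ad939))))) (.node 16215 (.node 16212 (.node 16211 (.leaf 0x244c29ad939) (.leaf 0x244c29ad939)) (.node 16213 (.leaf 0x4c29ad939) (.node 16214 (.leaf 0x4c29ad939) (.leaf 0x4c29ad939)))) (.node 16217 (.node 16216 (.leaf 0x4c29ad939) (.leaf 0x4c29ad939)) (.node 16218 (.leaf 0x4c29ad939) (.node 16219 (.leaf 0x4c29ad939) (.leaf 0x4c29ad939))))))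

def candS_802 : Store := (.node 16230 (.node 16225 (.node 16222 (.node 16221 (.leaf 0x4c29ad939) (.leaf 0x4c29ad939)) (.node 16223 (.leaf 0x4c29ad939) (.node 16224 (.leaf 0x4c29ad939) (.leaf 0x4c29ad939)))) (.node 16227 (.node 16226 (.leaf 0x4c29ad939) (.leaf 0x4c29ad939)) (.node 16228 (.leaf 0x4c29ad939) (.node 16229 (.leaf 0x4c29ad939) (.leaf 0x4c29ad939))))) (.node 16235 (.node 16232 (.node 16231 (.leaf 0x4c29ad939) (.leaf 0x4c29ad939)) (.node 16233 (.leaf 0x4c29ad939) (.node 16234 (.leaf 0x4c29ad939) (.leaf 0x4c29ad939)))) (.node 16237 (.node 16236 (.leaf 0x4c29ad939) (.leaf 0x4c29ad939)) (.node 16238 (.leaf 0x4c29ad939) (.node 16239 (.leaf 0x4c29ad939) (.leaf 0x4c29ad939))))))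

def candS_803 : Store := (.node 16250 (.node 16245 (.node 16242 (.node 16241 (.leaf 0x4c29ad939) (.leaf 0x4c29ad939)) (.node 16243 (.leaf 0x4c29ad939) (.node 16244 (.leaf 0x4c29ad939) (.leaf 0x4c29ad939)))) (.node 16247 (.node 16246 (.leaf 0x4c29ad939) (.leaf 0x4c29ad939)) (.node 16248 (.leaf 0x4c29ad939) (.node 16249 (.leaf 0x4c29ad939) (.leaf 0x4c29ad939))))) (.node 16255 (.node 16252 (.node 16251 (.leaf 0x4c29ad939) (.leaf 0x4c29ad939)) (.node 16253 (.leaf 0x4c29ad939) (.node 16254 (.leaf 0x4c29ad939) (.leaf 0x4c29ad939)))) (.node 16257 (.node 16256 (.leaf 0x4c29ad939) (.leaf 0x4c29ad939)) (.node 16258 (.leaf 0x4c29ad939) (.node 16259 (.leaf 0x4c29ad939) (.leaf 0x4c29ad939))))))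

def candS_804 : Store := (.node 16270 (.node 16265 (.node 16262 (.node 16261 (.leaf 0x4c29ad939) (.leaf 0x4c29ad939)) (.node 16263 (.leaf 0x4c29ad939) (.node 16264 (.leaf 0x4c29ad939) (.leaf 0x4c29ad939)))) (.node 16267 (.node 16266 (.leaf 0x4c29ad939) (.leaf 0x4c29ad939)) (.node 16268 (.leaf 0x4c29ad939) (.node 16269 (.leaf 0x4c29ad939) (.leaf 0x4c29ad939))))) (.node 16275 (.node 16272 (.node 16271 (.leaf 0x4c29ad939) (.leaf 0x4c29ad939)) (.node 16273 (.leaf 0x2c1b19ad939) (.node 16274 (.leaf 0x2c1b19ad939) (.leaf 0x2c1b19ad939)))) (.node 16278 (.node 16276 (.leaf 0x2c1b19ad939) (.node 16277 (.leaf 0x2c1b19ad939) (.leaf 0x2c1b19ad939))) (.node 16279 (.leaf 0x2c1b19ad939) (.node 16280 (.leaf 0x2c1b19ad939) (.leaf 0x2c1b19ad939))))))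

def candS_805 : Store := (.node 16291 (.node 16286 (.node 16283 (.node 16282 (.leaf 0x2c1b19ad939) (.leaf 0x2c1b19ad939)) (.node 16284 (.leaf 0x2c1b19ad939) (.node 16285 (.leaf 0x1b19ad939) (.leaf 0x1b19ad939)))) (.node 16288 (.node 16287 (.leaf 0x1b19ad939) (.leaf 0x1b19ad939)) (.node 16289 (.leaf 0x1b19ad939) (.node 16290 (.leaf 0x1b19ad939) (.leaf 0x1b19ad939))))) (.node 16296 (.node 16293 (.node 16292 (.leaf 0x1b19ad939) (.leaf 0x1b19ad939)) (.node 16294 (.leaf 0x1b19ad939) (.node 16295 (.leaf 0x1b19ad939) (.leaf 0x1b19ad939)))) (.node 16298 (.node 16297 (.leaf 0x1b19ad939) (.leaf 0x1b19ad939)) (.node 16299 (.leaf 0x1b19ad939) (.node 16300 (.leaf 0x1b19ad939) (.leaf 0x1b19ad939))))))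

def candS_806 : Store := (.node 16311 (.node 16306 (.node 16303 (.node 16302 (.leaf 0x1b19ad939) (.leaf 0x1b19ad939)) (.node 16304 (.leaf 0x1b19ad939) (.node 16305 (.leaf 0x1b19ad939) (.leaf 0x1b19ad939)))) (.node 16308 (.node 16307 (.leaf 0x1b19ad939) (.leaf 0x1b19ad939)) (.node 16309 (.leaf 0x301b19ad939) (.node 16310 (.leaf 0x301b19ad939) (.leaf 0x301b19ad939))))) (.node 16316 (.node 16313 (.node 16312 (.leaf 0x301b19ad939) (.leaf 0x301b19ad939)) (.node 16314 (.leaf 0x301b19ad939) (.node 16315 (.leaf 0x301b19ad939) (.leaf 0x301b19ad939)))) (.node 16318 (.node 16317 (.leaf 0x301b19ad939) (.leaf 0x301b19ad939)) (.node 16319 (.leaf 0x301b19ad939) (.node 16320 (.leaf 0x301b19ad939) (.leaf 0x1b19ad939))))))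

def candS_807 : Store := (.node 16331 (.node 16326 (.node 16323 (.node 16322 (.leaf 0x1b19ad939) (.leaf 0x1b19ad939)) (.node 16324 (.leaf 0x1b19ad939) (.node 16325 (.leaf 0x1b19ad939) (.leaf 0x1b19ad939)))) (.node 16328 (.node 16327 (.leaf 0x1b19ad939) (.leaf 0x1b19ad939)) (.node 16329 (.leaf 0x1b19ad939) (.node 16330 (.leaf 0x1b19ad939) (.leaf 0x1b19ad939))))) (.node 16336 (.node 16333 (.node 16332 (.leaf 0x1b19ad939) (.leaf 0x1a1b19ad939)) (.node 16334 (.leaf 0x39c) (.node 16335 (.leaf 0x1a1b19ad939) (.leaf 0x1a1b19ad939)))) (.node 16338 (.node 16337 (.leaf 0x9c) (.leaf 0x1a1b19ad939)) (.node 16339 (.leaf 0x1a1b19ad939) (.node 16340 (.leaf 0x74) (.leaf 0x1a1b19ad939))))))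

def candS_808 : Store := (.node 16351 (.node 16346 (.node 16343 (.node 16342 (.leaf 0x15e) (.leaf 0x1a1b19ad939)) (.node 16344 (.leaf 0x1a1b19ad939) (.node 16345 (.leaf 0x1b19ad939) (.leaf 0x1b19ad939)))) (.node 16348 (.node 16347 (.leaf 0x1b19ad939) (.leaf 0x1b19ad939)) (.node 16349 (.leaf 0x1b19ad939) (.node 16350 (.leaf 0x1b19ad939) (.leaf 0x1b19ad939))))) (.node 16356 (.node 16353 (.node 16352 (.leaf 0x1b19ad939) (.leaf 0x1b19ad939)) (.node 16354 (.leaf 0x1b19ad939) (.node 16355 (.leaf 0x1b19ad939) (.leaf 0x1b19ad939)))) (.node 16359 (.node 16357 (.leaf 0x1b19ad939) (.node 16358 (.leaf 0x1b19ad939) (.leaf 0x1b19ad939))) (.node 16360 (.leaf 0x1b19ad939) (.node 16361 (.leaf 0x1b19ad939) (.leaf 0x1b19ad939))))))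

def candS_809 : Store := (.node 16372 (.node 16367 (.node 16364 (.node 16363 (.leaf 0x1b19ad939) (.leaf 0x1b19ad939)) (.node 16365 (.leaf 0x1b19ad939) (.node 16366 (.leaf 0x1b19ad939) (.leaf 0x1b19ad939)))) (.node 16369 (.node 16368 (.leaf 0x1b19ad939) (.leaf 0x221b19ad939)) (.node 16370 (.leaf 0x221b19ad939) (.node 16371 (.leaf 0x221b19ad939) (.leaf 0x221b19ad939))))) (.node 16377 (.node 16374 (.node 16373 (.leaf 0x221b19ad939) (.leaf 0x221b19ad939)) (.node 16375 (.leaf 0x221b19ad939) (.node 16376 (.leaf 0x221b19ad939) (.leaf 0x221b19ad939)))) (.node 16379 (.node 16378 (.leaf 0x221b19ad939) (.leaf 0x221b19ad939)) (.node 16380 (.leaf 0x221b19ad939) (.node 16381 (.leaf 0x1b19ad939) (.leaf 0x1b19ad939))))))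

def candS_810 : Store := (.node 16392 (.node 16387 (.node 16384 (.node 16383 (.leaf 0x1b19ad939) (.leaf 0x1b19ad939)) (.node 16385 (.leaf 0x1b19ad939) (.node 16386 (.leaf 0x1b19ad939) (.leaf 0x1b19ad939)))) (.node 16389 (.node 16388 (.leaf 0x1b19ad939) (.leaf 0x1b19ad939)) (.node 16390 (.leaf 0x1b19ad939) (.node 16391 (.leaf 0x1b19ad939) (.leaf 0x1b19ad939))))) (.node 16397 (.node 16394 (.node 16393 (.leaf 0xc1b19ad939) (.leaf 0xc1b19ad939)) (.node 16395 (.leaf 0xc1b19ad939) (.node 16396 (.leaf 0x80000c1b19ad939) (.leaf 0xc1b19ad939)))) (.node 16399 (.node 16398 (.leaf 0xc1b19ad939) (.leaf 0xc1b19ad939)) (.node 16400 (.leaf 0xc1b19ad939) (.node 16401 (.leaf 0x98000c1b19ad939) (.leaf 0xc1b19ad939))))))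

def candS_811 : Store := (.node 16412 (.node 16407 (.node 16404 (.node 16403 (.leaf 0xc1b19ad939) (.leaf 0x70000c1b19ad939)) (.node 16405 (.leaf 0x1b19ad939) (.node 16406 (.leaf 0x1b19ad939) (.leaf 0x1b19ad939)))) (.node 16409 (.node 16408 (.leaf 0x1b19ad939) (.leaf 0x1b19ad939)) (.node 16410 (.leaf 0x1b19ad939) (.node 16411 (.leaf 0x1b19ad939) (.leaf 0x1b19ad939))))) (.node 16417 (.node 16414 (.node 16413 (.leaf 0x1b19ad939) (.leaf 0x1b19ad939)) (.node 16415 (.leaf 0x1b19ad939) (.node 16416 (.leaf 0x1b19ad939) (.leaf 0x24240aad939)))) (.node 16419 (.node 16418 (.leaf 0x24240aad939) (.leaf 0x24240aad939)) (.node 16420 (.leaf 0x24240aad939) (.node 16421 (.leaf 0x24240aad939) (.leaf 0x24240aad939))))))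

def candS_812 : Store := (.node 16432 (.node 16427 (.node 16424 (.node 16423 (.leaf 0x24240aad939) (.leaf 0x24240aad939)) (.node 16425 (.leaf 0x24240aad939) (.node 16426 (.leaf 0x24240aad939) (.leaf 0x24240aad939)))) (.node 16429 (.node 16428 (.leaf 0x24240aad939) (.leaf 0x18240aad939)) (.node 16430 (.leaf 0x18240aad939) (.node 16431 (.leaf 0x18240aad939) (.leaf 0x18240aad939))))) (.node 16437 (.node 16434 (.node 16433 (.leaf 0x18240aad939) (.leaf 0x18240aad939)) (.node 16435 (.leaf 0x18240aad939) (.node 16436 (.leaf 0x18240aad939) (.leaf 0x18240aad939)))) (.node 16440 (.node 16438 (.leaf 0x18240aad939) (.node 16439 (.leaf 0x18240aad939) (.leaf 0x18240aad939))) (.node 16441 (.leaf 0x240aad939) (.node 16442 (.leaf 0x240aad939) (.leaf 0x240aad939))))))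

def candS_813 : Store := (.node 16453 (.node 16448 (.node 16445 (.node 16444 (.leaf 0x240aad939) (.leaf 0x240aad939)) (.node 16446 (.leaf 0x240aad939) (.node 16447 (.leaf 0x240aad939) (.leaf 0x240aad939)))) (.node 16450 (.node 16449 (.leaf 0x240aad939) (.leaf 0x240aad939)) (.node 16451 (.leaf 0x240aad939) (.node 16452 (.leaf 0x240aad939) (.leaf 0x240aad939))))) (.node 16458 (.node 16455 (.node 16454 (.leaf 0x240aad939) (.leaf 0x240aad939)) (.node 16456 (.leaf 0x240aad939) (.node 16457 (.leaf 0x240aad939) (.leaf 0x240aad939)))) (.node 16460 (.node 16459 (.leaf 0x240aad939) (.leaf 0x240aad939)) (.node 16461 (.leaf 0x240aad939) (.node 16462 (.leaf 0x240aad939) (.leaf 0x240aad939))))))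

def candS_814 : Store := (.node 16473 (.node 16468 (.node 16465 (.node 16464 (.leaf 0x240aad939) (.leaf 0x240aad939)) (.node 16466 (.leaf 0x240aad939) (.node 16467 (.leaf 0x240aad939) (.leaf 0x240aad939)))) (.node 16470 (.node 16469 (.leaf 0x240aad939) (.leaf 0x240aad939)) (.node 16471 (.leaf 0x240aad939) (.node 16472 (.leaf 0x240aad939) (.leaf 0x240aad939))))) (.node 16478 (.node 16475 (.node 16474 (.leaf 0x240aad939) (.leaf 0x240aad939)) (.node 16476 (.leaf 0x240aad939) (.node 16477 (.leaf 0x240aad939) (.leaf 0x240aad939)))) (.node 16480 (.node 16479 (.leaf 0x240aad939) (.leaf 0x240aad939)) (.node 16481 (.leaf 0x240aad939) (.node 16482 (.leaf 0x240aad939) (.leaf 0x240aad939))))))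

def candS_815 : Store := (.node 16493 (.node 16488 (.node 16485 (.node 16484 (.leaf 0x240aad939) (.leaf 0x240aad939)) (.node 16486 (.leaf 0x240aad939) (.node 16487 (.leaf 0x240aad939) (.leaf 0x240aad939)))) (.node 16490 (.node 16489 (.leaf 0x32240aad939) (.leaf 0x32240aad939)) (.node 16491 (.leaf 0x32240aad939) (.node 16492 (.leaf 0x32240aad939) (.leaf 0x32240aad939))))) (.node 16498 (.node 16495 (.node 16494 (.leaf 0x32240aad939) (.leaf 0x32240aad939)) (.node 16496 (.leaf 0x32240aad939) (.node 16497 (.leaf 0x32240aad939) (.leaf 0x32240aad939)))) (.node 16500 (.node 16499 (.leaf 0x32240aad939) (.leaf 0x32240aad939)) (.node 16501 (.leaf 0xa240aad939) (.node 16502 (.leaf 0xa240aad939) (.leaf 0xa240aad939))))))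

def candS_816 : Store := (.node 16513 (.node 16508 (.node 16505 (.node 16504 (.leaf 0xa240aad939) (.leaf 0xa240aad939)) (.node 16506 (.leaf 0xa240aad939) (.node 16507 (.leaf 0xa240aad939) (.leaf 0xa240aad939)))) (.node 16510 (.node 16509 (.leaf 0xa240aad939) (.leaf 0xa240aad939)) (.node 16511 (.leaf 0xa240aad939) (.node 16512 (.leaf 0xa240aad939) (.leaf 0x2a240aad939))))) (.node 16518 (.node 16515 (.node 16514 (.leaf 0x2a240aad939) (.leaf 0x2a240aad939)) (.node 16516 (.leaf 0x2a240aad939) (.node 16517 (.leaf 0x2a240aad939) (.leaf 0x2a240aad939)))) (.node 16521 (.node 16519 (.leaf 0x2a240aad939) (.node 16520 (.leaf 0x2a240aad939) (.leaf 0x2a240aad939))) (.node 16522 (.leaf 0x2a240aad939) (.node 16523 (.leaf 0x2a240aad939) (.leaf 0x2a240aad939))))))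

def candS_817 : Store := (.node 16534 (.node 16529 (.node 16526 (.node 16525 (.leaf 0x240aad939) (.leaf 0x240aad939)) (.node 16527 (.leaf 0x240aad939) (.node 16528 (.leaf 0x240aad939) (.leaf 0x240aad939)))) (.node 16531 (.node 16530 (.leaf 0x240aad939) (.leaf 0x240aad939)) (.node 16532 (.leaf 0x240aad939) (.node 16533 (.leaf 0x240aad939) (.leaf 0x240aad939))))) (.node 16539 (.node 16536 (.node 16535 (.leaf 0x240aad939) (.leaf 0x240aad939)) (.node 16537 (.leaf 0x240aad939) (.node 16538 (.leaf 0x240aad939) (.leaf 0x240aad939)))) (.node 16541 (.node 16540 (.leaf 0x240aad939) (.leaf 0x240aad939)) (.node 16542 (.leaf 0x240aad939) (.node 16543 (.leaf 0x240aad939) (.leaf 0x240aad939))))))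

def candS_818 : Store := (.node 16554 (.node 16549 (.node 16546 (.node 16545 (.leaf 0x240aad939) (.leaf 0x240aad939)) (.node 16547 (.leaf 0x240aad939) (.node 16548 (.leaf 0x240aad939) (.leaf 0x240aad939)))) (.node 16551 (.node 16550 (.leaf 0x240aad939) (.leaf 0x240aad939)) (.node 16552 (.leaf 0x240aad939) (.node 16553 (.leaf 0x240aad939) (.leaf 0x240aad939))))) (.node 16559 (.node 16556 (.node 16555 (.leaf 0x240aad939) (.leaf 0x240aad939)) (.node 16557 (.leaf 0x240aad939) (.node 16558 (.leaf 0x240aad939) (.leaf 0x240aad939)))) (.node 16561 (.node 16560 (.leaf 0x240aad939) (.leaf 0x4422252d939)) (.node 16562 (.leaf 0x4422252d939) (.node 16563 (.leaf 0x4422252d939) (.leaf 0x4422252d939))))))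

def candS_819 : Store := (.node 16574 (.node 16569 (.node 16566 (.node 16565 (.leaf 0x4422252d939) (.leaf 0x4422252d939)) (.node 16567 (.leaf 0x4422252d939) (.node 16568 (.leaf 0x4422252d939) (.leaf 0x4422252d939)))) (.node 16571 (.node 16570 (.leaf 0x4422252d939) (.leaf 0x4422252d939)) (.node 16572 (.leaf 0x4422252d939) (.node 16573 (.leaf 0x3822252d939) (.leaf 0x3822252d939))))) (.node 16579 (.node 16576 (.node 16575 (.leaf 0x3822252d939) (.leaf 0x3822252d939)) (.node 16577 (.leaf 0x3822252d939) (.node 16578 (.leaf 0x3822252d939) (.leaf 0x3822252d939)))) (.node 16581 (.node 16580 (.leaf 0x3822252d939) (.leaf 0x3822252d939)) (.node 16582 (.leaf 0x3822252d939) (.node 16583 (.leaf 0x3822252d939) (.leaf 0x3822252d939))))))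

def candS_820 : Store := (.node 16594 (.node 16589 (.node 16586 (.node 16585 (.leaf 0x22252d939) (.leaf 0x22252d939)) (.node 16587 (.leaf 0x22252d939) (.node 16588 (.leaf 0x22252d939) (.leaf 0x22252d939)))) (.node 16591 (.node 16590 (.leaf 0x22252d939) (.leaf 0x22252d939)) (.node 16592 (.leaf 0x22252d939) (.node 16593 (.leaf 0x22252d939) (.leaf 0x22252d939))))) (.node 16599 (.node 16596 (.node 16595 (.leaf 0x22252d939) (.leaf 0x22252d939)) (.node 16597 (.leaf 0x222252d939) (.node 16598 (.leaf 0x222252d939) (.leaf 0x222252d939)))) (.node 16602 (.node 16600 (.leaf 0x222252d939) (.node 16601 (.leaf 0x222252d939) (.leaf 0x222252d939))) (.node 16603 (.leaf 0x222252d939) (.node 16604 (.leaf 0x222252d939) (.leaf 0x222252d939))))))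

def candS_821 : Store := (.node 16615 (.node 16610 (.node 16607 (.node 16606 (.leaf 0x222252d939) (.leaf 0x222252d939)) (.node 16608 (.leaf 0x222252d939) (.node 16609 (.leaf 0x22252d939) (.leaf 0x22252d939)))) (.node 16612 (.node 16611 (.leaf 0x22252d939) (.leaf 0x22252d939)) (.node 16613 (.leaf 0x22252d939) (.node 16614 (.leaf 0x22252d939) (.leaf 0x22252d939))))) (.node 16620 (.node 16617 (.node 16616 (.leaf 0x22252d939) (.leaf 0x22252d939)) (.node 16618 (.leaf 0x22252d939) (.node 16619 (.leaf 0x22252d939) (.leaf 0x22252d939)))) (.node 16622 (.node 16621 (.leaf 0x1a22252d939) (.leaf 0x1a4)) (.node 16623 (.leaf 0x1a22252d939) (.node 16624 (.leaf 0x1a22252d939) (.leaf 0x2c8))))))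

def candS_822 : Store := (.node 16635 (.node 16630 (.node 16627 (.node 16626 (.leaf 0x3b2) (.leaf 0x1a22252d939)) (.node 16628 (.leaf 0x1a22252d939) (.node 16629 (.leaf 0x1a22252d939) (.leaf 0x16c)))) (.node 16632 (.node 16631 (.leaf 0x1a22252d939) (.leaf 0x1a22252d939)) (.node 16633 (.leaf 0x22252d939) (.node 16634 (.leaf 0x22252d939) (.leaf 0x22252d939))))) (.node 16640 (.node 16637 (.node 16636 (.leaf 0x22252d939) (.leaf 0x22252d939)) (.node 16638 (.leaf 0x22252d939) (.node 16639 (.leaf 0x22252d939) (.leaf 0x22252d939)))) (.node 16642 (.node 16641 (.leaf 0x22252d939) (.leaf 0x22252d939)) (.node 16643 (.leaf 0x22252d939) (.node 16644 (.leaf 0x22252d939) (.leaf 0x22252d939))))))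

def candS_823 : Store := (.node 16655 (.node 16650 (.node 16647 (.node 16646 (.leaf 0x22252d939) (.leaf 0x22252d939)) (.node 16648 (.leaf 0x22252d939) (.node 16649 (.leaf 0x22252d939) (.leaf 0x22252d939)))) (.node 16652 (.node 16651 (.leaf 0x22252d939) (.leaf 0x22252d939)) (.node 16653 (.leaf 0x22252d939) (.node 16654 (.leaf 0x22252d939) (.leaf 0x22252d939))))) (.node 16660 (.node 16657 (.node 16656 (.leaf 0x22252d939) (.leaf 0x1622252d939)) (.node 16658 (.leaf 0x1622252d939) (.node 16659 (.leaf 0x1622252d939) (.leaf 0x1622252d939)))) (.node 16662 (.node 16661 (.leaf 0x1622252d939) (.leaf 0x1622252d939)) (.node 16663 (.leaf 0x1622252d939) (.node 16664 (.leaf 0x1622252d939) (.leaf 0x1622252d939))))))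

def candS_824 : Store := (.node 16675 (.node 16670 (.node 16667 (.node 16666 (.leaf 0x1622252d939) (.leaf 0x1622252d939)) (.node 16668 (.leaf 0x1622252d939) (.node 16669 (.leaf 0x22252d939) (.leaf 0x22252d939)))) (.node 16672 (.node 16671 (.leaf 0x22252d939) (.leaf 0x22252d939)) (.node 16673 (.leaf 0x22252d939) (.node 16674 (.leaf 0x22252d939) (.leaf 0x22252d939))))) (.node 16680 (.node 16677 (.node 16676 (.leaf 0x22252d939) (.leaf 0x22252d939)) (.node 16678 (.leaf 0x22252d939) (.node 16679 (.leaf 0x22252d939) (.leaf 0x22252d939)))) (.node 16683 (.node 16681 (.leaf 0x22252d939) (.node 16682 (.leaf 0x22252d939) (.leaf 0x22252d939))) (.node 16684 (.leaf 0x22252d939) (.node 16685 (.leaf 0x22252d939) (.leaf 0x22252d939))))))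

def candS_825 : Store := (.node 16696 (.node 16691 (.node 16688 (.node 16687 (.leaf 0x22252d939) (.leaf 0x22252d939)) (.node 16689 (.leaf 0x22252d939) (.node 16690 (.leaf 0x22252d939) (.leaf 0x22252d939)))) (.node 16693 (.node 16692 (.leaf 0x22252d939) (.leaf 0x78001022252d939)) (.node 16694 (.leaf 0x1022252d939) (.node 16695 (.leaf 0x1022252d939) (.leaf 0x30001022252d939))))) (.node 16701 (.node 16698 (.node 16697 (.leaf 0x1022252d939) (.leaf 0x1022252d939)) (.node 16699 (.leaf 0x1022252d939) (.node 16700 (.leaf 0x1022252d939) (.leaf 0x1022252d939)))) (.node 16703 (.node 16702 (.leaf 0x1022252d939) (.leaf 0x60001022252d939)) (.node 16704 (.leaf 0x20001022252d939) (.node 16705 (.leaf 0x471c2d939) (.leaf 0x471c2d939))))))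

def candS_826 : Store := (.node 16716 (.node 16711 (.node 16708 (.node 16707 (.leaf 0x471c2d939) (.leaf 0x471c2d939)) (.node 16709 (.leaf 0x471c2d939) (.node 16710 (.leaf 0x471c2d939) (.leaf 0x471c2d939)))) (.node 16713 (.node 16712 (.leaf 0x471c2d939) (.leaf 0x471c2d939)) (.node 16714 (.leaf 0x471c2d939) (.node 16715 (.leaf 0x471c2d939) (.leaf 0x471c2d939))))) (.node 16721 (.node 16718 (.node 16717 (.leaf 0x471c2d939) (.leaf 0x471c2d939)) (.node 16719 (.leaf 0x471c2d939) (.node 16720 (.leaf 0x471c2d939) (.leaf 0x471c2d939)))) (.node 16723 (.node 16722 (.leaf 0x471c2d939) (.leaf 0x471c2d939)) (.node 16724 (.leaf 0x471c2d939) (.node 16725 (.leaf 0x471c2d939) (.leaf 0x471c2d939))))))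

def candS_827 : Store := (.node 16736 (.node 16731 (.node 16728 (.node 16727 (.leaf 0x471c2d939) (.leaf 0x471c2d939)) (.node 16729 (.leaf 0x20471c2d939) (.node 16730 (.leaf 0x20471c2d939) (.leaf 0x20471c2d939)))) (.node 16733 (.node 16732 (.leaf 0x20471c2d939) (.leaf 0x20471c2d939)) (.node 16734 (.leaf 0x20471c2d939) (.node 16735 (.leaf 0x20471c2d939) (.leaf 0x20471c2d939))))) (.node 16741 (.node 16738 (.node 16737 (.leaf 0x20471c2d939) (.leaf 0x20471c2d939)) (.node 16739 (.leaf 0x20471c2d939) (.node 16740 (.leaf 0x20471c2d939) (.leaf 0x471c2d939)))) (.node 16743 (.node 16742 (.leaf 0x471c2d939) (.leaf 0x471c2d939)) (.node 16744 (.leaf 0x471c2d939) (.node 16745 (.leaf 0x471c2d939) (.leaf 0x471c2d939))))))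

def candS_828 : Store := (.node 16756 (.node 16751 (.node 16748 (.node 16747 (.leaf 0x471c2d939) (.leaf 0x471c2d939)) (.node 16749 (.leaf 0x471c2d939) (.node 16750 (.leaf 0x471c2d939) (.leaf 0x471c2d939)))) (.node 16753 (.node 16752 (.leaf 0x471c2d939) (.leaf 0x44471c2d939)) (.node 16754 (.leaf 0x44471c2d939) (.node 16755 (.leaf 0x44471c2d939) (.leaf 0x44471c2d939))))) (.node 16761 (.node 16758 (.node 16757 (.leaf 0x44471c2d939) (.leaf 0x44471c2d939)) (.node 16759 (.leaf 0x44471c2d939) (.node 16760 (.leaf 0x44471c2d939) (.leaf 0x44471c2d939)))) (.node 16764 (.node 16762 (.leaf 0x44471c2d939) (.node 16763 (.leaf 0x44471c2d939) (.leaf 0x44471c2d939))) (.node 16765 (.leaf 0x471c2d939) (.node 16766 (.leaf 0x471c2d939) (.leaf 0x471c2d939))))))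

def candS_829 : Store := (.node 16777 (.node 16772 (.node 16769 (.node 16768 (.leaf 0x471c2d939) (.leaf 0x471c2d939)) (.node 16770 (.leaf 0x471c2d939) (.node 16771 (.leaf 0x471c2d939) (.leaf 0x471c2d939)))) (.node 16774 (.node 16773 (.leaf 0x471c2d939) (.leaf 0x471c2d939)) (.node 16775 (.leaf 0x471c2d939) (.node 16776 (.leaf 0x471c2d939) (.leaf 0x32471c2d939))))) (.node 16782 (.node 16779 (.node 16778 (.leaf 0x680032471c2d939) (.leaf 0x32471c2d939)) (.node 16780 (.leaf 0x32471c2d939) (.node 16781 (.leaf 0x580032471c2d939) (.leaf 0x500032471c2d939)))) (.node 16784 (.node 16783 (.leaf 0x32471c2d939) (.leaf 0x32471c2d939)) (.node 16785 (.leaf 0x32471c2d939) (.node 16786 (.leaf 0x80032471c2d939) (.leaf 0x32471c2d939))))))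

def candS_830 : Store := (.node 16797 (.node 16792 (.node 16789 (.node 16788 (.leaf 0x32471c2d939) (.leaf 0x36c)) (.node 16790 (.leaf 0xa471c2d939) (.node 16791 (.leaf 0xa471c2d939) (.leaf 0x20a)))) (.node 16794 (.node 16793 (.leaf 0xa471c2d939) (.leaf 0xa471c2d939)) (.node 16795 (.leaf 0xa471c2d939) (.node 16796 (.leaf 0xa471c2d939) (.leaf 0xa471c2d939))))) (.node 16802 (.node 16799 (.node 16798 (.leaf 0xa471c2d939) (.leaf 0x248)) (.node 16800 (.leaf 0x20e) (.node 16801 (.leaf 0x471c2d939) (.leaf 0x471c2d939)))) (.node 16804 (.node 16803 (.leaf 0x471c2d939) (.leaf 0x471c2d939)) (.node 16805 (.leaf 0x471c2d939) (.node 16806 (.leaf 0x471c2d939) (.leaf 0x471c2d939))))))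

def candS_831 : Store := (.node 16817 (.node 16812 (.node 16809 (.node 16808 (.leaf 0x471c2d939) (.leaf 0x471c2d939)) (.node 16810 (.leaf 0x471c2d939) (.node 16811 (.leaf 0x471c2d939) (.leaf 0x471c2d939)))) (.node 16814 (.node 16813 (.leaf 0x2e471c2d939) (.leaf 0x2e471c2d939)) (.node 16815 (.leaf 0x2e471c2d939) (.node 16816 (.leaf 0x2e471c2d939) (.leaf 0x2e471c2d939))))) (.node 16822 (.node 16819 (.node 16818 (.leaf 0x2e471c2d939) (.leaf 0x2e471c2d939)) (.node 16820 (.leaf 0x2e471c2d939) (.node 16821 (.leaf 0x2e471c2d939) (.leaf 0x2e471c2d939)))) (.node 16824 (.node 16823 (.leaf 0x2e471c2d939) (.leaf 0x2e471c2d939)) (.node 16825 (.leaf 0x26471c2d939) (.node 16826 (.leaf 0x26471c2d939) (.leaf 0x26471c2d939))))))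

def candS_832 : Store := (.node 16837 (.node 16832 (.node 16829 (.node 16828 (.leaf 0x26471c2d939) (.leaf 0x26471c2d939)) (.node 16830 (.leaf 0x26471c2d939) (.node 16831 (.leaf 0x26471c2d939) (.leaf 0x26471c2d939)))) (.node 16834 (.node 16833 (.leaf 0x26471c2d939) (.leaf 0x26471c2d939)) (.node 16835 (.leaf 0x26471c2d939) (.node 16836 (.leaf 0x26471c2d939) (.leaf 0x471c2d939))))) (.node 16842 (.node 16839 (.node 16838 (.leaf 0x471c2d939) (.leaf 0x471c2d939)) (.node 16840 (.leaf 0x471c2d939) (.node 16841 (.leaf 0x471c2d939) (.leaf 0x471c2d939)))) (.node 16845 (.node 16843 (.leaf 0x471c2d939) (.node 16844 (.leaf 0x471c2d939) (.leaf 0x471c2d939))) (.node 16846 (.leaf 0x471c2d939) (.node 16847 (.leaf 0x471c2d939) (.leaf 0x471c2d939))))))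

def candS_833 : Store := (.node 16858 (.node 16853 (.node 16850 (.node 16849 (.leaf 0x322cad939) (.leaf 0x322cad939)) (.node 16851 (.leaf 0x322cad939) (.node 16852 (.leaf 0x322cad939) (.leaf 0x322cad939)))) (.node 16855 (.node 16854 (.leaf 0x322cad939) (.leaf 0x322cad939)) (.node 16856 (.leaf 0x322cad939) (.node 16857 (.leaf 0x322cad939) (.leaf 0x322cad939))))) (.node 16863 (.node 16860 (.node 16859 (.leaf 0x322cad939) (.leaf 0x322cad939)) (.node 16861 (.leaf 0x6322cad939) (.node 16862 (.leaf 0x6322cad939) (.leaf 0x6322cad939)))) (.node 16865 (.node 16864 (.leaf 0x6322cad939) (.leaf 0x6322cad939)) (.node 16866 (.leaf 0x6322cad939) (.node 16867 (.leaf 0x6322cad939) (.leaf 0x6322cad939))))))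

def candS_834 : Store := (.node 16878 (.node 16873 (.node 16870 (.node 16869 (.leaf 0x6322cad939) (.leaf 0x6322cad939)) (.node 16871 (.leaf 0x6322cad939) (.node 16872 (.leaf 0x6322cad939) (.leaf 0x322cad939)))) (.node 16875 (.node 16874 (.leaf 0x322cad939) (.leaf 0x322cad939)) (.node 16876 (.leaf 0x322cad939) (.node 16877 (.leaf 0x322cad939) (.leaf 0x322cad939))))) (.node 16883 (.node 16880 (.node 16879 (.leaf 0x322cad939) (.leaf 0x322cad939)) (.node 16881 (.leaf 0x322cad939) (.node 16882 (.leaf 0x322cad939) (.leaf 0x322cad939)))) (.node 16885 (.node 16884 (.leaf 0x322cad939) (.leaf 0x14322cad939)) (.node 16886 (.leaf 0x14322cad939) (.node 16887 (.leaf 0x14322cad939) (.leaf 0x14322cad939))))))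

def candS_835 : Store := (.node 16898 (.node 16893 (.node 16890 (.node 16889 (.leaf 0x14322cad939) (.leaf 0x14322cad939)) (.node 16891 (.leaf 0x14322cad939) (.node 16892 (.leaf 0x14322cad939) (.leaf 0x14322cad939)))) (.node 16895 (.node 16894 (.leaf 0x14322cad939) (.leaf 0x14322cad939)) (.node 16896 (.leaf 0x14322cad939) (.node 16897 (.leaf 0x70003c322cad939) (.leaf 0x3c322cad939))))) (.node 16903 (.node 16900 (.node 16899 (.leaf 0x3c322cad939) (.leaf 0x3c322cad939)) (.node 16901 (.leaf 0x3c322cad939) (.node 16902 (.leaf 0x3c322cad939) (.leaf 0x3c322cad939)))) (.node 16905 (.node 16904 (.leaf 0x3c322cad939) (.leaf 0x80003c322cad939)) (.node 16906 (.leaf 0x3c322cad939) (.node 16907 (.leaf 0x98003c322cad939) (.leaf 0x3c322cad939))))))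

def candS_836 : Store := (.node 16918 (.node 16913 (.node 16910 (.node 16909 (.leaf 0x42322cad939) (.leaf 0x2c)) (.node 16911 (.leaf 0x42322cad939) (.node 16912 (.leaf 0x42322cad939) (.leaf 0x2cc)))) (.node 16915 (.node 16914 (.leaf 0x164) (.leaf 0x42322cad939)) (.node 16916 (.leaf 0x86) (.node 16917 (.leaf 0x42322cad939) (.leaf 0x42322cad939))))) (.node 16923 (.node 16920 (.node 16919 (.leaf 0x42322cad939) (.leaf 0x42322cad939)) (.node 16921 (.leaf 0x1c322cad939) (.node 16922 (.leaf 0x1c322cad939) (.leaf 0x1c322cad939)))) (.node 16926 (.node 16924 (.leaf 0x1c322cad939) (.node 16925 (.leaf 0x1c322cad939) (.leaf 0x1c322cad939))) (.node 16927 (.leaf 0x1c322cad939) (.node 16928 (.leaf 0x1c322cad939) (.leaf 0x1c322cad939))))))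

def candS_837 : Store := (.node 16939 (.node 16934 (.node 16931 (.node 16930 (.leaf 0x1c322cad939) (.leaf 0x1c322cad939)) (.node 16932 (.leaf 0x1c322cad939) (.node 16933 (.leaf 0x322cad939) (.leaf 0x322cad939)))) (.node 16936 (.node 16935 (.leaf 0x322cad939) (.leaf 0x322cad939)) (.node 16937 (.leaf 0x322cad939) (.node 16938 (.leaf 0x322cad939) (.leaf 0x322cad939))))) (.node 16944 (.node 16941 (.node 16940 (.leaf 0x322cad939) (.leaf 0x322cad939)) (.node 16942 (.leaf 0x322cad939) (.node 16943 (.leaf 0x322cad939) (.leaf 0x322cad939)))) (.node 16946 (.node 16945 (.leaf 0x3a322cad939) (.leaf 0x3a322cad939)) (.node 16947 (.leaf 0x3a322cad939) (.node 16948 (.leaf 0x3a322cad939) (.leaf 0x3a322cad939))))))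

def candS_838 : Store := (.node 16959 (.node 16954 (.node 16951 (.node 16950 (.leaf 0x3a322cad939) (.leaf 0x3a322cad939)) (.node 16952 (.leaf 0x3a322cad939) (.node 16953 (.leaf 0x3a322cad939) (.leaf 0x3a322cad939)))) (.node 16956 (.node 16955 (.leaf 0x3a322cad939) (.leaf 0x3a322cad939)) (.node 16957 (.leaf 0x322cad939) (.node 16958 (.leaf 0x322cad939) (.leaf 0x322cad939))))) (.node 16964 (.node 16961 (.node 16960 (.leaf 0x322cad939) (.leaf 0x322cad939)) (.node 16962 (.leaf 0x322cad939) (.node 16963 (.leaf 0x322cad939) (.leaf 0x322cad939)))) (.node 16966 (.node 16965 (.leaf 0x322cad939) (.leaf 0x322cad939)) (.node 16967 (.leaf 0x322cad939) (.node 16968 (.leaf 0x322cad939) (.leaf 0x322cad939))))))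

def candS_839 : Store := (.node 16979 (.node 16974 (.node 16971 (.node 16970 (.leaf 0x322cad939) (.leaf 0x322cad939)) (.node 16972 (.leaf 0x322cad939) (.node 16973 (.leaf 0x322cad939) (.leaf 0x322cad939)))) (.node 16976 (.node 16975 (.leaf 0x322cad939) (.leaf 0x322cad939)) (.node 16977 (.leaf 0x322cad939) (.node 16978 (.leaf 0x322cad939) (.leaf 0x322cad939))))) (.node 16984 (.node 16981 (.node 16980 (.leaf 0x322cad939) (.leaf 0x322cad939)) (.node 16982 (.leaf 0x322cad939) (.node 16983 (.leaf 0x322cad939) (.leaf 0x322cad939)))) (.node 16986 (.node 16985 (.leaf 0x322cad939) (.leaf 0x322cad939)) (.node 16987 (.leaf 0x322cad939) (.node 16988 (.leaf 0x322cad939) (.leaf 0x322cad939))))))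

def candS_840 : Store := (.node 16999 (.node 16994 (.node 16991 (.node 16990 (.leaf 0x322cad939) (.leaf 0x322cad939)) (.node 16992 (.leaf 0x322cad939) (.node 16993 (.leaf 0x4a2b2d939) (.leaf 0x4a2b2d939)))) (.node 16996 (.node 16995 (.leaf 0x4a2b2d939) (.leaf 0x4a2b2d939)) (.node 16997 (.leaf 0x4a2b2d939) (.node 16998 (.leaf 0x4a2b2d939) (.leaf 0x4a2b2d939))))) (.node 17004 (.node 17001 (.node 17000 (.leaf 0x4a2b2d939) (.leaf 0x4a2b2d939)) (.node 17002 (.leaf 0x4a2b2d939) (.node 17003 (.leaf 0x4a2b2d939) (.leaf 0x4a2b2d939)))) (.node 17007 (.node 17005 (.leaf 0x4a2b2d939) (.node 17006 (.leaf 0x4a2b2d939) (.leaf 0x4a2b2d939))) (.node 17008 (.leaf 0x4a2b2d939) (.node 17009 (.leaf 0x4a2b2d939) (.leaf 0x4a2b2d939))))))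

def candS_841 : Store := (.node 17020 (.node 17015 (.node 17012 (.node 17011 (.leaf 0x4a2b2d939) (.leaf 0x4a2b2d939)) (.node 17013 (.leaf 0x4a2b2d939) (.node 17014 (.leaf 0x4a2b2d939) (.leaf 0x4a2b2d939)))) (.node 17017 (.node 17016 (.leaf 0x4a2b2d939) (.leaf 0x164a2b2d939)) (.node 17018 (.leaf 0x164a2b2d939) (.node 17019 (.leaf 0x164a2b2d939) (.leaf 0x164a2b2d939))))) (.node 17025 (.node 17022 (.node 17021 (.leaf 0x164a2b2d939) (.leaf 0x164a2b2d939)) (.node 17023 (.leaf 0x164a2b2d939) (.node 17024 (.leaf 0x164a2b2d939) (.leaf 0x164a2b2d939)))) (.node 17027 (.node 17026 (.leaf 0x164a2b2d939) (.leaf 0x164a2b2d939)) (.node 17028 (.leaf 0x164a2b2d939) (.node 17029 (.leaf 0x104a2b2d939) (.leaf 0x104a2b2d939))))))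

def candS_842 : Store := (.node 17040 (.node 17035 (.node 17032 (.node 17031 (.leaf 0x104a2b2d939) (.leaf 0x104a2b2d939)) (.node 17033 (.leaf 0x8800104a2b2d939) (.node 17034 (.leaf 0x4000104a2b2d939) (.leaf 0x104a2b2d939)))) (.node 17037 (.node 17036 (.leaf 0x1000104a2b2d939) (.leaf 0x104a2b2d939)) (.node 17038 (.leaf 0x4800104a2b2d939) (.node 17039 (.leaf 0x104a2b2d939) (.leaf 0x104a2b2d939))))) (.node 17045 (.node 17042 (.node 17041 (.leaf 0x384a2b2d939) (.leaf 0x384a2b2d939)) (.node 17043 (.leaf 0x384a2b2d939) (.node 17044 (.leaf 0x384a2b2d939) (.leaf 0x384a2b2d939)))) (.node 17047 (.node 17046 (.leaf 0x384a2b2d939) (.leaf 0x384a2b2d939)) (.node 17048 (.leaf 0x384a2b2d939) (.node 17049 (.leaf 0x384a2b2d939) (.leaf 0x384a2b2d939))))))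

def candS_843 : Store := (.node 17060 (.node 17055 (.node 17052 (.node 17051 (.leaf 0x384a2b2d939) (.leaf 0x384a2b2d939)) (.node 17053 (.leaf 0x4a2b2d939) (.node 17054 (.leaf 0x4a2b2d939) (.leaf 0x4a2b2d939)))) (.node 17057 (.node 17056 (.leaf 0x4a2b2d939) (.leaf 0x4a2b2d939)) (.node 17058 (.leaf 0x4a2b2d939) (.node 17059 (.leaf 0x4a2b2d939) (.leaf 0x4a2b2d939))))) (.node 17065 (.node 17062 (.node 17061 (.leaf 0x4a2b2d939) (.leaf 0x4a2b2d939)) (.node 17063 (.leaf 0x4a2b2d939) (.node 17064 (.leaf 0x4a2b2d939) (.leaf 0x4a2b2d939)))) (.node 17067 (.node 17066 (.leaf 0x4a2b2d939) (.leaf 0x4a2b2d939)) (.node 17068 (.leaf 0x4a2b2d939) (.node 17069 (.leaf 0x4a2b2d939) (.leaf 0x4a2b2d939))))))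

def candS_844 : Store := (.node 17080 (.node 17075 (.node 17072 (.node 17071 (.leaf 0x4a2b2d939) (.leaf 0x4a2b2d939)) (.node 17073 (.leaf 0x4a2b2d939) (.node 17074 (.leaf 0x4a2b2d939) (.leaf 0x4a2b2d939)))) (.node 17077 (.node 17076 (.leaf 0x4a2b2d939) (.leaf 0x252)) (.node 17078 (.leaf 0x444a2b2d939) (.node 17079 (.leaf 0x444a2b2d939) (.leaf 0x25c))))) (.node 17085 (.node 17082 (.node 17081 (.leaf 0x444a2b2d939) (.leaf 0x444a2b2d939)) (.node 17083 (.leaf 0x444a2b2d939) (.node 17084 (.leaf 0x444a2b2d939) (.leaf 0x1c2)))) (.node 17088 (.node 17086 (.leaf 0x444a2b2d939) (.node 17087 (.leaf 0x444a2b2d939) (.leaf 0x1d8))) (.node 17089 (.leaf 0x4a2b2d939) (.node 17090 (.leaf 0x4a2b2d939) (.leaf 0x4a2b2d939))))))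

def candS_845 : Store := (.node 17101 (.node 17096 (.node 17093 (.node 17092 (.leaf 0x4a2b2d939) (.leaf 0x4a2b2d939)) (.node 17094 (.leaf 0x4a2b2d939) (.node 17095 (.leaf 0x4a2b2d939) (.leaf 0x4a2b2d939)))) (.node 17098 (.node 17097 (.leaf 0x4a2b2d939) (.leaf 0x4a2b2d939)) (.node 17099 (.leaf 0x4a2b2d939) (.node 17100 (.leaf 0x4a2b2d939) (.leaf 0x4a2b2d939))))) (.node 17106 (.node 17103 (.node 17102 (.leaf 0x4a2b2d939) (.leaf 0x4a2b2d939)) (.node 17104 (.leaf 0x4a2b2d939) (.node 17105 (.leaf 0x4a2b2d939) (.leaf 0x4a2b2d939)))) (.node 17108 (.node 17107 (.leaf 0x4a2b2d939) (.leaf 0x4a2b2d939)) (.node 17109 (.leaf 0x4a2b2d939) (.node 17110 (.leaf 0x4a2b2d939) (.leaf 0x4a2b2d939))))))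

def candS_846 : Store := (.node 17121 (.node 17116 (.node 17113 (.node 17112 (.leaf 0x4a2b2d939) (.leaf 0x1a4a2b2d939)) (.node 17114 (.leaf 0x1a4a2b2d939) (.node 17115 (.leaf 0x1a4a2b2d939) (.leaf 0x1a4a2b2d939)))) (.node 17118 (.node 17117 (.leaf 0x1a4a2b2d939) (.leaf 0x1a4a2b2d939)) (.node 17119 (.leaf 0x1a4a2b2d939) (.node 17120 (.leaf 0x1a4a2b2d939) (.leaf 0x1a4a2b2d939))))) (.node 17126 (.node 17123 (.node 17122 (.leaf 0x1a4a2b2d939) (.leaf 0x1a4a2b2d939)) (.node 17124 (.leaf 0x1a4a2b2d939) (.node 17125 (.leaf 0x24a2b2d939) (.leaf 0x24a2b2d939)))) (.node 17128 (.node 17127 (.leaf 0x24a2b2d939) (.leaf 0x24a2b2d939)) (.node 17129 (.leaf 0x24a2b2d939) (.node 17130 (.leaf 0x24a2b2d939) (.leaf 0x24a2b2d939))))))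

def candS_847 : Store := (.node 17141 (.node 17136 (.node 17133 (.node 17132 (.leaf 0x24a2b2d939) (.leaf 0x24a2b2d939)) (.node 17134 (.leaf 0x24a2b2d939) (.node 17135 (.leaf 0x24a2b2d939) (.leaf 0x24a2b2d939)))) (.node 17138 (.node 17137 (.leaf 0x8112d939) (.leaf 0x8112d939)) (.node 17139 (.leaf 0x8112d939) (.node 17140 (.leaf 0x8112d939) (.leaf 0x8112d939))))) (.node 17146 (.node 17143 (.node 17142 (.leaf 0x8112d939) (.leaf 0x8112d939)) (.node 17144 (.leaf 0x8112d939) (.node 17145 (.leaf 0x8112d939) (.leaf 0x8112d939)))) (.node 17148 (.node 17147 (.leaf 0x8112d939) (.leaf 0x8112d939)) (.node 17149 (.leaf 0x8112d939) (.node 17150 (.leaf 0x8112d939) (.leaf 0x8112d939))))))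

def candS_848 : Store := (.node 17161 (.node 17156 (.node 17153 (.node 17152 (.leaf 0x8112d939) (.leaf 0x8112d939)) (.node 17154 (.leaf 0x8112d939) (.node 17155 (.leaf 0x8112d939) (.leaf 0x8112d939)))) (.node 17158 (.node 17157 (.leaf 0x8112d939) (.leaf 0x8112d939)) (.node 17159 (.leaf 0x8112d939) (.node 17160 (.leaf 0x8112d939) (.leaf 0x8112d939))))) (.node 17166 (.node 17163 (.node 17162 (.leaf 0x8112d939) (.leaf 0x8112d939)) (.node 17164 (.leaf 0x8112d939) (.node 17165 (.leaf 0x8112d939) (.leaf 0x8112d939)))) (.node 17169 (.node 17167 (.leaf 0x8112d939) (.node 17168 (.leaf 0x8112d939) (.leaf 0x8112d939))) (.node 17170 (.leaf 0x8112d939) (.node 17171 (.leaf 0x8112d939) (.leaf 0x8112d939))))))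

def candS_849 : Store := (.node 17182 (.node 17177 (.node 17174 (.node 17173 (.leaf 0x8112d939) (.leaf 0x8112d939)) (.node 17175 (.leaf 0x8112d939) (.node 17176 (.leaf 0x8112d939) (.leaf 0x8112d939)))) (.node 17179 (.node 17178 (.leaf 0x8112d939) (.leaf 0x8112d939)) (.node 17180 (.leaf 0x8112d939) (.node 17181 (.leaf 0x8112d939) (.leaf 0x8112d939))))) (.node 17187 (.node 17184 (.node 17183 (.leaf 0x8112d939) (.leaf 0x8112d939)) (.node 17185 (.leaf 0x608112d939) (.node 17186 (.leaf 0x608112d939) (.leaf 0x608112d939)))) (.node 17189 (.node 17188 (.leaf 0x608112d939) (.leaf 0x608112d939)) (.node 17190 (.leaf 0x608112d939) (.node 17191 (.leaf 0x608112d939) (.leaf 0x608112d939))))))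

def candS_850 : Store := (.node 17202 (.node 17197 (.node 17194 (.node 17193 (.leaf 0x608112d939) (.leaf 0x608112d939)) (.node 17195 (.leaf 0x608112d939) (.node 17196 (.leaf 0x608112d939) (.leaf 0x8112d939)))) (.node 17199 (.node 17198 (.leaf 0x8112d939) (.leaf 0x8112d939)) (.node 17200 (.leaf 0x8112d939) (.node 17201 (.leaf 0x8112d939) (.leaf 0x8112d939))))) (.node 17207 (.node 17204 (.node 17203 (.leaf 0x8112d939) (.leaf 0x8112d939)) (.node 17205 (.leaf 0x8112d939) (.node 17206 (.leaf 0x8112d939) (.leaf 0x8112d939)))) (.node 17209 (.node 17208 (.leaf 0x8112d939) (.leaf 0x8112d939)) (.node 17210 (.leaf 0x8112d939) (.node 17211 (.leaf 0x8112d939) (.leaf 0x8112d939))))))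

def candS_851 : Store := (.node 17222 (.node 17217 (.node 17214 (.node 17213 (.leaf 0x8112d939) (.leaf 0x8112d939)) (.node 17215 (.leaf 0x8112d939) (.node 17216 (.leaf 0x8112d939) (.leaf 0x8112d939)))) (.node 17219 (.node 17218 (.leaf 0x8112d939) (.leaf 0x8112d939)) (.node 17220 (.leaf 0x8112d939) (.node 17221 (.leaf 0x1b4) (.leaf 0xc08112d939))))) (.node 17227 (.node 17224 (.node 17223 (.leaf 0xc08112d939) (.leaf 0x1f0)) (.node 17225 (.leaf 0xc08112d939) (.node 17226 (.leaf 0xc08112d939) (.leaf 0xc08112d939)))) (.node 17229 (.node 17228 (.leaf 0xc08112d939) (.leaf 0x352)) (.node 17230 (.leaf 0xc08112d939) (.node 17231 (.leaf 0x22a) (.leaf 0xc08112d939))))))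

def candS_852 : Store := (.node 17242 (.node 17237 (.node 17234 (.node 17233 (.leaf 0x8112d939) (.leaf 0x78000008112d939)) (.node 17235 (.leaf 0x8112d939) (.node 17236 (.leaf 0x8112d939) (.leaf 0x8112d939)))) (.node 17239 (.node 17238 (.leaf 0x20000008112d939) (.leaf 0x8112d939)) (.node 17240 (.leaf 0x60000008112d939) (.node 17241 (.leaf 0x8112d939) (.leaf 0x30000008112d939))))) (.node 17247 (.node 17244 (.node 17243 (.leaf 0x8112d939) (.leaf 0x8112d939)) (.node 17245 (.leaf 0xa08112d939) (.node 17246 (.leaf 0xa08112d939) (.leaf 0xa08112d939)))) (.node 17250 (.node 17248 (.leaf 0xa08112d939) (.node 17249 (.leaf 0xa08112d939) (.leaf 0xa08112d939))) (.node 17251 (.leaf 0xa08112d939) (.node 17252 (.leaf 0xa08112d939) (.leaf 0xa08112d939))))))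

def candS_853 : Store := (.node 17263 (.node 17258 (.node 17255 (.node 17254 (.leaf 0xa08112d939) (.leaf 0xa08112d939)) (.node 17256 (.leaf 0xa08112d939) (.node 17257 (.leaf 0x208112d939) (.leaf 0x208112d939)))) (.node 17260 (.node 17259 (.leaf 0x208112d939) (.leaf 0x208112d939)) (.node 17261 (.leaf 0x208112d939) (.node 17262 (.leaf 0x208112d939) (.leaf 0x208112d939))))) (.node 17268 (.node 17265 (.node 17264 (.leaf 0x208112d939) (.leaf 0x208112d939)) (.node 17266 (.leaf 0x208112d939) (.node 17267 (.leaf 0x208112d939) (.leaf 0x208112d939)))) (.node 17270 (.node 17269 (.leaf 0x408112d939) (.leaf 0x408112d939)) (.node 17271 (.leaf 0x408112d939) (.node 17272 (.leaf 0x408112d939) (.leaf 0x408112d939))))))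

def candS_854 : Store := (.node 17283 (.node 17278 (.node 17275 (.node 17274 (.leaf 0x408112d939) (.leaf 0x408112d939)) (.node 17276 (.leaf 0x408112d939) (.node 17277 (.leaf 0x408112d939) (.leaf 0x408112d939)))) (.node 17280 (.node 17279 (.leaf 0x408112d939) (.leaf 0x408112d939)) (.node 17281 (.leaf 0x10331498195) (.node 17282 (.leaf 0x10331498195) (.leaf 0x10331498195))))) (.node 17288 (.node 17285 (.node 17284 (.leaf 0x10331498195) (.leaf 0x10331498195)) (.node 17286 (.leaf 0x10331498195) (.node 17287 (.leaf 0x10331498195) (.leaf 0x10331498195)))) (.node 17290 (.node 17289 (.leaf 0x10331498195) (.leaf 0x10331498195)) (.node 17291 (.leaf 0x10331498195) (.node 17292 (.leaf 0x10331498195) (.leaf 0x331498195))))))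

def candS_855 : Store := (.node 17303 (.node 17298 (.node 17295 (.node 17294 (.leaf 0x331498195) (.leaf 0x331498195)) (.node 17296 (.leaf 0x331498195) (.node 17297 (.leaf 0x331498195) (.leaf 0x331498195)))) (.node 17300 (.node 17299 (.leaf 0x331498195) (.leaf 0x331498195)) (.node 17301 (.leaf 0x331498195) (.node 17302 (.leaf 0x331498195) (.leaf 0x331498195))))) (.node 17308 (.node 17305 (.node 17304 (.leaf 0x331498195) (.leaf 0x331498195)) (.node 17306 (.leaf 0x331498195) (.node 17307 (.leaf 0x331498195) (.leaf 0x331498195)))) (.node 17310 (.node 17309 (.leaf 0x331498195) (.leaf 0x331498195)) (.node 17311 (.leaf 0x331498195) (.node 17312 (.leaf 0x331498195) (.leaf 0x331498195))))))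

def candS_856 : Store := (.node 17323 (.node 17318 (.node 17315 (.node 17314 (.leaf 0x331498195) (.leaf 0x331498195)) (.node 17316 (.leaf 0x331498195) (.node 17317 (.leaf 0x32331498195) (.leaf 0x32331498195)))) (.node 17320 (.node 17319 (.leaf 0x32331498195) (.leaf 0x32331498195)) (.node 17321 (.leaf 0x32331498195) (.node 17322 (.leaf 0x32331498195) (.leaf 0x32331498195))))) (.node 17328 (.node 17325 (.node 17324 (.leaf 0x32331498195) (.leaf 0x32331498195)) (.node 17326 (.leaf 0x32331498195) (.node 17327 (.leaf 0x32331498195) (.leaf 0x32331498195)))) (.node 17331 (.node 17329 (.leaf 0x331498195) (.node 17330 (.leaf 0x331498195) (.leaf 0x331498195))) (.node 17332 (.leaf 0x331498195) (.node 17333 (.leaf 0x331498195) (.leaf 0x331498195))))))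

def candS_857 : Store := (.node 17344 (.node 17339 (.node 17336 (.node 17335 (.leaf 0x331498195) (.leaf 0x331498195)) (.node 17337 (.leaf 0x331498195) (.node 17338 (.leaf 0x331498195) (.leaf 0x331498195)))) (.node 17341 (.node 17340 (.leaf 0x331498195) (.leaf 0x331498195)) (.node 17342 (.leaf 0x331498195) (.node 17343 (.leaf 0x331498195) (.leaf 0x331498195))))) (.node 17349 (.node 17346 (.node 17345 (.leaf 0x331498195) (.leaf 0x331498195)) (.node 17347 (.leaf 0x331498195) (.node 17348 (.leaf 0x331498195) (.leaf 0x331498195)))) (.node 17351 (.node 17350 (.leaf 0x331498195) (.leaf 0x331498195)) (.node 17352 (.leaf 0x331498195) (.node 17353 (.leaf 0x331498195) (.leaf 0x331498195))))))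

def candS_858 : Store := (.node 17364 (.node 17359 (.node 17356 (.node 17355 (.leaf 0x331498195) (.leaf 0x331498195)) (.node 17357 (.leaf 0x331498195) (.node 17358 (.leaf 0x331498195) (.leaf 0x331498195)))) (.node 17361 (.node 17360 (.leaf 0x331498195) (.leaf 0x331498195)) (.node 17362 (.leaf 0x331498195) (.node 17363 (.leaf 0x331498195) (.leaf 0x331498195))))) (.node 17369 (.node 17366 (.node 17365 (.leaf 0x14331498195) (.leaf 0x14331498195)) (.node 17367 (.leaf 0x14331498195) (.node 17368 (.leaf 0x14331498195) (.leaf 0x14331498195)))) (.node 17371 (.node 17370 (.leaf 0x14331498195) (.leaf 0x14331498195)) (.node 17372 (.leaf 0x14331498195) (.node 17373 (.leaf 0x14331498195) (.leaf 0x14331498195))))))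

def candS_859 : Store := (.node 17384 (.node 17379 (.node 17376 (.node 17375 (.leaf 0x14331498195) (.leaf 0x14331498195)) (.node 17377 (.leaf 0x30331498195) (.node 17378 (.leaf 0x30331498195) (.leaf 0x30331498195)))) (.node 17381 (.node 17380 (.leaf 0x30331498195) (.leaf 0x30331498195)) (.node 17382 (.leaf 0x30331498195) (.node 17383 (.leaf 0x30331498195) (.leaf 0x30331498195))))) (.node 17389 (.node 17386 (.node 17385 (.leaf 0x30331498195) (.leaf 0x30331498195)) (.node 17387 (.leaf 0x30331498195) (.node 17388 (.leaf 0x30331498195) (.leaf 0x331498195)))) (.node 17391 (.node 17390 (.leaf 0x331498195) (.leaf 0x331498195)) (.node 17392 (.leaf 0x331498195) (.node 17393 (.leaf 0x331498195) (.leaf 0x331498195))))))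

def candS_860 : Store := (.node 17404 (.node 17399 (.node 17396 (.node 17395 (.leaf 0x331498195) (.leaf 0x331498195)) (.node 17397 (.leaf 0x331498195) (.node 17398 (.leaf 0x331498195) (.leaf 0x331498195)))) (.node 17401 (.node 17400 (.leaf 0x331498195) (.leaf 0x44331498195)) (.node 17402 (.leaf 0x700044331498195) (.node 17403 (.leaf 0x44331498195) (.leaf 0x44331498195))))) (.node 17409 (.node 17406 (.node 17405 (.leaf 0x800044331498195) (.leaf 0x44331498195)) (.node 17407 (.leaf 0x44331498195) (.node 17408 (.leaf 0x44331498195) (.leaf 0x44331498195)))) (.node 17412 (.node 17410 (.leaf 0x980044331498195) (.node 17411 (.leaf 0x44331498195) (.leaf 0x44331498195))) (.node 17413 (.leaf 0x46331498195) (.node 17414 (.leaf 0x46331498195) (.leaf 0x46331498195))))))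

def candS_861 : Store := (.node 17425 (.node 17420 (.node 17417 (.node 17416 (.leaf 0xba) (.leaf 0x46331498195)) (.node 17418 (.leaf 0x46331498195) (.node 17419 (.leaf 0x1b6) (.leaf 0x46331498195)))) (.node 17422 (.node 17421 (.leaf 0x46331498195) (.leaf 0x46331498195)) (.node 17423 (.leaf 0x238) (.node 17424 (.leaf 0x34c) (.leaf 0x1e0898195))))) (.node 17430 (.node 17427 (.node 17426 (.leaf 0x1e0898195) (.leaf 0x1e0898195)) (.node 17428 (.leaf 0x1e0898195) (.node 17429 (.leaf 0x1e0898195) (.leaf 0x1e0898195)))) (.node 17432 (.node 17431 (.leaf 0x1e0898195) (.leaf 0x1e0898195)) (.node 17433 (.leaf 0x1e0898195) (.node 17434 (.leaf 0x1e0898195) (.leaf 0x1e0898195))))))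

def candS_862 : Store := (.node 17445 (.node 17440 (.node 17437 (.node 17436 (.leaf 0x1e0898195) (.leaf 0x1e0898195)) (.node 17438 (.leaf 0x1e0898195) (.node 17439 (.leaf 0x1e0898195) (.leaf 0x1e0898195)))) (.node 17442 (.node 17441 (.leaf 0x1e0898195) (.leaf 0x1e0898195)) (.node 17443 (.leaf 0x1e0898195) (.node 17444 (.leaf 0x1e0898195) (.leaf 0x1e0898195))))) (.node 17450 (.node 17447 (.node 17446 (.leaf 0x1e0898195) (.leaf 0x1e0898195)) (.node 17448 (.leaf 0x1e0898195) (.node 17449 (.leaf 0x301e0898195) (.leaf 0x301e0898195)))) (.node 17452 (.node 17451 (.leaf 0x301e0898195) (.leaf 0x301e0898195)) (.node 17453 (.leaf 0x301e0898195) (.node 17454 (.leaf 0x301e0898195) (.leaf 0x301e0898195))))))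

def candS_863 : Store := (.node 17465 (.node 17460 (.node 17457 (.node 17456 (.leaf 0x301e0898195) (.leaf 0x301e0898195)) (.node 17458 (.leaf 0x301e0898195) (.node 17459 (.leaf 0x301e0898195) (.leaf 0x301e0898195)))) (.node 17462 (.node 17461 (.leaf 0x1800441e0898195) (.leaf 0x441e0898195)) (.node 17463 (.leaf 0x441e0898195) (.node 17464 (.leaf 0x2800441e0898195) (.leaf 0x441e0898195))))) (.node 17470 (.node 17467 (.node 17466 (.leaf 0x441e0898195) (.leaf 0x9000441e0898195)) (.node 17468 (.leaf 0x441e0898195) (.node 17469 (.leaf 0x441e0898195) (.leaf 0x441e0898195)))) (.node 17472 (.node 17471 (.leaf 0x441e0898195) (.leaf 0x3800441e0898195)) (.node 17473 (.leaf 0x461e0898195) (.node 17474 (.leaf 0x461e0898195) (.leaf 0x461e0898195))))))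

def candS_864 : Store := (.node 17485 (.node 17480 (.node 17477 (.node 17476 (.leaf 0x461e0898195) (.leaf 0x461e0898195)) (.node 17478 (.leaf 0x461e0898195) (.node 17479 (.leaf 0x461e0898195) (.leaf 0x461e0898195)))) (.node 17482 (.node 17481 (.leaf 0x461e0898195) (.leaf 0x461e0898195)) (.node 17483 (.leaf 0x461e0898195) (.node 17484 (.leaf 0x461e0898195) (.leaf 0x321e0898195))))) (.node 17490 (.node 17487 (.node 17486 (.leaf 0x321e0898195) (.leaf 0x321e0898195)) (.node 17488 (.leaf 0x321e0898195) (.node 17489 (.leaf 0x321e0898195) (.leaf 0x321e0898195)))) (.node 17493 (.node 17491 (.leaf 0x321e0898195) (.node 17492 (.leaf 0x321e0898195) (.leaf 0x321e0898195))) (.node 17494 (.leaf 0x321e0898195) (.node 17495 (.leaf 0x321e0898195) (.leaf 0x321e0898195))))))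

def candS_865 : Store := (.node 17506 (.node 17501 (.node 17498 (.node 17497 (.leaf 0x141e0898195) (.leaf 0x141e0898195)) (.node 17499 (.leaf 0x110) (.node 17500 (.leaf 0x141e0898195) (.leaf 0x2dc)))) (.node 17503 (.node 17502 (.leaf 0x10) (.leaf 0x141e0898195)) (.node 17504 (.leaf 0x141e0898195) (.node 17505 (.leaf 0x141e0898195) (.leaf 0x2ae))))) (.node 17511 (.node 17508 (.node 17507 (.leaf 0x141e0898195) (.leaf 0x141e0898195)) (.node 17509 (.leaf 0x1e0898195) (.node 17510 (.leaf 0x1e0898195) (.leaf 0x1e0898195)))) (.node 17513 (.node 17512 (.leaf 0x1e0898195) (.leaf 0x1e0898195)) (.node 17514 (.leaf 0x1e0898195) (.node 17515 (.leaf 0x1e0898195) (.leaf 0x1e0898195))))))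

def candS_866 : Store := (.node 17526 (.node 17521 (.node 17518 (.node 17517 (.leaf 0x1e0898195) (.leaf 0x1e0898195)) (.node 17519 (.leaf 0x1e0898195) (.node 17520 (.leaf 0x1e0898195) (.leaf 0x1e0898195)))) (.node 17523 (.node 17522 (.leaf 0x1e0898195) (.leaf 0x1e0898195)) (.node 17524 (.leaf 0x1e0898195) (.node 17525 (.leaf 0x1e0898195) (.leaf 0x1e0898195))))) (.node 17531 (.node 17528 (.node 17527 (.leaf 0x1e0898195) (.leaf 0x1e0898195)) (.node 17529 (.leaf 0x1e0898195) (.node 17530 (.leaf 0x1e0898195) (.leaf 0x1e0898195)))) (.node 17533 (.node 17532 (.leaf 0x1e0898195) (.leaf 0x1e0898195)) (.node 17534 (.leaf 0x1e0898195) (.node 17535 (.leaf 0x1e0898195) (.leaf 0x1e0898195))))))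

def candS_867 : Store := (.node 17546 (.node 17541 (.node 17538 (.node 17537 (.leaf 0x1e0898195) (.leaf 0x1e0898195)) (.node 17539 (.leaf 0x1e0898195) (.node 17540 (.leaf 0x1e0898195) (.leaf 0x1e0898195)))) (.node 17543 (.node 17542 (.leaf 0x1e0898195) (.leaf 0x1e0898195)) (.node 17544 (.leaf 0x1e0898195) (.node 17545 (.leaf 0x101e0898195) (.leaf 0x101e0898195))))) (.node 17551 (.node 17548 (.node 17547 (.leaf 0x101e0898195) (.leaf 0x101e0898195)) (.node 17549 (.leaf 0x101e0898195) (.node 17550 (.leaf 0x101e0898195) (.leaf 0x101e0898195)))) (.node 17553 (.node 17552 (.leaf 0x101e0898195) (.leaf 0x101e0898195)) (.node 17554 (.leaf 0x101e0898195) (.node 17555 (.leaf 0x101e0898195) (.leaf 0x101e0898195))))))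

def candS_868 : Store := (.node 17566 (.node 17561 (.node 17558 (.node 17557 (.leaf 0x1e0898195) (.leaf 0x1e0898195)) (.node 17559 (.leaf 0x1e0898195) (.node 17560 (.leaf 0x1e0898195) (.leaf 0x1e0898195)))) (.node 17563 (.node 17562 (.leaf 0x1e0898195) (.leaf 0x1e0898195)) (.node 17564 (.leaf 0x1e0898195) (.node 17565 (.leaf 0x1e0898195) (.leaf 0x1e0898195))))) (.node 17571 (.node 17568 (.node 17567 (.leaf 0x1e0898195) (.leaf 0x1e0898195)) (.node 17569 (.leaf 0x1a1118195) (.node 17570 (.leaf 0x1a1118195) (.leaf 0x1a1118195)))) (.node 17574 (.node 17572 (.leaf 0x1a1118195) (.node 17573 (.leaf 0x1a1118195) (.leaf 0x1a1118195))) (.node 17575 (.leaf 0x1a1118195) (.node 17576 (.leaf 0x1a1118195) (.leaf 0x1a1118195))))))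

def candS_869 : Store := (.node 17587 (.node 17582 (.node 17579 (.node 17578 (.leaf 0x1a1118195) (.leaf 0x1a1118195)) (.node 17580 (.leaf 0x1a1118195) (.node 17581 (.leaf 0x1a1118195) (.leaf 0x1a1118195)))) (.node 17584 (.node 17583 (.leaf 0x1a1118195) (.leaf 0x1a1118195)) (.node 17585 (.leaf 0x1a1118195) (.node 17586 (.leaf 0x1a1118195) (.leaf 0x1a1118195))))) (.node 17592 (.node 17589 (.node 17588 (.leaf 0x1a1118195) (.leaf 0x1a1118195)) (.node 17590 (.leaf 0x1a1118195) (.node 17591 (.leaf 0x1a1118195) (.leaf 0x1a1118195)))) (.node 17594 (.node 17593 (.leaf 0x3a1a1118195) (.leaf 0x3a1a1118195)) (.node 17595 (.leaf 0x3a1a1118195) (.node 17596 (.leaf 0x3a1a1118195) (.leaf 0x3a1a1118195))))))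

def candS_870 : Store := (.node 17607 (.node 17602 (.node 17599 (.node 17598 (.leaf 0x3a1a1118195) (.leaf 0x3a1a1118195)) (.node 17600 (.leaf 0x3a1a1118195) (.node 17601 (.leaf 0x3a1a1118195) (.leaf 0x3a1a1118195)))) (.node 17604 (.node 17603 (.leaf 0x3a1a1118195) (.leaf 0x3a1a1118195)) (.node 17605 (.leaf 0x1a1118195) (.node 17606 (.leaf 0x1a1118195) (.leaf 0x1a1118195))))) (.node 17612 (.node 17609 (.node 17608 (.leaf 0x1a1118195) (.leaf 0x1a1118195)) (.node 17610 (.leaf 0x1a1118195) (.node 17611 (.leaf 0x1a1118195) (.leaf 0x1a1118195)))) (.node 17614 (.node 17613 (.leaf 0x1a1118195) (.leaf 0x1a1118195)) (.node 17615 (.leaf 0x1a1118195) (.node 17616 (.leaf 0x1a1118195) (.leaf 0x2c1a1118195))))))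

def candS_871 : Store := (.node 17627 (.node 17622 (.node 17619 (.node 17618 (.leaf 0x2c1a1118195) (.leaf 0x2c1a1118195)) (.node 17620 (.leaf 0x2c1a1118195) (.node 17621 (.leaf 0x2c1a1118195) (.leaf 0x2c1a1118195)))) (.node 17624 (.node 17623 (.leaf 0x2c1a1118195) (.leaf 0x2c1a1118195)) (.node 17625 (.leaf 0x2c1a1118195) (.node 17626 (.leaf 0x2c1a1118195) (.leaf 0x2c1a1118195))))) (.node 17632 (.node 17629 (.node 17628 (.leaf 0x2c1a1118195) (.leaf 0x1a1118195)) (.node 17630 (.leaf 0x1a1118195) (.node 17631 (.leaf 0x1a1118195) (.leaf 0x1a1118195)))) (.node 17634 (.node 17633 (.leaf 0x1a1118195) (.leaf 0x1a1118195)) (.node 17635 (.leaf 0x1a1118195) (.node 17636 (.leaf 0x1a1118195) (.leaf 0x1a1118195))))))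

def candS_872 : Store := (.node 17647 (.node 17642 (.node 17639 (.node 17638 (.leaf 0x1a1118195) (.leaf 0x1a1118195)) (.node 17640 (.leaf 0x1a1118195) (.node 17641 (.leaf 0x181a1118195) (.leaf 0x142)))) (.node 17644 (.node 17643 (.leaf 0x181a1118195) (.leaf 0x181a1118195)) (.node 17645 (.leaf 0x66) (.node 17646 (.leaf 0x16e) (.leaf 0x181a1118195))))) (.node 17652 (.node 17649 (.node 17648 (.leaf 0x181a1118195) (.leaf 0x181a1118195)) (.node 17650 (.leaf 0x2a2) (.node 17651 (.leaf 0x181a1118195) (.leaf 0x181a1118195)))) (.node 17655 (.node 17653 (.leaf 0x1800281a1118195) (.node 17654 (.leaf 0x281a1118195) (.leaf 0x281a1118195))) (.node 17656 (.leaf 0x3800281a1118195) (.node 17657 (.leaf 0x281a1118195) (.leaf 0x281a1118195))))))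

def candS_873 : Store := (.node 17668 (.node 17663 (.node 17660 (.node 17659 (.leaf 0x281a1118195) (.leaf 0x281a1118195)) (.node 17661 (.leaf 0x281a1118195) (.node 17662 (.leaf 0x281a1118195) (.leaf 0x2800281a1118195)))) (.node 17665 (.node 17664 (.leaf 0x9000281a1118195) (.leaf 0x1a1118195)) (.node 17666 (.leaf 0x1a1118195) (.node 17667 (.leaf 0x1a1118195) (.leaf 0x1a1118195))))) (.node 17673 (.node 17670 (.node 17669 (.leaf 0x1a1118195) (.leaf 0x1a1118195)) (.node 17671 (.leaf 0x1a1118195) (.node 17672 (.leaf 0x1a1118195) (.leaf 0x1a1118195)))) (.node 17675 (.node 17674 (.leaf 0x1a1118195) (.leaf 0x1a1118195)) (.node 17676 (.leaf 0x1a1118195) (.node 17677 (.leaf 0x161a1118195) (.leaf 0x161a1118195))))))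

def candS_874 : Store := (.node 17688 (.node 17683 (.node 17680 (.node 17679 (.leaf 0x161a1118195) (.leaf 0x161a1118195)) (.node 17681 (.leaf 0x161a1118195) (.node 17682 (.leaf 0x161a1118195) (.leaf 0x161a1118195)))) (.node 17685 (.node 17684 (.leaf 0x161a1118195) (.leaf 0x161a1118195)) (.node 17686 (.leaf 0x161a1118195) (.node 17687 (.leaf 0x161a1118195) (.leaf 0x161a1118195))))) (.node 17693 (.node 17690 (.node 17689 (.leaf 0x81a1118195) (.leaf 0x81a1118195)) (.node 17691 (.leaf 0x81a1118195) (.node 17692 (.leaf 0x81a1118195) (.leaf 0x81a1118195)))) (.node 17695 (.node 17694 (.leaf 0x81a1118195) (.leaf 0x81a1118195)) (.node 17696 (.leaf 0x81a1118195) (.node 17697 (.leaf 0x81a1118195) (.leaf 0x81a1118195))))))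

def candS_875 : Store := (.node 17708 (.node 17703 (.node 17700 (.node 17699 (.leaf 0x81a1118195) (.leaf 0x81a1118195)) (.node 17701 (.leaf 0x1a1118195) (.node 17702 (.leaf 0x1a1118195) (.leaf 0x1a1118195)))) (.node 17705 (.node 17704 (.leaf 0x1a1118195) (.leaf 0x1a1118195)) (.node 17706 (.leaf 0x1a1118195) (.node 17707 (.leaf 0x1a1118195) (.leaf 0x1a1118195))))) (.node 17713 (.node 17710 (.node 17709 (.leaf 0x1a1118195) (.leaf 0x1a1118195)) (.node 17711 (.leaf 0x1a1118195) (.node 17712 (.leaf 0x1a1118195) (.leaf 0x170598195)))) (.node 17715 (.node 17714 (.leaf 0x170598195) (.leaf 0x170598195)) (.node 17716 (.leaf 0x170598195) (.node 17717 (.leaf 0x170598195) (.leaf 0x170598195))))))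

def candS_876 : Store := (.node 17728 (.node 17723 (.node 17720 (.node 17719 (.leaf 0x170598195) (.leaf 0x170598195)) (.node 17721 (.leaf 0x170598195) (.node 17722 (.leaf 0x170598195) (.leaf 0x170598195)))) (.node 17725 (.node 17724 (.leaf 0x170598195) (.leaf 0xc170598195)) (.node 17726 (.leaf 0xc170598195) (.node 17727 (.leaf 0xc170598195) (.leaf 0xc170598195))))) (.node 17733 (.node 17730 (.node 17729 (.leaf 0xc170598195) (.leaf 0xc170598195)) (.node 17731 (.leaf 0xc170598195) (.node 17732 (.leaf 0xc170598195) (.leaf 0xc170598195)))) (.node 17736 (.node 17734 (.leaf 0xc170598195) (.node 17735 (.leaf 0xc170598195) (.leaf 0xc170598195))) (.node 17737 (.leaf 0x170598195) (.node 17738 (.leaf 0x170598195) (.leaf 0x170598195))))))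

def candS_877 : Store := (.node 17749 (.node 17744 (.node 17741 (.node 17740 (.leaf 0x170598195) (.leaf 0x170598195)) (.node 17742 (.leaf 0x170598195) (.node 17743 (.leaf 0x170598195) (.leaf 0x170598195)))) (.node 17746 (.node 17745 (.leaf 0x170598195) (.leaf 0x170598195)) (.node 17747 (.leaf 0x170598195) (.node 17748 (.leaf 0x170598195) (.leaf 0x42170598195))))) (.node 17754 (.node 17751 (.node 17750 (.leaf 0x42170598195) (.leaf 0x42170598195)) (.node 17752 (.leaf 0x42170598195) (.node 17753 (.leaf 0x42170598195) (.leaf 0x42170598195)))) (.node 17756 (.node 17755 (.leaf 0x42170598195) (.leaf 0x42170598195)) (.node 17757 (.leaf 0x42170598195) (.node 17758 (.leaf 0x42170598195) (.leaf 0x42170598195))))))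

def candS_878 : Store := (.node 17769 (.node 17764 (.node 17761 (.node 17760 (.leaf 0x42170598195) (.leaf 0x1a170598195)) (.node 17762 (.leaf 0x1a170598195) (.node 17763 (.leaf 0x70001a170598195) (.leaf 0x1a170598195)))) (.node 17766 (.node 17765 (.leaf 0x80001a170598195) (.leaf 0x98001a170598195)) (.node 17767 (.leaf 0x1a170598195) (.node 17768 (.leaf 0x1a170598195) (.leaf 0x1a170598195))))) (.node 17774 (.node 17771 (.node 17770 (.leaf 0x1a170598195) (.leaf 0x1a170598195)) (.node 17772 (.leaf 0x1a170598195) (.node 17773 (.leaf 0x170598195) (.leaf 0x170598195)))) (.node 17776 (.node 17775 (.leaf 0x170598195) (.leaf 0x170598195)) (.node 17777 (.leaf 0x170598195) (.node 17778 (.leaf 0x170598195) (.leaf 0x170598195))))))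

def candS_879 : Store := (.node 17789 (.node 17784 (.node 17781 (.node 17780 (.leaf 0x170598195) (.leaf 0x170598195)) (.node 17782 (.leaf 0x170598195) (.node 17783 (.leaf 0x170598195) (.leaf 0x170598195)))) (.node 17786 (.node 17785 (.leaf 0x170598195) (.leaf 0x170598195)) (.node 17787 (.leaf 0x170598195) (.node 17788 (.leaf 0x170598195) (.leaf 0x170598195))))) (.node 17794 (.node 17791 (.node 17790 (.leaf 0x170598195) (.leaf 0x170598195)) (.node 17792 (.leaf 0x170598195) (.node 17793 (.leaf 0x170598195) (.leaf 0x170598195)))) (.node 17796 (.node 17795 (.leaf 0x170598195) (.leaf 0x170598195)) (.node 17797 (.leaf 0x10170598195) (.node 17798 (.leaf 0x10170598195) (.leaf 0x10170598195))))))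

def candS_880 : Store := (.node 17809 (.node 17804 (.node 17801 (.node 17800 (.leaf 0x10170598195) (.leaf 0x10170598195)) (.node 17802 (.leaf 0x10170598195) (.node 17803 (.leaf 0x10170598195) (.leaf 0x10170598195)))) (.node 17806 (.node 17805 (.leaf 0x10170598195) (.leaf 0x10170598195)) (.node 17807 (.leaf 0x10170598195) (.node 17808 (.leaf 0x10170598195) (.leaf 0x3e170598195))))) (.node 17814 (.node 17811 (.node 17810 (.leaf 0x3e170598195) (.leaf 0x3e170598195)) (.node 17812 (.leaf 0x3e170598195) (.node 17813 (.leaf 0x3e170598195) (.leaf 0x3e170598195)))) (.node 17817 (.node 17815 (.leaf 0x3e170598195) (.node 17816 (.leaf 0x3e170598195) (.leaf 0x3e170598195))) (.node 17818 (.leaf 0x3e170598195) (.node 17819 (.leaf 0x3e170598195) (.leaf 0x3e170598195))))))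

def candS_881 : Store := (.node 17830 (.node 17825 (.node 17822 (.node 17821 (.leaf 0x170598195) (.leaf 0x170598195)) (.node 17823 (.leaf 0x170598195) (.node 17824 (.leaf 0x170598195) (.leaf 0x170598195)))) (.node 17827 (.node 17826 (.leaf 0x170598195) (.leaf 0x170598195)) (.node 17828 (.leaf 0x170598195) (.node 17829 (.leaf 0x170598195) (.leaf 0x170598195))))) (.node 17835 (.node 17832 (.node 17831 (.leaf 0x170598195) (.leaf 0x170598195)) (.node 17833 (.leaf 0x170598195) (.node 17834 (.leaf 0x170598195) (.leaf 0x170598195)))) (.node 17837 (.node 17836 (.leaf 0x170598195) (.leaf 0x170598195)) (.node 17838 (.leaf 0x170598195) (.node 17839 (.leaf 0x170598195) (.leaf 0x170598195))))))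

def candS_882 : Store := (.node 17850 (.node 17845 (.node 17842 (.node 17841 (.leaf 0x170598195) (.leaf 0x170598195)) (.node 17843 (.leaf 0x170598195) (.node 17844 (.leaf 0x170598195) (.leaf 0x62)))) (.node 17847 (.node 17846 (.leaf 0x24170598195) (.leaf 0x24170598195)) (.node 17848 (.leaf 0x24170598195) (.node 17849 (.leaf 0x24170598195) (.leaf 0x24170598195))))) (.node 17855 (.node 17852 (.node 17851 (.leaf 0x23e) (.leaf 0x24170598195)) (.node 17853 (.leaf 0x24170598195) (.node 17854 (.leaf 0x24170598195) (.leaf 0x1ca)))) (.node 17857 (.node 17856 (.leaf 0x392) (.leaf 0x413618195)) (.node 17858 (.leaf 0x413618195) (.node 17859 (.leaf 0x413618195) (.leaf 0x413618195))))))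

def candS_883 : Store := (.node 17870 (.node 17865 (.node 17862 (.node 17861 (.leaf 0x413618195) (.leaf 0x413618195)) (.node 17863 (.leaf 0x413618195) (.node 17864 (.leaf 0x413618195) (.leaf 0x413618195)))) (.node 17867 (.node 17866 (.leaf 0x413618195) (.leaf 0x413618195)) (.node 17868 (.leaf 0x413618195) (.node 17869 (.leaf 0x413618195) (.leaf 0x413618195))))) (.node 17875 (.node 17872 (.node 17871 (.leaf 0x413618195) (.leaf 0x413618195)) (.node 17873 (.leaf 0x413618195) (.node 17874 (.leaf 0x413618195) (.leaf 0x413618195)))) (.node 17877 (.node 17876 (.leaf 0x413618195) (.leaf 0x413618195)) (.node 17878 (.leaf 0x413618195) (.node 17879 (.leaf 0x413618195) (.leaf 0x413618195))))))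

def candS_884 : Store := (.node 17890 (.node 17885 (.node 17882 (.node 17881 (.leaf 0x413618195) (.leaf 0x413618195)) (.node 17883 (.leaf 0x413618195) (.node 17884 (.leaf 0x413618195) (.leaf 0x413618195)))) (.node 17887 (.node 17886 (.leaf 0x413618195) (.leaf 0x413618195)) (.node 17888 (.leaf 0x413618195) (.node 17889 (.leaf 0x413618195) (.leaf 0x413618195))))) (.node 17895 (.node 17892 (.node 17891 (.leaf 0x413618195) (.leaf 0x413618195)) (.node 17893 (.leaf 0x413618195) (.node 17894 (.leaf 0x413618195) (.leaf 0x413618195)))) (.node 17898 (.node 17896 (.leaf 0x413618195) (.node 17897 (.leaf 0x413618195) (.leaf 0x413618195))) (.node 17899 (.leaf 0x413618195) (.node 17900 (.leaf 0x413618195) (.leaf 0x413618195))))))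

def candS_885 : Store := (.node 17911 (.node 17906 (.node 17903 (.node 17902 (.leaf 0x413618195) (.leaf 0x413618195)) (.node 17904 (.leaf 0x413618195) (.node 17905 (.leaf 0x6413618195) (.leaf 0x6413618195)))) (.node 17908 (.node 17907 (.leaf 0x6413618195) (.leaf 0x6413618195)) (.node 17909 (.leaf 0x6413618195) (.node 17910 (.leaf 0x6413618195) (.leaf 0x6413618195))))) (.node 17916 (.node 17913 (.node 17912 (.leaf 0x6413618195) (.leaf 0x6413618195)) (.node 17914 (.leaf 0x6413618195) (.node 17915 (.leaf 0x6413618195) (.leaf 0x6413618195)))) (.node 17918 (.node 17917 (.leaf 0x12413618195) (.leaf 0x12413618195)) (.node 17919 (.leaf 0x12413618195) (.node 17920 (.leaf 0x12413618195) (.leaf 0x12413618195))))))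

def candS_886 : Store := (.node 17931 (.node 17926 (.node 17923 (.node 17922 (.leaf 0x12413618195) (.leaf 0x12413618195)) (.node 17924 (.leaf 0x12413618195) (.node 17925 (.leaf 0x12413618195) (.leaf 0x12413618195)))) (.node 17928 (.node 17927 (.leaf 0x12413618195) (.leaf 0x12413618195)) (.node 17929 (.leaf 0x10413618195) (.node 17930 (.leaf 0x2d6) (.leaf 0x92))))) (.node 17936 (.node 17933 (.node 17932 (.leaf 0x10413618195) (.leaf 0x10413618195)) (.node 17934 (.leaf 0x19c) (.node 17935 (.leaf 0x10413618195) (.leaf 0x10413618195)))) (.node 17938 (.node 17937 (.leaf 0x10413618195) (.leaf 0x26)) (.node 17939 (.leaf 0x10413618195) (.node 17940 (.leaf 0x10413618195) (.leaf 0x413618195))))))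

def candS_887 : Store := (.node 17951 (.node 17946 (.node 17943 (.node 17942 (.leaf 0x413618195) (.leaf 0x413618195)) (.node 17944 (.leaf 0x413618195) (.node 17945 (.leaf 0x413618195) (.leaf 0x413618195)))) (.node 17948 (.node 17947 (.leaf 0x413618195) (.leaf 0x413618195)) (.node 17949 (.leaf 0x413618195) (.node 17950 (.leaf 0x413618195) (.leaf 0x413618195))))) (.node 17956 (.node 17953 (.node 17952 (.leaf 0x413618195) (.leaf 0x16413618195)) (.node 17954 (.leaf 0x16413618195) (.node 17955 (.leaf 0x16413618195) (.leaf 0x980016413618195)))) (.node 17958 (.node 17957 (.leaf 0x16413618195) (.leaf 0x16413618195)) (.node 17959 (.leaf 0x700016413618195) (.node 17960 (.leaf 0x16413618195) (.leaf 0x16413618195))))))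

def candS_888 : Store := (.node 17971 (.node 17966 (.node 17963 (.node 17962 (.leaf 0x16413618195) (.leaf 0x800016413618195)) (.node 17964 (.leaf 0x16413618195) (.node 17965 (.leaf 0x2e413618195) (.leaf 0x2e413618195)))) (.node 17968 (.node 17967 (.leaf 0x2e413618195) (.leaf 0x2e413618195)) (.node 17969 (.leaf 0x2e413618195) (.node 17970 (.leaf 0x2e413618195) (.leaf 0x2e413618195))))) (.node 17976 (.node 17973 (.node 17972 (.leaf 0x2e413618195) (.leaf 0x2e413618195)) (.node 17974 (.leaf 0x2e413618195) (.node 17975 (.leaf 0x2e413618195) (.leaf 0x2e413618195)))) (.node 17979 (.node 17977 (.leaf 0x28413618195) (.node 17978 (.leaf 0x28413618195) (.leaf 0x28413618195))) (.node 17980 (.leaf 0x28413618195) (.node 17981 (.leaf 0x28413618195) (.leaf 0x28413618195))))))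

def candS_889 : Store := (.node 17992 (.node 17987 (.node 17984 (.node 17983 (.leaf 0x28413618195) (.leaf 0x28413618195)) (.node 17985 (.leaf 0x28413618195) (.node 17986 (.leaf 0x28413618195) (.leaf 0x28413618195)))) (.node 17989 (.node 17988 (.leaf 0x28413618195) (.leaf 0x413618195)) (.node 17990 (.leaf 0x413618195) (.node 17991 (.leaf 0x413618195) (.leaf 0x413618195))))) (.node 17997 (.node 17994 (.node 17993 (.leaf 0x413618195) (.leaf 0x413618195)) (.node 17995 (.leaf 0x413618195) (.node 17996 (.leaf 0x413618195) (.leaf 0x413618195)))) (.node 17999 (.node 17998 (.leaf 0x413618195) (.leaf 0x413618195)) (.node 18000 (.leaf 0x413618195) (.node 18001 (.leaf 0x1c2598195) (.leaf 0x1c2598195))))))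

def candS_890 : Store := (.node 18012 (.node 18007 (.node 18004 (.node 18003 (.leaf 0x1c2598195) (.leaf 0x1c2598195)) (.node 18005 (.leaf 0x1c2598195) (.node 18006 (.leaf 0x1c2598195) (.leaf 0x1c2598195)))) (.node 18009 (.node 18008 (.leaf 0x1c2598195) (.leaf 0x1c2598195)) (.node 18010 (.leaf 0x1c2598195) (.node 18011 (.leaf 0x1c2598195) (.leaf 0x1c2598195))))) (.node 18017 (.node 18014 (.node 18013 (.leaf 0x281c2598195) (.leaf 0x281c2598195)) (.node 18015 (.leaf 0x281c2598195) (.node 18016 (.leaf 0x3000281c2598195) (.leaf 0x281c2598195)))) (.node 18019 (.node 18018 (.leaf 0x281c2598195) (.leaf 0x6000281c2598195)) (.node 18020 (.leaf 0x281c2598195) (.node 18021 (.leaf 0x281c2598195) (.leaf 0x281c2598195))))))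

def candS_891 : Store := (.node 18032 (.node 18027 (.node 18024 (.node 18023 (.leaf 0x7800281c2598195) (.leaf 0x2000281c2598195)) (.node 18025 (.leaf 0x161c2598195) (.node 18026 (.leaf 0x161c2598195) (.leaf 0x161c2598195)))) (.node 18029 (.node 18028 (.leaf 0x161c2598195) (.leaf 0x161c2598195)) (.node 18030 (.leaf 0x161c2598195) (.node 18031 (.leaf 0x161c2598195) (.leaf 0x161c2598195))))) (.node 18037 (.node 18034 (.node 18033 (.leaf 0x161c2598195) (.leaf 0x161c2598195)) (.node 18035 (.leaf 0x161c2598195) (.node 18036 (.leaf 0x161c2598195) (.leaf 0x1c2598195)))) (.node 18039 (.node 18038 (.leaf 0x1c2598195) (.leaf 0x1c2598195)) (.node 18040 (.leaf 0x1c2598195) (.node 18041 (.leaf 0x1c2598195) (.leaf 0x1c2598195))))))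

def candS_892 : Store := (.node 18052 (.node 18047 (.node 18044 (.node 18043 (.leaf 0x1c2598195) (.leaf 0x1c2598195)) (.node 18045 (.leaf 0x1c2598195) (.node 18046 (.leaf 0x1c2598195) (.leaf 0x1c2598195)))) (.node 18049 (.node 18048 (.leaf 0x1c2598195) (.leaf 0x2c1c2598195)) (.node 18050 (.leaf 0x2c1c2598195) (.node 18051 (.leaf 0x2c1c2598195) (.leaf 0x2c1c2598195))))) (.node 18057 (.node 18054 (.node 18053 (.leaf 0x2c1c2598195) (.leaf 0x2c1c2598195)) (.node 18055 (.leaf 0x2c1c2598195) (.node 18056 (.leaf 0x2c1c2598195) (.leaf 0x2c1c2598195)))) (.node 18060 (.node 18058 (.leaf 0x2c1c2598195) (.node 18059 (.leaf 0x2c1c2598195) (.leaf 0x2c1c2598195))) (.node 18061 (.leaf 0x81c2598195) (.node 18062 (.leaf 0x81c2598195) (.leaf 0x81c2598195))))))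

def candS_893 : Store := (.node 18073 (.node 18068 (.node 18065 (.node 18064 (.leaf 0x81c2598195) (.leaf 0x81c2598195)) (.node 18066 (.leaf 0x81c2598195) (.node 18067 (.leaf 0x81c2598195) (.leaf 0x81c2598195)))) (.node 18070 (.node 18069 (.leaf 0x81c2598195) (.leaf 0x81c2598195)) (.node 18071 (.leaf 0x81c2598195) (.node 18072 (.leaf 0x81c2598195) (.leaf 0x3a1c2598195))))) (.node 18078 (.node 18075 (.node 18074 (.leaf 0x194) (.leaf 0x27e)) (.node 18076 (.leaf 0x3a1c2598195) (.node 18077 (.leaf 0x2a4) (.leaf 0x3a1c2598195)))) (.node 18080 (.node 18079 (.leaf 0x3a1c2598195) (.leaf 0x3a1c2598195)) (.node 18081 (.leaf 0x3a1c2598195) (.node 18082 (.leaf 0x122) (.leaf 0x3a1c2598195))))))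

def candS_894 : Store := (.node 18093 (.node 18088 (.node 18085 (.node 18084 (.leaf 0x3a1c2598195) (.leaf 0x1c2598195)) (.node 18086 (.leaf 0x1c2598195) (.node 18087 (.leaf 0x1c2598195) (.leaf 0x1c2598195)))) (.node 18090 (.node 18089 (.leaf 0x1c2598195) (.leaf 0x1c2598195)) (.node 18091 (.leaf 0x1c2598195) (.node 18092 (.leaf 0x1c2598195) (.leaf 0x1c2598195))))) (.node 18098 (.node 18095 (.node 18094 (.leaf 0x1c2598195) (.leaf 0x1c2598195)) (.node 18096 (.leaf 0x1c2598195) (.node 18097 (.leaf 0x1c2598195) (.leaf 0x1c2598195)))) (.node 18100 (.node 18099 (.leaf 0x1c2598195) (.leaf 0x1c2598195)) (.node 18101 (.leaf 0x1c2598195) (.node 18102 (.leaf 0x1c2598195) (.leaf 0x1c2598195))))))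

def candS_895 : Store := (.node 18113 (.node 18108 (.node 18105 (.node 18104 (.leaf 0x1c2598195) (.leaf 0x1c2598195)) (.node 18106 (.leaf 0x1c2598195) (.node 18107 (.leaf 0x1c2598195) (.leaf 0x1c2598195)))) (.node 18110 (.node 18109 (.leaf 0x181c2598195) (.leaf 0x181c2598195)) (.node 18111 (.leaf 0x181c2598195) (.node 18112 (.leaf 0x181c2598195) (.leaf 0x181c2598195))))) (.node 18118 (.node 18115 (.node 18114 (.leaf 0x181c2598195) (.leaf 0x181c2598195)) (.node 18116 (.leaf 0x181c2598195) (.node 18117 (.leaf 0x181c2598195) (.leaf 0x181c2598195)))) (.node 18120 (.node 18119 (.leaf 0x181c2598195) (.leaf 0x181c2598195)) (.node 18121 (.leaf 0x1c2598195) (.node 18122 (.leaf 0x1c2598195) (.leaf 0x1c2598195))))))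

def candS_896 : Store := (.node 18133 (.node 18128 (.node 18125 (.node 18124 (.leaf 0x1c2598195) (.leaf 0x1c2598195)) (.node 18126 (.leaf 0x1c2598195) (.node 18127 (.leaf 0x1c2598195) (.leaf 0x1c2598195)))) (.node 18130 (.node 18129 (.leaf 0x1c2598195) (.leaf 0x1c2598195)) (.node 18131 (.leaf 0x1c2598195) (.node 18132 (.leaf 0x1c2598195) (.leaf 0x1c2598195))))) (.node 18138 (.node 18135 (.node 18134 (.leaf 0x1c2598195) (.leaf 0x1c2598195)) (.node 18136 (.leaf 0x1c2598195) (.node 18137 (.leaf 0x1c2598195) (.leaf 0x1c2598195)))) (.node 18141 (.node 18139 (.leaf 0x1c2598195) (.node 18140 (.leaf 0x1c2598195) (.leaf 0x1c2598195))) (.node 18142 (.leaf 0x1c2598195) (.node 18143 (.leaf 0x1c2598195) (.leaf 0x1c2598195))))))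

def candS_897 : Store := (.node 18154 (.node 18149 (.node 18146 (.node 18145 (.leaf 0x83e0d98195) (.leaf 0x83e0d98195)) (.node 18147 (.leaf 0x83e0d98195) (.node 18148 (.leaf 0x83e0d98195) (.leaf 0x83e0d98195)))) (.node 18151 (.node 18150 (.leaf 0x83e0d98195) (.leaf 0x83e0d98195)) (.node 18152 (.leaf 0x83e0d98195) (.node 18153 (.leaf 0x83e0d98195) (.leaf 0x83e0d98195))))) (.node 18159 (.node 18156 (.node 18155 (.leaf 0x83e0d98195) (.leaf 0x83e0d98195)) (.node 18157 (.leaf 0x143e0d98195) (.node 18158 (.leaf 0x143e0d98195) (.leaf 0x143e0d98195)))) (.node 18161 (.node 18160 (.leaf 0x143e0d98195) (.leaf 0x143e0d98195)) (.node 18162 (.leaf 0x143e0d98195) (.node 18163 (.leaf 0x143e0d98195) (.leaf 0x143e0d98195))))))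

def candS_898 : Store := (.node 18174 (.node 18169 (.node 18166 (.node 18165 (.leaf 0x143e0d98195) (.leaf 0x143e0d98195)) (.node 18167 (.leaf 0x143e0d98195) (.node 18168 (.leaf 0x143e0d98195) (.leaf 0x3e0d98195)))) (.node 18171 (.node 18170 (.leaf 0x3e0d98195) (.leaf 0x3e0d98195)) (.node 18172 (.leaf 0x3e0d98195) (.node 18173 (.leaf 0x3e0d98195) (.leaf 0x3e0d98195))))) (.node 18179 (.node 18176 (.node 18175 (.leaf 0x3e0d98195) (.leaf 0x3e0d98195)) (.node 18177 (.leaf 0x3e0d98195) (.node 18178 (.leaf 0x3e0d98195) (.leaf 0x3e0d98195)))) (.node 18181 (.node 18180 (.leaf 0x3e0d98195) (.leaf 0x263e0d98195)) (.node 18182 (.leaf 0x263e0d98195) (.node 18183 (.leaf 0x263e0d98195) (.leaf 0x263e0d98195))))))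

def candS_899 : Store := (.node 18194 (.node 18189 (.node 18186 (.node 18185 (.leaf 0x263e0d98195) (.leaf 0x263e0d98195)) (.node 18187 (.leaf 0x263e0d98195) (.node 18188 (.leaf 0x263e0d98195) (.leaf 0x263e0d98195)))) (.node 18191 (.node 18190 (.leaf 0x263e0d98195) (.leaf 0x263e0d98195)) (.node 18192 (.leaf 0x263e0d98195) (.node 18193 (.leaf 0x3e0d98195) (.leaf 0x3e0d98195))))) (.node 18199 (.node 18196 (.node 18195 (.leaf 0x3e0d98195) (.leaf 0x3e0d98195)) (.node 18197 (.leaf 0x3e0d98195) (.node 18198 (.leaf 0x3e0d98195) (.leaf 0x3e0d98195)))) (.node 18201 (.node 18200 (.leaf 0x3e0d98195) (.leaf 0x3e0d98195)) (.node 18202 (.leaf 0x3e0d98195) (.node 18203 (.leaf 0x3e0d98195) (.leaf 0x3e0d98195))))))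

def candS_900 : Store := (.node 18214 (.node 18209 (.node 18206 (.node 18205 (.leaf 0x3e3e0d98195) (.leaf 0x3e3e0d98195)) (.node 18207 (.leaf 0x3e3e0d98195) (.node 18208 (.leaf 0x3e3e0d98195) (.leaf 0x70003e3e0d98195)))) (.node 18211 (.node 18210 (.leaf 0x80003e3e0d98195) (.leaf 0x3e3e0d98195)) (.node 18212 (.leaf 0x3e3e0d98195) (.node 18213 (.leaf 0x3e3e0d98195) (.leaf 0x98003e3e0d98195))))) (.node 18219 (.node 18216 (.node 18215 (.leaf 0x3e3e0d98195) (.leaf 0x3e3e0d98195)) (.node 18217 (.leaf 0x3e0d98195) (.node 18218 (.leaf 0x3e0d98195) (.leaf 0x3e0d98195)))) (.node 18222 (.node 18220 (.leaf 0x3e0d98195) (.node 18221 (.leaf 0x3e0d98195) (.leaf 0x3e0d98195))) (.node 18223 (.leaf 0x3e0d98195) (.node 18224 (.leaf 0x3e0d98195) (.leaf 0x3e0d98195))))))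

def candS_901 : Store := (.node 18235 (.node 18230 (.node 18227 (.node 18226 (.leaf 0x3e0d98195) (.leaf 0x3e0d98195)) (.node 18228 (.leaf 0x3e0d98195) (.node 18229 (.leaf 0x3e0d98195) (.leaf 0x3e0d98195)))) (.node 18232 (.node 18231 (.leaf 0x3e0d98195) (.leaf 0x3e0d98195)) (.node 18233 (.leaf 0x3e0d98195) (.node 18234 (.leaf 0x3e0d98195) (.leaf 0x3e0d98195))))) (.node 18240 (.node 18237 (.node 18236 (.leaf 0x3e0d98195) (.leaf 0x3e0d98195)) (.node 18238 (.leaf 0x3e0d98195) (.node 18239 (.leaf 0x3e0d98195) (.leaf 0x3e0d98195)))) (.node 18242 (.node 18241 (.leaf 0x1a3e0d98195) (.leaf 0x1a3e0d98195)) (.node 18243 (.leaf 0x1a3e0d98195) (.node 18244 (.leaf 0x1a3e0d98195) (.leaf 0x1a3e0d98195))))))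

def candS_902 : Store := (.node 18255 (.node 18250 (.node 18247 (.node 18246 (.leaf 0x1a3e0d98195) (.leaf 0x1a3e0d98195)) (.node 18248 (.leaf 0x1a3e0d98195) (.node 18249 (.leaf 0x1a3e0d98195) (.leaf 0x1a3e0d98195)))) (.node 18252 (.node 18251 (.leaf 0x1a3e0d98195) (.leaf 0x1a3e0d98195)) (.node 18253 (.leaf 0x3e0d98195) (.node 18254 (.leaf 0x3e0d98195) (.leaf 0x3e0d98195))))) (.node 18260 (.node 18257 (.node 18256 (.leaf 0x3e0d98195) (.leaf 0x3e0d98195)) (.node 18258 (.leaf 0x3e0d98195) (.node 18259 (.leaf 0x3e0d98195) (.leaf 0x3e0d98195)))) (.node 18262 (.node 18261 (.leaf 0x3e0d98195) (.leaf 0x3e0d98195)) (.node 18263 (.leaf 0x3e0d98195) (.node 18264 (.leaf 0x3e0d98195) (.leaf 0x3e0d98195))))))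

def candS_903 : Store := (.node 18275 (.node 18270 (.node 18267 (.node 18266 (.leaf 0x3e0d98195) (.leaf 0x3e0d98195)) (.node 18268 (.leaf 0x3e0d98195) (.node 18269 (.leaf 0x3e0d98195) (.leaf 0x3e0d98195)))) (.node 18272 (.node 18271 (.leaf 0x3e0d98195) (.leaf 0x3e0d98195)) (.node 18273 (.leaf 0x3e0d98195) (.node 18274 (.leaf 0x3e0d98195) (.leaf 0x3e0d98195))))) (.node 18280 (.node 18277 (.node 18276 (.leaf 0x3e0d98195) (.leaf 0xf6)) (.node 18278 (.leaf 0x403e0d98195) (.node 18279 (.leaf 0x403e0d98195) (.leaf 0x34a)))) (.node 18282 (.node 18281 (.leaf 0x403e0d98195) (.leaf 0x403e0d98195)) (.node 18283 (.leaf 0x403e0d98195) (.node 18284 (.leaf 0x403e0d98195) (.leaf 0x403e0d98195))))))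

def candS_904 : Store := (.node 18295 (.node 18290 (.node 18287 (.node 18286 (.leaf 0x403e0d98195) (.leaf 0x1e0)) (.node 18288 (.leaf 0x3c) (.node 18289 (.leaf 0x30050c98195) (.leaf 0x30050c98195)))) (.node 18292 (.node 18291 (.leaf 0x30050c98195) (.leaf 0x30050c98195)) (.node 18293 (.leaf 0x30050c98195) (.node 18294 (.leaf 0x30050c98195) (.leaf 0x30050c98195))))) (.node 18300 (.node 18297 (.node 18296 (.leaf 0x30050c98195) (.leaf 0x30050c98195)) (.node 18298 (.leaf 0x30050c98195) (.node 18299 (.leaf 0x30050c98195) (.leaf 0x30050c98195)))) (.node 18303 (.node 18301 (.leaf 0x22050c98195) (.node 18302 (.leaf 0x22050c98195) (.leaf 0x22050c98195))) (.node 18304 (.leaf 0x22050c98195) (.node 18305 (.leaf 0x22050c98195) (.leaf 0x22050c98195))))))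

def candS_905 : Store := (.node 18316 (.node 18311 (.node 18308 (.node 18307 (.leaf 0x22050c98195) (.leaf 0x22050c98195)) (.node 18309 (.leaf 0x22050c98195) (.node 18310 (.leaf 0x22050c98195) (.leaf 0x22050c98195)))) (.node 18313 (.node 18312 (.leaf 0x22050c98195) (.leaf 0x50c98195)) (.node 18314 (.leaf 0x50c98195) (.node 18315 (.leaf 0x50c98195) (.leaf 0x50c98195))))) (.node 18321 (.node 18318 (.node 18317 (.leaf 0x50c98195) (.leaf 0x50c98195)) (.node 18319 (.leaf 0x50c98195) (.node 18320 (.leaf 0x50c98195) (.leaf 0x50c98195)))) (.node 18323 (.node 18322 (.leaf 0x50c98195) (.leaf 0x50c98195)) (.node 18324 (.leaf 0x50c98195) (.node 18325 (.leaf 0x50c98195) (.leaf 0x50c98195))))))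

def candS_906 : Store := (.node 18336 (.node 18331 (.node 18328 (.node 18327 (.leaf 0x50c98195) (.leaf 0x50c98195)) (.node 18329 (.leaf 0x50c98195) (.node 18330 (.leaf 0x50c98195) (.leaf 0x50c98195)))) (.node 18333 (.node 18332 (.leaf 0x50c98195) (.leaf 0x50c98195)) (.node 18334 (.leaf 0x50c98195) (.node 18335 (.leaf 0x50c98195) (.leaf 0x50c98195))))) (.node 18341 (.node 18338 (.node 18337 (.leaf 0x50c98195) (.leaf 0x50c98195)) (.node 18339 (.leaf 0x50c98195) (.node 18340 (.leaf 0x50c98195) (.leaf 0x50c98195)))) (.node 18343 (.node 18342 (.leaf 0x50c98195) (.leaf 0x50c98195)) (.node 18344 (.leaf 0x50c98195) (.node 18345 (.leaf 0x50c98195) (.leaf 0x50c98195))))))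

def candS_907 : Store := (.node 18356 (.node 18351 (.node 18348 (.node 18347 (.leaf 0x50c98195) (.leaf 0x50c98195)) (.node 18349 (.leaf 0x50c98195) (.node 18350 (.leaf 0x50c98195) (.leaf 0x50c98195)))) (.node 18353 (.node 18352 (.leaf 0x50c98195) (.leaf 0x50c98195)) (.node 18354 (.leaf 0x50c98195) (.node 18355 (.leaf 0x50c98195) (.leaf 0x50c98195))))) (.node 18361 (.node 18358 (.node 18357 (.leaf 0x50c98195) (.leaf 0x50c98195)) (.node 18359 (.leaf 0x50c98195) (.node 18360 (.leaf 0x50c98195) (.leaf 0xc050c98195)))) (.node 18363 (.node 18362 (.leaf 0xc050c98195) (.leaf 0xc050c98195)) (.node 18364 (.leaf 0xc050c98195) (.node 18365 (.leaf 0xc050c98195) (.leaf 0xc050c98195))))))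

def candS_908 : Store := (.node 18376 (.node 18371 (.node 18368 (.node 18367 (.leaf 0xc050c98195) (.leaf 0xc050c98195)) (.node 18369 (.leaf 0xc050c98195) (.node 18370 (.leaf 0xc050c98195) (.leaf 0xc050c98195)))) (.node 18373 (.node 18372 (.leaf 0xc050c98195) (.leaf 0x1a050c98195)) (.node 18374 (.leaf 0x1a050c98195) (.node 18375 (.leaf 0x1a050c98195) (.leaf 0x1a050c98195))))) (.node 18381 (.node 18378 (.node 18377 (.leaf 0x1a050c98195) (.leaf 0x1a050c98195)) (.node 18379 (.leaf 0x1a050c98195) (.node 18380 (.leaf 0x1a050c98195) (.leaf 0x1a050c98195)))) (.node 18384 (.node 18382 (.leaf 0x1a050c98195) (.node 18383 (.leaf 0x1a050c98195) (.leaf 0x1a050c98195))) (.node 18385 (.leaf 0x2c050c98195) (.node 18386 (.leaf 0x2c050c98195) (.leaf 0x2c050c98195))))))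

def candS_909 : Store := (.node 18397 (.node 18392 (.node 18389 (.node 18388 (.leaf 0x2c050c98195) (.leaf 0x2c050c98195)) (.node 18390 (.leaf 0x2c050c98195) (.node 18391 (.leaf 0x2c050c98195) (.leaf 0x2c050c98195)))) (.node 18394 (.node 18393 (.leaf 0x2c050c98195) (.leaf 0x2c050c98195)) (.node 18395 (.leaf 0x2c050c98195) (.node 18396 (.leaf 0x2c050c98195) (.leaf 0x50c98195))))) (.node 18402 (.node 18399 (.node 18398 (.leaf 0x50c98195) (.leaf 0x50c98195)) (.node 18400 (.leaf 0x50c98195) (.node 18401 (.leaf 0x50c98195) (.leaf 0x50c98195)))) (.node 18404 (.node 18403 (.leaf 0x50c98195) (.leaf 0x50c98195)) (.node 18405 (.leaf 0x50c98195) (.node 18406 (.leaf 0x50c98195) (.leaf 0x50c98195))))))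

def candS_910 : Store := (.node 18417 (.node 18412 (.node 18409 (.node 18408 (.leaf 0x50c98195) (.leaf 0x50c98195)) (.node 18410 (.leaf 0x50c98195) (.node 18411 (.leaf 0x50c98195) (.leaf 0x50c98195)))) (.node 18414 (.node 18413 (.leaf 0x50c98195) (.leaf 0x50c98195)) (.node 18415 (.leaf 0x50c98195) (.node 18416 (.leaf 0x50c98195) (.leaf 0x50c98195))))) (.node 18422 (.node 18419 (.node 18418 (.leaf 0x50c98195) (.leaf 0x50c98195)) (.node 18420 (.leaf 0x50c98195) (.node 18421 (.leaf 0x50c98195) (.leaf 0x50c98195)))) (.node 18424 (.node 18423 (.leaf 0x50c98195) (.leaf 0x50c98195)) (.node 18425 (.leaf 0x50c98195) (.node 18426 (.leaf 0x50c98195) (.leaf 0x50c98195))))))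

def candS_911 : Store := (.node 18437 (.node 18432 (.node 18429 (.node 18428 (.leaf 0x50c98195) (.leaf 0x50c98195)) (.node 18430 (.leaf 0x50c98195) (.node 18431 (.leaf 0x50c98195) (.leaf 0x50c98195)))) (.node 18434 (.node 18433 (.leaf 0x2e0698195) (.leaf 0x2e0698195)) (.node 18435 (.leaf 0x2e0698195) (.node 18436 (.leaf 0x2e0698195) (.leaf 0x2e0698195))))) (.node 18442 (.node 18439 (.node 18438 (.leaf 0x2e0698195) (.leaf 0x2e0698195)) (.node 18440 (.leaf 0x2e0698195) (.node 18441 (.leaf 0x2e0698195) (.leaf 0x2e0698195)))) (.node 18444 (.node 18443 (.leaf 0x2e0698195) (.leaf 0x2e0698195)) (.node 18445 (.leaf 0x2e0698195) (.node 18446 (.leaf 0x2e0698195) (.leaf 0x2e0698195))))))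

def candS_912 : Store := (.node 18457 (.node 18452 (.node 18449 (.node 18448 (.leaf 0x2e0698195) (.leaf 0x2e0698195)) (.node 18450 (.leaf 0x2e0698195) (.node 18451 (.leaf 0x2e0698195) (.leaf 0x2e0698195)))) (.node 18454 (.node 18453 (.leaf 0x2e0698195) (.leaf 0x2e0698195)) (.node 18455 (.leaf 0x2e0698195) (.node 18456 (.leaf 0x2e0698195) (.leaf 0x2c2e0698195))))) (.node 18462 (.node 18459 (.node 18458 (.leaf 0x2c2e0698195) (.leaf 0x2c2e0698195)) (.node 18460 (.leaf 0x2c2e0698195) (.node 18461 (.leaf 0x2c2e0698195) (.leaf 0x2c2e0698195)))) (.node 18465 (.node 18463 (.leaf 0x2c2e0698195) (.node 18464 (.leaf 0x2c2e0698195) (.leaf 0x2c2e0698195))) (.node 18466 (.leaf 0x2c2e0698195) (.node 18467 (.leaf 0x2c2e0698195) (.leaf 0x2c2e0698195))))))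

def candS_913 : Store := (.node 18478 (.node 18473 (.node 18470 (.node 18469 (.leaf 0x2e0698195) (.leaf 0x2e0698195)) (.node 18471 (.leaf 0x2e0698195) (.node 18472 (.leaf 0x2e0698195) (.leaf 0x2e0698195)))) (.node 18475 (.node 18474 (.leaf 0x2e0698195) (.leaf 0x2e0698195)) (.node 18476 (.leaf 0x2e0698195) (.node 18477 (.leaf 0x2e0698195) (.leaf 0x2e0698195))))) (.node 18483 (.node 18480 (.node 18479 (.leaf 0x2e0698195) (.leaf 0x2e0698195)) (.node 18481 (.leaf 0x2a2e0698195) (.node 18482 (.leaf 0x2a2e0698195) (.leaf 0x2a2e0698195)))) (.node 18485 (.node 18484 (.leaf 0x2a2e0698195) (.leaf 0x2a2e0698195)) (.node 18486 (.leaf 0x2a2e0698195) (.node 18487 (.leaf 0x2a2e0698195) (.leaf 0x2a2e0698195))))))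

def candS_914 : Store := (.node 18498 (.node 18493 (.node 18490 (.node 18489 (.leaf 0x2a2e0698195) (.leaf 0x2a2e0698195)) (.node 18491 (.leaf 0x2a2e0698195) (.node 18492 (.leaf 0x2a2e0698195) (.leaf 0x1c2e0698195)))) (.node 18495 (.node 18494 (.leaf 0x1c2e0698195) (.leaf 0x1c2e0698195)) (.node 18496 (.leaf 0x1c2e0698195) (.node 18497 (.leaf 0x1c2e0698195) (.leaf 0x1c2e0698195))))) (.node 18503 (.node 18500 (.node 18499 (.leaf 0x1c2e0698195) (.leaf 0x1c2e0698195)) (.node 18501 (.leaf 0x1c2e0698195) (.node 18502 (.leaf 0x1c2e0698195) (.leaf 0x1c2e0698195)))) (.node 18505 (.node 18504 (.leaf 0x1c2e0698195) (.leaf 0x2e0698195)) (.node 18506 (.leaf 0x2e0698195) (.node 18507 (.leaf 0x2e0698195) (.leaf 0x2e0698195))))))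

def candS_915 : Store := (.node 18518 (.node 18513 (.node 18510 (.node 18509 (.leaf 0x2e0698195) (.leaf 0x2e0698195)) (.node 18511 (.leaf 0x2e0698195) (.node 18512 (.leaf 0x2e0698195) (.leaf 0x2e0698195)))) (.node 18515 (.node 18514 (.leaf 0x2e0698195) (.leaf 0x2e0698195)) (.node 18516 (.leaf 0x2e0698195) (.node 18517 (.leaf 0x2e0698195) (.leaf 0x2e0698195))))) (.node 18523 (.node 18520 (.node 18519 (.leaf 0x2e0698195) (.leaf 0x2e0698195)) (.node 18521 (.leaf 0x2e0698195) (.node 18522 (.leaf 0x2e0698195) (.leaf 0x2e0698195)))) (.node 18525 (.node 18524 (.leaf 0x2e0698195) (.leaf 0x2e0698195)) (.node 18526 (.leaf 0x2e0698195) (.node 18527 (.leaf 0x2e0698195) (.leaf 0x2e0698195))))))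

def candS_916 : Store := (.node 18538 (.node 18533 (.node 18530 (.node 18529 (.leaf 0x2e0698195) (.leaf 0x2e0698195)) (.node 18531 (.leaf 0x2e0698195) (.node 18532 (.leaf 0x2e0698195) (.leaf 0x2e0698195)))) (.node 18535 (.node 18534 (.leaf 0x2e0698195) (.leaf 0x2e0698195)) (.node 18536 (.leaf 0x2e0698195) (.node 18537 (.leaf 0x2e0698195) (.leaf 0x2e0698195))))) (.node 18543 (.node 18540 (.node 18539 (.leaf 0x2e0698195) (.leaf 0x2e0698195)) (.node 18541 (.leaf 0x442e0698195) (.node 18542 (.leaf 0x442e0698195) (.leaf 0x442e0698195)))) (.node 18546 (.node 18544 (.leaf 0x442e0698195) (.node 18545 (.leaf 0x442e0698195) (.leaf 0x442e0698195))) (.node 18547 (.leaf 0x442e0698195) (.node 18548 (.leaf 0x442e0698195) (.leaf 0x442e0698195))))))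

def candS_917 : Store := (.node 18559 (.node 18554 (.node 18551 (.node 18550 (.leaf 0x442e0698195) (.leaf 0x442e0698195)) (.node 18552 (.leaf 0x442e0698195) (.node 18553 (.leaf 0x122e0698195) (.leaf 0x122e0698195)))) (.node 18556 (.node 18555 (.leaf 0x122e0698195) (.leaf 0x122e0698195)) (.node 18557 (.leaf 0x122e0698195) (.node 18558 (.leaf 0x122e0698195) (.leaf 0x122e0698195))))) (.node 18564 (.node 18561 (.node 18560 (.leaf 0x122e0698195) (.leaf 0x122e0698195)) (.node 18562 (.leaf 0x122e0698195) (.node 18563 (.leaf 0x122e0698195) (.leaf 0x122e0698195)))) (.node 18566 (.node 18565 (.leaf 0x462e0698195) (.leaf 0x462e0698195)) (.node 18567 (.leaf 0x462e0698195) (.node 18568 (.leaf 0x462e0698195) (.leaf 0x462e0698195))))))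

def candS_918 : Store := (.node 18579 (.node 18574 (.node 18571 (.node 18570 (.leaf 0x462e0698195) (.leaf 0x462e0698195)) (.node 18572 (.leaf 0x462e0698195) (.node 18573 (.leaf 0x462e0698195) (.leaf 0x462e0698195)))) (.node 18576 (.node 18575 (.leaf 0x462e0698195) (.leaf 0x462e0698195)) (.node 18577 (.leaf 0x480012331c18195) (.node 18578 (.leaf 0x12331c18195) (.leaf 0x12331c18195))))) (.node 18584 (.node 18581 (.node 18580 (.leaf 0x12331c18195) (.leaf 0x12331c18195)) (.node 18582 (.leaf 0x12331c18195) (.node 18583 (.leaf 0x880012331c18195) (.leaf 0x12331c18195)))) (.node 18586 (.node 18585 (.leaf 0x12331c18195) (.leaf 0x12331c18195)) (.node 18587 (.leaf 0x400012331c18195) (.node 18588 (.leaf 0x100012331c18195) (.leaf 0x331c18195))))))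

def candS_919 : Store := (.node 18599 (.node 18594 (.node 18591 (.node 18590 (.leaf 0x331c18195) (.leaf 0x331c18195)) (.node 18592 (.leaf 0x331c18195) (.node 18593 (.leaf 0x331c18195) (.leaf 0x331c18195)))) (.node 18596 (.node 18595 (.leaf 0x331c18195) (.leaf 0x331c18195)) (.node 18597 (.leaf 0x331c18195) (.node 18598 (.leaf 0x331c18195) (.leaf 0x331c18195))))) (.node 18604 (.node 18601 (.node 18600 (.leaf 0x331c18195) (.leaf 0x4331c18195)) (.node 18602 (.leaf 0x4331c18195) (.node 18603 (.leaf 0x4331c18195) (.leaf 0x4331c18195)))) (.node 18606 (.node 18605 (.leaf 0x4331c18195) (.leaf 0x4331c18195)) (.node 18607 (.leaf 0x4331c18195) (.node 18608 (.leaf 0x4331c18195) (.leaf 0x4331c18195))))))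

def candS_920 : Store := (.node 18619 (.node 18614 (.node 18611 (.node 18610 (.leaf 0x4331c18195) (.leaf 0x4331c18195)) (.node 18612 (.leaf 0x4331c18195) (.node 18613 (.leaf 0x331c18195) (.leaf 0x331c18195)))) (.node 18616 (.node 18615 (.leaf 0x331c18195) (.leaf 0x331c18195)) (.node 18617 (.leaf 0x331c18195) (.node 18618 (.leaf 0x331c18195) (.leaf 0x331c18195))))) (.node 18624 (.node 18621 (.node 18620 (.leaf 0x331c18195) (.leaf 0x331c18195)) (.node 18622 (.leaf 0x331c18195) (.node 18623 (.leaf 0x331c18195) (.leaf 0x331c18195)))) (.node 18627 (.node 18625 (.leaf 0x331c18195) (.node 18626 (.leaf 0x331c18195) (.leaf 0x331c18195))) (.node 18628 (.leaf 0x331c18195) (.node 18629 (.leaf 0x331c18195) (.leaf 0x331c18195))))))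

def candS_921 : Store := (.node 18640 (.node 18635 (.node 18632 (.node 18631 (.leaf 0x331c18195) (.leaf 0x331c18195)) (.node 18633 (.leaf 0x331c18195) (.node 18634 (.leaf 0x331c18195) (.leaf 0x331c18195)))) (.node 18637 (.node 18636 (.leaf 0x331c18195) (.leaf 0x16331c18195)) (.node 18638 (.leaf 0x16331c18195) (.node 18639 (.leaf 0x16331c18195) (.leaf 0x16331c18195))))) (.node 18645 (.node 18642 (.node 18641 (.leaf 0x16331c18195) (.leaf 0x16331c18195)) (.node 18643 (.leaf 0x16331c18195) (.node 18644 (.leaf 0x16331c18195) (.leaf 0x16331c18195)))) (.node 18647 (.node 18646 (.leaf 0x16331c18195) (.leaf 0x16331c18195)) (.node 18648 (.leaf 0x16331c18195) (.node 18649 (.leaf 0x46331c18195) (.leaf 0x28c))))))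

def candS_922 : Store := (.node 18660 (.node 18655 (.node 18652 (.node 18651 (.leaf 0x19a) (.leaf 0x46331c18195)) (.node 18653 (.leaf 0x328) (.node 18654 (.leaf 0x94) (.leaf 0x46331c18195)))) (.node 18657 (.node 18656 (.leaf 0x46331c18195) (.leaf 0x46331c18195)) (.node 18658 (.leaf 0x46331c18195) (.node 18659 (.leaf 0x46331c18195) (.leaf 0x46331c18195))))) (.node 18665 (.node 18662 (.node 18661 (.leaf 0x331c18195) (.leaf 0x331c18195)) (.node 18663 (.leaf 0x331c18195) (.node 18664 (.leaf 0x331c18195) (.leaf 0x331c18195)))) (.node 18667 (.node 18666 (.leaf 0x331c18195) (.leaf 0x331c18195)) (.node 18668 (.leaf 0x331c18195) (.node 18669 (.leaf 0x331c18195) (.leaf 0x331c18195))))))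

def candS_923 : Store := (.node 18680 (.node 18675 (.node 18672 (.node 18671 (.leaf 0x331c18195) (.leaf 0x331c18195)) (.node 18673 (.leaf 0x331c18195) (.node 18674 (.leaf 0x331c18195) (.leaf 0x331c18195)))) (.node 18677 (.node 18676 (.leaf 0x331c18195) (.leaf 0x331c18195)) (.node 18678 (.leaf 0x331c18195) (.node 18679 (.leaf 0x331c18195) (.leaf 0x331c18195))))) (.node 18685 (.node 18682 (.node 18681 (.leaf 0x331c18195) (.leaf 0x331c18195)) (.node 18683 (.leaf 0x331c18195) (.node 18684 (.leaf 0x331c18195) (.leaf 0x24331c18195)))) (.node 18687 (.node 18686 (.leaf 0x24331c18195) (.leaf 0x24331c18195)) (.node 18688 (.leaf 0x24331c18195) (.node 18689 (.leaf 0x24331c18195) (.leaf 0x24331c18195))))))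

def candS_924 : Store := (.node 18700 (.node 18695 (.node 18692 (.node 18691 (.leaf 0x24331c18195) (.leaf 0x24331c18195)) (.node 18693 (.leaf 0x24331c18195) (.node 18694 (.leaf 0x24331c18195) (.leaf 0x24331c18195)))) (.node 18697 (.node 18696 (.leaf 0x24331c18195) (.leaf 0x40331c18195)) (.node 18698 (.leaf 0x40331c18195) (.node 18699 (.leaf 0x40331c18195) (.leaf 0x40331c18195))))) (.node 18705 (.node 18702 (.node 18701 (.leaf 0x40331c18195) (.leaf 0x40331c18195)) (.node 18703 (.leaf 0x40331c18195) (.node 18704 (.leaf 0x40331c18195) (.leaf 0x40331c18195)))) (.node 18708 (.node 18706 (.leaf 0x40331c18195) (.node 18707 (.leaf 0x40331c18195) (.leaf 0x40331c18195))) (.node 18709 (.leaf 0x331c18195) (.node 18710 (.leaf 0x331c18195) (.leaf 0x331c18195))))))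

def candS_925 : Store := (.node 18721 (.node 18716 (.node 18713 (.node 18712 (.leaf 0x331c18195) (.leaf 0x331c18195)) (.node 18714 (.leaf 0x331c18195) (.node 18715 (.leaf 0x331c18195) (.leaf 0x331c18195)))) (.node 18718 (.node 18717 (.leaf 0x331c18195) (.leaf 0x331c18195)) (.node 18719 (.leaf 0x331c18195) (.node 18720 (.leaf 0x331c18195) (.leaf 0x3e3a1618195))))) (.node 18726 (.node 18723 (.node 18722 (.leaf 0x3e3a1618195) (.leaf 0x3e3a1618195)) (.node 18724 (.leaf 0x3e3a1618195) (.node 18725 (.leaf 0x3e3a1618195) (.leaf 0x3e3a1618195)))) (.node 18728 (.node 18727 (.leaf 0x3e3a1618195) (.leaf 0x3e3a1618195)) (.node 18729 (.leaf 0x3e3a1618195) (.node 18730 (.leaf 0x3e3a1618195) (.leaf 0x3e3a1618195))))))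

def candS_926 : Store := (.node 18741 (.node 18736 (.node 18733 (.node 18732 (.leaf 0x3e3a1618195) (.leaf 0x363a1618195)) (.node 18734 (.leaf 0x363a1618195) (.node 18735 (.leaf 0x363a1618195) (.leaf 0x363a1618195)))) (.node 18738 (.node 18737 (.leaf 0x363a1618195) (.leaf 0x363a1618195)) (.node 18739 (.leaf 0x363a1618195) (.node 18740 (.leaf 0x363a1618195) (.leaf 0x363a1618195))))) (.node 18746 (.node 18743 (.node 18742 (.leaf 0x363a1618195) (.leaf 0x363a1618195)) (.node 18744 (.leaf 0x363a1618195) (.node 18745 (.leaf 0x3a1618195) (.leaf 0x3a1618195)))) (.node 18748 (.node 18747 (.leaf 0x3a1618195) (.leaf 0x3a1618195)) (.node 18749 (.leaf 0x3a1618195) (.node 18750 (.leaf 0x3a1618195) (.leaf 0x3a1618195))))))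

def candS_927 : Store := (.node 18761 (.node 18756 (.node 18753 (.node 18752 (.leaf 0x3a1618195) (.leaf 0x3a1618195)) (.node 18754 (.leaf 0x3a1618195) (.node 18755 (.leaf 0x3a1618195) (.leaf 0x3a1618195)))) (.node 18758 (.node 18757 (.leaf 0x3a1618195) (.leaf 0x3a1618195)) (.node 18759 (.leaf 0x3a1618195) (.node 18760 (.leaf 0x3a1618195) (.leaf 0x3a1618195))))) (.node 18766 (.node 18763 (.node 18762 (.leaf 0x3a1618195) (.leaf 0x3a1618195)) (.node 18764 (.leaf 0x3a1618195) (.node 18765 (.leaf 0x3a1618195) (.leaf 0x3a1618195)))) (.node 18768 (.node 18767 (.leaf 0x3a1618195) (.leaf 0x3a1618195)) (.node 18769 (.leaf 0x3a1618195) (.node 18770 (.leaf 0x3a1618195) (.leaf 0x3a1618195))))))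

def candS_928 : Store := (.node 18781 (.node 18776 (.node 18773 (.node 18772 (.leaf 0x3a1618195) (.leaf 0x3a1618195)) (.node 18774 (.leaf 0x3a1618195) (.node 18775 (.leaf 0x3a1618195) (.leaf 0x3a1618195)))) (.node 18778 (.node 18777 (.leaf 0x3a1618195) (.leaf 0x3a1618195)) (.node 18779 (.leaf 0x3a1618195) (.node 18780 (.leaf 0x3a1618195) (.leaf 0x3a1618195))))) (.node 18786 (.node 18783 (.node 18782 (.leaf 0x3a1618195) (.leaf 0x3a1618195)) (.node 18784 (.leaf 0x3a1618195) (.node 18785 (.leaf 0x3a1618195) (.leaf 0x3a1618195)))) (.node 18789 (.node 18787 (.leaf 0x3a1618195) (.node 18788 (.leaf 0x3a1618195) (.leaf 0x3a1618195))) (.node 18790 (.leaf 0x3a1618195) (.node 18791 (.leaf 0x3a1618195) (.leaf 0x3a1618195))))))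

def candS_929 : Store := (.node 18802 (.node 18797 (.node 18794 (.node 18793 (.leaf 0x3a1618195) (.leaf 0x3a1618195)) (.node 18795 (.leaf 0x3a1618195) (.node 18796 (.leaf 0x3a1618195) (.leaf 0x3a1618195)))) (.node 18799 (.node 18798 (.leaf 0x3a1618195) (.leaf 0x3a1618195)) (.node 18800 (.leaf 0x3a1618195) (.node 18801 (.leaf 0x3a1618195) (.leaf 0x3a1618195))))) (.node 18807 (.node 18804 (.node 18803 (.leaf 0x3a1618195) (.leaf 0x3a1618195)) (.node 18805 (.leaf 0x123a1618195) (.node 18806 (.leaf 0x123a1618195) (.leaf 0x123a1618195)))) (.node 18809 (.node 18808 (.leaf 0x123a1618195) (.leaf 0x123a1618195)) (.node 18810 (.leaf 0x123a1618195) (.node 18811 (.leaf 0x123a1618195) (.leaf 0x123a1618195))))))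

def candS_930 : Store := (.node 18822 (.node 18817 (.node 18814 (.node 18813 (.leaf 0x123a1618195) (.leaf 0x123a1618195)) (.node 18815 (.leaf 0x123a1618195) (.node 18816 (.leaf 0x123a1618195) (.leaf 0x223a1618195)))) (.node 18819 (.node 18818 (.leaf 0x223a1618195) (.leaf 0x223a1618195)) (.node 18820 (.leaf 0x223a1618195) (.node 18821 (.leaf 0x223a1618195) (.leaf 0x223a1618195))))) (.node 18827 (.node 18824 (.node 18823 (.leaf 0x223a1618195) (.leaf 0x223a1618195)) (.node 18825 (.leaf 0x223a1618195) (.node 18826 (.leaf 0x223a1618195) (.leaf 0x223a1618195)))) (.node 18829 (.node 18828 (.leaf 0x223a1618195) (.leaf 0x403a1618195)) (.node 18830 (.leaf 0x403a1618195) (.node 18831 (.leaf 0x7000403a1618195) (.leaf 0x403a1618195))))))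

def candS_931 : Store := (.node 18842 (.node 18837 (.node 18834 (.node 18833 (.leaf 0x9800403a1618195) (.leaf 0x8000403a1618195)) (.node 18835 (.leaf 0x403a1618195) (.node 18836 (.leaf 0x403a1618195) (.leaf 0x403a1618195)))) (.node 18839 (.node 18838 (.leaf 0x403a1618195) (.leaf 0x403a1618195)) (.node 18840 (.leaf 0x403a1618195) (.node 18841 (.leaf 0x3a1618195) (.leaf 0x3a1618195))))) (.node 18847 (.node 18844 (.node 18843 (.leaf 0x3a1618195) (.leaf 0x3a1618195)) (.node 18845 (.leaf 0x3a1618195) (.node 18846 (.leaf 0x3a1618195) (.leaf 0x3a1618195)))) (.node 18849 (.node 18848 (.leaf 0x3a1618195) (.leaf 0x3a1618195)) (.node 18850 (.leaf 0x3a1618195) (.node 18851 (.leaf 0x3a1618195) (.leaf 0x3a1618195))))))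

def candS_932 : Store := (.node 18862 (.node 18857 (.node 18854 (.node 18853 (.leaf 0x1c) (.leaf 0x203a1618195)) (.node 18855 (.leaf 0x203a1618195) (.node 18856 (.leaf 0x1ea) (.leaf 0x203a1618195)))) (.node 18859 (.node 18858 (.leaf 0x203a1618195) (.leaf 0x1a6)) (.node 18860 (.leaf 0x203a1618195) (.node 18861 (.leaf 0x203a1618195) (.leaf 0x203a1618195))))) (.node 18867 (.node 18864 (.node 18863 (.leaf 0x203a1618195) (.leaf 0x222)) (.node 18865 (.leaf 0x1c3b1a18195) (.node 18866 (.leaf 0x1c3b1a18195) (.leaf 0x1c3b1a18195)))) (.node 18870 (.node 18868 (.leaf 0x1c3b1a18195) (.node 18869 (.leaf 0x1c3b1a18195) (.leaf 0x1c3b1a18195))) (.node 18871 (.leaf 0x1c3b1a18195) (.node 18872 (.leaf 0x1c3b1a18195) (.leaf 0x1c3b1a18195))))))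

def candS_933 : Store := (.node 18883 (.node 18878 (.node 18875 (.node 18874 (.leaf 0x1c3b1a18195) (.leaf 0x1c3b1a18195)) (.node 18876 (.leaf 0x1c3b1a18195) (.node 18877 (.leaf 0x243b1a18195) (.leaf 0x243b1a18195)))) (.node 18880 (.node 18879 (.leaf 0x243b1a18195) (.leaf 0x243b1a18195)) (.node 18881 (.leaf 0x243b1a18195) (.node 18882 (.leaf 0x243b1a18195) (.leaf 0x243b1a18195))))) (.node 18888 (.node 18885 (.node 18884 (.leaf 0x243b1a18195) (.leaf 0x243b1a18195)) (.node 18886 (.leaf 0x243b1a18195) (.node 18887 (.leaf 0x243b1a18195) (.leaf 0x243b1a18195)))) (.node 18890 (.node 18889 (.leaf 0x343b1a18195) (.leaf 0x343b1a18195)) (.node 18891 (.leaf 0x9800343b1a18195) (.node 18892 (.leaf 0x343b1a18195) (.leaf 0x343b1a18195))))))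

def candS_934 : Store := (.node 18903 (.node 18898 (.node 18895 (.node 18894 (.leaf 0x7000343b1a18195) (.leaf 0x343b1a18195)) (.node 18896 (.leaf 0x343b1a18195) (.node 18897 (.leaf 0x343b1a18195) (.leaf 0x8000343b1a18195)))) (.node 18900 (.node 18899 (.leaf 0x343b1a18195) (.leaf 0x343b1a18195)) (.node 18901 (.leaf 0x263b1a18195) (.node 18902 (.leaf 0x263b1a18195) (.leaf 0x263b1a18195))))) (.node 18908 (.node 18905 (.node 18904 (.leaf 0x263b1a18195) (.leaf 0x263b1a18195)) (.node 18906 (.leaf 0x263b1a18195) (.node 18907 (.leaf 0x263b1a18195) (.leaf 0x263b1a18195)))) (.node 18910 (.node 18909 (.leaf 0x263b1a18195) (.leaf 0x263b1a18195)) (.node 18911 (.leaf 0x263b1a18195) (.node 18912 (.leaf 0x263b1a18195) (.leaf 0x3b1a18195))))))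

def candS_935 : Store := (.node 18923 (.node 18918 (.node 18915 (.node 18914 (.leaf 0x3b1a18195) (.leaf 0x3b1a18195)) (.node 18916 (.leaf 0x3b1a18195) (.node 18917 (.leaf 0x3b1a18195) (.leaf 0x3b1a18195)))) (.node 18920 (.node 18919 (.leaf 0x3b1a18195) (.leaf 0x3b1a18195)) (.node 18921 (.leaf 0x3b1a18195) (.node 18922 (.leaf 0x3b1a18195) (.leaf 0x3b1a18195))))) (.node 18928 (.node 18925 (.node 18924 (.leaf 0x3b1a18195) (.leaf 0x3b1a18195)) (.node 18926 (.leaf 0x3b1a18195) (.node 18927 (.leaf 0x3b1a18195) (.leaf 0x3b1a18195)))) (.node 18930 (.node 18929 (.leaf 0x3b1a18195) (.leaf 0x3b1a18195)) (.node 18931 (.leaf 0x3b1a18195) (.node 18932 (.leaf 0x3b1a18195) (.leaf 0x3b1a18195))))))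

def candS_936 : Store := (.node 18943 (.node 18938 (.node 18935 (.node 18934 (.leaf 0x3b1a18195) (.leaf 0x3b1a18195)) (.node 18936 (.leaf 0x3b1a18195) (.node 18937 (.leaf 0x3b1a18195) (.leaf 0x3b1a18195)))) (.node 18940 (.node 18939 (.leaf 0x3b1a18195) (.leaf 0x3b1a18195)) (.node 18941 (.leaf 0x3b1a18195) (.node 18942 (.leaf 0x3b1a18195) (.leaf 0x3b1a18195))))) (.node 18948 (.node 18945 (.node 18944 (.leaf 0x3b1a18195) (.leaf 0x3b1a18195)) (.node 18946 (.leaf 0x3b1a18195) (.node 18947 (.leaf 0x3b1a18195) (.leaf 0x3b1a18195)))) (.node 18951 (.node 18949 (.leaf 0xe3b1a18195) (.node 18950 (.leaf 0xe3b1a18195) (.leaf 0xe3b1a18195))) (.node 18952 (.leaf 0xe3b1a18195) (.node 18953 (.leaf 0xe3b1a18195) (.leaf 0xe3b1a18195))))))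

def candS_937 : Store := (.node 18964 (.node 18959 (.node 18956 (.node 18955 (.leaf 0xe3b1a18195) (.leaf 0xe3b1a18195)) (.node 18957 (.leaf 0xe3b1a18195) (.node 18958 (.leaf 0xe3b1a18195) (.leaf 0xe3b1a18195)))) (.node 18961 (.node 18960 (.leaf 0xe3b1a18195) (.leaf 0x3b1a18195)) (.node 18962 (.leaf 0x3b1a18195) (.node 18963 (.leaf 0x3b1a18195) (.leaf 0x3b1a18195))))) (.node 18969 (.node 18966 (.node 18965 (.leaf 0x3b1a18195) (.leaf 0x3b1a18195)) (.node 18967 (.leaf 0x3b1a18195) (.node 18968 (.leaf 0x3b1a18195) (.leaf 0x3b1a18195)))) (.node 18971 (.node 18970 (.leaf 0x3b1a18195) (.leaf 0x3b1a18195)) (.node 18972 (.leaf 0x3b1a18195) (.node 18973 (.leaf 0x3b1a18195) (.leaf 0x3b1a18195))))))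

def candS_938 : Store := (.node 18984 (.node 18979 (.node 18976 (.node 18975 (.leaf 0x3b1a18195) (.leaf 0x3b1a18195)) (.node 18977 (.leaf 0x3b1a18195) (.node 18978 (.leaf 0x3b1a18195) (.leaf 0x3b1a18195)))) (.node 18981 (.node 18980 (.leaf 0x3b1a18195) (.leaf 0x3b1a18195)) (.node 18982 (.leaf 0x3b1a18195) (.node 18983 (.leaf 0x3b1a18195) (.leaf 0x3b1a18195))))) (.node 18989 (.node 18986 (.node 18985 (.leaf 0x3b1a18195) (.leaf 0x3b1a18195)) (.node 18987 (.leaf 0x3b1a18195) (.node 18988 (.leaf 0x3b1a18195) (.leaf 0x3b1a18195)))) (.node 18991 (.node 18990 (.leaf 0x3b1a18195) (.leaf 0x3b1a18195)) (.node 18992 (.leaf 0x3b1a18195) (.node 18993 (.leaf 0x3b1a18195) (.leaf 0x3b1a18195))))))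

def candS_939 : Store := (.node 19004 (.node 18999 (.node 18996 (.node 18995 (.leaf 0x3b1a18195) (.leaf 0x3b1a18195)) (.node 18997 (.leaf 0x240) (.node 18998 (.leaf 0x383b1a18195) (.leaf 0x383b1a18195)))) (.node 19001 (.node 19000 (.leaf 0x42) (.leaf 0x383b1a18195)) (.node 19002 (.leaf 0x383b1a18195) (.node 19003 (.leaf 0x60) (.leaf 0x383b1a18195))))) (.node 19009 (.node 19006 (.node 19005 (.leaf 0x383b1a18195) (.leaf 0x383b1a18195)) (.node 19007 (.leaf 0x21c) (.node 19008 (.leaf 0x383b1a18195) (.leaf 0x4b34bd0cf)))) (.node 19011 (.node 19010 (.leaf 0x4b34bd0cf) (.leaf 0x4b34bd0cf)) (.node 19012 (.leaf 0x4b34bd0cf) (.node 19013 (.leaf 0x4b34bd0cf) (.leaf 0x4b34bd0cf))))))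

def candS_940 : Store := (.node 19024 (.node 19019 (.node 19016 (.node 19015 (.leaf 0x4b34bd0cf) (.leaf 0x4b34bd0cf)) (.node 19017 (.leaf 0x4b34bd0cf) (.node 19018 (.leaf 0x4b34bd0cf) (.leaf 0x4b34bd0cf)))) (.node 19021 (.node 19020 (.leaf 0x4b34bd0cf) (.leaf 0x144b34bd0cf)) (.node 19022 (.leaf 0x5000144b34bd0cf) (.node 19023 (.leaf 0x6800144b34bd0cf) (.leaf 0x144b34bd0cf))))) (.node 19029 (.node 19026 (.node 19025 (.leaf 0x5800144b34bd0cf) (.leaf 0x144b34bd0cf)) (.node 19027 (.leaf 0x144b34bd0cf) (.node 19028 (.leaf 0x144b34bd0cf) (.leaf 0x144b34bd0cf)))) (.node 19032 (.node 19030 (.leaf 0x800144b34bd0cf) (.node 19031 (.leaf 0x144b34bd0cf) (.leaf 0x144b34bd0cf))) (.node 19033 (.leaf 0x3c4b34bd0cf) (.node 19034 (.leaf 0x3c4b34bd0cf) (.leaf 0x3c4b34bd0cf))))))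

def candS_941 : Store := (.node 19045 (.node 19040 (.node 19037 (.node 19036 (.leaf 0x3c4b34bd0cf) (.leaf 0x3c4b34bd0cf)) (.node 19038 (.leaf 0x3c4b34bd0cf) (.node 19039 (.leaf 0x3c4b34bd0cf) (.leaf 0x3c4b34bd0cf)))) (.node 19042 (.node 19041 (.leaf 0x3c4b34bd0cf) (.leaf 0x3c4b34bd0cf)) (.node 19043 (.leaf 0x3c4b34bd0cf) (.node 19044 (.leaf 0x3c4b34bd0cf) (.leaf 0x4b34bd0cf))))) (.node 19050 (.node 19047 (.node 19046 (.leaf 0x4b34bd0cf) (.leaf 0x4b34bd0cf)) (.node 19048 (.leaf 0x4b34bd0cf) (.node 19049 (.leaf 0x4b34bd0cf) (.leaf 0x4b34bd0cf)))) (.node 19052 (.node 19051 (.leaf 0x4b34bd0cf) (.leaf 0x4b34bd0cf)) (.node 19053 (.leaf 0x4b34bd0cf) (.node 19054 (.leaf 0x4b34bd0cf) (.leaf 0x4b34bd0cf))))))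

def candS_942 : Store := (.node 19065 (.node 19060 (.node 19057 (.node 19056 (.leaf 0x4b34bd0cf) (.leaf 0x3e4b34bd0cf)) (.node 19058 (.leaf 0x3e4b34bd0cf) (.node 19059 (.leaf 0x3e4b34bd0cf) (.leaf 0x3e4b34bd0cf)))) (.node 19062 (.node 19061 (.leaf 0x3e4b34bd0cf) (.leaf 0x3e4b34bd0cf)) (.node 19063 (.leaf 0x3e4b34bd0cf) (.node 19064 (.leaf 0x3e4b34bd0cf) (.leaf 0x3e4b34bd0cf))))) (.node 19070 (.node 19067 (.node 19066 (.leaf 0x3e4b34bd0cf) (.leaf 0x3e4b34bd0cf)) (.node 19068 (.leaf 0x3e4b34bd0cf) (.node 19069 (.leaf 0x444b34bd0cf) (.leaf 0x444b34bd0cf)))) (.node 19072 (.node 19071 (.leaf 0x444b34bd0cf) (.leaf 0x444b34bd0cf)) (.node 19073 (.leaf 0x444b34bd0cf) (.node 19074 (.leaf 0x444b34bd0cf) (.leaf 0x444b34bd0cf))))))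

def candS_943 : Store := (.node 19085 (.node 19080 (.node 19077 (.node 19076 (.leaf 0x444b34bd0cf) (.leaf 0x444b34bd0cf)) (.node 19078 (.leaf 0x444b34bd0cf) (.node 19079 (.leaf 0x444b34bd0cf) (.leaf 0x444b34bd0cf)))) (.node 19082 (.node 19081 (.leaf 0x44b34bd0cf) (.leaf 0x44b34bd0cf)) (.node 19083 (.leaf 0x44b34bd0cf) (.node 19084 (.leaf 0x21e) (.leaf 0x44b34bd0cf))))) (.node 19090 (.node 19087 (.node 19086 (.leaf 0x44b34bd0cf) (.leaf 0x50)) (.node 19088 (.leaf 0x44b34bd0cf) (.node 19089 (.leaf 0x44b34bd0cf) (.leaf 0x44b34bd0cf)))) (.node 19092 (.node 19091 (.leaf 0x1f8) (.leaf 0x4e)) (.node 19093 (.leaf 0x4b34bd0cf) (.node 19094 (.leaf 0x4b34bd0cf) (.leaf 0x4b34bd0cf))))))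

def candS_944 : Store := (.node 19105 (.node 19100 (.node 19097 (.node 19096 (.leaf 0x4b34bd0cf) (.leaf 0x4b34bd0cf)) (.node 19098 (.leaf 0x4b34bd0cf) (.node 19099 (.leaf 0x4b34bd0cf) (.leaf 0x4b34bd0cf)))) (.node 19102 (.node 19101 (.leaf 0x4b34bd0cf) (.leaf 0x4b34bd0cf)) (.node 19103 (.leaf 0x4b34bd0cf) (.node 19104 (.leaf 0x4b34bd0cf) (.leaf 0x4b34bd0cf))))) (.node 19110 (.node 19107 (.node 19106 (.leaf 0x4b34bd0cf) (.leaf 0x4b34bd0cf)) (.node 19108 (.leaf 0x4b34bd0cf) (.node 19109 (.leaf 0x4b34bd0cf) (.leaf 0x4b34bd0cf)))) (.node 19113 (.node 19111 (.leaf 0x4b34bd0cf) (.node 19112 (.leaf 0x4b34bd0cf) (.leaf 0x4b34bd0cf))) (.node 19114 (.leaf 0x4b34bd0cf) (.node 19115 (.leaf 0x4b34bd0cf) (.leaf 0x4b34bd0cf))))))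

def candS_945 : Store := (.node 19126 (.node 19121 (.node 19118 (.node 19117 (.leaf 0x184b34bd0cf) (.leaf 0x184b34bd0cf)) (.node 19119 (.leaf 0x184b34bd0cf) (.node 19120 (.leaf 0x184b34bd0cf) (.leaf 0x184b34bd0cf)))) (.node 19123 (.node 19122 (.leaf 0x184b34bd0cf) (.leaf 0x184b34bd0cf)) (.node 19124 (.leaf 0x184b34bd0cf) (.node 19125 (.leaf 0x184b34bd0cf) (.leaf 0x184b34bd0cf))))) (.node 19131 (.node 19128 (.node 19127 (.leaf 0x184b34bd0cf) (.leaf 0x184b34bd0cf)) (.node 19129 (.leaf 0x4b34bd0cf) (.node 19130 (.leaf 0x4b34bd0cf) (.leaf 0x4b34bd0cf)))) (.node 19133 (.node 19132 (.leaf 0x4b34bd0cf) (.leaf 0x4b34bd0cf)) (.node 19134 (.leaf 0x4b34bd0cf) (.node 19135 (.leaf 0x4b34bd0cf) (.leaf 0x4b34bd0cf))))))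

def candS_946 : Store := (.node 19146 (.node 19141 (.node 19138 (.node 19137 (.leaf 0x4b34bd0cf) (.leaf 0x4b34bd0cf)) (.node 19139 (.leaf 0x4b34bd0cf) (.node 19140 (.leaf 0x4b34bd0cf) (.leaf 0x4b34bd0cf)))) (.node 19143 (.node 19142 (.leaf 0x4b34bd0cf) (.leaf 0x4b34bd0cf)) (.node 19144 (.leaf 0x4b34bd0cf) (.node 19145 (.leaf 0x4b34bd0cf) (.leaf 0x4b34bd0cf))))) (.node 19151 (.node 19148 (.node 19147 (.leaf 0x4b34bd0cf) (.leaf 0x4b34bd0cf)) (.node 19149 (.leaf 0x4b34bd0cf) (.node 19150 (.leaf 0x4b34bd0cf) (.leaf 0x4b34bd0cf)))) (.node 19153 (.node 19152 (.leaf 0x4b34bd0cf) (.leaf 0x2e0f333d0cf)) (.node 19154 (.leaf 0x2e0f333d0cf) (.node 19155 (.leaf 0x2e0f333d0cf) (.leaf 0x2e0f333d0cf))))))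

def candS_947 : Store := (.node 19166 (.node 19161 (.node 19158 (.node 19157 (.leaf 0x2e0f333d0cf) (.leaf 0x2e0f333d0cf)) (.node 19159 (.leaf 0x2e0f333d0cf) (.node 19160 (.leaf 0x2e0f333d0cf) (.leaf 0x2e0f333d0cf)))) (.node 19163 (.node 19162 (.leaf 0x2e0f333d0cf) (.leaf 0x2e0f333d0cf)) (.node 19164 (.leaf 0x2e0f333d0cf) (.node 19165 (.leaf 0xc0f333d0cf) (.leaf 0xc0f333d0cf))))) (.node 19171 (.node 19168 (.node 19167 (.leaf 0xc0f333d0cf) (.leaf 0xc0f333d0cf)) (.node 19169 (.leaf 0xc0f333d0cf) (.node 19170 (.leaf 0xc0f333d0cf) (.leaf 0xc0f333d0cf)))) (.node 19173 (.node 19172 (.leaf 0xc0f333d0cf) (.leaf 0xc0f333d0cf)) (.node 19174 (.leaf 0xc0f333d0cf) (.node 19175 (.leaf 0xc0f333d0cf) (.leaf 0xc0f333d0cf))))))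

def candS_948 : Store := (.node 19186 (.node 19181 (.node 19178 (.node 19177 (.leaf 0xf333d0cf) (.leaf 0xf333d0cf)) (.node 19179 (.leaf 0xf333d0cf) (.node 19180 (.leaf 0xf333d0cf) (.leaf 0xf333d0cf)))) (.node 19183 (.node 19182 (.leaf 0xf333d0cf) (.leaf 0xf333d0cf)) (.node 19184 (.leaf 0xf333d0cf) (.node 19185 (.leaf 0xf333d0cf) (.leaf 0xf333d0cf))))) (.node 19191 (.node 19188 (.node 19187 (.leaf 0xf333d0cf) (.leaf 0xf333d0cf)) (.node 19189 (.leaf 0xf333d0cf) (.node 19190 (.leaf 0xf333d0cf) (.leaf 0xf333d0cf)))) (.node 19194 (.node 19192 (.leaf 0xf333d0cf) (.node 19193 (.leaf 0xf333d0cf) (.leaf 0xf333d0cf))) (.node 19195 (.leaf 0xf333d0cf) (.node 19196 (.leaf 0xf333d0cf) (.leaf 0xf333d0cf))))))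

def candS_949 : Store := (.node 19207 (.node 19202 (.node 19199 (.node 19198 (.leaf 0xf333d0cf) (.leaf 0xf333d0cf)) (.node 19200 (.leaf 0xf333d0cf) (.node 19201 (.leaf 0xf333d0cf) (.leaf 0xf333d0cf)))) (.node 19204 (.node 19203 (.leaf 0xf333d0cf) (.leaf 0xf333d0cf)) (.node 19205 (.leaf 0xf333d0cf) (.node 19206 (.leaf 0xf333d0cf) (.leaf 0xf333d0cf))))) (.node 19212 (.node 19209 (.node 19208 (.leaf 0xf333d0cf) (.leaf 0xf333d0cf)) (.node 19210 (.leaf 0xf333d0cf) (.node 19211 (.leaf 0xf333d0cf) (.leaf 0xf333d0cf)))) (.node 19214 (.node 19213 (.leaf 0xf333d0cf) (.leaf 0xf333d0cf)) (.node 19215 (.leaf 0xf333d0cf) (.node 19216 (.leaf 0xf333d0cf) (.leaf 0xf333d0cf))))))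

def candS_950 : Store := (.node 19227 (.node 19222 (.node 19219 (.node 19218 (.leaf 0xf333d0cf) (.leaf 0xf333d0cf)) (.node 19220 (.leaf 0xf333d0cf) (.node 19221 (.leaf 0xf333d0cf) (.leaf 0xf333d0cf)))) (.node 19224 (.node 19223 (.leaf 0xf333d0cf) (.leaf 0xf333d0cf)) (.node 19225 (.leaf 0xf333d0cf) (.node 19226 (.leaf 0xf333d0cf) (.leaf 0xf333d0cf))))) (.node 19232 (.node 19229 (.node 19228 (.leaf 0xf333d0cf) (.leaf 0xf333d0cf)) (.node 19230 (.leaf 0xf333d0cf) (.node 19231 (.leaf 0xf333d0cf) (.leaf 0xf333d0cf)))) (.node 19234 (.node 19233 (.leaf 0xf333d0cf) (.leaf 0xf333d0cf)) (.node 19235 (.leaf 0xf333d0cf) (.node 19236 (.leaf 0xf333d0cf) (.leaf 0x400f333d0cf))))))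

def candS_951 : Store := (.node 19247 (.node 19242 (.node 19239 (.node 19238 (.leaf 0x400f333d0cf) (.leaf 0x400f333d0cf)) (.node 19240 (.leaf 0x400f333d0cf) (.node 19241 (.leaf 0x400f333d0cf) (.leaf 0x400f333d0cf)))) (.node 19244 (.node 19243 (.leaf 0x400f333d0cf) (.leaf 0x400f333d0cf)) (.node 19245 (.leaf 0x400f333d0cf) (.node 19246 (.leaf 0x400f333d0cf) (.leaf 0x400f333d0cf))))) (.node 19252 (.node 19249 (.node 19248 (.leaf 0x400f333d0cf) (.leaf 0x180f333d0cf)) (.node 19250 (.leaf 0x180f333d0cf) (.node 19251 (.leaf 0x180f333d0cf) (.leaf 0x180f333d0cf)))) (.node 19254 (.node 19253 (.leaf 0x180f333d0cf) (.leaf 0x180f333d0cf)) (.node 19255 (.leaf 0x180f333d0cf) (.node 19256 (.leaf 0x180f333d0cf) (.leaf 0x180f333d0cf))))))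

def candS_952 : Store := (.node 19267 (.node 19262 (.node 19259 (.node 19258 (.leaf 0x180f333d0cf) (.leaf 0x180f333d0cf)) (.node 19260 (.leaf 0x180f333d0cf) (.node 19261 (.leaf 0x2800220f333d0cf) (.leaf 0x220f333d0cf)))) (.node 19264 (.node 19263 (.leaf 0x220f333d0cf) (.leaf 0x9000220f333d0cf)) (.node 19265 (.leaf 0x220f333d0cf) (.node 19266 (.leaf 0x220f333d0cf) (.leaf 0x3800220f333d0cf))))) (.node 19272 (.node 19269 (.node 19268 (.leaf 0x220f333d0cf) (.leaf 0x220f333d0cf)) (.node 19270 (.leaf 0x220f333d0cf) (.node 19271 (.leaf 0x220f333d0cf) (.leaf 0x1800220f333d0cf)))) (.node 19275 (.node 19273 (.leaf 0xf333d0cf) (.node 19274 (.leaf 0xf333d0cf) (.leaf 0xf333d0cf))) (.node 19276 (.leaf 0xf333d0cf) (.node 19277 (.leaf 0xf333d0cf) (.leaf 0xf333d0cf))))))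

def candS_953 : Store := (.node 19288 (.node 19283 (.node 19280 (.node 19279 (.leaf 0xf333d0cf) (.leaf 0xf333d0cf)) (.node 19281 (.leaf 0xf333d0cf) (.node 19282 (.leaf 0xf333d0cf) (.leaf 0xf333d0cf)))) (.node 19285 (.node 19284 (.leaf 0xf333d0cf) (.leaf 0x1c0f333d0cf)) (.node 19286 (.leaf 0x1c0f333d0cf) (.node 19287 (.leaf 0x2fa) (.leaf 0x1c0f333d0cf))))) (.node 19293 (.node 19290 (.node 19289 (.leaf 0x300) (.leaf 0x2c2)) (.node 19291 (.leaf 0x1c0f333d0cf) (.node 19292 (.leaf 0x1c0f333d0cf) (.leaf 0x1c0f333d0cf)))) (.node 19295 (.node 19294 (.leaf 0x284) (.leaf 0x1c0f333d0cf)) (.node 19296 (.leaf 0x1c0f333d0cf) (.node 19297 (.leaf 0x502bd0cf) (.leaf 0x502bd0cf))))))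

def candS_954 : Store := (.node 19308 (.node 19303 (.node 19300 (.node 19299 (.leaf 0x502bd0cf) (.leaf 0x502bd0cf)) (.node 19301 (.leaf 0x502bd0cf) (.node 19302 (.leaf 0x502bd0cf) (.leaf 0x502bd0cf)))) (.node 19305 (.node 19304 (.leaf 0x502bd0cf) (.leaf 0x502bd0cf)) (.node 19306 (.leaf 0x502bd0cf) (.node 19307 (.leaf 0x502bd0cf) (.leaf 0x502bd0cf))))) (.node 19313 (.node 19310 (.node 19309 (.leaf 0x140502bd0cf) (.leaf 0x140502bd0cf)) (.node 19311 (.leaf 0x140502bd0cf) (.node 19312 (.leaf 0x140502bd0cf) (.leaf 0x140502bd0cf)))) (.node 19315 (.node 19314 (.leaf 0x140502bd0cf) (.leaf 0x140502bd0cf)) (.node 19316 (.leaf 0x140502bd0cf) (.node 19317 (.leaf 0x140502bd0cf) (.leaf 0x140502bd0cf))))))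

def candS_955 : Store := (.node 19328 (.node 19323 (.node 19320 (.node 19319 (.leaf 0x140502bd0cf) (.leaf 0x140502bd0cf)) (.node 19321 (.leaf 0x502bd0cf) (.node 19322 (.leaf 0x502bd0cf) (.leaf 0x502bd0cf)))) (.node 19325 (.node 19324 (.leaf 0x502bd0cf) (.leaf 0x502bd0cf)) (.node 19326 (.leaf 0x502bd0cf) (.node 19327 (.leaf 0x502bd0cf) (.leaf 0x502bd0cf))))) (.node 19333 (.node 19330 (.node 19329 (.leaf 0x502bd0cf) (.leaf 0x502bd0cf)) (.node 19331 (.leaf 0x502bd0cf) (.node 19332 (.leaf 0x502bd0cf) (.leaf 0x120502bd0cf)))) (.node 19335 (.node 19334 (.leaf 0x120502bd0cf) (.leaf 0x120502bd0cf)) (.node 19336 (.leaf 0x120502bd0cf) (.node 19337 (.leaf 0x120502bd0cf) (.leaf 0x120502bd0cf))))))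

def candS_956 : Store := (.node 19348 (.node 19343 (.node 19340 (.node 19339 (.leaf 0x120502bd0cf) (.leaf 0x120502bd0cf)) (.node 19341 (.leaf 0x120502bd0cf) (.node 19342 (.leaf 0x120502bd0cf) (.leaf 0x120502bd0cf)))) (.node 19345 (.node 19344 (.leaf 0x120502bd0cf) (.leaf 0x502bd0cf)) (.node 19346 (.leaf 0x502bd0cf) (.node 19347 (.leaf 0x502bd0cf) (.leaf 0x502bd0cf))))) (.node 19353 (.node 19350 (.node 19349 (.leaf 0x502bd0cf) (.leaf 0x502bd0cf)) (.node 19351 (.leaf 0x502bd0cf) (.node 19352 (.leaf 0x502bd0cf) (.leaf 0x502bd0cf)))) (.node 19356 (.node 19354 (.leaf 0x502bd0cf) (.node 19355 (.leaf 0x502bd0cf) (.leaf 0x502bd0cf))) (.node 19357 (.leaf 0x9000040502bd0cf) (.node 19358 (.leaf 0x40502bd0cf) (.leaf 0x40502bd0cf))))))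

def candS_957 : Store := (.node 19369 (.node 19364 (.node 19361 (.node 19360 (.leaf 0x2800040502bd0cf) (.leaf 0x40502bd0cf)) (.node 19362 (.leaf 0x40502bd0cf) (.node 19363 (.leaf 0x40502bd0cf) (.leaf 0x40502bd0cf)))) (.node 19366 (.node 19365 (.leaf 0x40502bd0cf) (.leaf 0x40502bd0cf)) (.node 19367 (.leaf 0x3800040502bd0cf) (.node 19368 (.leaf 0x1800040502bd0cf) (.leaf 0x502bd0cf))))) (.node 19374 (.node 19371 (.node 19370 (.leaf 0x502bd0cf) (.leaf 0x502bd0cf)) (.node 19372 (.leaf 0x502bd0cf) (.node 19373 (.leaf 0x502bd0cf) (.leaf 0x502bd0cf)))) (.node 19376 (.node 19375 (.leaf 0x502bd0cf) (.leaf 0x502bd0cf)) (.node 19377 (.leaf 0x502bd0cf) (.node 19378 (.leaf 0x502bd0cf) (.leaf 0x502bd0cf))))))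

def candS_958 : Store := (.node 19389 (.node 19384 (.node 19381 (.node 19380 (.leaf 0x502bd0cf) (.leaf 0x502bd0cf)) (.node 19382 (.leaf 0x502bd0cf) (.node 19383 (.leaf 0x502bd0cf) (.leaf 0x502bd0cf)))) (.node 19386 (.node 19385 (.leaf 0x502bd0cf) (.leaf 0x502bd0cf)) (.node 19387 (.leaf 0x502bd0cf) (.node 19388 (.leaf 0x502bd0cf) (.leaf 0x502bd0cf))))) (.node 19394 (.node 19391 (.node 19390 (.leaf 0x502bd0cf) (.leaf 0x502bd0cf)) (.node 19392 (.leaf 0x502bd0cf) (.node 19393 (.leaf 0xe0502bd0cf) (.leaf 0xe0502bd0cf)))) (.node 19396 (.node 19395 (.leaf 0xe0502bd0cf) (.leaf 0xe0502bd0cf)) (.node 19397 (.leaf 0xe0502bd0cf) (.node 19398 (.leaf 0xe0502bd0cf) (.leaf 0xe0502bd0cf))))))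

def candS_959 : Store := (.node 19409 (.node 19404 (.node 19401 (.node 19400 (.leaf 0xe0502bd0cf) (.leaf 0xe0502bd0cf)) (.node 19402 (.leaf 0xe0502bd0cf) (.node 19403 (.leaf 0xe0502bd0cf) (.leaf 0xe0502bd0cf)))) (.node 19406 (.node 19405 (.leaf 0x502bd0cf) (.leaf 0x502bd0cf)) (.node 19407 (.leaf 0x502bd0cf) (.node 19408 (.leaf 0x502bd0cf) (.leaf 0x502bd0cf))))) (.node 19414 (.node 19411 (.node 19410 (.leaf 0x502bd0cf) (.leaf 0x502bd0cf)) (.node 19412 (.leaf 0x502bd0cf) (.node 19413 (.leaf 0x502bd0cf) (.leaf 0x502bd0cf)))) (.node 19416 (.node 19415 (.leaf 0x502bd0cf) (.leaf 0x502bd0cf)) (.node 19417 (.leaf 0x502bd0cf) (.node 19418 (.leaf 0x502bd0cf) (.leaf 0x502bd0cf))))))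

def candS_960 : Store := (.node 19429 (.node 19424 (.node 19421 (.node 19420 (.leaf 0x502bd0cf) (.leaf 0x502bd0cf)) (.node 19422 (.leaf 0x502bd0cf) (.node 19423 (.leaf 0x502bd0cf) (.leaf 0x502bd0cf)))) (.node 19426 (.node 19425 (.leaf 0x502bd0cf) (.leaf 0x502bd0cf)) (.node 19427 (.leaf 0x502bd0cf) (.node 19428 (.leaf 0x502bd0cf) (.leaf 0x1e0502bd0cf))))) (.node 19434 (.node 19431 (.node 19430 (.leaf 0x158) (.leaf 0x1e0502bd0cf)) (.node 19432 (.leaf 0x1e0502bd0cf) (.node 19433 (.leaf 0x322) (.leaf 0x154)))) (.node 19437 (.node 19435 (.leaf 0x1e0502bd0cf) (.node 19436 (.leaf 0x1e0502bd0cf) (.leaf 0x1e0502bd0cf))) (.node 19438 (.leaf 0x2b8) (.node 19439 (.leaf 0x1e0502bd0cf) (.leaf 0x1e0502bd0cf))))))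

def candS_961 : Store := (.node 19450 (.node 19445 (.node 19442 (.node 19441 (.leaf 0x441f14bd0cf) (.leaf 0x6800441f14bd0cf)) (.node 19443 (.leaf 0x5000441f14bd0cf) (.node 19444 (.leaf 0x441f14bd0cf) (.leaf 0x5800441f14bd0cf)))) (.node 19447 (.node 19446 (.leaf 0x800441f14bd0cf) (.leaf 0x441f14bd0cf)) (.node 19448 (.leaf 0x441f14bd0cf) (.node 19449 (.leaf 0x441f14bd0cf) (.leaf 0x441f14bd0cf))))) (.node 19455 (.node 19452 (.node 19451 (.leaf 0x441f14bd0cf) (.leaf 0x441f14bd0cf)) (.node 19453 (.leaf 0x1f14bd0cf) (.node 19454 (.leaf 0x1f14bd0cf) (.leaf 0x1f14bd0cf)))) (.node 19457 (.node 19456 (.leaf 0x1f14bd0cf) (.leaf 0x1f14bd0cf)) (.node 19458 (.leaf 0x1f14bd0cf) (.node 19459 (.leaf 0x1f14bd0cf) (.leaf 0x1f14bd0cf))))))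

def candS_962 : Store := (.node 19470 (.node 19465 (.node 19462 (.node 19461 (.leaf 0x1f14bd0cf) (.leaf 0x1f14bd0cf)) (.node 19463 (.leaf 0x1f14bd0cf) (.node 19464 (.leaf 0x1f14bd0cf) (.leaf 0x321f14bd0cf)))) (.node 19467 (.node 19466 (.leaf 0x321f14bd0cf) (.leaf 0x321f14bd0cf)) (.node 19468 (.leaf 0x321f14bd0cf) (.node 19469 (.leaf 0x321f14bd0cf) (.leaf 0x321f14bd0cf))))) (.node 19475 (.node 19472 (.node 19471 (.leaf 0x321f14bd0cf) (.leaf 0x321f14bd0cf)) (.node 19473 (.leaf 0x321f14bd0cf) (.node 19474 (.leaf 0x321f14bd0cf) (.leaf 0x321f14bd0cf)))) (.node 19477 (.node 19476 (.leaf 0x321f14bd0cf) (.leaf 0x1f14bd0cf)) (.node 19478 (.leaf 0x1f14bd0cf) (.node 19479 (.leaf 0x1f14bd0cf) (.leaf 0x1f14bd0cf))))))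

def candS_963 : Store := (.node 19490 (.node 19485 (.node 19482 (.node 19481 (.leaf 0x1f14bd0cf) (.leaf 0x1f14bd0cf)) (.node 19483 (.leaf 0x1f14bd0cf) (.node 19484 (.leaf 0x1f14bd0cf) (.leaf 0x1f14bd0cf)))) (.node 19487 (.node 19486 (.leaf 0x1f14bd0cf) (.leaf 0x1f14bd0cf)) (.node 19488 (.leaf 0x1f14bd0cf) (.node 19489 (.leaf 0x1f14bd0cf) (.leaf 0x1f14bd0cf))))) (.node 19495 (.node 19492 (.node 19491 (.leaf 0x1f14bd0cf) (.leaf 0x1f14bd0cf)) (.node 19493 (.leaf 0x1f14bd0cf) (.node 19494 (.leaf 0x1f14bd0cf) (.leaf 0x1f14bd0cf)))) (.node 19497 (.node 19496 (.leaf 0x1f14bd0cf) (.leaf 0x1f14bd0cf)) (.node 19498 (.leaf 0x1f14bd0cf) (.node 19499 (.leaf 0x1f14bd0cf) (.leaf 0x1f14bd0cf))))))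

def candS_964 : Store := (.node 19510 (.node 19505 (.node 19502 (.node 19501 (.leaf 0x461f14bd0cf) (.leaf 0x461f14bd0cf)) (.node 19503 (.leaf 0x461f14bd0cf) (.node 19504 (.leaf 0x461f14bd0cf) (.leaf 0x461f14bd0cf)))) (.node 19507 (.node 19506 (.leaf 0x461f14bd0cf) (.leaf 0x461f14bd0cf)) (.node 19508 (.leaf 0x461f14bd0cf) (.node 19509 (.leaf 0x461f14bd0cf) (.leaf 0x461f14bd0cf))))) (.node 19515 (.node 19512 (.node 19511 (.leaf 0x461f14bd0cf) (.leaf 0x461f14bd0cf)) (.node 19513 (.leaf 0x218) (.node 19514 (.leaf 0x101f14bd0cf) (.leaf 0x101f14bd0cf)))) (.node 19518 (.node 19516 (.leaf 0x101f14bd0cf) (.node 19517 (.leaf 0x101f14bd0cf) (.leaf 0x101f14bd0cf))) (.node 19519 (.leaf 0xbe) (.node 19520 (.leaf 0x101f14bd0cf) (.leaf 0x101f14bd0cf))))))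

def candS_965 : Store := (.node 19531 (.node 19526 (.node 19523 (.node 19522 (.leaf 0x101f14bd0cf) (.leaf 0xfc)) (.node 19524 (.leaf 0x33a) (.node 19525 (.leaf 0x1f14bd0cf) (.leaf 0x1f14bd0cf)))) (.node 19528 (.node 19527 (.leaf 0x1f14bd0cf) (.leaf 0x1f14bd0cf)) (.node 19529 (.leaf 0x1f14bd0cf) (.node 19530 (.leaf 0x1f14bd0cf) (.leaf 0x1f14bd0cf))))) (.node 19536 (.node 19533 (.node 19532 (.leaf 0x1f14bd0cf) (.leaf 0x1f14bd0cf)) (.node 19534 (.leaf 0x1f14bd0cf) (.node 19535 (.leaf 0x1f14bd0cf) (.leaf 0x1f14bd0cf)))) (.node 19538 (.node 19537 (.leaf 0x1f14bd0cf) (.leaf 0x1f14bd0cf)) (.node 19539 (.leaf 0x1f14bd0cf) (.node 19540 (.leaf 0x1f14bd0cf) (.leaf 0x1f14bd0cf))))))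

def candS_966 : Store := (.node 19551 (.node 19546 (.node 19543 (.node 19542 (.leaf 0x1f14bd0cf) (.leaf 0x1f14bd0cf)) (.node 19544 (.leaf 0x1f14bd0cf) (.node 19545 (.leaf 0x1f14bd0cf) (.leaf 0x1f14bd0cf)))) (.node 19548 (.node 19547 (.leaf 0x1f14bd0cf) (.leaf 0x1f14bd0cf)) (.node 19549 (.leaf 0x141f14bd0cf) (.node 19550 (.leaf 0x141f14bd0cf) (.leaf 0x141f14bd0cf))))) (.node 19556 (.node 19553 (.node 19552 (.leaf 0x141f14bd0cf) (.leaf 0x141f14bd0cf)) (.node 19554 (.leaf 0x141f14bd0cf) (.node 19555 (.leaf 0x141f14bd0cf) (.leaf 0x141f14bd0cf)))) (.node 19558 (.node 19557 (.leaf 0x141f14bd0cf) (.leaf 0x141f14bd0cf)) (.node 19559 (.leaf 0x141f14bd0cf) (.node 19560 (.leaf 0x141f14bd0cf) (.leaf 0x301f14bd0cf))))))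

def candS_967 : Store := (.node 19571 (.node 19566 (.node 19563 (.node 19562 (.leaf 0x301f14bd0cf) (.leaf 0x301f14bd0cf)) (.node 19564 (.leaf 0x301f14bd0cf) (.node 19565 (.leaf 0x301f14bd0cf) (.leaf 0x301f14bd0cf)))) (.node 19568 (.node 19567 (.leaf 0x301f14bd0cf) (.leaf 0x301f14bd0cf)) (.node 19569 (.leaf 0x301f14bd0cf) (.node 19570 (.leaf 0x301f14bd0cf) (.leaf 0x301f14bd0cf))))) (.node 19576 (.node 19573 (.node 19572 (.leaf 0x301f14bd0cf) (.leaf 0x1f14bd0cf)) (.node 19574 (.leaf 0x1f14bd0cf) (.node 19575 (.leaf 0x1f14bd0cf) (.leaf 0x1f14bd0cf)))) (.node 19578 (.node 19577 (.leaf 0x1f14bd0cf) (.leaf 0x1f14bd0cf)) (.node 19579 (.leaf 0x1f14bd0cf) (.node 19580 (.leaf 0x1f14bd0cf) (.leaf 0x1f14bd0cf))))))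

def candS_968 : Store := (.node 19591 (.node 19586 (.node 19583 (.node 19582 (.leaf 0x1f14bd0cf) (.leaf 0x1f14bd0cf)) (.node 19584 (.leaf 0x1f14bd0cf) (.node 19585 (.leaf 0x828193d0cf) (.leaf 0x828193d0cf)))) (.node 19588 (.node 19587 (.leaf 0x828193d0cf) (.leaf 0x828193d0cf)) (.node 19589 (.leaf 0x828193d0cf) (.node 19590 (.leaf 0x828193d0cf) (.leaf 0x828193d0cf))))) (.node 19596 (.node 19593 (.node 19592 (.leaf 0x828193d0cf) (.leaf 0x828193d0cf)) (.node 19594 (.leaf 0x828193d0cf) (.node 19595 (.leaf 0x828193d0cf) (.leaf 0x828193d0cf)))) (.node 19599 (.node 19597 (.leaf 0x2e28193d0cf) (.node 19598 (.leaf 0x2e28193d0cf) (.leaf 0x2e28193d0cf))) (.node 19600 (.leaf 0x2e28193d0cf) (.node 19601 (.leaf 0x2e28193d0cf) (.leaf 0x2e28193d0cf))))))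

def candS_969 : Store := (.node 19612 (.node 19607 (.node 19604 (.node 19603 (.leaf 0x2e28193d0cf) (.leaf 0x2e28193d0cf)) (.node 19605 (.leaf 0x2e28193d0cf) (.node 19606 (.leaf 0x2e28193d0cf) (.leaf 0x2e28193d0cf)))) (.node 19609 (.node 19608 (.leaf 0x2e28193d0cf) (.leaf 0x30000e28193d0cf)) (.node 19610 (.leaf 0xe28193d0cf) (.node 19611 (.leaf 0xe28193d0cf) (.leaf 0x60000e28193d0cf))))) (.node 19617 (.node 19614 (.node 19613 (.leaf 0xe28193d0cf) (.leaf 0xe28193d0cf)) (.node 19615 (.leaf 0x20000e28193d0cf) (.node 19616 (.leaf 0xe28193d0cf) (.leaf 0xe28193d0cf)))) (.node 19619 (.node 19618 (.leaf 0xe28193d0cf) (.leaf 0x78000e28193d0cf)) (.node 19620 (.leaf 0xe28193d0cf) (.node 19621 (.leaf 0x3028193d0cf) (.leaf 0x3028193d0cf))))))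

def candS_970 : Store := (.node 19632 (.node 19627 (.node 19624 (.node 19623 (.leaf 0x3028193d0cf) (.leaf 0x3028193d0cf)) (.node 19625 (.leaf 0x3028193d0cf) (.node 19626 (.leaf 0x3028193d0cf) (.leaf 0x3028193d0cf)))) (.node 19629 (.node 19628 (.leaf 0x3028193d0cf) (.leaf 0x3028193d0cf)) (.node 19630 (.leaf 0x3028193d0cf) (.node 19631 (.leaf 0x3028193d0cf) (.leaf 0x3028193d0cf))))) (.node 19637 (.node 19634 (.node 19633 (.leaf 0x28193d0cf) (.leaf 0x28193d0cf)) (.node 19635 (.leaf 0x28193d0cf) (.node 19636 (.leaf 0x28193d0cf) (.leaf 0x28193d0cf)))) (.node 19639 (.node 19638 (.leaf 0x28193d0cf) (.leaf 0x28193d0cf)) (.node 19640 (.leaf 0x28193d0cf) (.node 19641 (.leaf 0x28193d0cf) (.leaf 0x28193d0cf))))))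

def candS_971 : Store := (.node 19652 (.node 19647 (.node 19644 (.node 19643 (.leaf 0x28193d0cf) (.leaf 0x28193d0cf)) (.node 19645 (.leaf 0x28193d0cf) (.node 19646 (.leaf 0x28193d0cf) (.leaf 0x28193d0cf)))) (.node 19649 (.node 19648 (.leaf 0x28193d0cf) (.leaf 0x28193d0cf)) (.node 19650 (.leaf 0x28193d0cf) (.node 19651 (.leaf 0x28193d0cf) (.leaf 0x28193d0cf))))) (.node 19657 (.node 19654 (.node 19653 (.leaf 0x28193d0cf) (.leaf 0x28193d0cf)) (.node 19655 (.leaf 0x28193d0cf) (.node 19656 (.leaf 0x28193d0cf) (.leaf 0x28193d0cf)))) (.node 19659 (.node 19658 (.leaf 0x28193d0cf) (.leaf 0x28193d0cf)) (.node 19660 (.leaf 0x28193d0cf) (.node 19661 (.leaf 0x28193d0cf) (.leaf 0x28193d0cf))))))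

def candS_972 : Store := (.node 19672 (.node 19667 (.node 19664 (.node 19663 (.leaf 0x28193d0cf) (.leaf 0x28193d0cf)) (.node 19665 (.leaf 0x28193d0cf) (.node 19666 (.leaf 0x28193d0cf) (.leaf 0x28193d0cf)))) (.node 19669 (.node 19668 (.leaf 0x28193d0cf) (.leaf 0x428193d0cf)) (.node 19670 (.leaf 0x428193d0cf) (.node 19671 (.leaf 0x428193d0cf) (.leaf 0x428193d0cf))))) (.node 19677 (.node 19674 (.node 19673 (.leaf 0x428193d0cf) (.leaf 0x428193d0cf)) (.node 19675 (.leaf 0x428193d0cf) (.node 19676 (.leaf 0x428193d0cf) (.leaf 0x428193d0cf)))) (.node 19680 (.node 19678 (.leaf 0x428193d0cf) (.node 19679 (.leaf 0x428193d0cf) (.leaf 0x428193d0cf))) (.node 19681 (.leaf 0x28193d0cf) (.node 19682 (.leaf 0x28193d0cf) (.leaf 0x28193d0cf))))))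

def candS_973 : Store := (.node 19693 (.node 19688 (.node 19685 (.node 19684 (.leaf 0x28193d0cf) (.leaf 0x28193d0cf)) (.node 19686 (.leaf 0x28193d0cf) (.node 19687 (.leaf 0x28193d0cf) (.leaf 0x28193d0cf)))) (.node 19690 (.node 19689 (.leaf 0x28193d0cf) (.leaf 0x28193d0cf)) (.node 19691 (.leaf 0x28193d0cf) (.node 19692 (.leaf 0x28193d0cf) (.leaf 0x28193d0cf))))) (.node 19698 (.node 19695 (.node 19694 (.leaf 0x28193d0cf) (.leaf 0x28193d0cf)) (.node 19696 (.leaf 0x28193d0cf) (.node 19697 (.leaf 0x28193d0cf) (.leaf 0x28193d0cf)))) (.node 19700 (.node 19699 (.leaf 0x28193d0cf) (.leaf 0x28193d0cf)) (.node 19701 (.leaf 0x28193d0cf) (.node 19702 (.leaf 0x28193d0cf) (.leaf 0x28193d0cf))))))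

def candS_974 : Store := (.node 19713 (.node 19708 (.node 19705 (.node 19704 (.leaf 0x28193d0cf) (.leaf 0x28193d0cf)) (.node 19706 (.leaf 0x28193d0cf) (.node 19707 (.leaf 0x28193d0cf) (.leaf 0x28193d0cf)))) (.node 19710 (.node 19709 (.leaf 0x28193d0cf) (.leaf 0x28193d0cf)) (.node 19711 (.leaf 0x28193d0cf) (.node 19712 (.leaf 0x28193d0cf) (.leaf 0x28193d0cf))))) (.node 19718 (.node 19715 (.node 19714 (.leaf 0x28193d0cf) (.leaf 0x28193d0cf)) (.node 19716 (.leaf 0x28193d0cf) (.node 19717 (.leaf 0x3428193d0cf) (.leaf 0x12e)))) (.node 19720 (.node 19719 (.leaf 0x290) (.leaf 0x3428193d0cf)) (.node 19721 (.leaf 0x3428193d0cf) (.node 19722 (.leaf 0x2f0) (.leaf 0x3428193d0cf))))))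

def candS_975 : Store := (.node 19733 (.node 19728 (.node 19725 (.node 19724 (.leaf 0x3428193d0cf) (.leaf 0x3428193d0cf)) (.node 19726 (.leaf 0x18a) (.node 19727 (.leaf 0x3428193d0cf) (.leaf 0x3428193d0cf)))) (.node 19730 (.node 19729 (.leaf 0x2a4f313d0cf) (.leaf 0x2a4f313d0cf)) (.node 19731 (.leaf 0x2a4f313d0cf) (.node 19732 (.leaf 0x2a4f313d0cf) (.leaf 0x2a4f313d0cf))))) (.node 19738 (.node 19735 (.node 19734 (.leaf 0x2a4f313d0cf) (.leaf 0x2a4f313d0cf)) (.node 19736 (.leaf 0x2a4f313d0cf) (.node 19737 (.leaf 0x2a4f313d0cf) (.leaf 0x2a4f313d0cf)))) (.node 19740 (.node 19739 (.leaf 0x2a4f313d0cf) (.leaf 0x2a4f313d0cf)) (.node 19741 (.leaf 0x4f313d0cf) (.node 19742 (.leaf 0x4f313d0cf) (.leaf 0x4f313d0cf))))))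

def candS_976 : Store := (.node 19753 (.node 19748 (.node 19745 (.node 19744 (.leaf 0x4f313d0cf) (.leaf 0x4f313d0cf)) (.node 19746 (.leaf 0x4f313d0cf) (.node 19747 (.leaf 0x4f313d0cf) (.leaf 0x4f313d0cf)))) (.node 19750 (.node 19749 (.leaf 0x4f313d0cf) (.leaf 0x4f313d0cf)) (.node 19751 (.leaf 0x4f313d0cf) (.node 19752 (.leaf 0x4f313d0cf) (.leaf 0x4f313d0cf))))) (.node 19758 (.node 19755 (.node 19754 (.leaf 0x4f313d0cf) (.leaf 0x4f313d0cf)) (.node 19756 (.leaf 0x4f313d0cf) (.node 19757 (.leaf 0x4f313d0cf) (.leaf 0x4f313d0cf)))) (.node 19761 (.node 19759 (.leaf 0x4f313d0cf) (.node 19760 (.leaf 0x4f313d0cf) (.leaf 0x4f313d0cf))) (.node 19762 (.leaf 0x4f313d0cf) (.node 19763 (.leaf 0x4f313d0cf) (.leaf 0x4f313d0cf))))))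

def candS_977 : Store := (.node 19774 (.node 19769 (.node 19766 (.node 19765 (.leaf 0x244f313d0cf) (.leaf 0x244f313d0cf)) (.node 19767 (.leaf 0x244f313d0cf) (.node 19768 (.leaf 0x244f313d0cf) (.leaf 0x244f313d0cf)))) (.node 19771 (.node 19770 (.leaf 0x244f313d0cf) (.leaf 0x244f313d0cf)) (.node 19772 (.leaf 0x244f313d0cf) (.node 19773 (.leaf 0x244f313d0cf) (.leaf 0x244f313d0cf))))) (.node 19779 (.node 19776 (.node 19775 (.leaf 0x244f313d0cf) (.leaf 0x244f313d0cf)) (.node 19777 (.leaf 0x4f313d0cf) (.node 19778 (.leaf 0x4f313d0cf) (.leaf 0x4f313d0cf)))) (.node 19781 (.node 19780 (.leaf 0x4f313d0cf) (.leaf 0x4f313d0cf)) (.node 19782 (.leaf 0x4f313d0cf) (.node 19783 (.leaf 0x4f313d0cf) (.leaf 0x4f313d0cf))))))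

def candS_978 : Store := (.node 19794 (.node 19789 (.node 19786 (.node 19785 (.leaf 0x4f313d0cf) (.leaf 0x4f313d0cf)) (.node 19787 (.leaf 0x4f313d0cf) (.node 19788 (.leaf 0x4f313d0cf) (.leaf 0x4f313d0cf)))) (.node 19791 (.node 19790 (.leaf 0x4f313d0cf) (.leaf 0x4f313d0cf)) (.node 19792 (.leaf 0x4f313d0cf) (.node 19793 (.leaf 0x4f313d0cf) (.leaf 0x4f313d0cf))))) (.node 19799 (.node 19796 (.node 19795 (.leaf 0x4f313d0cf) (.leaf 0x4f313d0cf)) (.node 19797 (.leaf 0x4f313d0cf) (.node 19798 (.leaf 0x4f313d0cf) (.leaf 0x4f313d0cf)))) (.node 19801 (.node 19800 (.leaf 0x4f313d0cf) (.leaf 0x4f313d0cf)) (.node 19802 (.leaf 0x4f313d0cf) (.node 19803 (.leaf 0x4f313d0cf) (.leaf 0x4f313d0cf))))))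

def candS_979 : Store := (.node 19814 (.node 19809 (.node 19806 (.node 19805 (.leaf 0x4f313d0cf) (.leaf 0x4f313d0cf)) (.node 19807 (.leaf 0x4f313d0cf) (.node 19808 (.leaf 0x4f313d0cf) (.leaf 0x4f313d0cf)))) (.node 19811 (.node 19810 (.leaf 0x4f313d0cf) (.leaf 0x4f313d0cf)) (.node 19812 (.leaf 0x4f313d0cf) (.node 19813 (.leaf 0x184f313d0cf) (.leaf 0x184f313d0cf))))) (.node 19819 (.node 19816 (.node 19815 (.leaf 0x184f313d0cf) (.leaf 0x184f313d0cf)) (.node 19817 (.leaf 0x184f313d0cf) (.node 19818 (.leaf 0x184f313d0cf) (.leaf 0x184f313d0cf)))) (.node 19821 (.node 19820 (.leaf 0x184f313d0cf) (.leaf 0x184f313d0cf)) (.node 19822 (.leaf 0x184f313d0cf) (.node 19823 (.leaf 0x184f313d0cf) (.leaf 0x184f313d0cf))))))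

def candS_980 : Store := (.node 19834 (.node 19829 (.node 19826 (.node 19825 (.leaf 0x4f313d0cf) (.leaf 0x4f313d0cf)) (.node 19827 (.leaf 0x4f313d0cf) (.node 19828 (.leaf 0x4f313d0cf) (.leaf 0x4f313d0cf)))) (.node 19831 (.node 19830 (.leaf 0x4f313d0cf) (.leaf 0x4f313d0cf)) (.node 19832 (.leaf 0x4f313d0cf) (.node 19833 (.leaf 0x4f313d0cf) (.leaf 0x4f313d0cf))))) (.node 19839 (.node 19836 (.node 19835 (.leaf 0x4f313d0cf) (.leaf 0x4f313d0cf)) (.node 19837 (.leaf 0x4f313d0cf) (.node 19838 (.leaf 0x4f313d0cf) (.leaf 0x4f313d0cf)))) (.node 19842 (.node 19840 (.leaf 0x4f313d0cf) (.node 19841 (.leaf 0x4f313d0cf) (.leaf 0x4f313d0cf))) (.node 19843 (.leaf 0x4f313d0cf) (.node 19844 (.leaf 0x4f313d0cf) (.leaf 0x4f313d0cf))))))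

def candS_981 : Store := (.node 19855 (.node 19850 (.node 19847 (.node 19846 (.leaf 0x4f313d0cf) (.leaf 0x4f313d0cf)) (.node 19848 (.leaf 0x4f313d0cf) (.node 19849 (.leaf 0xa4f313d0cf) (.leaf 0xa4f313d0cf)))) (.node 19852 (.node 19851 (.leaf 0xa4f313d0cf) (.leaf 0x38000a4f313d0cf)) (.node 19853 (.leaf 0xa4f313d0cf) (.node 19854 (.leaf 0xa4f313d0cf) (.leaf 0x28000a4f313d0cf))))) (.node 19860 (.node 19857 (.node 19856 (.leaf 0xa4f313d0cf) (.leaf 0xa4f313d0cf)) (.node 19858 (.leaf 0xa4f313d0cf) (.node 19859 (.leaf 0x90000a4f313d0cf) (.leaf 0x18000a4f313d0cf)))) (.node 19862 (.node 19861 (.leaf 0x324f313d0cf) (.leaf 0x15a)) (.node 19863 (.leaf 0x7e) (.node 19864 (.leaf 0x324f313d0cf) (.leaf 0x30))))))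

def candS_982 : Store := (.node 19875 (.node 19870 (.node 19867 (.node 19866 (.leaf 0x324f313d0cf) (.leaf 0x324f313d0cf)) (.node 19868 (.leaf 0x324f313d0cf) (.node 19869 (.leaf 0x324f313d0cf) (.leaf 0x2d8)))) (.node 19872 (.node 19871 (.leaf 0x324f313d0cf) (.leaf 0x324f313d0cf)) (.node 19873 (.leaf 0x36303d0cf) (.node 19874 (.leaf 0x36303d0cf) (.leaf 0x36303d0cf))))) (.node 19880 (.node 19877 (.node 19876 (.leaf 0x36303d0cf) (.leaf 0x36303d0cf)) (.node 19878 (.leaf 0x36303d0cf) (.node 19879 (.leaf 0x36303d0cf) (.leaf 0x36303d0cf)))) (.node 19882 (.node 19881 (.leaf 0x36303d0cf) (.leaf 0x36303d0cf)) (.node 19883 (.leaf 0x36303d0cf) (.node 19884 (.leaf 0x36303d0cf) (.leaf 0x36303d0cf))))))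

def candS_983 : Store := (.node 19895 (.node 19890 (.node 19887 (.node 19886 (.leaf 0x36303d0cf) (.leaf 0x36303d0cf)) (.node 19888 (.leaf 0x36303d0cf) (.node 19889 (.leaf 0x36303d0cf) (.leaf 0x36303d0cf)))) (.node 19892 (.node 19891 (.leaf 0x36303d0cf) (.leaf 0x36303d0cf)) (.node 19893 (.leaf 0x36303d0cf) (.node 19894 (.leaf 0x36303d0cf) (.leaf 0x36303d0cf))))) (.node 19900 (.node 19897 (.node 19896 (.leaf 0x36303d0cf) (.leaf 0x636303d0cf)) (.node 19898 (.leaf 0x636303d0cf) (.node 19899 (.leaf 0x636303d0cf) (.leaf 0x636303d0cf)))) (.node 19902 (.node 19901 (.leaf 0x636303d0cf) (.leaf 0x636303d0cf)) (.node 19903 (.leaf 0x636303d0cf) (.node 19904 (.leaf 0x636303d0cf) (.leaf 0x636303d0cf))))))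

def candS_984 : Store := (.node 19915 (.node 19910 (.node 19907 (.node 19906 (.leaf 0x636303d0cf) (.leaf 0x636303d0cf)) (.node 19908 (.leaf 0x636303d0cf) (.node 19909 (.leaf 0x36303d0cf) (.leaf 0x36303d0cf)))) (.node 19912 (.node 19911 (.leaf 0x36303d0cf) (.leaf 0x36303d0cf)) (.node 19913 (.leaf 0x36303d0cf) (.node 19914 (.leaf 0x36303d0cf) (.leaf 0x36303d0cf))))) (.node 19920 (.node 19917 (.node 19916 (.leaf 0x36303d0cf) (.leaf 0x36303d0cf)) (.node 19918 (.leaf 0x36303d0cf) (.node 19919 (.leaf 0x36303d0cf) (.leaf 0x36303d0cf)))) (.node 19923 (.node 19921 (.leaf 0x3e36303d0cf) (.node 19922 (.leaf 0x3e36303d0cf) (.leaf 0x3e36303d0cf))) (.node 19924 (.leaf 0x3e36303d0cf) (.node 19925 (.leaf 0x3e36303d0cf) (.leaf 0x3e36303d0cf))))))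

def candS_985 : Store := (.node 19936 (.node 19931 (.node 19928 (.node 19927 (.leaf 0x3e36303d0cf) (.leaf 0x3e36303d0cf)) (.node 19929 (.leaf 0x3e36303d0cf) (.node 19930 (.leaf 0x3e36303d0cf) (.leaf 0x3e36303d0cf)))) (.node 19933 (.node 19932 (.leaf 0x3e36303d0cf) (.leaf 0x36303d0cf)) (.node 19934 (.leaf 0x36303d0cf) (.node 19935 (.leaf 0x36303d0cf) (.leaf 0x36303d0cf))))) (.node 19941 (.node 19938 (.node 19937 (.leaf 0x36303d0cf) (.leaf 0x36303d0cf)) (.node 19939 (.leaf 0x36303d0cf) (.node 19940 (.leaf 0x36303d0cf) (.leaf 0x36303d0cf)))) (.node 19943 (.node 19942 (.leaf 0x36303d0cf) (.leaf 0x36303d0cf)) (.node 19944 (.leaf 0x36303d0cf) (.node 19945 (.leaf 0xe4) (.leaf 0x3236303d0cf))))))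

def candS_986 : Store := (.node 19956 (.node 19951 (.node 19948 (.node 19947 (.leaf 0x3236303d0cf) (.leaf 0x35c)) (.node 19949 (.leaf 0x3236303d0cf) (.node 19950 (.leaf 0x3236303d0cf) (.leaf 0x3236303d0cf)))) (.node 19953 (.node 19952 (.leaf 0x3236303d0cf) (.leaf 0x3236303d0cf)) (.node 19954 (.leaf 0x3236303d0cf) (.node 19955 (.leaf 0x1f6) (.leaf 0x26e))))) (.node 19961 (.node 19958 (.node 19957 (.leaf 0x2636303d0cf) (.leaf 0x70002636303d0cf)) (.node 19959 (.leaf 0x2636303d0cf) (.node 19960 (.leaf 0x2636303d0cf) (.leaf 0x98002636303d0cf)))) (.node 19963 (.node 19962 (.leaf 0x2636303d0cf) (.leaf 0x2636303d0cf)) (.node 19964 (.leaf 0x2636303d0cf) (.node 19965 (.leaf 0x2636303d0cf) (.leaf 0x80002636303d0cf))))))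

def candS_987 : Store := (.node 19976 (.node 19971 (.node 19968 (.node 19967 (.leaf 0x2636303d0cf) (.leaf 0x2636303d0cf)) (.node 19969 (.leaf 0x36303d0cf) (.node 19970 (.leaf 0x36303d0cf) (.leaf 0x36303d0cf)))) (.node 19973 (.node 19972 (.leaf 0x36303d0cf) (.leaf 0x36303d0cf)) (.node 19974 (.leaf 0x36303d0cf) (.node 19975 (.leaf 0x36303d0cf) (.leaf 0x36303d0cf))))) (.node 19981 (.node 19978 (.node 19977 (.leaf 0x36303d0cf) (.leaf 0x36303d0cf)) (.node 19979 (.leaf 0x36303d0cf) (.node 19980 (.leaf 0x36303d0cf) (.leaf 0x2c36303d0cf)))) (.node 19983 (.node 19982 (.leaf 0x2c36303d0cf) (.leaf 0x2c36303d0cf)) (.node 19984 (.leaf 0x2c36303d0cf) (.node 19985 (.leaf 0x2c36303d0cf) (.leaf 0x2c36303d0cf))))))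

def candS_988 : Store := (.node 19996 (.node 19991 (.node 19988 (.node 19987 (.leaf 0x2c36303d0cf) (.leaf 0x2c36303d0cf)) (.node 19989 (.leaf 0x2c36303d0cf) (.node 19990 (.leaf 0x2c36303d0cf) (.leaf 0x2c36303d0cf)))) (.node 19993 (.node 19992 (.leaf 0x2c36303d0cf) (.leaf 0x3436303d0cf)) (.node 19994 (.leaf 0x3436303d0cf) (.node 19995 (.leaf 0x3436303d0cf) (.leaf 0x3436303d0cf))))) (.node 20001 (.node 19998 (.node 19997 (.leaf 0x3436303d0cf) (.leaf 0x3436303d0cf)) (.node 19999 (.leaf 0x3436303d0cf) (.node 20000 (.leaf 0x3436303d0cf) (.leaf 0x3436303d0cf)))) (.node 20004 (.node 20002 (.leaf 0x3436303d0cf) (.node 20003 (.leaf 0x3436303d0cf) (.leaf 0x3436303d0cf))) (.node 20005 (.leaf 0x36303d0cf) (.node 20006 (.leaf 0x36303d0cf) (.leaf 0x36303d0cf))))))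

def candS_989 : Store := (.node 20017 (.node 20012 (.node 20009 (.node 20008 (.leaf 0x36303d0cf) (.leaf 0x36303d0cf)) (.node 20010 (.leaf 0x36303d0cf) (.node 20011 (.leaf 0x36303d0cf) (.leaf 0x36303d0cf)))) (.node 20014 (.node 20013 (.leaf 0x36303d0cf) (.leaf 0x36303d0cf)) (.node 20015 (.leaf 0x36303d0cf) (.node 20016 (.leaf 0x36303d0cf) (.leaf 0x30053d0cf))))) (.node 20022 (.node 20019 (.node 20018 (.leaf 0x30053d0cf) (.leaf 0x30053d0cf)) (.node 20020 (.leaf 0x30053d0cf) (.node 20021 (.leaf 0x30053d0cf) (.leaf 0x30053d0cf)))) (.node 20024 (.node 20023 (.leaf 0x30053d0cf) (.leaf 0x30053d0cf)) (.node 20025 (.leaf 0x30053d0cf) (.node 20026 (.leaf 0x30053d0cf) (.leaf 0x30053d0cf))))))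

def candS_990 : Store := (.node 20037 (.node 20032 (.node 20029 (.node 20028 (.leaf 0x30053d0cf) (.leaf 0x30053d0cf)) (.node 20030 (.leaf 0x30053d0cf) (.node 20031 (.leaf 0x30053d0cf) (.leaf 0x30053d0cf)))) (.node 20034 (.node 20033 (.leaf 0x30053d0cf) (.leaf 0x30053d0cf)) (.node 20035 (.leaf 0x30053d0cf) (.node 20036 (.leaf 0x30053d0cf) (.leaf 0x30053d0cf))))) (.node 20042 (.node 20039 (.node 20038 (.leaf 0x30053d0cf) (.leaf 0x30053d0cf)) (.node 20040 (.leaf 0x30053d0cf) (.node 20041 (.leaf 0x3430053d0cf) (.leaf 0x3430053d0cf)))) (.node 20044 (.node 20043 (.leaf 0x3430053d0cf) (.leaf 0x3430053d0cf)) (.node 20045 (.leaf 0x3430053d0cf) (.node 20046 (.leaf 0x3430053d0cf) (.leaf 0x3430053d0cf))))))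

def candS_991 : Store := (.node 20057 (.node 20052 (.node 20049 (.node 20048 (.leaf 0x3430053d0cf) (.leaf 0x3430053d0cf)) (.node 20050 (.leaf 0x3430053d0cf) (.node 20051 (.leaf 0x3430053d0cf) (.leaf 0x3430053d0cf)))) (.node 20054 (.node 20053 (.leaf 0x30053d0cf) (.leaf 0x30053d0cf)) (.node 20055 (.leaf 0x30053d0cf) (.node 20056 (.leaf 0x30053d0cf) (.leaf 0x30053d0cf))))) (.node 20062 (.node 20059 (.node 20058 (.leaf 0x30053d0cf) (.leaf 0x30053d0cf)) (.node 20060 (.leaf 0x30053d0cf) (.node 20061 (.leaf 0x30053d0cf) (.leaf 0x30053d0cf)))) (.node 20064 (.node 20063 (.leaf 0x30053d0cf) (.leaf 0x30053d0cf)) (.node 20065 (.leaf 0x2e30053d0cf) (.node 20066 (.leaf 0x2e30053d0cf) (.leaf 0x2e30053d0cf))))))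

def candS_992 : Store := (.node 20077 (.node 20072 (.node 20069 (.node 20068 (.leaf 0x2e30053d0cf) (.leaf 0x2e30053d0cf)) (.node 20070 (.leaf 0x2e30053d0cf) (.node 20071 (.leaf 0x2e30053d0cf) (.leaf 0x2e30053d0cf)))) (.node 20074 (.node 20073 (.leaf 0x2e30053d0cf) (.leaf 0x2e30053d0cf)) (.node 20075 (.leaf 0x2e30053d0cf) (.node 20076 (.leaf 0x2e30053d0cf) (.leaf 0x3030053d0cf))))) (.node 20082 (.node 20079 (.node 20078 (.leaf 0x3030053d0cf) (.leaf 0x3030053d0cf)) (.node 20080 (.leaf 0x3030053d0cf) (.node 20081 (.leaf 0x3030053d0cf) (.leaf 0x3030053d0cf)))) (.node 20085 (.node 20083 (.leaf 0x3030053d0cf) (.node 20084 (.leaf 0x3030053d0cf) (.leaf 0x3030053d0cf))) (.node 20086 (.leaf 0x3030053d0cf) (.node 20087 (.leaf 0x3030053d0cf) (.leaf 0x3030053d0cf))))))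

def candS_993 : Store := (.node 20098 (.node 20093 (.node 20090 (.node 20089 (.leaf 0x30053d0cf) (.leaf 0x30053d0cf)) (.node 20091 (.leaf 0x30053d0cf) (.node 20092 (.leaf 0x30053d0cf) (.leaf 0x30053d0cf)))) (.node 20095 (.node 20094 (.leaf 0x30053d0cf) (.leaf 0x30053d0cf)) (.node 20096 (.leaf 0x30053d0cf) (.node 20097 (.leaf 0x30053d0cf) (.leaf 0x30053d0cf))))) (.node 20103 (.node 20100 (.node 20099 (.leaf 0x30053d0cf) (.leaf 0x30053d0cf)) (.node 20101 (.leaf 0x30053d0cf) (.node 20102 (.leaf 0x30053d0cf) (.leaf 0x30053d0cf)))) (.node 20105 (.node 20104 (.leaf 0x30053d0cf) (.leaf 0x30053d0cf)) (.node 20106 (.leaf 0x30053d0cf) (.node 20107 (.leaf 0x30053d0cf) (.leaf 0x30053d0cf))))))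

def candS_994 : Store := (.node 20118 (.node 20113 (.node 20110 (.node 20109 (.leaf 0x30053d0cf) (.leaf 0x30053d0cf)) (.node 20111 (.leaf 0x30053d0cf) (.node 20112 (.leaf 0x30053d0cf) (.leaf 0x30053d0cf)))) (.node 20115 (.node 20114 (.leaf 0x30053d0cf) (.leaf 0x30053d0cf)) (.node 20116 (.leaf 0x30053d0cf) (.node 20117 (.leaf 0x30053d0cf) (.leaf 0x30053d0cf))))) (.node 20123 (.node 20120 (.node 20119 (.leaf 0x30053d0cf) (.leaf 0x30053d0cf)) (.node 20121 (.leaf 0x30053d0cf) (.node 20122 (.leaf 0x30053d0cf) (.leaf 0x30053d0cf)))) (.node 20125 (.node 20124 (.leaf 0x30053d0cf) (.leaf 0x430053d0cf)) (.node 20126 (.leaf 0x430053d0cf) (.node 20127 (.leaf 0x430053d0cf) (.leaf 0x430053d0cf))))))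

def candS_995 : Store := (.node 20138 (.node 20133 (.node 20130 (.node 20129 (.leaf 0x430053d0cf) (.leaf 0x430053d0cf)) (.node 20131 (.leaf 0x430053d0cf) (.node 20132 (.leaf 0x430053d0cf) (.leaf 0x430053d0cf)))) (.node 20135 (.node 20134 (.leaf 0x430053d0cf) (.leaf 0x430053d0cf)) (.node 20136 (.leaf 0x430053d0cf) (.node 20137 (.leaf 0x830053d0cf) (.leaf 0x830053d0cf))))) (.node 20143 (.node 20140 (.node 20139 (.leaf 0x830053d0cf) (.leaf 0x830053d0cf)) (.node 20141 (.leaf 0x830053d0cf) (.node 20142 (.leaf 0x830053d0cf) (.leaf 0x830053d0cf)))) (.node 20145 (.node 20144 (.leaf 0x830053d0cf) (.leaf 0x830053d0cf)) (.node 20146 (.leaf 0x830053d0cf) (.node 20147 (.leaf 0x830053d0cf) (.leaf 0x830053d0cf))))))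

def candS_996 : Store := (.node 20158 (.node 20153 (.node 20150 (.node 20149 (.leaf 0xe30053d0cf) (.leaf 0xe30053d0cf)) (.node 20151 (.leaf 0xe30053d0cf) (.node 20152 (.leaf 0xe30053d0cf) (.leaf 0xe30053d0cf)))) (.node 20155 (.node 20154 (.leaf 0xe30053d0cf) (.leaf 0xe30053d0cf)) (.node 20156 (.leaf 0xe30053d0cf) (.node 20157 (.leaf 0xe30053d0cf) (.leaf 0xe30053d0cf))))) (.node 20163 (.node 20160 (.node 20159 (.leaf 0xe30053d0cf) (.leaf 0xe30053d0cf)) (.node 20161 (.leaf 0x44e1f3d0cf) (.node 20162 (.leaf 0x44e1f3d0cf) (.leaf 0x44e1f3d0cf)))) (.node 20166 (.node 20164 (.leaf 0x44e1f3d0cf) (.node 20165 (.leaf 0x44e1f3d0cf) (.leaf 0x44e1f3d0cf))) (.node 20167 (.leaf 0x44e1f3d0cf) (.node 20168 (.leaf 0x44e1f3d0cf) (.leaf 0x44e1f3d0cf))))))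

def candS_997 : Store := (.node 20179 (.node 20174 (.node 20171 (.node 20170 (.leaf 0x44e1f3d0cf) (.leaf 0x44e1f3d0cf)) (.node 20172 (.leaf 0x44e1f3d0cf) (.node 20173 (.leaf 0x84e1f3d0cf) (.leaf 0x84e1f3d0cf)))) (.node 20176 (.node 20175 (.leaf 0x84e1f3d0cf) (.leaf 0x84e1f3d0cf)) (.node 20177 (.leaf 0x84e1f3d0cf) (.node 20178 (.leaf 0x84e1f3d0cf) (.leaf 0x84e1f3d0cf))))) (.node 20184 (.node 20181 (.node 20180 (.leaf 0x84e1f3d0cf) (.leaf 0x84e1f3d0cf)) (.node 20182 (.leaf 0x84e1f3d0cf) (.node 20183 (.leaf 0x84e1f3d0cf) (.leaf 0x84e1f3d0cf)))) (.node 20186 (.node 20185 (.leaf 0x4e1f3d0cf) (.leaf 0x4e1f3d0cf)) (.node 20187 (.leaf 0x4e1f3d0cf) (.node 20188 (.leaf 0x4e1f3d0cf) (.leaf 0x4e1f3d0cf))))))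

def candS_998 : Store := (.node 20199 (.node 20194 (.node 20191 (.node 20190 (.leaf 0x4e1f3d0cf) (.leaf 0x4e1f3d0cf)) (.node 20192 (.leaf 0x4e1f3d0cf) (.node 20193 (.leaf 0x4e1f3d0cf) (.leaf 0x4e1f3d0cf)))) (.node 20196 (.node 20195 (.leaf 0x4e1f3d0cf) (.leaf 0x4e1f3d0cf)) (.node 20197 (.leaf 0x304e1f3d0cf) (.node 20198 (.leaf 0x304e1f3d0cf) (.leaf 0x304e1f3d0cf))))) (.node 20204 (.node 20201 (.node 20200 (.leaf 0x304e1f3d0cf) (.leaf 0x304e1f3d0cf)) (.node 20202 (.leaf 0x304e1f3d0cf) (.node 20203 (.leaf 0x304e1f3d0cf) (.leaf 0x304e1f3d0cf)))) (.node 20206 (.node 20205 (.leaf 0x304e1f3d0cf) (.leaf 0x304e1f3d0cf)) (.node 20207 (.leaf 0x304e1f3d0cf) (.node 20208 (.leaf 0x304e1f3d0cf) (.leaf 0x4e1f3d0cf))))))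

def candS_999 : Store := (.node 20219 (.node 20214 (.node 20211 (.node 20210 (.leaf 0x4e1f3d0cf) (.leaf 0x4e1f3d0cf)) (.node 20212 (.leaf 0x4e1f3d0cf) (.node 20213 (.leaf 0x4e1f3d0cf) (.leaf 0x4e1f3d0cf)))) (.node 20216 (.node 20215 (.leaf 0x4e1f3d0cf) (.leaf 0x4e1f3d0cf)) (.node 20217 (.leaf 0x4e1f3d0cf) (.node 20218 (.leaf 0x4e1f3d0cf) (.leaf 0x4e1f3d0cf))))) (.node 20224 (.node 20221 (.node 20220 (.leaf 0x4e1f3d0cf) (.leaf 0x4e1f3d0cf)) (.node 20222 (.leaf 0x4e1f3d0cf) (.node 20223 (.leaf 0x4e1f3d0cf) (.leaf 0x4e1f3d0cf)))) (.node 20226 (.node 20225 (.leaf 0x4e1f3d0cf) (.leaf 0x4e1f3d0cf)) (.node 20227 (.leaf 0x4e1f3d0cf) (.node 20228 (.leaf 0x4e1f3d0cf) (.leaf 0x4e1f3d0cf))))))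

def candS_1000 : Store := (.node 20239 (.node 20234 (.node 20231 (.node 20230 (.leaf 0x4e1f3d0cf) (.leaf 0x4e1f3d0cf)) (.node 20232 (.leaf 0x4e1f3d0cf) (.node 20233 (.leaf 0xe4e1f3d0cf) (.leaf 0xe4e1f3d0cf)))) (.node 20236 (.node 20235 (.leaf 0xe4e1f3d0cf) (.leaf 0xe4e1f3d0cf)) (.node 20237 (.leaf 0xe4e1f3d0cf) (.node 20238 (.leaf 0xe4e1f3d0cf) (.leaf 0xe4e1f3d0cf))))) (.node 20244 (.node 20241 (.node 20240 (.leaf 0xe4e1f3d0cf) (.leaf 0xe4e1f3d0cf)) (.node 20242 (.leaf 0xe4e1f3d0cf) (.node 20243 (.leaf 0xe4e1f3d0cf) (.leaf 0xe4e1f3d0cf)))) (.node 20247 (.node 20245 (.leaf 0x344e1f3d0cf) (.node 20246 (.leaf 0x344e1f3d0cf) (.leaf 0x344e1f3d0cf))) (.node 20248 (.leaf 0x344e1f3d0cf) (.node 20249 (.leaf 0x344e1f3d0cf) (.leaf 0x344e1f3d0cf))))))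

def candS_1001 : Store := (.node 20260 (.node 20255 (.node 20252 (.node 20251 (.leaf 0x344e1f3d0cf) (.leaf 0x344e1f3d0cf)) (.node 20253 (.leaf 0x344e1f3d0cf) (.node 20254 (.leaf 0x344e1f3d0cf) (.leaf 0x344e1f3d0cf)))) (.node 20257 (.node 20256 (.leaf 0x344e1f3d0cf) (.leaf 0x2e4e1f3d0cf)) (.node 20258 (.leaf 0x2e4e1f3d0cf) (.node 20259 (.leaf 0x2e4e1f3d0cf) (.leaf 0x2e4e1f3d0cf))))) (.node 20265 (.node 20262 (.node 20261 (.leaf 0x2e4e1f3d0cf) (.leaf 0x2e4e1f3d0cf)) (.node 20263 (.leaf 0x2e4e1f3d0cf) (.node 20264 (.leaf 0x2e4e1f3d0cf) (.leaf 0x2e4e1f3d0cf)))) (.node 20267 (.node 20266 (.leaf 0x2e4e1f3d0cf) (.leaf 0x2e4e1f3d0cf)) (.node 20268 (.leaf 0x2e4e1f3d0cf) (.node 20269 (.leaf 0x4e1f3d0cf) (.leaf 0x4e1f3d0cf))))))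

def candS_1002 : Store := (.node 20280 (.node 20275 (.node 20272 (.node 20271 (.leaf 0x4e1f3d0cf) (.leaf 0x4e1f3d0cf)) (.node 20273 (.leaf 0x4e1f3d0cf) (.node 20274 (.leaf 0x4e1f3d0cf) (.leaf 0x4e1f3d0cf)))) (.node 20277 (.node 20276 (.leaf 0x4e1f3d0cf) (.leaf 0x4e1f3d0cf)) (.node 20278 (.leaf 0x4e1f3d0cf) (.node 20279 (.leaf 0x4e1f3d0cf) (.leaf 0x4e1f3d0cf))))) (.node 20285 (.node 20282 (.node 20281 (.leaf 0x4e1f3d0cf) (.leaf 0x4e1f3d0cf)) (.node 20283 (.leaf 0x4e1f3d0cf) (.node 20284 (.leaf 0x4e1f3d0cf) (.leaf 0x4e1f3d0cf)))) (.node 20287 (.node 20286 (.leaf 0x4e1f3d0cf) (.leaf 0x4e1f3d0cf)) (.node 20288 (.leaf 0x4e1f3d0cf) (.node 20289 (.leaf 0x4e1f3d0cf) (.leaf 0x4e1f3d0cf))))))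

def candS_1003 : Store := (.node 20300 (.node 20295 (.node 20292 (.node 20291 (.leaf 0x4e1f3d0cf) (.leaf 0x4e1f3d0cf)) (.node 20293 (.leaf 0x4e1f3d0cf) (.node 20294 (.leaf 0x4e1f3d0cf) (.leaf 0x4e1f3d0cf)))) (.node 20297 (.node 20296 (.leaf 0x4e1f3d0cf) (.leaf 0x4e1f3d0cf)) (.node 20298 (.leaf 0x4e1f3d0cf) (.node 20299 (.leaf 0x4e1f3d0cf) (.leaf 0x4e1f3d0cf))))) (.node 20305 (.node 20302 (.node 20301 (.leaf 0x4e1f3d0cf) (.leaf 0x4e1f3d0cf)) (.node 20303 (.leaf 0x4e1f3d0cf) (.node 20304 (.leaf 0x4e1f3d0cf) (.leaf 0x2818bd0cf)))) (.node 20307 (.node 20306 (.leaf 0x2818bd0cf) (.leaf 0x2818bd0cf)) (.node 20308 (.leaf 0x2818bd0cf) (.node 20309 (.leaf 0x2818bd0cf) (.leaf 0x2818bd0cf))))))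

def candS_1004 : Store := (.node 20320 (.node 20315 (.node 20312 (.node 20311 (.leaf 0x2818bd0cf) (.leaf 0x2818bd0cf)) (.node 20313 (.leaf 0x2818bd0cf) (.node 20314 (.leaf 0x2818bd0cf) (.leaf 0x2818bd0cf)))) (.node 20317 (.node 20316 (.leaf 0x2818bd0cf) (.leaf 0x62818bd0cf)) (.node 20318 (.leaf 0x62818bd0cf) (.node 20319 (.leaf 0x62818bd0cf) (.leaf 0x62818bd0cf))))) (.node 20325 (.node 20322 (.node 20321 (.leaf 0x62818bd0cf) (.leaf 0x62818bd0cf)) (.node 20323 (.leaf 0x62818bd0cf) (.node 20324 (.leaf 0x62818bd0cf) (.leaf 0x62818bd0cf)))) (.node 20328 (.node 20326 (.leaf 0x62818bd0cf) (.node 20327 (.leaf 0x62818bd0cf) (.leaf 0x62818bd0cf))) (.node 20329 (.leaf 0x2818bd0cf) (.node 20330 (.leaf 0x2818bd0cf) (.leaf 0x2818bd0cf))))))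

def candS_1005 : Store := (.node 20341 (.node 20336 (.node 20333 (.node 20332 (.leaf 0x2818bd0cf) (.leaf 0x2818bd0cf)) (.node 20334 (.leaf 0x2818bd0cf) (.node 20335 (.leaf 0x2818bd0cf) (.leaf 0x2818bd0cf)))) (.node 20338 (.node 20337 (.leaf 0x2818bd0cf) (.leaf 0x2818bd0cf)) (.node 20339 (.leaf 0x2818bd0cf) (.node 20340 (.leaf 0x2818bd0cf) (.leaf 0x2c2818bd0cf))))) (.node 20346 (.node 20343 (.node 20342 (.leaf 0x2c2818bd0cf) (.leaf 0x2c2818bd0cf)) (.node 20344 (.leaf 0x2c2818bd0cf) (.node 20345 (.leaf 0x2c2818bd0cf) (.leaf 0x2c2818bd0cf)))) (.node 20348 (.node 20347 (.leaf 0x2c2818bd0cf) (.leaf 0x2c2818bd0cf)) (.node 20349 (.leaf 0x2c2818bd0cf) (.node 20350 (.leaf 0x2c2818bd0cf) (.leaf 0x2c2818bd0cf))))))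

def candS_1006 : Store := (.node 20361 (.node 20356 (.node 20353 (.node 20352 (.leaf 0x2c2818bd0cf) (.leaf 0x1800262818bd0cf)) (.node 20354 (.leaf 0x262818bd0cf) (.node 20355 (.leaf 0x262818bd0cf) (.leaf 0x262818bd0cf)))) (.node 20358 (.node 20357 (.leaf 0x262818bd0cf) (.leaf 0x262818bd0cf)) (.node 20359 (.leaf 0x3800262818bd0cf) (.node 20360 (.leaf 0x262818bd0cf) (.leaf 0x262818bd0cf))))) (.node 20366 (.node 20363 (.node 20362 (.leaf 0x262818bd0cf) (.leaf 0x9000262818bd0cf)) (.node 20364 (.leaf 0x2800262818bd0cf) (.node 20365 (.leaf 0x2818bd0cf) (.leaf 0x2818bd0cf)))) (.node 20368 (.node 20367 (.leaf 0x2818bd0cf) (.leaf 0x2818bd0cf)) (.node 20369 (.leaf 0x2818bd0cf) (.node 20370 (.leaf 0x2818bd0cf) (.leaf 0x2818bd0cf))))))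

def candS_1007 : Store := (.node 20381 (.node 20376 (.node 20373 (.node 20372 (.leaf 0x2818bd0cf) (.leaf 0x2818bd0cf)) (.node 20374 (.leaf 0x2818bd0cf) (.node 20375 (.leaf 0x2818bd0cf) (.leaf 0x2818bd0cf)))) (.node 20378 (.node 20377 (.leaf 0x2818bd0cf) (.leaf 0x2818bd0cf)) (.node 20379 (.leaf 0x2818bd0cf) (.node 20380 (.leaf 0x2818bd0cf) (.leaf 0x2818bd0cf))))) (.node 20386 (.node 20383 (.node 20382 (.leaf 0x2818bd0cf) (.leaf 0x2818bd0cf)) (.node 20384 (.leaf 0x2818bd0cf) (.node 20385 (.leaf 0x2818bd0cf) (.leaf 0x2818bd0cf)))) (.node 20388 (.node 20387 (.leaf 0x2818bd0cf) (.leaf 0x2818bd0cf)) (.node 20389 (.leaf 0x3e2818bd0cf) (.node 20390 (.leaf 0x3e2818bd0cf) (.leaf 0x3e2818bd0cf))))))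

def candS_1008 : Store := (.node 20401 (.node 20396 (.node 20393 (.node 20392 (.leaf 0x3e2818bd0cf) (.leaf 0x3e2818bd0cf)) (.node 20394 (.leaf 0x3e2818bd0cf) (.node 20395 (.leaf 0x3e2818bd0cf) (.leaf 0x3e2818bd0cf)))) (.node 20398 (.node 20397 (.leaf 0x3e2818bd0cf) (.leaf 0x3e2818bd0cf)) (.node 20399 (.leaf 0x3e2818bd0cf) (.node 20400 (.leaf 0x3e2818bd0cf) (.leaf 0x322818bd0cf))))) (.node 20406 (.node 20403 (.node 20402 (.leaf 0x322818bd0cf) (.leaf 0x322818bd0cf)) (.node 20404 (.leaf 0x322818bd0cf) (.node 20405 (.leaf 0x322818bd0cf) (.leaf 0x322818bd0cf)))) (.node 20409 (.node 20407 (.leaf 0x322818bd0cf) (.node 20408 (.leaf 0x322818bd0cf) (.leaf 0x322818bd0cf))) (.node 20410 (.leaf 0x322818bd0cf) (.node 20411 (.leaf 0x322818bd0cf) (.leaf 0x322818bd0cf))))))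

def candS_1009 : Store := (.node 20422 (.node 20417 (.node 20414 (.node 20413 (.leaf 0x2818bd0cf) (.leaf 0x2818bd0cf)) (.node 20415 (.leaf 0x2818bd0cf) (.node 20416 (.leaf 0x2818bd0cf) (.leaf 0x2818bd0cf)))) (.node 20419 (.node 20418 (.leaf 0x2818bd0cf) (.leaf 0x2818bd0cf)) (.node 20420 (.leaf 0x2818bd0cf) (.node 20421 (.leaf 0x2818bd0cf) (.leaf 0x2818bd0cf))))) (.node 20427 (.node 20424 (.node 20423 (.leaf 0x2818bd0cf) (.leaf 0x2818bd0cf)) (.node 20425 (.leaf 0x2818bd0cf) (.node 20426 (.leaf 0x2818bd0cf) (.leaf 0x2818bd0cf)))) (.node 20429 (.node 20428 (.leaf 0x2818bd0cf) (.leaf 0x2818bd0cf)) (.node 20430 (.leaf 0x2818bd0cf) (.node 20431 (.leaf 0x2818bd0cf) (.leaf 0x2818bd0cf))))))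

def candS_1010 : Store := (.node 20442 (.node 20437 (.node 20434 (.node 20433 (.leaf 0x2818bd0cf) (.leaf 0x2818bd0cf)) (.node 20435 (.leaf 0x2818bd0cf) (.node 20436 (.leaf 0x2818bd0cf) (.leaf 0x342818bd0cf)))) (.node 20439 (.node 20438 (.leaf 0x174) (.leaf 0x7a)) (.node 20440 (.leaf 0x342818bd0cf) (.node 20441 (.leaf 0x288) (.leaf 0x2d2))))) (.node 20447 (.node 20444 (.node 20443 (.leaf 0x342818bd0cf) (.leaf 0x342818bd0cf)) (.node 20445 (.leaf 0x342818bd0cf) (.node 20446 (.leaf 0x342818bd0cf) (.leaf 0x342818bd0cf)))) (.node 20449 (.node 20448 (.leaf 0x342818bd0cf) (.leaf 0x1c20bd0cf)) (.node 20450 (.leaf 0x1c20bd0cf) (.node 20451 (.leaf 0x1c20bd0cf) (.leaf 0x1c20bd0cf))))))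

def candS_1011 : Store := (.node 20462 (.node 20457 (.node 20454 (.node 20453 (.leaf 0x1c20bd0cf) (.leaf 0x1c20bd0cf)) (.node 20455 (.leaf 0x1c20bd0cf) (.node 20456 (.leaf 0x1c20bd0cf) (.leaf 0x1c20bd0cf)))) (.node 20459 (.node 20458 (.leaf 0x1c20bd0cf) (.leaf 0x1c20bd0cf)) (.node 20460 (.leaf 0x1c20bd0cf) (.node 20461 (.leaf 0x1c20bd0cf) (.leaf 0x1c20bd0cf))))) (.node 20467 (.node 20464 (.node 20463 (.leaf 0x1c20bd0cf) (.leaf 0x1c20bd0cf)) (.node 20465 (.leaf 0x1c20bd0cf) (.node 20466 (.leaf 0x1c20bd0cf) (.leaf 0x1c20bd0cf)))) (.node 20469 (.node 20468 (.leaf 0x1c20bd0cf) (.leaf 0x1c20bd0cf)) (.node 20470 (.leaf 0x1c20bd0cf) (.node 20471 (.leaf 0x1c20bd0cf) (.leaf 0x1c20bd0cf))))))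

def candS_1012 : Store := (.node 20482 (.node 20477 (.node 20474 (.node 20473 (.leaf 0x121c20bd0cf) (.leaf 0x121c20bd0cf)) (.node 20475 (.leaf 0x121c20bd0cf) (.node 20476 (.leaf 0x121c20bd0cf) (.leaf 0x121c20bd0cf)))) (.node 20479 (.node 20478 (.leaf 0x121c20bd0cf) (.leaf 0x121c20bd0cf)) (.node 20480 (.leaf 0x121c20bd0cf) (.node 20481 (.leaf 0x121c20bd0cf) (.leaf 0x121c20bd0cf))))) (.node 20487 (.node 20484 (.node 20483 (.leaf 0x121c20bd0cf) (.leaf 0x121c20bd0cf)) (.node 20485 (.leaf 0x461c20bd0cf) (.node 20486 (.leaf 0x461c20bd0cf) (.leaf 0x4800461c20bd0cf)))) (.node 20490 (.node 20488 (.leaf 0x461c20bd0cf) (.node 20489 (.leaf 0x1000461c20bd0cf) (.leaf 0x4000461c20bd0cf))) (.node 20491 (.leaf 0x461c20bd0cf) (.node 20492 (.leaf 0x461c20bd0cf) (.leaf 0x461c20bd0cf))))))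

def candS_1013 : Store := (.node 20503 (.node 20498 (.node 20495 (.node 20494 (.leaf 0x8800461c20bd0cf) (.leaf 0x461c20bd0cf)) (.node 20496 (.leaf 0x461c20bd0cf) (.node 20497 (.leaf 0x2c1c20bd0cf) (.leaf 0x2c1c20bd0cf)))) (.node 20500 (.node 20499 (.leaf 0x2c1c20bd0cf) (.leaf 0x2c1c20bd0cf)) (.node 20501 (.leaf 0x2c1c20bd0cf) (.node 20502 (.leaf 0x2c1c20bd0cf) (.leaf 0x2c1c20bd0cf))))) (.node 20508 (.node 20505 (.node 20504 (.leaf 0x2c1c20bd0cf) (.leaf 0x2c1c20bd0cf)) (.node 20506 (.leaf 0x2c1c20bd0cf) (.node 20507 (.leaf 0x2c1c20bd0cf) (.leaf 0x2c1c20bd0cf)))) (.node 20510 (.node 20509 (.leaf 0x2a1c20bd0cf) (.leaf 0x2a1c20bd0cf)) (.node 20511 (.leaf 0x2a1c20bd0cf) (.node 20512 (.leaf 0x2a1c20bd0cf) (.leaf 0x2a1c20bd0cf))))))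

def candS_1014 : Store := (.node 20523 (.node 20518 (.node 20515 (.node 20514 (.leaf 0x2a1c20bd0cf) (.leaf 0x2a1c20bd0cf)) (.node 20516 (.leaf 0x2a1c20bd0cf) (.node 20517 (.leaf 0x2a1c20bd0cf) (.leaf 0x2a1c20bd0cf)))) (.node 20520 (.node 20519 (.leaf 0x2a1c20bd0cf) (.leaf 0x2a1c20bd0cf)) (.node 20521 (.leaf 0x366) (.node 20522 (.leaf 0x1c1c20bd0cf) (.leaf 0x1c1c20bd0cf))))) (.node 20528 (.node 20525 (.node 20524 (.leaf 0x1bc) (.leaf 0x1c1c20bd0cf)) (.node 20526 (.leaf 0x1c1c20bd0cf) (.node 20527 (.leaf 0x38a) (.leaf 0x1c1c20bd0cf)))) (.node 20530 (.node 20529 (.leaf 0x1c1c20bd0cf) (.leaf 0x1c1c20bd0cf)) (.node 20531 (.leaf 0x1c1c20bd0cf) (.node 20532 (.leaf 0x24c) (.leaf 0x1c20bd0cf))))))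

def candS_1015 : Store := (.node 20543 (.node 20538 (.node 20535 (.node 20534 (.leaf 0x1c20bd0cf) (.leaf 0x1c20bd0cf)) (.node 20536 (.leaf 0x1c20bd0cf) (.node 20537 (.leaf 0x1c20bd0cf) (.leaf 0x1c20bd0cf)))) (.node 20540 (.node 20539 (.leaf 0x1c20bd0cf) (.leaf 0x1c20bd0cf)) (.node 20541 (.leaf 0x1c20bd0cf) (.node 20542 (.leaf 0x1c20bd0cf) (.leaf 0x1c20bd0cf))))) (.node 20548 (.node 20545 (.node 20544 (.leaf 0x1c20bd0cf) (.leaf 0x1c20bd0cf)) (.node 20546 (.leaf 0x1c20bd0cf) (.node 20547 (.leaf 0x1c20bd0cf) (.leaf 0x1c20bd0cf)))) (.node 20550 (.node 20549 (.leaf 0x1c20bd0cf) (.leaf 0x1c20bd0cf)) (.node 20551 (.leaf 0x1c20bd0cf) (.node 20552 (.leaf 0x1c20bd0cf) (.leaf 0x1c20bd0cf))))))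

def candS_1016 : Store := (.node 20563 (.node 20558 (.node 20555 (.node 20554 (.leaf 0x1c20bd0cf) (.leaf 0x1c20bd0cf)) (.node 20556 (.leaf 0x1c20bd0cf) (.node 20557 (.leaf 0x1c20bd0cf) (.leaf 0x1c20bd0cf)))) (.node 20560 (.node 20559 (.leaf 0x1c20bd0cf) (.leaf 0x1c20bd0cf)) (.node 20561 (.leaf 0x1c20bd0cf) (.node 20562 (.leaf 0x1c20bd0cf) (.leaf 0x1c20bd0cf))))) (.node 20568 (.node 20565 (.node 20564 (.leaf 0x1c20bd0cf) (.leaf 0x1c20bd0cf)) (.node 20566 (.leaf 0x1c20bd0cf) (.node 20567 (.leaf 0x1c20bd0cf) (.leaf 0x1c20bd0cf)))) (.node 20571 (.node 20569 (.leaf 0x441c20bd0cf) (.node 20570 (.leaf 0x441c20bd0cf) (.leaf 0x441c20bd0cf))) (.node 20572 (.leaf 0x441c20bd0cf) (.node 20573 (.leaf 0x441c20bd0cf) (.leaf 0x441c20bd0cf))))))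

def candS_1017 : Store := (.node 20584 (.node 20579 (.node 20576 (.node 20575 (.leaf 0x441c20bd0cf) (.leaf 0x441c20bd0cf)) (.node 20577 (.leaf 0x441c20bd0cf) (.node 20578 (.leaf 0x441c20bd0cf) (.leaf 0x441c20bd0cf)))) (.node 20581 (.node 20580 (.leaf 0x441c20bd0cf) (.leaf 0x1c20bd0cf)) (.node 20582 (.leaf 0x1c20bd0cf) (.node 20583 (.leaf 0x1c20bd0cf) (.leaf 0x1c20bd0cf))))) (.node 20589 (.node 20586 (.node 20585 (.leaf 0x1c20bd0cf) (.leaf 0x1c20bd0cf)) (.node 20587 (.leaf 0x1c20bd0cf) (.node 20588 (.leaf 0x1c20bd0cf) (.leaf 0x1c20bd0cf)))) (.node 20591 (.node 20590 (.leaf 0x1c20bd0cf) (.leaf 0x1c20bd0cf)) (.node 20592 (.leaf 0x1c20bd0cf) (.node 20593 (.leaf 0x2e233d0cf) (.leaf 0x2e233d0cf))))))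

def candS_1018 : Store := (.node 20604 (.node 20599 (.node 20596 (.node 20595 (.leaf 0x2e233d0cf) (.leaf 0x2e233d0cf)) (.node 20597 (.leaf 0x2e233d0cf) (.node 20598 (.leaf 0x2e233d0cf) (.leaf 0x2e233d0cf)))) (.node 20601 (.node 20600 (.leaf 0x2e233d0cf) (.leaf 0x2e233d0cf)) (.node 20602 (.leaf 0x2e233d0cf) (.node 20603 (.leaf 0x2e233d0cf) (.leaf 0x2e233d0cf))))) (.node 20609 (.node 20606 (.node 20605 (.leaf 0x2e233d0cf) (.leaf 0x2e233d0cf)) (.node 20607 (.leaf 0x2e233d0cf) (.node 20608 (.leaf 0x2e233d0cf) (.leaf 0x2e233d0cf)))) (.node 20611 (.node 20610 (.leaf 0x2e233d0cf) (.leaf 0x2e233d0cf)) (.node 20612 (.leaf 0x2e233d0cf) (.node 20613 (.leaf 0x2e233d0cf) (.leaf 0x2e233d0cf))))))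

def candS_1019 : Store := (.node 20624 (.node 20619 (.node 20616 (.node 20615 (.leaf 0x2e233d0cf) (.leaf 0x2e233d0cf)) (.node 20617 (.leaf 0x2e233d0cf) (.node 20618 (.leaf 0x2e233d0cf) (.leaf 0x2e233d0cf)))) (.node 20621 (.node 20620 (.leaf 0x2e233d0cf) (.leaf 0x2e233d0cf)) (.node 20622 (.leaf 0x2e233d0cf) (.node 20623 (.leaf 0x2e233d0cf) (.leaf 0x2e233d0cf))))) (.node 20629 (.node 20626 (.node 20625 (.leaf 0x2e233d0cf) (.leaf 0x2e233d0cf)) (.node 20627 (.leaf 0x2e233d0cf) (.node 20628 (.leaf 0x2e233d0cf) (.leaf 0x2e233d0cf)))) (.node 20631 (.node 20630 (.leaf 0x2e233d0cf) (.leaf 0x2e233d0cf)) (.node 20632 (.leaf 0x2e233d0cf) (.node 20633 (.leaf 0x2e233d0cf) (.leaf 0x2e233d0cf))))))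

def candS_1020 : Store := (.node 20644 (.node 20639 (.node 20636 (.node 20635 (.leaf 0x2e233d0cf) (.leaf 0x2e233d0cf)) (.node 20637 (.leaf 0x2e233d0cf) (.node 20638 (.leaf 0x2e233d0cf) (.leaf 0x2e233d0cf)))) (.node 20641 (.node 20640 (.leaf 0x2e233d0cf) (.leaf 0x162e233d0cf)) (.node 20642 (.leaf 0x162e233d0cf) (.node 20643 (.leaf 0x162e233d0cf) (.leaf 0x162e233d0cf))))) (.node 20649 (.node 20646 (.node 20645 (.leaf 0x162e233d0cf) (.leaf 0x162e233d0cf)) (.node 20647 (.leaf 0x162e233d0cf) (.node 20648 (.leaf 0x162e233d0cf) (.leaf 0x162e233d0cf)))) (.node 20652 (.node 20650 (.leaf 0x162e233d0cf) (.node 20651 (.leaf 0x162e233d0cf) (.leaf 0x162e233d0cf))) (.node 20653 (.leaf 0x362e233d0cf) (.node 20654 (.leaf 0x362e233d0cf) (.leaf 0x362e233d0cf))))))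

def candS_1021 : Store := (.node 20665 (.node 20660 (.node 20657 (.node 20656 (.leaf 0x362e233d0cf) (.leaf 0x362e233d0cf)) (.node 20658 (.leaf 0x362e233d0cf) (.node 20659 (.leaf 0x362e233d0cf) (.leaf 0x362e233d0cf)))) (.node 20662 (.node 20661 (.leaf 0x362e233d0cf) (.leaf 0x362e233d0cf)) (.node 20663 (.leaf 0x362e233d0cf) (.node 20664 (.leaf 0x362e233d0cf) (.leaf 0x380))))) (.node 20670 (.node 20667 (.node 20666 (.leaf 0x2e233d0cf) (.leaf 0x2e233d0cf)) (.node 20668 (.leaf 0x22e) (.node 20669 (.leaf 0x2e233d0cf) (.leaf 0x2e233d0cf)))) (.node 20672 (.node 20671 (.leaf 0x1ce) (.leaf 0x2e233d0cf)) (.node 20673 (.leaf 0x2e233d0cf) (.node 20674 (.leaf 0x2e233d0cf) (.leaf 0xc2))))))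

def candS_1022 : Store := (.node 20685 (.node 20680 (.node 20677 (.node 20676 (.leaf 0x2e233d0cf) (.leaf 0x2e233d0cf)) (.node 20678 (.leaf 0x2e233d0cf) (.node 20679 (.leaf 0x2e233d0cf) (.leaf 0x2e233d0cf)))) (.node 20682 (.node 20681 (.leaf 0x2e233d0cf) (.leaf 0x2e233d0cf)) (.node 20683 (.leaf 0x2e233d0cf) (.node 20684 (.leaf 0x2e233d0cf) (.leaf 0x2e233d0cf))))) (.node 20690 (.node 20687 (.node 20686 (.leaf 0x2e233d0cf) (.leaf 0x2e233d0cf)) (.node 20688 (.leaf 0x2e233d0cf) (.node 20689 (.leaf 0x62e233d0cf) (.leaf 0x800062e233d0cf)))) (.node 20692 (.node 20691 (.leaf 0x6800062e233d0cf) (.leaf 0x62e233d0cf)) (.node 20693 (.leaf 0x62e233d0cf) (.node 20694 (.leaf 0x5800062e233d0cf) (.leaf 0x62e233d0cf))))))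

def candS_1023 : Store := (.node 20705 (.node 20700 (.node 20697 (.node 20696 (.leaf 0x62e233d0cf) (.leaf 0x62e233d0cf)) (.node 20698 (.leaf 0x5000062e233d0cf) (.node 20699 (.leaf 0x62e233d0cf) (.leaf 0x62e233d0cf)))) (.node 20702 (.node 20701 (.leaf 0x262e233d0cf) (.leaf 0x262e233d0cf)) (.node 20703 (.leaf 0x262e233d0cf) (.node 20704 (.leaf 0x262e233d0cf) (.leaf 0x262e233d0cf))))) (.node 20710 (.node 20707 (.node 20706 (.leaf 0x262e233d0cf) (.leaf 0x262e233d0cf)) (.node 20708 (.leaf 0x262e233d0cf) (.node 20709 (.leaf 0x262e233d0cf) (.leaf 0x262e233d0cf)))) (.node 20712 (.node 20711 (.leaf 0x262e233d0cf) (.leaf 0x262e233d0cf)) (.node 20713 (.leaf 0x3c2e233d0cf) (.node 20714 (.leaf 0x3c2e233d0cf) (.leaf 0x3c2e233d0cf))))))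

def candS_1024 : Store := (.node 20725 (.node 20720 (.node 20717 (.node 20716 (.leaf 0x3c2e233d0cf) (.leaf 0x3c2e233d0cf)) (.node 20718 (.leaf 0x3c2e233d0cf) (.node 20719 (.leaf 0x3c2e233d0cf) (.leaf 0x3c2e233d0cf)))) (.node 20722 (.node 20721 (.leaf 0x3c2e233d0cf) (.leaf 0x3c2e233d0cf)) (.node 20723 (.leaf 0x3c2e233d0cf) (.node 20724 (.leaf 0x3c2e233d0cf) (.leaf 0x2e233d0cf))))) (.node 20730 (.node 20727 (.node 20726 (.leaf 0x2e233d0cf) (.leaf 0x2e233d0cf)) (.node 20728 (.leaf 0x2e233d0cf) (.node 20729 (.leaf 0x2e233d0cf) (.leaf 0x2e233d0cf)))) (.node 20733 (.node 20731 (.leaf 0x2e233d0cf) (.node 20732 (.leaf 0x2e233d0cf) (.leaf 0x2e233d0cf))) (.node 20734 (.leaf 0x2e233d0cf) (.node 20735 (.leaf 0x2e233d0cf) (.leaf 0x2e233d0cf))))))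

def candS_1025 : Store := (.node 20746 (.node 20741 (.node 20738 (.node 20737 (.leaf 0x1) (.leaf 0x1)) (.node 20739 (.leaf 0x1) (.node 20740 (.leaf 0x1) (.leaf 0x1)))) (.node 20743 (.node 20742 (.leaf 0x1) (.leaf 0x1)) (.node 20744 (.leaf 0x1) (.node 20745 (.leaf 0x1) (.leaf 0x1))))) (.node 20751 (.node 20748 (.node 20747 (.leaf 0x1) (.leaf 0x1)) (.node 20749 (.leaf 0x1) (.node 20750 (.leaf 0x1) (.leaf 0x1)))) (.node 20753 (.node 20752 (.leaf 0x1) (.leaf 0x1)) (.node 20754 (.leaf 0x1) (.node 20755 (.leaf 0x1) (.leaf 0x1))))))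

def candS_1026 : Store := (.node 20766 (.node 20761 (.node 20758 (.node 20757 (.leaf 0x1) (.leaf 0x1)) (.node 20759 (.leaf 0x1) (.node 20760 (.leaf 0x1) (.leaf 0x1)))) (.node 20763 (.node 20762 (.leaf 0x1) (.leaf 0x1)) (.node 20764 (.leaf 0x1) (.node 20765 (.leaf 0x1) (.leaf 0x1))))) (.node 20771 (.node 20768 (.node 20767 (.leaf 0x1) (.leaf 0x1)) (.node 20769 (.leaf 0x1) (.node 20770 (.leaf 0x1) (.leaf 0x1)))) (.node 20773 (.node 20772 (.leaf 0x1) (.leaf 0x1)) (.node 20774 (.leaf 0x1) (.node 20775 (.leaf 0x1) (.leaf 0x1))))))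

def candS_1027 : Store := (.node 20786 (.node 20781 (.node 20778 (.node 20777 (.leaf 0x1) (.leaf 0x1)) (.node 20779 (.leaf 0x1) (.node 20780 (.leaf 0x1) (.leaf 0x1)))) (.node 20783 (.node 20782 (.leaf 0x1) (.leaf 0x1)) (.node 20784 (.leaf 0x1) (.node 20785 (.leaf 0x1) (.leaf 0x1))))) (.node 20791 (.node 20788 (.node 20787 (.leaf 0x1) (.leaf 0x1)) (.node 20789 (.leaf 0x1) (.node 20790 (.leaf 0x1) (.leaf 0x1)))) (.node 20793 (.node 20792 (.leaf 0x1) (.leaf 0x1)) (.node 20794 (.leaf 0x1) (.node 20795 (.leaf 0x1) (.leaf 0x1))))))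

def candS_1028 : Store := (.node 20806 (.node 20801 (.node 20798 (.node 20797 (.leaf 0x1) (.leaf 0x1)) (.node 20799 (.leaf 0x1) (.node 20800 (.leaf 0x1) (.leaf 0x1)))) (.node 20803 (.node 20802 (.leaf 0x1) (.leaf 0x1)) (.node 20804 (.leaf 0x1) (.node 20805 (.leaf 0x1) (.leaf 0x1))))) (.node 20811 (.node 20808 (.node 20807 (.leaf 0x1) (.leaf 0x1)) (.node 20809 (.leaf 0x1) (.node 20810 (.leaf 0x1) (.leaf 0x1)))) (.node 20814 (.node 20812 (.leaf 0x1) (.node 20813 (.leaf 0x1) (.leaf 0x1))) (.node 20815 (.leaf 0x1) (.node 20816 (.leaf 0x1) (.leaf 0x1))))))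

def candS_1029 : Store := (.node 20827 (.node 20822 (.node 20819 (.node 20818 (.leaf 0x1) (.leaf 0x1)) (.node 20820 (.leaf 0x1) (.node 20821 (.leaf 0x1) (.leaf 0x1)))) (.node 20824 (.node 20823 (.leaf 0x1) (.leaf 0x1)) (.node 20825 (.leaf 0x1) (.node 20826 (.leaf 0x1) (.leaf 0x1))))) (.node 20832 (.node 20829 (.node 20828 (.leaf 0x1) (.leaf 0x1)) (.node 20830 (.leaf 0x1) (.node 20831 (.leaf 0x1) (.leaf 0x1)))) (.node 20834 (.node 20833 (.leaf 0x1) (.leaf 0x1)) (.node 20835 (.leaf 0x1) (.node 20836 (.leaf 0x1) (.leaf 0x1))))))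

def candS_1030 : Store := (.node 20847 (.node 20842 (.node 20839 (.node 20838 (.leaf 0x1) (.leaf 0x1)) (.node 20840 (.leaf 0x1) (.node 20841 (.leaf 0x1) (.leaf 0x1)))) (.node 20844 (.node 20843 (.leaf 0x1) (.leaf 0x1)) (.node 20845 (.leaf 0x1) (.node 20846 (.leaf 0x1) (.leaf 0x1))))) (.node 20852 (.node 20849 (.node 20848 (.leaf 0x1) (.leaf 0x1)) (.node 20850 (.leaf 0x1) (.node 20851 (.leaf 0x1) (.leaf 0x1)))) (.node 20854 (.node 20853 (.leaf 0x1) (.leaf 0x1)) (.node 20855 (.leaf 0x1) (.node 20856 (.leaf 0x1) (.leaf 0x1))))))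

def candS_1031 : Store := (.node 20867 (.node 20862 (.node 20859 (.node 20858 (.leaf 0x1) (.leaf 0x1)) (.node 20860 (.leaf 0x1) (.node 20861 (.leaf 0x1) (.leaf 0x1)))) (.node 20864 (.node 20863 (.leaf 0x1) (.leaf 0x1)) (.node 20865 (.leaf 0x1) (.node 20866 (.leaf 0x1) (.leaf 0x1))))) (.node 20872 (.node 20869 (.node 20868 (.leaf 0x1) (.leaf 0x1)) (.node 20870 (.leaf 0x1) (.node 20871 (.leaf 0x1) (.leaf 0x1)))) (.node 20874 (.node 20873 (.leaf 0x1) (.leaf 0x1)) (.node 20875 (.leaf 0x1) (.node 20876 (.leaf 0x1) (.leaf 0x1))))))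

def candS_1032 : Store := (.node 20887 (.node 20882 (.node 20879 (.node 20878 (.leaf 0x1) (.leaf 0x1)) (.node 20880 (.leaf 0x1) (.node 20881 (.leaf 0x1) (.leaf 0x1)))) (.node 20884 (.node 20883 (.leaf 0x1) (.leaf 0x1)) (.node 20885 (.leaf 0x1) (.node 20886 (.leaf 0x1) (.leaf 0x1))))) (.node 20892 (.node 20889 (.node 20888 (.leaf 0x1) (.leaf 0x1)) (.node 20890 (.leaf 0x1) (.node 20891 (.leaf 0x1) (.leaf 0x1)))) (.node 20895 (.node 20893 (.leaf 0x1) (.node 20894 (.leaf 0x1) (.leaf 0x1))) (.node 20896 (.leaf 0x1) (.node 20897 (.leaf 0x1) (.leaf 0x1))))))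

def candS_1033 : Store := (.node 20908 (.node 20903 (.node 20900 (.node 20899 (.leaf 0x1) (.leaf 0x1)) (.node 20901 (.leaf 0x1) (.node 20902 (.leaf 0x1) (.leaf 0x1)))) (.node 20905 (.node 20904 (.leaf 0x1) (.leaf 0x1)) (.node 20906 (.leaf 0x1) (.node 20907 (.leaf 0x1) (.leaf 0x1))))) (.node 20913 (.node 20910 (.node 20909 (.leaf 0x1) (.leaf 0x1)) (.node 20911 (.leaf 0x1) (.node 20912 (.leaf 0x1) (.leaf 0x1)))) (.node 20915 (.node 20914 (.leaf 0x1) (.leaf 0x1)) (.node 20916 (.leaf 0x1) (.node 20917 (.leaf 0x1) (.leaf 0x1))))))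

def candS_1034 : Store := (.node 20928 (.node 20923 (.node 20920 (.node 20919 (.leaf 0x1) (.leaf 0x1)) (.node 20921 (.leaf 0x1) (.node 20922 (.leaf 0x1) (.leaf 0x1)))) (.node 20925 (.node 20924 (.leaf 0x1) (.leaf 0x1)) (.node 20926 (.leaf 0x1) (.node 20927 (.leaf 0x1) (.leaf 0x1))))) (.node 20933 (.node 20930 (.node 20929 (.leaf 0x1) (.leaf 0x1)) (.node 20931 (.leaf 0x1) (.node 20932 (.leaf 0x1) (.leaf 0x1)))) (.node 20935 (.node 20934 (.leaf 0x1) (.leaf 0x1)) (.node 20936 (.leaf 0x1) (.node 20937 (.leaf 0x1) (.leaf 0x1))))))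

def candS_1035 : Store := (.node 20948 (.node 20943 (.node 20940 (.node 20939 (.leaf 0x1) (.leaf 0x1)) (.node 20941 (.leaf 0x1) (.node 20942 (.leaf 0x1) (.leaf 0x1)))) (.node 20945 (.node 20944 (.leaf 0x1) (.leaf 0x1)) (.node 20946 (.leaf 0x1) (.node 20947 (.leaf 0x1) (.leaf 0x1))))) (.node 20953 (.node 20950 (.node 20949 (.leaf 0x1) (.leaf 0x1)) (.node 20951 (.leaf 0x1) (.node 20952 (.leaf 0x1) (.leaf 0x1)))) (.node 20955 (.node 20954 (.leaf 0x1) (.leaf 0x1)) (.node 20956 (.leaf 0x1) (.node 20957 (.leaf 0x1) (.leaf 0x1))))))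

def candS_1036 : Store := (.node 20968 (.node 20963 (.node 20960 (.node 20959 (.leaf 0x1) (.leaf 0x1)) (.node 20961 (.leaf 0x1) (.node 20962 (.leaf 0x1) (.leaf 0x1)))) (.node 20965 (.node 20964 (.leaf 0x1) (.leaf 0x1)) (.node 20966 (.leaf 0x1) (.node 20967 (.leaf 0x1) (.leaf 0x1))))) (.node 20973 (.node 20970 (.node 20969 (.leaf 0x1) (.leaf 0x1)) (.node 20971 (.leaf 0x1) (.node 20972 (.leaf 0x1) (.leaf 0x1)))) (.node 20976 (.node 20974 (.leaf 0x1) (.node 20975 (.leaf 0x1) (.leaf 0x1))) (.node 20977 (.leaf 0x1) (.node 20978 (.leaf 0x1) (.leaf 0x1))))))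

def candS_1037 : Store := (.node 20989 (.node 20984 (.node 20981 (.node 20980 (.leaf 0x1) (.leaf 0x1)) (.node 20982 (.leaf 0x1) (.node 20983 (.leaf 0x1) (.leaf 0x1)))) (.node 20986 (.node 20985 (.leaf 0x1) (.leaf 0x1)) (.node 20987 (.leaf 0x1) (.node 20988 (.leaf 0x1) (.leaf 0x1))))) (.node 20994 (.node 20991 (.node 20990 (.leaf 0x1) (.leaf 0x1)) (.node 20992 (.leaf 0x1) (.node 20993 (.leaf 0x1) (.leaf 0x1)))) (.node 20996 (.node 20995 (.leaf 0x1) (.leaf 0x1)) (.node 20997 (.leaf 0x1) (.node 20998 (.leaf 0x1) (.leaf 0x1))))))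

def candS_1038 : Store := (.node 21009 (.node 21004 (.node 21001 (.node 21000 (.leaf 0x1) (.leaf 0x1)) (.node 21002 (.leaf 0x1) (.node 21003 (.leaf 0x1) (.leaf 0x1)))) (.node 21006 (.node 21005 (.leaf 0x1) (.leaf 0x1)) (.node 21007 (.leaf 0x1) (.node 21008 (.leaf 0x1) (.leaf 0x1))))) (.node 21014 (.node 21011 (.node 21010 (.leaf 0x1) (.leaf 0x1)) (.node 21012 (.leaf 0x1) (.node 21013 (.leaf 0x1) (.leaf 0x1)))) (.node 21016 (.node 21015 (.leaf 0x1) (.leaf 0x1)) (.node 21017 (.leaf 0x1) (.node 21018 (.leaf 0x1) (.leaf 0x1))))))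

def candS_1039 : Store := (.node 21029 (.node 21024 (.node 21021 (.node 21020 (.leaf 0x1) (.leaf 0x1)) (.node 21022 (.leaf 0x1) (.node 21023 (.leaf 0x1) (.leaf 0x1)))) (.node 21026 (.node 21025 (.leaf 0x1) (.leaf 0x1)) (.node 21027 (.leaf 0x1) (.node 21028 (.leaf 0x1) (.leaf 0x1))))) (.node 21034 (.node 21031 (.node 21030 (.leaf 0x1) (.leaf 0x1)) (.node 21032 (.leaf 0x1) (.node 21033 (.leaf 0x1) (.leaf 0x1)))) (.node 21036 (.node 21035 (.leaf 0x1) (.leaf 0x1)) (.node 21037 (.leaf 0x1) (.node 21038 (.leaf 0x1) (.leaf 0x1))))))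

def candS_1040 : Store := (.node 21049 (.node 21044 (.node 21041 (.node 21040 (.leaf 0x1) (.leaf 0x1)) (.node 21042 (.leaf 0x1) (.node 21043 (.leaf 0x1) (.leaf 0x1)))) (.node 21046 (.node 21045 (.leaf 0x1) (.leaf 0x1)) (.node 21047 (.leaf 0x1) (.node 21048 (.leaf 0x1) (.leaf 0x1))))) (.node 21054 (.node 21051 (.node 21050 (.leaf 0x1) (.leaf 0x1)) (.node 21052 (.leaf 0x1) (.node 21053 (.leaf 0x1) (.leaf 0x1)))) (.node 21057 (.node 21055 (.leaf 0x1) (.node 21056 (.leaf 0x1) (.leaf 0x1))) (.node 21058 (.leaf 0x1) (.node 21059 (.leaf 0x1) (.leaf 0x1))))))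

def candS_1041 : Store := (.node 21070 (.node 21065 (.node 21062 (.node 21061 (.leaf 0x1) (.leaf 0x1)) (.node 21063 (.leaf 0x1) (.node 21064 (.leaf 0x1) (.leaf 0x1)))) (.node 21067 (.node 21066 (.leaf 0x1) (.leaf 0x1)) (.node 21068 (.leaf 0x1) (.node 21069 (.leaf 0x1) (.leaf 0x1))))) (.node 21075 (.node 21072 (.node 21071 (.leaf 0x1) (.leaf 0x1)) (.node 21073 (.leaf 0x1) (.node 21074 (.leaf 0x1) (.leaf 0x1)))) (.node 21077 (.node 21076 (.leaf 0x1) (.leaf 0x1)) (.node 21078 (.leaf 0x1) (.node 21079 (.leaf 0x1) (.leaf 0x1))))))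

def candS_1042 : Store := (.node 21090 (.node 21085 (.node 21082 (.node 21081 (.leaf 0x1) (.leaf 0x1)) (.node 21083 (.leaf 0x1) (.node 21084 (.leaf 0x1) (.leaf 0x1)))) (.node 21087 (.node 21086 (.leaf 0x1) (.leaf 0x1)) (.node 21088 (.leaf 0x1) (.node 21089 (.leaf 0x1) (.leaf 0x1))))) (.node 21095 (.node 21092 (.node 21091 (.leaf 0x1) (.leaf 0x1)) (.node 21093 (.leaf 0x1) (.node 21094 (.leaf 0x1) (.leaf 0x1)))) (.node 21097 (.node 21096 (.leaf 0x1) (.leaf 0x1)) (.node 21098 (.leaf 0x1) (.node 21099 (.leaf 0x1) (.leaf 0x1))))))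

def candS_1043 : Store := (.node 21110 (.node 21105 (.node 21102 (.node 21101 (.leaf 0x1) (.leaf 0x1)) (.node 21103 (.leaf 0x1) (.node 21104 (.leaf 0x1) (.leaf 0x1)))) (.node 21107 (.node 21106 (.leaf 0x1) (.leaf 0x1)) (.node 21108 (.leaf 0x1) (.node 21109 (.leaf 0x1) (.leaf 0x1))))) (.node 21115 (.node 21112 (.node 21111 (.leaf 0x1) (.leaf 0x1)) (.node 21113 (.leaf 0x1) (.node 21114 (.leaf 0x1) (.leaf 0x1)))) (.node 21117 (.node 21116 (.leaf 0x1) (.leaf 0x1)) (.node 21118 (.leaf 0x1) (.node 21119 (.leaf 0x1) (.leaf 0x1))))))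

def candS_1044 : Store := (.node 21130 (.node 21125 (.node 21122 (.node 21121 (.leaf 0x1) (.leaf 0x1)) (.node 21123 (.leaf 0x1) (.node 21124 (.leaf 0x1) (.leaf 0x1)))) (.node 21127 (.node 21126 (.leaf 0x1) (.leaf 0x1)) (.node 21128 (.leaf 0x1) (.node 21129 (.leaf 0x1) (.leaf 0x1))))) (.node 21135 (.node 21132 (.node 21131 (.leaf 0x1) (.leaf 0x1)) (.node 21133 (.leaf 0x1) (.node 21134 (.leaf 0x1) (.leaf 0x1)))) (.node 21138 (.node 21136 (.leaf 0x1) (.node 21137 (.leaf 0x1) (.leaf 0x1))) (.node 21139 (.leaf 0x1) (.node 21140 (.leaf 0x1) (.leaf 0x1))))))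

def candS_1045 : Store := (.node 21151 (.node 21146 (.node 21143 (.node 21142 (.leaf 0x1) (.leaf 0x1)) (.node 21144 (.leaf 0x1) (.node 21145 (.leaf 0x1) (.leaf 0x1)))) (.node 21148 (.node 21147 (.leaf 0x1) (.leaf 0x1)) (.node 21149 (.leaf 0x1) (.node 21150 (.leaf 0x1) (.leaf 0x1))))) (.node 21156 (.node 21153 (.node 21152 (.leaf 0x1) (.leaf 0x1)) (.node 21154 (.leaf 0x1) (.node 21155 (.leaf 0x1) (.leaf 0x1)))) (.node 21158 (.node 21157 (.leaf 0x1) (.leaf 0x1)) (.node 21159 (.leaf 0x1) (.node 21160 (.leaf 0x1) (.leaf 0x1))))))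

def candS_1046 : Store := (.node 21171 (.node 21166 (.node 21163 (.node 21162 (.leaf 0x1) (.leaf 0x1)) (.node 21164 (.leaf 0x1) (.node 21165 (.leaf 0x1) (.leaf 0x1)))) (.node 21168 (.node 21167 (.leaf 0x1) (.leaf 0x1)) (.node 21169 (.leaf 0x1) (.node 21170 (.leaf 0x1) (.leaf 0x1))))) (.node 21176 (.node 21173 (.node 21172 (.leaf 0x1) (.leaf 0x1)) (.node 21174 (.leaf 0x1) (.node 21175 (.leaf 0x1) (.leaf 0x1)))) (.node 21178 (.node 21177 (.leaf 0x1) (.leaf 0x1)) (.node 21179 (.leaf 0x1) (.node 21180 (.leaf 0x1) (.leaf 0x1))))))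

def candS_1047 : Store := (.node 21191 (.node 21186 (.node 21183 (.node 21182 (.leaf 0x1) (.leaf 0x1)) (.node 21184 (.leaf 0x1) (.node 21185 (.leaf 0x1) (.leaf 0x1)))) (.node 21188 (.node 21187 (.leaf 0x1) (.leaf 0x1)) (.node 21189 (.leaf 0x1) (.node 21190 (.leaf 0x1) (.leaf 0x1))))) (.node 21196 (.node 21193 (.node 21192 (.leaf 0x1) (.leaf 0x1)) (.node 21194 (.leaf 0x1) (.node 21195 (.leaf 0x1) (.leaf 0x1)))) (.node 21198 (.node 21197 (.leaf 0x1) (.leaf 0x1)) (.node 21199 (.leaf 0x1) (.node 21200 (.leaf 0x1) (.leaf 0x1))))))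

def candS_1048 : Store := (.node 21211 (.node 21206 (.node 21203 (.node 21202 (.leaf 0x1) (.leaf 0x1)) (.node 21204 (.leaf 0x1) (.node 21205 (.leaf 0x1) (.leaf 0x1)))) (.node 21208 (.node 21207 (.leaf 0x1) (.leaf 0x1)) (.node 21209 (.leaf 0x1) (.node 21210 (.leaf 0x1) (.leaf 0x1))))) (.node 21216 (.node 21213 (.node 21212 (.leaf 0x1) (.leaf 0x1)) (.node 21214 (.leaf 0x1) (.node 21215 (.leaf 0x1) (.leaf 0x1)))) (.node 21219 (.node 21217 (.leaf 0x1) (.node 21218 (.leaf 0x1) (.leaf 0x1))) (.node 21220 (.leaf 0x1) (.node 21221 (.leaf 0x1) (.leaf 0x1))))))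

def candS_1049 : Store := (.node 21232 (.node 21227 (.node 21224 (.node 21223 (.leaf 0x1) (.leaf 0x1)) (.node 21225 (.leaf 0x1) (.node 21226 (.leaf 0x1) (.leaf 0x1)))) (.node 21229 (.node 21228 (.leaf 0x1) (.leaf 0x1)) (.node 21230 (.leaf 0x1) (.node 21231 (.leaf 0x1) (.leaf 0x1))))) (.node 21237 (.node 21234 (.node 21233 (.leaf 0x1) (.leaf 0x1)) (.node 21235 (.leaf 0x1) (.node 21236 (.leaf 0x1) (.leaf 0x1)))) (.node 21239 (.node 21238 (.leaf 0x1) (.leaf 0x1)) (.node 21240 (.leaf 0x1) (.node 21241 (.leaf 0x1) (.leaf 0x1))))))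

def candS_1050 : Store := (.node 21252 (.node 21247 (.node 21244 (.node 21243 (.leaf 0x1) (.leaf 0x1)) (.node 21245 (.leaf 0x1) (.node 21246 (.leaf 0x1) (.leaf 0x1)))) (.node 21249 (.node 21248 (.leaf 0x1) (.leaf 0x1)) (.node 21250 (.leaf 0x1) (.node 21251 (.leaf 0x1) (.leaf 0x1))))) (.node 21257 (.node 21254 (.node 21253 (.leaf 0x1) (.leaf 0x1)) (.node 21255 (.leaf 0x1) (.node 21256 (.leaf 0x1) (.leaf 0x1)))) (.node 21259 (.node 21258 (.leaf 0x1) (.leaf 0x1)) (.node 21260 (.leaf 0x1) (.node 21261 (.leaf 0x1) (.leaf 0x1))))))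

def candS_1051 : Store := (.node 21272 (.node 21267 (.node 21264 (.node 21263 (.leaf 0x1) (.leaf 0x1)) (.node 21265 (.leaf 0x1) (.node 21266 (.leaf 0x1) (.leaf 0x1)))) (.node 21269 (.node 21268 (.leaf 0x1) (.leaf 0x1)) (.node 21270 (.leaf 0x1) (.node 21271 (.leaf 0x1) (.leaf 0x1))))) (.node 21277 (.node 21274 (.node 21273 (.leaf 0x1) (.leaf 0x1)) (.node 21275 (.leaf 0x1) (.node 21276 (.leaf 0x1) (.leaf 0x1)))) (.node 21279 (.node 21278 (.leaf 0x1) (.leaf 0x1)) (.node 21280 (.leaf 0x1) (.node 21281 (.leaf 0x1) (.leaf 0x1))))))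

def candS_1052 : Store := (.node 21292 (.node 21287 (.node 21284 (.node 21283 (.leaf 0x1) (.leaf 0x1)) (.node 21285 (.leaf 0x1) (.node 21286 (.leaf 0x1) (.leaf 0x1)))) (.node 21289 (.node 21288 (.leaf 0x1) (.leaf 0x1)) (.node 21290 (.leaf 0x1) (.node 21291 (.leaf 0x1) (.leaf 0x1))))) (.node 21297 (.node 21294 (.node 21293 (.leaf 0x1) (.leaf 0x1)) (.node 21295 (.leaf 0x1) (.node 21296 (.leaf 0x1) (.leaf 0x1)))) (.node 21300 (.node 21298 (.leaf 0x1) (.node 21299 (.leaf 0x1) (.leaf 0x1))) (.node 21301 (.leaf 0x1) (.node 21302 (.leaf 0x1) (.leaf 0x1))))))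

def candS_1053 : Store := (.node 21313 (.node 21308 (.node 21305 (.node 21304 (.leaf 0x1) (.leaf 0x1)) (.node 21306 (.leaf 0x1) (.node 21307 (.leaf 0x1) (.leaf 0x1)))) (.node 21310 (.node 21309 (.leaf 0x1) (.leaf 0x1)) (.node 21311 (.leaf 0x1) (.node 21312 (.leaf 0x1) (.leaf 0x1))))) (.node 21318 (.node 21315 (.node 21314 (.leaf 0x1) (.leaf 0x1)) (.node 21316 (.leaf 0x1) (.node 21317 (.leaf 0x1) (.leaf 0x1)))) (.node 21320 (.node 21319 (.leaf 0x1) (.leaf 0x1)) (.node 21321 (.leaf 0x1) (.node 21322 (.leaf 0x1) (.leaf 0x1))))))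

def candS_1054 : Store := (.node 21333 (.node 21328 (.node 21325 (.node 21324 (.leaf 0x1) (.leaf 0x1)) (.node 21326 (.leaf 0x1) (.node 21327 (.leaf 0x1) (.leaf 0x1)))) (.node 21330 (.node 21329 (.leaf 0x1) (.leaf 0x1)) (.node 21331 (.leaf 0x1) (.node 21332 (.leaf 0x1) (.leaf 0x1))))) (.node 21338 (.node 21335 (.node 21334 (.leaf 0x1) (.leaf 0x1)) (.node 21336 (.leaf 0x1) (.node 21337 (.leaf 0x1) (.leaf 0x1)))) (.node 21340 (.node 21339 (.leaf 0x1) (.leaf 0x1)) (.node 21341 (.leaf 0x1) (.node 21342 (.leaf 0x1) (.leaf 0x1))))))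

def candS_1055 : Store := (.node 21353 (.node 21348 (.node 21345 (.node 21344 (.leaf 0x1) (.leaf 0x1)) (.node 21346 (.leaf 0x1) (.node 21347 (.leaf 0x1) (.leaf 0x1)))) (.node 21350 (.node 21349 (.leaf 0x1) (.leaf 0x1)) (.node 21351 (.leaf 0x1) (.node 21352 (.leaf 0x1) (.leaf 0x1))))) (.node 21358 (.node 21355 (.node 21354 (.leaf 0x1) (.leaf 0x1)) (.node 21356 (.leaf 0x1) (.node 21357 (.leaf 0x1) (.leaf 0x1)))) (.node 21360 (.node 21359 (.leaf 0x1) (.leaf 0x1)) (.node 21361 (.leaf 0x1) (.node 21362 (.leaf 0x1) (.leaf 0x1))))))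

def candS_1056 : Store := (.node 21373 (.node 21368 (.node 21365 (.node 21364 (.leaf 0x1) (.leaf 0x1)) (.node 21366 (.leaf 0x1) (.node 21367 (.leaf 0x1) (.leaf 0x1)))) (.node 21370 (.node 21369 (.leaf 0x1) (.leaf 0x1)) (.node 21371 (.leaf 0x1) (.node 21372 (.leaf 0x1) (.leaf 0x1))))) (.node 21378 (.node 21375 (.node 21374 (.leaf 0x1) (.leaf 0x1)) (.node 21376 (.leaf 0x1) (.node 21377 (.leaf 0x1) (.leaf 0x1)))) (.node 21381 (.node 21379 (.leaf 0x1) (.node 21380 (.leaf 0x1) (.leaf 0x1))) (.node 21382 (.leaf 0x1) (.node 21383 (.leaf 0x1) (.leaf 0x1))))))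

def candS_1057 : Store := (.node 21394 (.node 21389 (.node 21386 (.node 21385 (.leaf 0x1) (.leaf 0x1)) (.node 21387 (.leaf 0x1) (.node 21388 (.leaf 0x1) (.leaf 0x1)))) (.node 21391 (.node 21390 (.leaf 0x1) (.leaf 0x1)) (.node 21392 (.leaf 0x1) (.node 21393 (.leaf 0x1) (.leaf 0x1))))) (.node 21399 (.node 21396 (.node 21395 (.leaf 0x1) (.leaf 0x1)) (.node 21397 (.leaf 0x1) (.node 21398 (.leaf 0x1) (.leaf 0x1)))) (.node 21401 (.node 21400 (.leaf 0x1) (.leaf 0x1)) (.node 21402 (.leaf 0x1) (.node 21403 (.leaf 0x1) (.leaf 0x1))))))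

def candS_1058 : Store := (.node 21414 (.node 21409 (.node 21406 (.node 21405 (.leaf 0x1) (.leaf 0x1)) (.node 21407 (.leaf 0x1) (.node 21408 (.leaf 0x1) (.leaf 0x1)))) (.node 21411 (.node 21410 (.leaf 0x1) (.leaf 0x1)) (.node 21412 (.leaf 0x1) (.node 21413 (.leaf 0x1) (.leaf 0x1))))) (.node 21419 (.node 21416 (.node 21415 (.leaf 0x1) (.leaf 0x1)) (.node 21417 (.leaf 0x1) (.node 21418 (.leaf 0x1) (.leaf 0x1)))) (.node 21421 (.node 21420 (.leaf 0x1) (.leaf 0x1)) (.node 21422 (.leaf 0x1) (.node 21423 (.leaf 0x1) (.leaf 0x1))))))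

def candS_1059 : Store := (.node 21434 (.node 21429 (.node 21426 (.node 21425 (.leaf 0x1) (.leaf 0x1)) (.node 21427 (.leaf 0x1) (.node 21428 (.leaf 0x1) (.leaf 0x1)))) (.node 21431 (.node 21430 (.leaf 0x1) (.leaf 0x1)) (.node 21432 (.leaf 0x1) (.node 21433 (.leaf 0x1) (.leaf 0x1))))) (.node 21439 (.node 21436 (.node 21435 (.leaf 0x1) (.leaf 0x1)) (.node 21437 (.leaf 0x1) (.node 21438 (.leaf 0x1) (.leaf 0x1)))) (.node 21441 (.node 21440 (.leaf 0x1) (.leaf 0x1)) (.node 21442 (.leaf 0x1) (.node 21443 (.leaf 0x1) (.leaf 0x1))))))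

def candS_1060 : Store := (.node 21454 (.node 21449 (.node 21446 (.node 21445 (.leaf 0x1) (.leaf 0x1)) (.node 21447 (.leaf 0x1) (.node 21448 (.leaf 0x1) (.leaf 0x1)))) (.node 21451 (.node 21450 (.leaf 0x1) (.leaf 0x1)) (.node 21452 (.leaf 0x1) (.node 21453 (.leaf 0x1) (.leaf 0x1))))) (.node 21459 (.node 21456 (.node 21455 (.leaf 0x1) (.leaf 0x1)) (.node 21457 (.leaf 0x1) (.node 21458 (.leaf 0x1) (.leaf 0x1)))) (.node 21462 (.node 21460 (.leaf 0x1) (.node 21461 (.leaf 0x1) (.leaf 0x1))) (.node 21463 (.leaf 0x1) (.node 21464 (.leaf 0x1) (.leaf 0x1))))))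

def candS_1061 : Store := (.node 21475 (.node 21470 (.node 21467 (.node 21466 (.leaf 0x1) (.leaf 0x1)) (.node 21468 (.leaf 0x1) (.node 21469 (.leaf 0x1) (.leaf 0x1)))) (.node 21472 (.node 21471 (.leaf 0x1) (.leaf 0x1)) (.node 21473 (.leaf 0x1) (.node 21474 (.leaf 0x1) (.leaf 0x1))))) (.node 21480 (.node 21477 (.node 21476 (.leaf 0x1) (.leaf 0x1)) (.node 21478 (.leaf 0x1) (.node 21479 (.leaf 0x1) (.leaf 0x1)))) (.node 21482 (.node 21481 (.leaf 0x1) (.leaf 0x1)) (.node 21483 (.leaf 0x1) (.node 21484 (.leaf 0x1) (.leaf 0x1))))))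

def candS_1062 : Store := (.node 21495 (.node 21490 (.node 21487 (.node 21486 (.leaf 0x1) (.leaf 0x1)) (.node 21488 (.leaf 0x1) (.node 21489 (.leaf 0x1) (.leaf 0x1)))) (.node 21492 (.node 21491 (.leaf 0x1) (.leaf 0x1)) (.node 21493 (.leaf 0x1) (.node 21494 (.leaf 0x1) (.leaf 0x1))))) (.node 21500 (.node 21497 (.node 21496 (.leaf 0x1) (.leaf 0x1)) (.node 21498 (.leaf 0x1) (.node 21499 (.leaf 0x1) (.leaf 0x1)))) (.node 21502 (.node 21501 (.leaf 0x1) (.leaf 0x1)) (.node 21503 (.leaf 0x1) (.node 21504 (.leaf 0x1) (.leaf 0x1))))))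

def candS_1063 : Store := (.node 21515 (.node 21510 (.node 21507 (.node 21506 (.leaf 0x1) (.leaf 0x1)) (.node 21508 (.leaf 0x1) (.node 21509 (.leaf 0x1) (.leaf 0x1)))) (.node 21512 (.node 21511 (.leaf 0x1) (.leaf 0x1)) (.node 21513 (.leaf 0x1) (.node 21514 (.leaf 0x1) (.leaf 0x1))))) (.node 21520 (.node 21517 (.node 21516 (.leaf 0x1) (.leaf 0x1)) (.node 21518 (.leaf 0x1) (.node 21519 (.leaf 0x1) (.leaf 0x1)))) (.node 21522 (.node 21521 (.leaf 0x1) (.leaf 0x1)) (.node 21523 (.leaf 0x1) (.node 21524 (.leaf 0x1) (.leaf 0x1))))))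

def candS_1064 : Store := (.node 21535 (.node 21530 (.node 21527 (.node 21526 (.leaf 0x1) (.leaf 0x1)) (.node 21528 (.leaf 0x1) (.node 21529 (.leaf 0x1) (.leaf 0x1)))) (.node 21532 (.node 21531 (.leaf 0x1) (.leaf 0x1)) (.node 21533 (.leaf 0x1) (.node 21534 (.leaf 0x1) (.leaf 0x1))))) (.node 21540 (.node 21537 (.node 21536 (.leaf 0x1) (.leaf 0x1)) (.node 21538 (.leaf 0x1) (.node 21539 (.leaf 0x1) (.leaf 0x1)))) (.node 21543 (.node 21541 (.leaf 0x1) (.node 21542 (.leaf 0x1) (.leaf 0x1))) (.node 21544 (.leaf 0x1) (.node 21545 (.leaf 0x1) (.leaf 0x1))))))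

def candS_1065 : Store := (.node 21556 (.node 21551 (.node 21548 (.node 21547 (.leaf 0x1) (.leaf 0x1)) (.node 21549 (.leaf 0x1) (.node 21550 (.leaf 0x1) (.leaf 0x1)))) (.node 21553 (.node 21552 (.leaf 0x1) (.leaf 0x1)) (.node 21554 (.leaf 0x1) (.node 21555 (.leaf 0x1) (.leaf 0x1))))) (.node 21561 (.node 21558 (.node 21557 (.leaf 0x1) (.leaf 0x1)) (.node 21559 (.leaf 0x1) (.node 21560 (.leaf 0x1) (.leaf 0x1)))) (.node 21563 (.node 21562 (.leaf 0x1) (.leaf 0x1)) (.node 21564 (.leaf 0x1) (.node 21565 (.leaf 0x1) (.leaf 0x1))))))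

def candS_1066 : Store := (.node 21576 (.node 21571 (.node 21568 (.node 21567 (.leaf 0x1) (.leaf 0x1)) (.node 21569 (.leaf 0x1) (.node 21570 (.leaf 0x1) (.leaf 0x1)))) (.node 21573 (.node 21572 (.leaf 0x1) (.leaf 0x1)) (.node 21574 (.leaf 0x1) (.node 21575 (.leaf 0x1) (.leaf 0x1))))) (.node 21581 (.node 21578 (.node 21577 (.leaf 0x1) (.leaf 0x1)) (.node 21579 (.leaf 0x1) (.node 21580 (.leaf 0x1) (.leaf 0x1)))) (.node 21583 (.node 21582 (.leaf 0x1) (.leaf 0x1)) (.node 21584 (.leaf 0x1) (.node 21585 (.leaf 0x1) (.leaf 0x1))))))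

def candS_1067 : Store := (.node 21596 (.node 21591 (.node 21588 (.node 21587 (.leaf 0x1) (.leaf 0x1)) (.node 21589 (.leaf 0x1) (.node 21590 (.leaf 0x1) (.leaf 0x1)))) (.node 21593 (.node 21592 (.leaf 0x1) (.leaf 0x1)) (.node 21594 (.leaf 0x1) (.node 21595 (.leaf 0x1) (.leaf 0x1))))) (.node 21601 (.node 21598 (.node 21597 (.leaf 0x1) (.leaf 0x1)) (.node 21599 (.leaf 0x1) (.node 21600 (.leaf 0x1) (.leaf 0x1)))) (.node 21603 (.node 21602 (.leaf 0x1) (.leaf 0x1)) (.node 21604 (.leaf 0x1) (.node 21605 (.leaf 0x1) (.leaf 0x1))))))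

def candS_1068 : Store := (.node 21616 (.node 21611 (.node 21608 (.node 21607 (.leaf 0x1) (.leaf 0x1)) (.node 21609 (.leaf 0x1) (.node 21610 (.leaf 0x1) (.leaf 0x1)))) (.node 21613 (.node 21612 (.leaf 0x1) (.leaf 0x1)) (.node 21614 (.leaf 0x1) (.node 21615 (.leaf 0x1) (.leaf 0x1))))) (.node 21621 (.node 21618 (.node 21617 (.leaf 0x1) (.leaf 0x1)) (.node 21619 (.leaf 0x1) (.node 21620 (.leaf 0x1) (.leaf 0x1)))) (.node 21624 (.node 21622 (.leaf 0x1) (.node 21623 (.leaf 0x1) (.leaf 0x1))) (.node 21625 (.leaf 0x1) (.node 21626 (.leaf 0x1) (.leaf 0x1))))))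

def candS_1069 : Store := (.node 21637 (.node 21632 (.node 21629 (.node 21628 (.leaf 0x1) (.leaf 0x1)) (.node 21630 (.leaf 0x1) (.node 21631 (.leaf 0x1) (.leaf 0x1)))) (.node 21634 (.node 21633 (.leaf 0x1) (.leaf 0x1)) (.node 21635 (.leaf 0x1) (.node 21636 (.leaf 0x1) (.leaf 0x1))))) (.node 21642 (.node 21639 (.node 21638 (.leaf 0x1) (.leaf 0x1)) (.node 21640 (.leaf 0x1) (.node 21641 (.leaf 0x1) (.leaf 0x1)))) (.node 21644 (.node 21643 (.leaf 0x1) (.leaf 0x1)) (.node 21645 (.leaf 0x1) (.node 21646 (.leaf 0x1) (.leaf 0x1))))))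

def candS_1070 : Store := (.node 21657 (.node 21652 (.node 21649 (.node 21648 (.leaf 0x1) (.leaf 0x1)) (.node 21650 (.leaf 0x1) (.node 21651 (.leaf 0x1) (.leaf 0x1)))) (.node 21654 (.node 21653 (.leaf 0x1) (.leaf 0x1)) (.node 21655 (.leaf 0x1) (.node 21656 (.leaf 0x1) (.leaf 0x1))))) (.node 21662 (.node 21659 (.node 21658 (.leaf 0x1) (.leaf 0x1)) (.node 21660 (.leaf 0x1) (.node 21661 (.leaf 0x1) (.leaf 0x1)))) (.node 21664 (.node 21663 (.leaf 0x1) (.leaf 0x1)) (.node 21665 (.leaf 0x1) (.node 21666 (.leaf 0x1) (.leaf 0x1))))))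

def candS_1071 : Store := (.node 21677 (.node 21672 (.node 21669 (.node 21668 (.leaf 0x1) (.leaf 0x1)) (.node 21670 (.leaf 0x1) (.node 21671 (.leaf 0x1) (.leaf 0x1)))) (.node 21674 (.node 21673 (.leaf 0x1) (.leaf 0x1)) (.node 21675 (.leaf 0x1) (.node 21676 (.leaf 0x1) (.leaf 0x1))))) (.node 21682 (.node 21679 (.node 21678 (.leaf 0x1) (.leaf 0x1)) (.node 21680 (.leaf 0x1) (.node 21681 (.leaf 0x1) (.leaf 0x1)))) (.node 21684 (.node 21683 (.leaf 0x1) (.leaf 0x1)) (.node 21685 (.leaf 0x1) (.node 21686 (.leaf 0x1) (.leaf 0x1))))))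

def candS_1072 : Store := (.node 21697 (.node 21692 (.node 21689 (.node 21688 (.leaf 0x1) (.leaf 0x1)) (.node 21690 (.leaf 0x1) (.node 21691 (.leaf 0x1) (.leaf 0x1)))) (.node 21694 (.node 21693 (.leaf 0x1) (.leaf 0x1)) (.node 21695 (.leaf 0x1) (.node 21696 (.leaf 0x1) (.leaf 0x1))))) (.node 21702 (.node 21699 (.node 21698 (.leaf 0x1) (.leaf 0x1)) (.node 21700 (.leaf 0x1) (.node 21701 (.leaf 0x1) (.leaf 0x1)))) (.node 21705 (.node 21703 (.leaf 0x1) (.node 21704 (.leaf 0x1) (.leaf 0x1))) (.node 21706 (.leaf 0x1) (.node 21707 (.leaf 0x1) (.leaf 0x1))))))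

def candS_1073 : Store := (.node 21718 (.node 21713 (.node 21710 (.node 21709 (.leaf 0x1) (.leaf 0x1)) (.node 21711 (.leaf 0x1) (.node 21712 (.leaf 0x1) (.leaf 0x1)))) (.node 21715 (.node 21714 (.leaf 0x1) (.leaf 0x1)) (.node 21716 (.leaf 0x1) (.node 21717 (.leaf 0x1) (.leaf 0x1))))) (.node 21723 (.node 21720 (.node 21719 (.leaf 0x1) (.leaf 0x1)) (.node 21721 (.leaf 0x1) (.node 21722 (.leaf 0x1) (.leaf 0x1)))) (.node 21725 (.node 21724 (.leaf 0x1) (.leaf 0x1)) (.node 21726 (.leaf 0x1) (.node 21727 (.leaf 0x1) (.leaf 0x1))))))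

def candS_1074 : Store := (.node 21738 (.node 21733 (.node 21730 (.node 21729 (.leaf 0x1) (.leaf 0x1)) (.node 21731 (.leaf 0x1) (.node 21732 (.leaf 0x1) (.leaf 0x1)))) (.node 21735 (.node 21734 (.leaf 0x1) (.leaf 0x1)) (.node 21736 (.leaf 0x1) (.node 21737 (.leaf 0x1) (.leaf 0x1))))) (.node 21743 (.node 21740 (.node 21739 (.leaf 0x1) (.leaf 0x1)) (.node 21741 (.leaf 0x1) (.node 21742 (.leaf 0x1) (.leaf 0x1)))) (.node 21745 (.node 21744 (.leaf 0x1) (.leaf 0x1)) (.node 21746 (.leaf 0x1) (.node 21747 (.leaf 0x1) (.leaf 0x1))))))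

def candS_1075 : Store := (.node 21758 (.node 21753 (.node 21750 (.node 21749 (.leaf 0x1) (.leaf 0x1)) (.node 21751 (.leaf 0x1) (.node 21752 (.leaf 0x1) (.leaf 0x1)))) (.node 21755 (.node 21754 (.leaf 0x1) (.leaf 0x1)) (.node 21756 (.leaf 0x1) (.node 21757 (.leaf 0x1) (.leaf 0x1))))) (.node 21763 (.node 21760 (.node 21759 (.leaf 0x1) (.leaf 0x1)) (.node 21761 (.leaf 0x1) (.node 21762 (.leaf 0x1) (.leaf 0x1)))) (.node 21765 (.node 21764 (.leaf 0x1) (.leaf 0x1)) (.node 21766 (.leaf 0x1) (.node 21767 (.leaf 0x1) (.leaf 0x1))))))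

def candS_1076 : Store := (.node 21778 (.node 21773 (.node 21770 (.node 21769 (.leaf 0x1) (.leaf 0x1)) (.node 21771 (.leaf 0x1) (.node 21772 (.leaf 0x1) (.leaf 0x1)))) (.node 21775 (.node 21774 (.leaf 0x1) (.leaf 0x1)) (.node 21776 (.leaf 0x1) (.node 21777 (.leaf 0x1) (.leaf 0x1))))) (.node 21783 (.node 21780 (.node 21779 (.leaf 0x1) (.leaf 0x1)) (.node 21781 (.leaf 0x1) (.node 21782 (.leaf 0x1) (.leaf 0x1)))) (.node 21786 (.node 21784 (.leaf 0x1) (.node 21785 (.leaf 0x1) (.leaf 0x1))) (.node 21787 (.leaf 0x1) (.node 21788 (.leaf 0x1) (.leaf 0x1))))))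

def candS_1077 : Store := (.node 21799 (.node 21794 (.node 21791 (.node 21790 (.leaf 0x1) (.leaf 0x1)) (.node 21792 (.leaf 0x1) (.node 21793 (.leaf 0x1) (.leaf 0x1)))) (.node 21796 (.node 21795 (.leaf 0x1) (.leaf 0x1)) (.node 21797 (.leaf 0x1) (.node 21798 (.leaf 0x1) (.leaf 0x1))))) (.node 21804 (.node 21801 (.node 21800 (.leaf 0x1) (.leaf 0x1)) (.node 21802 (.leaf 0x1) (.node 21803 (.leaf 0x1) (.leaf 0x1)))) (.node 21806 (.node 21805 (.leaf 0x1) (.leaf 0x1)) (.node 21807 (.leaf 0x1) (.node 21808 (.leaf 0x1) (.leaf 0x1))))))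

def candS_1078 : Store := (.node 21819 (.node 21814 (.node 21811 (.node 21810 (.leaf 0x1) (.leaf 0x1)) (.node 21812 (.leaf 0x1) (.node 21813 (.leaf 0x1) (.leaf 0x1)))) (.node 21816 (.node 21815 (.leaf 0x1) (.leaf 0x1)) (.node 21817 (.leaf 0x1) (.node 21818 (.leaf 0x1) (.leaf 0x1))))) (.node 21824 (.node 21821 (.node 21820 (.leaf 0x1) (.leaf 0x1)) (.node 21822 (.leaf 0x1) (.node 21823 (.leaf 0x1) (.leaf 0x1)))) (.node 21826 (.node 21825 (.leaf 0x1) (.leaf 0x1)) (.node 21827 (.leaf 0x1) (.node 21828 (.leaf 0x1) (.leaf 0x1))))))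

def candS_1079 : Store := (.node 21839 (.node 21834 (.node 21831 (.node 21830 (.leaf 0x1) (.leaf 0x1)) (.node 21832 (.leaf 0x1) (.node 21833 (.leaf 0x1) (.leaf 0x1)))) (.node 21836 (.node 21835 (.leaf 0x1) (.leaf 0x1)) (.node 21837 (.leaf 0x1) (.node 21838 (.leaf 0x1) (.leaf 0x1))))) (.node 21844 (.node 21841 (.node 21840 (.leaf 0x1) (.leaf 0x1)) (.node 21842 (.leaf 0x1) (.node 21843 (.leaf 0x1) (.leaf 0x1)))) (.node 21846 (.node 21845 (.leaf 0x1) (.leaf 0x1)) (.node 21847 (.leaf 0x1) (.node 21848 (.leaf 0x1) (.leaf 0x1))))))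

def candS_1080 : Store := (.node 21859 (.node 21854 (.node 21851 (.node 21850 (.leaf 0x1) (.leaf 0x1)) (.node 21852 (.leaf 0x1) (.node 21853 (.leaf 0x1) (.leaf 0x1)))) (.node 21856 (.node 21855 (.leaf 0x1) (.leaf 0x1)) (.node 21857 (.leaf 0x1) (.node 21858 (.leaf 0x1) (.leaf 0x1))))) (.node 21864 (.node 21861 (.node 21860 (.leaf 0x1) (.leaf 0x1)) (.node 21862 (.leaf 0x1) (.node 21863 (.leaf 0x1) (.leaf 0x1)))) (.node 21867 (.node 21865 (.leaf 0x1) (.node 21866 (.leaf 0x1) (.leaf 0x1))) (.node 21868 (.leaf 0x1) (.node 21869 (.leaf 0x1) (.leaf 0x1))))))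

def candS_1081 : Store := (.node 21880 (.node 21875 (.node 21872 (.node 21871 (.leaf 0x1) (.leaf 0x1)) (.node 21873 (.leaf 0x1) (.node 21874 (.leaf 0x1) (.leaf 0x1)))) (.node 21877 (.node 21876 (.leaf 0x1) (.leaf 0x1)) (.node 21878 (.leaf 0x1) (.node 21879 (.leaf 0x1) (.leaf 0x1))))) (.node 21885 (.node 21882 (.node 21881 (.leaf 0x1) (.leaf 0x1)) (.node 21883 (.leaf 0x1) (.node 21884 (.leaf 0x1) (.leaf 0x1)))) (.node 21887 (.node 21886 (.leaf 0x1) (.leaf 0x1)) (.node 21888 (.leaf 0x1) (.node 21889 (.leaf 0x1) (.leaf 0x1))))))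

def candS_1082 : Store := (.node 21900 (.node 21895 (.node 21892 (.node 21891 (.leaf 0x1) (.leaf 0x1)) (.node 21893 (.leaf 0x1) (.node 21894 (.leaf 0x1) (.leaf 0x1)))) (.node 21897 (.node 21896 (.leaf 0x1) (.leaf 0x1)) (.node 21898 (.leaf 0x1) (.node 21899 (.leaf 0x1) (.leaf 0x1))))) (.node 21905 (.node 21902 (.node 21901 (.leaf 0x1) (.leaf 0x1)) (.node 21903 (.leaf 0x1) (.node 21904 (.leaf 0x1) (.leaf 0x1)))) (.node 21907 (.node 21906 (.leaf 0x1) (.leaf 0x1)) (.node 21908 (.leaf 0x1) (.node 21909 (.leaf 0x1) (.leaf 0x1))))))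

def candS_1083 : Store := (.node 21920 (.node 21915 (.node 21912 (.node 21911 (.leaf 0x1) (.leaf 0x1)) (.node 21913 (.leaf 0x1) (.node 21914 (.leaf 0x1) (.leaf 0x1)))) (.node 21917 (.node 21916 (.leaf 0x1) (.leaf 0x1)) (.node 21918 (.leaf 0x1) (.node 21919 (.leaf 0x1) (.leaf 0x1))))) (.node 21925 (.node 21922 (.node 21921 (.leaf 0x1) (.leaf 0x1)) (.node 21923 (.leaf 0x1) (.node 21924 (.leaf 0x1) (.leaf 0x1)))) (.node 21927 (.node 21926 (.leaf 0x1) (.leaf 0x1)) (.node 21928 (.leaf 0x1) (.node 21929 (.leaf 0x1) (.leaf 0x1))))))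

def candS_1084 : Store := (.node 21940 (.node 21935 (.node 21932 (.node 21931 (.leaf 0x1) (.leaf 0x1)) (.node 21933 (.leaf 0x1) (.node 21934 (.leaf 0x1) (.leaf 0x1)))) (.node 21937 (.node 21936 (.leaf 0x1) (.leaf 0x1)) (.node 21938 (.leaf 0x1) (.node 21939 (.leaf 0x1) (.leaf 0x1))))) (.node 21945 (.node 21942 (.node 21941 (.leaf 0x1) (.leaf 0x1)) (.node 21943 (.leaf 0x1) (.node 21944 (.leaf 0x1) (.leaf 0x1)))) (.node 21948 (.node 21946 (.leaf 0x1) (.node 21947 (.leaf 0x1) (.leaf 0x1))) (.node 21949 (.leaf 0x1) (.node 21950 (.leaf 0x1) (.leaf 0x1))))))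

def candS_1085 : Store := (.node 21961 (.node 21956 (.node 21953 (.node 21952 (.leaf 0x1) (.leaf 0x1)) (.node 21954 (.leaf 0x1) (.node 21955 (.leaf 0x1) (.leaf 0x1)))) (.node 21958 (.node 21957 (.leaf 0x1) (.leaf 0x1)) (.node 21959 (.leaf 0x1) (.node 21960 (.leaf 0x1) (.leaf 0x1))))) (.node 21966 (.node 21963 (.node 21962 (.leaf 0x1) (.leaf 0x1)) (.node 21964 (.leaf 0x1) (.node 21965 (.leaf 0x1) (.leaf 0x1)))) (.node 21968 (.node 21967 (.leaf 0x1) (.leaf 0x1)) (.node 21969 (.leaf 0x1) (.node 21970 (.leaf 0x1) (.leaf 0x1))))))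

def candS_1086 : Store := (.node 21981 (.node 21976 (.node 21973 (.node 21972 (.leaf 0x1) (.leaf 0x1)) (.node 21974 (.leaf 0x1) (.node 21975 (.leaf 0x1) (.leaf 0x1)))) (.node 21978 (.node 21977 (.leaf 0x1) (.leaf 0x1)) (.node 21979 (.leaf 0x1) (.node 21980 (.leaf 0x1) (.leaf 0x1))))) (.node 21986 (.node 21983 (.node 21982 (.leaf 0x1) (.leaf 0x1)) (.node 21984 (.leaf 0x1) (.node 21985 (.leaf 0x1) (.leaf 0x1)))) (.node 21988 (.node 21987 (.leaf 0x1) (.leaf 0x1)) (.node 21989 (.leaf 0x1) (.node 21990 (.leaf 0x1) (.leaf 0x1))))))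

def candS_1087 : Store := (.node 22001 (.node 21996 (.node 21993 (.node 21992 (.leaf 0x1) (.leaf 0x1)) (.node 21994 (.leaf 0x1) (.node 21995 (.leaf 0x1) (.leaf 0x1)))) (.node 21998 (.node 21997 (.leaf 0x1) (.leaf 0x1)) (.node 21999 (.leaf 0x1) (.node 22000 (.leaf 0x1) (.leaf 0x1))))) (.node 22006 (.node 22003 (.node 22002 (.leaf 0x1) (.leaf 0x1)) (.node 22004 (.leaf 0x1) (.node 22005 (.leaf 0x1) (.leaf 0x1)))) (.node 22008 (.node 22007 (.leaf 0x1) (.leaf 0x1)) (.node 22009 (.leaf 0x1) (.node 22010 (.leaf 0x1) (.leaf 0x1))))))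

def candS_1088 : Store := (.node 22021 (.node 22016 (.node 22013 (.node 22012 (.leaf 0x1) (.leaf 0x1)) (.node 22014 (.leaf 0x1) (.node 22015 (.leaf 0x1) (.leaf 0x1)))) (.node 22018 (.node 22017 (.leaf 0x1) (.leaf 0x1)) (.node 22019 (.leaf 0x1) (.node 22020 (.leaf 0x1) (.leaf 0x1))))) (.node 22026 (.node 22023 (.node 22022 (.leaf 0x1) (.leaf 0x1)) (.node 22024 (.leaf 0x1) (.node 22025 (.leaf 0x1) (.leaf 0x1)))) (.node 22029 (.node 22027 (.leaf 0x1) (.node 22028 (.leaf 0x1) (.leaf 0x1))) (.node 22030 (.leaf 0x1) (.node 22031 (.leaf 0x1) (.leaf 0x1))))))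

def candS_1089 : Store := (.node 22042 (.node 22037 (.node 22034 (.node 22033 (.leaf 0x1) (.leaf 0x1)) (.node 22035 (.leaf 0x1) (.node 22036 (.leaf 0x1) (.leaf 0x1)))) (.node 22039 (.node 22038 (.leaf 0x1) (.leaf 0x1)) (.node 22040 (.leaf 0x1) (.node 22041 (.leaf 0x1) (.leaf 0x1))))) (.node 22047 (.node 22044 (.node 22043 (.leaf 0x1) (.leaf 0x1)) (.node 22045 (.leaf 0x1) (.node 22046 (.leaf 0x1) (.leaf 0x1)))) (.node 22049 (.node 22048 (.leaf 0x1) (.leaf 0x1)) (.node 22050 (.leaf 0x1) (.node 22051 (.leaf 0x1) (.leaf 0x1))))))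

def candS_1090 : Store := (.node 22062 (.node 22057 (.node 22054 (.node 22053 (.leaf 0x1) (.leaf 0x1)) (.node 22055 (.leaf 0x1) (.node 22056 (.leaf 0x1) (.leaf 0x1)))) (.node 22059 (.node 22058 (.leaf 0x1) (.leaf 0x1)) (.node 22060 (.leaf 0x1) (.node 22061 (.leaf 0x1) (.leaf 0x1))))) (.node 22067 (.node 22064 (.node 22063 (.leaf 0x1) (.leaf 0x1)) (.node 22065 (.leaf 0x1) (.node 22066 (.leaf 0x1) (.leaf 0x1)))) (.node 22069 (.node 22068 (.leaf 0x1) (.leaf 0x1)) (.node 22070 (.leaf 0x1) (.node 22071 (.leaf 0x1) (.leaf 0x1))))))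

def candS_1091 : Store := (.node 22082 (.node 22077 (.node 22074 (.node 22073 (.leaf 0x1) (.leaf 0x1)) (.node 22075 (.leaf 0x1) (.node 22076 (.leaf 0x1) (.leaf 0x1)))) (.node 22079 (.node 22078 (.leaf 0x1) (.leaf 0x1)) (.node 22080 (.leaf 0x1) (.node 22081 (.leaf 0x1) (.leaf 0x1))))) (.node 22087 (.node 22084 (.node 22083 (.leaf 0x1) (.leaf 0x1)) (.node 22085 (.leaf 0x1) (.node 22086 (.leaf 0x1) (.leaf 0x1)))) (.node 22089 (.node 22088 (.leaf 0x1) (.leaf 0x1)) (.node 22090 (.leaf 0x1) (.node 22091 (.leaf 0x1) (.leaf 0x1))))))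

def candS_1092 : Store := (.node 22102 (.node 22097 (.node 22094 (.node 22093 (.leaf 0x1) (.leaf 0x1)) (.node 22095 (.leaf 0x1) (.node 22096 (.leaf 0x1) (.leaf 0x1)))) (.node 22099 (.node 22098 (.leaf 0x1) (.leaf 0x1)) (.node 22100 (.leaf 0x1) (.node 22101 (.leaf 0x1) (.leaf 0x1))))) (.node 22107 (.node 22104 (.node 22103 (.leaf 0x1) (.leaf 0x1)) (.node 22105 (.leaf 0x1) (.node 22106 (.leaf 0x1) (.leaf 0x1)))) (.node 22110 (.node 22108 (.leaf 0x1) (.node 22109 (.leaf 0x1) (.leaf 0x1))) (.node 22111 (.leaf 0x1) (.node 22112 (.leaf 0x1) (.leaf 0x1))))))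

def candS_1093 : Store := (.node 22123 (.node 22118 (.node 22115 (.node 22114 (.leaf 0x1) (.leaf 0x1)) (.node 22116 (.leaf 0x1) (.node 22117 (.leaf 0x1) (.leaf 0x1)))) (.node 22120 (.node 22119 (.leaf 0x1) (.leaf 0x1)) (.node 22121 (.leaf 0x1) (.node 22122 (.leaf 0x1) (.leaf 0x1))))) (.node 22128 (.node 22125 (.node 22124 (.leaf 0x1) (.leaf 0x1)) (.node 22126 (.leaf 0x1) (.node 22127 (.leaf 0x1) (.leaf 0x1)))) (.node 22130 (.node 22129 (.leaf 0x1) (.leaf 0x1)) (.node 22131 (.leaf 0x1) (.node 22132 (.leaf 0x1) (.leaf 0x1))))))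

def candS_1094 : Store := (.node 22143 (.node 22138 (.node 22135 (.node 22134 (.leaf 0x1) (.leaf 0x1)) (.node 22136 (.leaf 0x1) (.node 22137 (.leaf 0x1) (.leaf 0x1)))) (.node 22140 (.node 22139 (.leaf 0x1) (.leaf 0x1)) (.node 22141 (.leaf 0x1) (.node 22142 (.leaf 0x1) (.leaf 0x1))))) (.node 22148 (.node 22145 (.node 22144 (.leaf 0x1) (.leaf 0x1)) (.node 22146 (.leaf 0x1) (.node 22147 (.leaf 0x1) (.leaf 0x1)))) (.node 22150 (.node 22149 (.leaf 0x1) (.leaf 0x1)) (.node 22151 (.leaf 0x1) (.node 22152 (.leaf 0x1) (.leaf 0x1))))))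

def candS_1095 : Store := (.node 22163 (.node 22158 (.node 22155 (.node 22154 (.leaf 0x1) (.leaf 0x1)) (.node 22156 (.leaf 0x1) (.node 22157 (.leaf 0x1) (.leaf 0x1)))) (.node 22160 (.node 22159 (.leaf 0x1) (.leaf 0x1)) (.node 22161 (.leaf 0x1) (.node 22162 (.leaf 0x1) (.leaf 0x1))))) (.node 22168 (.node 22165 (.node 22164 (.leaf 0x1) (.leaf 0x1)) (.node 22166 (.leaf 0x1) (.node 22167 (.leaf 0x1) (.leaf 0x1)))) (.node 22170 (.node 22169 (.leaf 0x1) (.leaf 0x1)) (.node 22171 (.leaf 0x1) (.node 22172 (.leaf 0x1) (.leaf 0x1))))))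

def candS_1096 : Store := (.node 22183 (.node 22178 (.node 22175 (.node 22174 (.leaf 0x1) (.leaf 0x1)) (.node 22176 (.leaf 0x1) (.node 22177 (.leaf 0x1) (.leaf 0x1)))) (.node 22180 (.node 22179 (.leaf 0x1) (.leaf 0x1)) (.node 22181 (.leaf 0x1) (.node 22182 (.leaf 0x1) (.leaf 0x1))))) (.node 22188 (.node 22185 (.node 22184 (.leaf 0x1) (.leaf 0x1)) (.node 22186 (.leaf 0x1) (.node 22187 (.leaf 0x1) (.leaf 0x1)))) (.node 22191 (.node 22189 (.leaf 0x1) (.node 22190 (.leaf 0x1) (.leaf 0x1))) (.node 22192 (.leaf 0x1) (.node 22193 (.leaf 0x1) (.leaf 0x1))))))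

def candS_1097 : Store := (.node 22204 (.node 22199 (.node 22196 (.node 22195 (.leaf 0x1) (.leaf 0x1)) (.node 22197 (.leaf 0x1) (.node 22198 (.leaf 0x1) (.leaf 0x1)))) (.node 22201 (.node 22200 (.leaf 0x1) (.leaf 0x1)) (.node 22202 (.leaf 0x1) (.node 22203 (.leaf 0x1) (.leaf 0x1))))) (.node 22209 (.node 22206 (.node 22205 (.leaf 0x1) (.leaf 0x1)) (.node 22207 (.leaf 0x1) (.node 22208 (.leaf 0x1) (.leaf 0x1)))) (.node 22211 (.node 22210 (.leaf 0x1) (.leaf 0x1)) (.node 22212 (.leaf 0x1) (.node 22213 (.leaf 0x1) (.leaf 0x1))))))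

def candS_1098 : Store := (.node 22224 (.node 22219 (.node 22216 (.node 22215 (.leaf 0x1) (.leaf 0x1)) (.node 22217 (.leaf 0x1) (.node 22218 (.leaf 0x1) (.leaf 0x1)))) (.node 22221 (.node 22220 (.leaf 0x1) (.leaf 0x1)) (.node 22222 (.leaf 0x1) (.node 22223 (.leaf 0x1) (.leaf 0x1))))) (.node 22229 (.node 22226 (.node 22225 (.leaf 0x1) (.leaf 0x1)) (.node 22227 (.leaf 0x1) (.node 22228 (.leaf 0x1) (.leaf 0x1)))) (.node 22231 (.node 22230 (.leaf 0x1) (.leaf 0x1)) (.node 22232 (.leaf 0x1) (.node 22233 (.leaf 0x1) (.leaf 0x1))))))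

def candS_1099 : Store := (.node 22244 (.node 22239 (.node 22236 (.node 22235 (.leaf 0x1) (.leaf 0x1)) (.node 22237 (.leaf 0x1) (.node 22238 (.leaf 0x1) (.leaf 0x1)))) (.node 22241 (.node 22240 (.leaf 0x1) (.leaf 0x1)) (.node 22242 (.leaf 0x1) (.node 22243 (.leaf 0x1) (.leaf 0x1))))) (.node 22249 (.node 22246 (.node 22245 (.leaf 0x1) (.leaf 0x1)) (.node 22247 (.leaf 0x1) (.node 22248 (.leaf 0x1) (.leaf 0x1)))) (.node 22251 (.node 22250 (.leaf 0x1) (.leaf 0x1)) (.node 22252 (.leaf 0x1) (.node 22253 (.leaf 0x1) (.leaf 0x1))))))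

def candS_1100 : Store := (.node 22264 (.node 22259 (.node 22256 (.node 22255 (.leaf 0x1) (.leaf 0x1)) (.node 22257 (.leaf 0x1) (.node 22258 (.leaf 0x1) (.leaf 0x1)))) (.node 22261 (.node 22260 (.leaf 0x1) (.leaf 0x1)) (.node 22262 (.leaf 0x1) (.node 22263 (.leaf 0x1) (.leaf 0x1))))) (.node 22269 (.node 22266 (.node 22265 (.leaf 0x1) (.leaf 0x1)) (.node 22267 (.leaf 0x1) (.node 22268 (.leaf 0x1) (.leaf 0x1)))) (.node 22272 (.node 22270 (.leaf 0x1) (.node 22271 (.leaf 0x1) (.leaf 0x1))) (.node 22273 (.leaf 0x1) (.node 22274 (.leaf 0x1) (.leaf 0x1))))))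

def candS_1101 : Store := (.node 22285 (.node 22280 (.node 22277 (.node 22276 (.leaf 0x1) (.leaf 0x1)) (.node 22278 (.leaf 0x1) (.node 22279 (.leaf 0x1) (.leaf 0x1)))) (.node 22282 (.node 22281 (.leaf 0x1) (.leaf 0x1)) (.node 22283 (.leaf 0x1) (.node 22284 (.leaf 0x1) (.leaf 0x1))))) (.node 22290 (.node 22287 (.node 22286 (.leaf 0x1) (.leaf 0x1)) (.node 22288 (.leaf 0x1) (.node 22289 (.leaf 0x1) (.leaf 0x1)))) (.node 22292 (.node 22291 (.leaf 0x1) (.leaf 0x1)) (.node 22293 (.leaf 0x1) (.node 22294 (.leaf 0x1) (.leaf 0x1))))))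

def candS_1102 : Store := (.node 22305 (.node 22300 (.node 22297 (.node 22296 (.leaf 0x1) (.leaf 0x1)) (.node 22298 (.leaf 0x1) (.node 22299 (.leaf 0x1) (.leaf 0x1)))) (.node 22302 (.node 22301 (.leaf 0x1) (.leaf 0x1)) (.node 22303 (.leaf 0x1) (.node 22304 (.leaf 0x1) (.leaf 0x1))))) (.node 22310 (.node 22307 (.node 22306 (.leaf 0x1) (.leaf 0x1)) (.node 22308 (.leaf 0x1) (.node 22309 (.leaf 0x1) (.leaf 0x1)))) (.node 22312 (.node 22311 (.leaf 0x1) (.leaf 0x1)) (.node 22313 (.leaf 0x1) (.node 22314 (.leaf 0x1) (.leaf 0x1))))))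

def candS_1103 : Store := (.node 22325 (.node 22320 (.node 22317 (.node 22316 (.leaf 0x1) (.leaf 0x1)) (.node 22318 (.leaf 0x1) (.node 22319 (.leaf 0x1) (.leaf 0x1)))) (.node 22322 (.node 22321 (.leaf 0x1) (.leaf 0x1)) (.node 22323 (.leaf 0x1) (.node 22324 (.leaf 0x1) (.leaf 0x1))))) (.node 22330 (.node 22327 (.node 22326 (.leaf 0x1) (.leaf 0x1)) (.node 22328 (.leaf 0x1) (.node 22329 (.leaf 0x1) (.leaf 0x1)))) (.node 22332 (.node 22331 (.leaf 0x1) (.leaf 0x1)) (.node 22333 (.leaf 0x1) (.node 22334 (.leaf 0x1) (.leaf 0x1))))))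

def candS_1104 : Store := (.node 22345 (.node 22340 (.node 22337 (.node 22336 (.leaf 0x1) (.leaf 0x1)) (.node 22338 (.leaf 0x1) (.node 22339 (.leaf 0x1) (.leaf 0x1)))) (.node 22342 (.node 22341 (.leaf 0x1) (.leaf 0x1)) (.node 22343 (.leaf 0x1) (.node 22344 (.leaf 0x1) (.leaf 0x1))))) (.node 22350 (.node 22347 (.node 22346 (.leaf 0x1) (.leaf 0x1)) (.node 22348 (.leaf 0x1) (.node 22349 (.leaf 0x1) (.leaf 0x1)))) (.node 22353 (.node 22351 (.leaf 0x1) (.node 22352 (.leaf 0x1) (.leaf 0x1))) (.node 22354 (.leaf 0x1) (.node 22355 (.leaf 0x1) (.leaf 0x1))))))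

def candS_1105 : Store := (.node 22366 (.node 22361 (.node 22358 (.node 22357 (.leaf 0x1) (.leaf 0x1)) (.node 22359 (.leaf 0x1) (.node 22360 (.leaf 0x1) (.leaf 0x1)))) (.node 22363 (.node 22362 (.leaf 0x1) (.leaf 0x1)) (.node 22364 (.leaf 0x1) (.node 22365 (.leaf 0x1) (.leaf 0x1))))) (.node 22371 (.node 22368 (.node 22367 (.leaf 0x1) (.leaf 0x1)) (.node 22369 (.leaf 0x1) (.node 22370 (.leaf 0x1) (.leaf 0x1)))) (.node 22373 (.node 22372 (.leaf 0x1) (.leaf 0x1)) (.node 22374 (.leaf 0x1) (.node 22375 (.leaf 0x1) (.leaf 0x1))))))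

def candS_1106 : Store := (.node 22386 (.node 22381 (.node 22378 (.node 22377 (.leaf 0x1) (.leaf 0x1)) (.node 22379 (.leaf 0x1) (.node 22380 (.leaf 0x1) (.leaf 0x1)))) (.node 22383 (.node 22382 (.leaf 0x1) (.leaf 0x1)) (.node 22384 (.leaf 0x1) (.node 22385 (.leaf 0x1) (.leaf 0x1))))) (.node 22391 (.node 22388 (.node 22387 (.leaf 0x1) (.leaf 0x1)) (.node 22389 (.leaf 0x1) (.node 22390 (.leaf 0x1) (.leaf 0x1)))) (.node 22393 (.node 22392 (.leaf 0x1) (.leaf 0x1)) (.node 22394 (.leaf 0x1) (.node 22395 (.leaf 0x1) (.leaf 0x1))))))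

def candS_1107 : Store := (.node 22406 (.node 22401 (.node 22398 (.node 22397 (.leaf 0x1) (.leaf 0x1)) (.node 22399 (.leaf 0x1) (.node 22400 (.leaf 0x1) (.leaf 0x1)))) (.node 22403 (.node 22402 (.leaf 0x1) (.leaf 0x1)) (.node 22404 (.leaf 0x1) (.node 22405 (.leaf 0x1) (.leaf 0x1))))) (.node 22411 (.node 22408 (.node 22407 (.leaf 0x1) (.leaf 0x1)) (.node 22409 (.leaf 0x1) (.node 22410 (.leaf 0x1) (.leaf 0x1)))) (.node 22413 (.node 22412 (.leaf 0x1) (.leaf 0x1)) (.node 22414 (.leaf 0x1) (.node 22415 (.leaf 0x1) (.leaf 0x1))))))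

def candS_1108 : Store := (.node 22426 (.node 22421 (.node 22418 (.node 22417 (.leaf 0x1) (.leaf 0x1)) (.node 22419 (.leaf 0x1) (.node 22420 (.leaf 0x1) (.leaf 0x1)))) (.node 22423 (.node 22422 (.leaf 0x1) (.leaf 0x1)) (.node 22424 (.leaf 0x1) (.node 22425 (.leaf 0x1) (.leaf 0x1))))) (.node 22431 (.node 22428 (.node 22427 (.leaf 0x1) (.leaf 0x1)) (.node 22429 (.leaf 0x1) (.node 22430 (.leaf 0x1) (.leaf 0x1)))) (.node 22434 (.node 22432 (.leaf 0x1) (.node 22433 (.leaf 0x1) (.leaf 0x1))) (.node 22435 (.leaf 0x1) (.node 22436 (.leaf 0x1) (.leaf 0x1))))))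

def candS_1109 : Store := (.node 22447 (.node 22442 (.node 22439 (.node 22438 (.leaf 0x1) (.leaf 0x1)) (.node 22440 (.leaf 0x1) (.node 22441 (.leaf 0x1) (.leaf 0x1)))) (.node 22444 (.node 22443 (.leaf 0x1) (.leaf 0x1)) (.node 22445 (.leaf 0x1) (.node 22446 (.leaf 0x1) (.leaf 0x1))))) (.node 22452 (.node 22449 (.node 22448 (.leaf 0x1) (.leaf 0x1)) (.node 22450 (.leaf 0x1) (.node 22451 (.leaf 0x1) (.leaf 0x1)))) (.node 22454 (.node 22453 (.leaf 0x1) (.leaf 0x1)) (.node 22455 (.leaf 0x1) (.node 22456 (.leaf 0x1) (.leaf 0x1))))))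

def candS_1110 : Store := (.node 22467 (.node 22462 (.node 22459 (.node 22458 (.leaf 0x1) (.leaf 0x1)) (.node 22460 (.leaf 0x1) (.node 22461 (.leaf 0x1) (.leaf 0x1)))) (.node 22464 (.node 22463 (.leaf 0x1) (.leaf 0x1)) (.node 22465 (.leaf 0x27a23) (.node 22466 (.leaf 0x27a23) (.leaf 0x27a23))))) (.node 22472 (.node 22469 (.node 22468 (.leaf 0x27a23) (.leaf 0x27a23)) (.node 22470 (.leaf 0x27a23) (.node 22471 (.leaf 0x27a23) (.leaf 0x27a23)))) (.node 22474 (.node 22473 (.leaf 0x27a23) (.leaf 0x27a23)) (.node 22475 (.leaf 0x27a23) (.node 22476 (.leaf 0x27a23) (.leaf 0x27a23))))))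

def candS_1111 : Store := (.node 22487 (.node 22482 (.node 22479 (.node 22478 (.leaf 0x27a23) (.leaf 0x27a23)) (.node 22480 (.leaf 0x27a23) (.node 22481 (.leaf 0x27a23) (.leaf 0x27a23)))) (.node 22484 (.node 22483 (.leaf 0x27a23) (.leaf 0x27a23)) (.node 22485 (.leaf 0x27a23) (.node 22486 (.leaf 0x27a23) (.leaf 0x27a23))))) (.node 22492 (.node 22489 (.node 22488 (.leaf 0x27a23) (.leaf 0x27a23)) (.node 22490 (.leaf 0x27a23) (.node 22491 (.leaf 0x27a23) (.leaf 0x27a23)))) (.node 22494 (.node 22493 (.leaf 0x27a23) (.leaf 0x27a23)) (.node 22495 (.leaf 0x27a23) (.node 22496 (.leaf 0x27a23) (.leaf 0x27a23))))))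

def candS_1112 : Store := (.node 22507 (.node 22502 (.node 22499 (.node 22498 (.leaf 0x27a23) (.leaf 0x27a23)) (.node 22500 (.leaf 0x27a23) (.node 22501 (.leaf 0x27a23) (.leaf 0x27a23)))) (.node 22504 (.node 22503 (.leaf 0x27a23) (.leaf 0x27a23)) (.node 22505 (.leaf 0x27a23) (.node 22506 (.leaf 0x27a23) (.leaf 0x27a23))))) (.node 22512 (.node 22509 (.node 22508 (.leaf 0x27a23) (.leaf 0x27a23)) (.node 22510 (.leaf 0x27a23) (.node 22511 (.leaf 0x27a23) (.leaf 0x27a23)))) (.node 22515 (.node 22513 (.leaf 0x27a23) (.node 22514 (.leaf 0x27a23) (.leaf 0x27a23))) (.node 22516 (.leaf 0x27a23) (.node 22517 (.leaf 0x27a23) (.leaf 0x27a23))))))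

def candS_1113 : Store := (.node 22528 (.node 22523 (.node 22520 (.node 22519 (.leaf 0x27a23) (.leaf 0x27a23)) (.node 22521 (.leaf 0x27a23) (.node 22522 (.leaf 0x27a23) (.leaf 0x27a23)))) (.node 22525 (.node 22524 (.leaf 0x27a23) (.leaf 0x27a23)) (.node 22526 (.leaf 0x27a23) (.node 22527 (.leaf 0x27a23) (.leaf 0x27a23))))) (.node 22533 (.node 22530 (.node 22529 (.leaf 0x27a23) (.leaf 0x27a23)) (.node 22531 (.leaf 0x27a23) (.node 22532 (.leaf 0x27a23) (.leaf 0x27a23)))) (.node 22535 (.node 22534 (.leaf 0x27a23) (.leaf 0x27a23)) (.node 22536 (.leaf 0x27a23) (.node 22537 (.leaf 0x27a23) (.leaf 0x27a23))))))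

def candS_1114 : Store := (.node 22548 (.node 22543 (.node 22540 (.node 22539 (.leaf 0x27a23) (.leaf 0x27a23)) (.node 22541 (.leaf 0x27a23) (.node 22542 (.leaf 0x27a23) (.leaf 0x27a23)))) (.node 22545 (.node 22544 (.leaf 0x27a23) (.leaf 0x27a23)) (.node 22546 (.leaf 0x27a23) (.node 22547 (.leaf 0x27a23) (.leaf 0x27a23))))) (.node 22553 (.node 22550 (.node 22549 (.leaf 0x27a23) (.leaf 0x27a23)) (.node 22551 (.leaf 0x27a23) (.node 22552 (.leaf 0x27a23) (.leaf 0x27a23)))) (.node 22555 (.node 22554 (.leaf 0x27a23) (.leaf 0x27a23)) (.node 22556 (.leaf 0x27a23) (.node 22557 (.leaf 0x27a23) (.leaf 0x27a23))))))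

def candS_1115 : Store := (.node 22568 (.node 22563 (.node 22560 (.node 22559 (.leaf 0x27a23) (.leaf 0x27a23)) (.node 22561 (.leaf 0x27a23) (.node 22562 (.leaf 0x27a23) (.leaf 0x27a23)))) (.node 22565 (.node 22564 (.leaf 0x27a23) (.leaf 0x27a23)) (.node 22566 (.leaf 0x27a23) (.node 22567 (.leaf 0x27a23) (.leaf 0x27a23))))) (.node 22573 (.node 22570 (.node 22569 (.leaf 0x27a23) (.leaf 0x27a23)) (.node 22571 (.leaf 0x27a23) (.node 22572 (.leaf 0x27a23) (.leaf 0x27a23)))) (.node 22575 (.node 22574 (.leaf 0x27a23) (.leaf 0x27a23)) (.node 22576 (.leaf 0x27a23) (.node 22577 (.leaf 0x27a23) (.leaf 0x27a23))))))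

def candS_1116 : Store := (.node 22588 (.node 22583 (.node 22580 (.node 22579 (.leaf 0x27a23) (.leaf 0x27a23)) (.node 22581 (.leaf 0x27a23) (.node 22582 (.leaf 0x27a23) (.leaf 0x27a23)))) (.node 22585 (.node 22584 (.leaf 0x27a23) (.leaf 0x27a23)) (.node 22586 (.leaf 0x27a23) (.node 22587 (.leaf 0x27a23) (.leaf 0x27a23))))) (.node 22593 (.node 22590 (.node 22589 (.leaf 0x27a23) (.leaf 0x27a23)) (.node 22591 (.leaf 0x27a23) (.node 22592 (.leaf 0x27a23) (.leaf 0x27a23)))) (.node 22596 (.node 22594 (.leaf 0x27a23) (.node 22595 (.leaf 0x27a23) (.leaf 0x27a23))) (.node 22597 (.leaf 0x27a23) (.node 22598 (.leaf 0x27a23) (.leaf 0x27a23))))))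

def candS_1117 : Store := (.node 22609 (.node 22604 (.node 22601 (.node 22600 (.leaf 0x27a23) (.leaf 0x27a23)) (.node 22602 (.leaf 0x27a23) (.node 22603 (.leaf 0x27a23) (.leaf 0x27a23)))) (.node 22606 (.node 22605 (.leaf 0x27a23) (.leaf 0x27a23)) (.node 22607 (.leaf 0x27a23) (.node 22608 (.leaf 0x27a23) (.leaf 0x27a23))))) (.node 22614 (.node 22611 (.node 22610 (.leaf 0x27a23) (.leaf 0x27a23)) (.node 22612 (.leaf 0x27a23) (.node 22613 (.leaf 0x27a23) (.leaf 0x27a23)))) (.node 22616 (.node 22615 (.leaf 0x27a23) (.leaf 0x27a23)) (.node 22617 (.leaf 0x27a23) (.node 22618 (.leaf 0x27a23) (.leaf 0x27a23))))))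

def candS_1118 : Store := (.node 22629 (.node 22624 (.node 22621 (.node 22620 (.leaf 0x27a23) (.leaf 0x27a23)) (.node 22622 (.leaf 0x27a23) (.node 22623 (.leaf 0x27a23) (.leaf 0x27a23)))) (.node 22626 (.node 22625 (.leaf 0x27a23) (.leaf 0x27a23)) (.node 22627 (.leaf 0x27a23) (.node 22628 (.leaf 0x27a23) (.leaf 0x27a23))))) (.node 22634 (.node 22631 (.node 22630 (.leaf 0x27a23) (.leaf 0x27a23)) (.node 22632 (.leaf 0x27a23) (.node 22633 (.leaf 0x27a23) (.leaf 0x27a23)))) (.node 22636 (.node 22635 (.leaf 0x27a23) (.leaf 0x27a23)) (.node 22637 (.leaf 0x27a23) (.node 22638 (.leaf 0x27a23) (.leaf 0x27a23))))))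

def candS_1119 : Store := (.node 22649 (.node 22644 (.node 22641 (.node 22640 (.leaf 0x27a23) (.leaf 0x27a23)) (.node 22642 (.leaf 0x27a23) (.node 22643 (.leaf 0x27a23) (.leaf 0x27a23)))) (.node 22646 (.node 22645 (.leaf 0x27a23) (.leaf 0x27a23)) (.node 22647 (.leaf 0x27a23) (.node 22648 (.leaf 0x27a23) (.leaf 0x27a23))))) (.node 22654 (.node 22651 (.node 22650 (.leaf 0x27a23) (.leaf 0x27a23)) (.node 22652 (.leaf 0x27a23) (.node 22653 (.leaf 0x27a23) (.leaf 0x27a23)))) (.node 22656 (.node 22655 (.leaf 0x27a23) (.leaf 0x27a23)) (.node 22657 (.leaf 0x27a23) (.node 22658 (.leaf 0x27a23) (.leaf 0x27a23))))))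

def candS_1120 : Store := (.node 22669 (.node 22664 (.node 22661 (.node 22660 (.leaf 0x27a23) (.leaf 0x27a23)) (.node 22662 (.leaf 0x27a23) (.node 22663 (.leaf 0x27a23) (.leaf 0x27a23)))) (.node 22666 (.node 22665 (.leaf 0x27a23) (.leaf 0x27a23)) (.node 22667 (.leaf 0x27a23) (.node 22668 (.leaf 0x27a23) (.leaf 0x27a23))))) (.node 22674 (.node 22671 (.node 22670 (.leaf 0x27a23) (.leaf 0x27a23)) (.node 22672 (.leaf 0x27a23) (.node 22673 (.leaf 0x27a23) (.leaf 0x27a23)))) (.node 22677 (.node 22675 (.leaf 0x27a23) (.node 22676 (.leaf 0x27a23) (.leaf 0x27a23))) (.node 22678 (.leaf 0x27a23) (.node 22679 (.leaf 0x27a23) (.leaf 0x27a23))))))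

def candS_1121 : Store := (.node 22690 (.node 22685 (.node 22682 (.node 22681 (.leaf 0x27a23) (.leaf 0x27a23)) (.node 22683 (.leaf 0x27a23) (.node 22684 (.leaf 0x27a23) (.leaf 0x27a23)))) (.node 22687 (.node 22686 (.leaf 0x27a23) (.leaf 0x27a23)) (.node 22688 (.leaf 0x27a23) (.node 22689 (.leaf 0x27a23) (.leaf 0x27a23))))) (.node 22695 (.node 22692 (.node 22691 (.leaf 0x27a23) (.leaf 0x27a23)) (.node 22693 (.leaf 0x27a23) (.node 22694 (.leaf 0x27a23) (.leaf 0x27a23)))) (.node 22697 (.node 22696 (.leaf 0x27a23) (.leaf 0x27a23)) (.node 22698 (.leaf 0x27a23) (.node 22699 (.leaf 0x27a23) (.leaf 0x27a23))))))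

def candS_1122 : Store := (.node 22710 (.node 22705 (.node 22702 (.node 22701 (.leaf 0x27a23) (.leaf 0x27a23)) (.node 22703 (.leaf 0x27a23) (.node 22704 (.leaf 0x27a23) (.leaf 0x27a23)))) (.node 22707 (.node 22706 (.leaf 0x27a23) (.leaf 0x27a23)) (.node 22708 (.leaf 0x27a23) (.node 22709 (.leaf 0x27a23) (.leaf 0x27a23))))) (.node 22715 (.node 22712 (.node 22711 (.leaf 0x27a23) (.leaf 0x27a23)) (.node 22713 (.leaf 0x27a23) (.node 22714 (.leaf 0x27a23) (.leaf 0x27a23)))) (.node 22717 (.node 22716 (.leaf 0x27a23) (.leaf 0x27a23)) (.node 22718 (.leaf 0x27a23) (.node 22719 (.leaf 0x27a23) (.leaf 0x27a23))))))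

def candS_1123 : Store := (.node 22730 (.node 22725 (.node 22722 (.node 22721 (.leaf 0x27a23) (.leaf 0x27a23)) (.node 22723 (.leaf 0x27a23) (.node 22724 (.leaf 0x27a23) (.leaf 0x27a23)))) (.node 22727 (.node 22726 (.leaf 0x27a23) (.leaf 0x27a23)) (.node 22728 (.leaf 0x27a23) (.node 22729 (.leaf 0x27a23) (.leaf 0x27a23))))) (.node 22735 (.node 22732 (.node 22731 (.leaf 0x27a23) (.leaf 0x27a23)) (.node 22733 (.leaf 0x27a23) (.node 22734 (.leaf 0x27a23) (.leaf 0x27a23)))) (.node 22737 (.node 22736 (.leaf 0x27a23) (.leaf 0x27a23)) (.node 22738 (.leaf 0x27a23) (.node 22739 (.leaf 0x27a23) (.leaf 0x27a23))))))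

def candS_1124 : Store := (.node 22750 (.node 22745 (.node 22742 (.node 22741 (.leaf 0x27a23) (.leaf 0x27a23)) (.node 22743 (.leaf 0x27a23) (.node 22744 (.leaf 0x27a23) (.leaf 0x27a23)))) (.node 22747 (.node 22746 (.leaf 0x27a23) (.leaf 0x27a23)) (.node 22748 (.leaf 0x27a23) (.node 22749 (.leaf 0x27a23) (.leaf 0x27a23))))) (.node 22755 (.node 22752 (.node 22751 (.leaf 0x27a23) (.leaf 0x27a23)) (.node 22753 (.leaf 0x27a23) (.node 22754 (.leaf 0x27a23) (.leaf 0x27a23)))) (.node 22758 (.node 22756 (.leaf 0x27a23) (.node 22757 (.leaf 0x27a23) (.leaf 0x27a23))) (.node 22759 (.leaf 0x27a23) (.node 22760 (.leaf 0x27a23) (.leaf 0x27a23))))))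

def candS_1125 : Store := (.node 22771 (.node 22766 (.node 22763 (.node 22762 (.leaf 0x27a23) (.leaf 0x27a23)) (.node 22764 (.leaf 0x27a23) (.node 22765 (.leaf 0x27a23) (.leaf 0x27a23)))) (.node 22768 (.node 22767 (.leaf 0x27a23) (.leaf 0x27a23)) (.node 22769 (.leaf 0x27a23) (.node 22770 (.leaf 0x27a23) (.leaf 0x27a23))))) (.node 22776 (.node 22773 (.node 22772 (.leaf 0x27a23) (.leaf 0x27a23)) (.node 22774 (.leaf 0x27a23) (.node 22775 (.leaf 0x27a23) (.leaf 0x27a23)))) (.node 22778 (.node 22777 (.leaf 0x27a23) (.leaf 0x27a23)) (.node 22779 (.leaf 0x27a23) (.node 22780 (.leaf 0x27a23) (.leaf 0x27a23))))))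

def candS_1126 : Store := (.node 22791 (.node 22786 (.node 22783 (.node 22782 (.leaf 0x27a23) (.leaf 0x27a23)) (.node 22784 (.leaf 0x27a23) (.node 22785 (.leaf 0x27a23) (.leaf 0x27a23)))) (.node 22788 (.node 22787 (.leaf 0x27a23) (.leaf 0x27a23)) (.node 22789 (.leaf 0x27a23) (.node 22790 (.leaf 0x27a23) (.leaf 0x27a23))))) (.node 22796 (.node 22793 (.node 22792 (.leaf 0x27a23) (.leaf 0x27a23)) (.node 22794 (.leaf 0x27a23) (.node 22795 (.leaf 0x27a23) (.leaf 0x27a23)))) (.node 22798 (.node 22797 (.leaf 0x27a23) (.leaf 0x27a23)) (.node 22799 (.leaf 0x27a23) (.node 22800 (.leaf 0x27a23) (.leaf 0x27a23))))))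

def candS_1127 : Store := (.node 22811 (.node 22806 (.node 22803 (.node 22802 (.leaf 0x27a23) (.leaf 0x27a23)) (.node 22804 (.leaf 0x27a23) (.node 22805 (.leaf 0x27a23) (.leaf 0x27a23)))) (.node 22808 (.node 22807 (.leaf 0x27a23) (.leaf 0x27a23)) (.node 22809 (.leaf 0x27a23) (.node 22810 (.leaf 0x27a23) (.leaf 0x27a23))))) (.node 22816 (.node 22813 (.node 22812 (.leaf 0x27a23) (.leaf 0x27a23)) (.node 22814 (.leaf 0x27a23) (.node 22815 (.leaf 0x27a23) (.leaf 0x27a23)))) (.node 22818 (.node 22817 (.leaf 0x27a23) (.leaf 0x27a23)) (.node 22819 (.leaf 0x27a23) (.node 22820 (.leaf 0x27a23) (.leaf 0x27a23))))))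

def candS_1128 : Store := (.node 22831 (.node 22826 (.node 22823 (.node 22822 (.leaf 0x27a23) (.leaf 0x27a23)) (.node 22824 (.leaf 0x27a23) (.node 22825 (.leaf 0x27a23) (.leaf 0x27a23)))) (.node 22828 (.node 22827 (.leaf 0x27a23) (.leaf 0x27a23)) (.node 22829 (.leaf 0x27a23) (.node 22830 (.leaf 0x27a23) (.leaf 0x27a23))))) (.node 22836 (.node 22833 (.node 22832 (.leaf 0x27a23) (.leaf 0x27a23)) (.node 22834 (.leaf 0x27a23) (.node 22835 (.leaf 0x27a23) (.leaf 0x27a23)))) (.node 22839 (.node 22837 (.leaf 0x27a23) (.node 22838 (.leaf 0x27a23) (.leaf 0x27a23))) (.node 22840 (.leaf 0x27a23) (.node 22841 (.leaf 0x27a23) (.leaf 0x27a23))))))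

def candS_1129 : Store := (.node 22852 (.node 22847 (.node 22844 (.node 22843 (.leaf 0x27a23) (.leaf 0x27a23)) (.node 22845 (.leaf 0x27a23) (.node 22846 (.leaf 0x27a23) (.leaf 0x27a23)))) (.node 22849 (.node 22848 (.leaf 0x27a23) (.leaf 0x27a23)) (.node 22850 (.leaf 0x27a23) (.node 22851 (.leaf 0x27a23) (.leaf 0x27a23))))) (.node 22857 (.node 22854 (.node 22853 (.leaf 0x27a23) (.leaf 0x27a23)) (.node 22855 (.leaf 0x27a23) (.node 22856 (.leaf 0x27a23) (.leaf 0x27a23)))) (.node 22859 (.node 22858 (.leaf 0x27a23) (.leaf 0x27a23)) (.node 22860 (.leaf 0x27a23) (.node 22861 (.leaf 0x27a23) (.leaf 0x27a23))))))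

def candS_1130 : Store := (.node 22872 (.node 22867 (.node 22864 (.node 22863 (.leaf 0x27a23) (.leaf 0x27a23)) (.node 22865 (.leaf 0x27a23) (.node 22866 (.leaf 0x27a23) (.leaf 0x27a23)))) (.node 22869 (.node 22868 (.leaf 0x27a23) (.leaf 0x27a23)) (.node 22870 (.leaf 0x27a23) (.node 22871 (.leaf 0x27a23) (.leaf 0x27a23))))) (.node 22877 (.node 22874 (.node 22873 (.leaf 0x27a23) (.leaf 0x27a23)) (.node 22875 (.leaf 0x27a23) (.node 22876 (.leaf 0x27a23) (.leaf 0x27a23)))) (.node 22879 (.node 22878 (.leaf 0x27a23) (.leaf 0x27a23)) (.node 22880 (.leaf 0x27a23) (.node 22881 (.leaf 0x27a23) (.leaf 0x27a23))))))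

def candS_1131 : Store := (.node 22892 (.node 22887 (.node 22884 (.node 22883 (.leaf 0x27a23) (.leaf 0x27a23)) (.node 22885 (.leaf 0x27a23) (.node 22886 (.leaf 0x27a23) (.leaf 0x27a23)))) (.node 22889 (.node 22888 (.leaf 0x27a23) (.leaf 0x27a23)) (.node 22890 (.leaf 0x27a23) (.node 22891 (.leaf 0x27a23) (.leaf 0x27a23))))) (.node 22897 (.node 22894 (.node 22893 (.leaf 0x27a23) (.leaf 0x27a23)) (.node 22895 (.leaf 0x27a23) (.node 22896 (.leaf 0x27a23) (.leaf 0x27a23)))) (.node 22899 (.node 22898 (.leaf 0x27a23) (.leaf 0x27a23)) (.node 22900 (.leaf 0x27a23) (.node 22901 (.leaf 0x27a23) (.leaf 0x27a23))))))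

def candS_1132 : Store := (.node 22912 (.node 22907 (.node 22904 (.node 22903 (.leaf 0x27a23) (.leaf 0x27a23)) (.node 22905 (.leaf 0x27a23) (.node 22906 (.leaf 0x27a23) (.leaf 0x27a23)))) (.node 22909 (.node 22908 (.leaf 0x27a23) (.leaf 0x27a23)) (.node 22910 (.leaf 0x27a23) (.node 22911 (.leaf 0x27a23) (.leaf 0x27a23))))) (.node 22917 (.node 22914 (.node 22913 (.leaf 0x27a23) (.leaf 0x27a23)) (.node 22915 (.leaf 0x27a23) (.node 22916 (.leaf 0x27a23) (.leaf 0x27a23)))) (.node 22920 (.node 22918 (.leaf 0x27a23) (.node 22919 (.leaf 0x27a23) (.leaf 0x27a23))) (.node 22921 (.leaf 0x27a23) (.node 22922 (.leaf 0x27a23) (.leaf 0x27a23))))))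

def candS_1133 : Store := (.node 22933 (.node 22928 (.node 22925 (.node 22924 (.leaf 0x27a23) (.leaf 0x27a23)) (.node 22926 (.leaf 0x27a23) (.node 22927 (.leaf 0x27a23) (.leaf 0x27a23)))) (.node 22930 (.node 22929 (.leaf 0x27a23) (.leaf 0x27a23)) (.node 22931 (.leaf 0x27a23) (.node 22932 (.leaf 0x27a23) (.leaf 0x27a23))))) (.node 22938 (.node 22935 (.node 22934 (.leaf 0x27a23) (.leaf 0x27a23)) (.node 22936 (.leaf 0x27a23) (.node 22937 (.leaf 0x27a23) (.leaf 0x27a23)))) (.node 22940 (.node 22939 (.leaf 0x27a23) (.leaf 0x27a23)) (.node 22941 (.leaf 0x27a23) (.node 22942 (.leaf 0x27a23) (.leaf 0x27a23))))))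

def candS_1134 : Store := (.node 22953 (.node 22948 (.node 22945 (.node 22944 (.leaf 0x27a23) (.leaf 0x27a23)) (.node 22946 (.leaf 0x27a23) (.node 22947 (.leaf 0x27a23) (.leaf 0x27a23)))) (.node 22950 (.node 22949 (.leaf 0x27a23) (.leaf 0x27a23)) (.node 22951 (.leaf 0x27a23) (.node 22952 (.leaf 0x27a23) (.leaf 0x27a23))))) (.node 22958 (.node 22955 (.node 22954 (.leaf 0x27a23) (.leaf 0x27a23)) (.node 22956 (.leaf 0x27a23) (.node 22957 (.leaf 0x27a23) (.leaf 0x27a23)))) (.node 22960 (.node 22959 (.leaf 0x27a23) (.leaf 0x27a23)) (.node 22961 (.leaf 0x27a23) (.node 22962 (.leaf 0x27a23) (.leaf 0x27a23))))))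

def candS_1135 : Store := (.node 22973 (.node 22968 (.node 22965 (.node 22964 (.leaf 0x27a23) (.leaf 0x27a23)) (.node 22966 (.leaf 0x27a23) (.node 22967 (.leaf 0x27a23) (.leaf 0x27a23)))) (.node 22970 (.node 22969 (.leaf 0x27a23) (.leaf 0x27a23)) (.node 22971 (.leaf 0x27a23) (.node 22972 (.leaf 0x27a23) (.leaf 0x27a23))))) (.node 22978 (.node 22975 (.node 22974 (.leaf 0x27a23) (.leaf 0x27a23)) (.node 22976 (.leaf 0x27a23) (.node 22977 (.leaf 0x27a23) (.leaf 0x27a23)))) (.node 22980 (.node 22979 (.leaf 0x27a23) (.leaf 0x27a23)) (.node 22981 (.leaf 0x27a23) (.node 22982 (.leaf 0x27a23) (.leaf 0x27a23))))))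

def candS_1136 : Store := (.node 22993 (.node 22988 (.node 22985 (.node 22984 (.leaf 0x27a23) (.leaf 0x27a23)) (.node 22986 (.leaf 0x27a23) (.node 22987 (.leaf 0x27a23) (.leaf 0x27a23)))) (.node 22990 (.node 22989 (.leaf 0x27a23) (.leaf 0x27a23)) (.node 22991 (.leaf 0x27a23) (.node 22992 (.leaf 0x27a23) (.leaf 0x27a23))))) (.node 22998 (.node 22995 (.node 22994 (.leaf 0x27a23) (.leaf 0x27a23)) (.node 22996 (.leaf 0x27a23) (.node 22997 (.leaf 0x27a23) (.leaf 0x27a23)))) (.node 23001 (.node 22999 (.leaf 0x27a23) (.node 23000 (.leaf 0x27a23) (.leaf 0x27a23))) (.node 23002 (.leaf 0x27a23) (.node 23003 (.leaf 0x27a23) (.leaf 0x27a23))))))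

def candS_1137 : Store := (.node 23014 (.node 23009 (.node 23006 (.node 23005 (.leaf 0x27a23) (.leaf 0x27a23)) (.node 23007 (.leaf 0x27a23) (.node 23008 (.leaf 0x27a23) (.leaf 0x27a23)))) (.node 23011 (.node 23010 (.leaf 0x27a23) (.leaf 0x27a23)) (.node 23012 (.leaf 0x27a23) (.node 23013 (.leaf 0x27a23) (.leaf 0x27a23))))) (.node 23019 (.node 23016 (.node 23015 (.leaf 0x27a23) (.leaf 0x27a23)) (.node 23017 (.leaf 0x27a23) (.node 23018 (.leaf 0x27a23) (.leaf 0x27a23)))) (.node 23021 (.node 23020 (.leaf 0x27a23) (.leaf 0x27a23)) (.node 23022 (.leaf 0x27a23) (.node 23023 (.leaf 0x27a23) (.leaf 0x27a23))))))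

def candS_1138 : Store := (.node 23034 (.node 23029 (.node 23026 (.node 23025 (.leaf 0x27a23) (.leaf 0x27a23)) (.node 23027 (.leaf 0x27a23) (.node 23028 (.leaf 0x27a23) (.leaf 0x27a23)))) (.node 23031 (.node 23030 (.leaf 0x27a23) (.leaf 0x27a23)) (.node 23032 (.leaf 0x27a23) (.node 23033 (.leaf 0x27a23) (.leaf 0x27a23))))) (.node 23039 (.node 23036 (.node 23035 (.leaf 0x27a23) (.leaf 0x27a23)) (.node 23037 (.leaf 0x27a23) (.node 23038 (.leaf 0x27a23) (.leaf 0x27a23)))) (.node 23041 (.node 23040 (.leaf 0x27a23) (.leaf 0x27a23)) (.node 23042 (.leaf 0x27a23) (.node 23043 (.leaf 0x27a23) (.leaf 0x27a23))))))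

def candS_1139 : Store := (.node 23054 (.node 23049 (.node 23046 (.node 23045 (.leaf 0x27a23) (.leaf 0x27a23)) (.node 23047 (.leaf 0x27a23) (.node 23048 (.leaf 0x27a23) (.leaf 0x27a23)))) (.node 23051 (.node 23050 (.leaf 0x27a23) (.leaf 0x27a23)) (.node 23052 (.leaf 0x27a23) (.node 23053 (.leaf 0x27a23) (.leaf 0x27a23))))) (.node 23059 (.node 23056 (.node 23055 (.leaf 0x27a23) (.leaf 0x27a23)) (.node 23057 (.leaf 0x27a23) (.node 23058 (.leaf 0x27a23) (.leaf 0x27a23)))) (.node 23061 (.node 23060 (.leaf 0x27a23) (.leaf 0x27a23)) (.node 23062 (.leaf 0x27a23) (.node 23063 (.leaf 0x27a23) (.leaf 0x27a23))))))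

def candS_1140 : Store := (.node 23074 (.node 23069 (.node 23066 (.node 23065 (.leaf 0x27a23) (.leaf 0x27a23)) (.node 23067 (.leaf 0x27a23) (.node 23068 (.leaf 0x27a23) (.leaf 0x27a23)))) (.node 23071 (.node 23070 (.leaf 0x27a23) (.leaf 0x27a23)) (.node 23072 (.leaf 0x27a23) (.node 23073 (.leaf 0x27a23) (.leaf 0x27a23))))) (.node 23079 (.node 23076 (.node 23075 (.leaf 0x27a23) (.leaf 0x27a23)) (.node 23077 (.leaf 0x27a23) (.node 23078 (.leaf 0x27a23) (.leaf 0x27a23)))) (.node 23082 (.node 23080 (.leaf 0x27a23) (.node 23081 (.leaf 0x27a23) (.leaf 0x27a23))) (.node 23083 (.leaf 0x27a23) (.node 23084 (.leaf 0x27a23) (.leaf 0x27a23))))))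

def candS_1141 : Store := (.node 23095 (.node 23090 (.node 23087 (.node 23086 (.leaf 0x27a23) (.leaf 0x27a23)) (.node 23088 (.leaf 0x27a23) (.node 23089 (.leaf 0x27a23) (.leaf 0x27a23)))) (.node 23092 (.node 23091 (.leaf 0x27a23) (.leaf 0x27a23)) (.node 23093 (.leaf 0x27a23) (.node 23094 (.leaf 0x27a23) (.leaf 0x27a23))))) (.node 23100 (.node 23097 (.node 23096 (.leaf 0x27a23) (.leaf 0x27a23)) (.node 23098 (.leaf 0x27a23) (.node 23099 (.leaf 0x27a23) (.leaf 0x27a23)))) (.node 23102 (.node 23101 (.leaf 0x27a23) (.leaf 0x27a23)) (.node 23103 (.leaf 0x27a23) (.node 23104 (.leaf 0x27a23) (.leaf 0x27a23))))))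

def candS_1142 : Store := (.node 23115 (.node 23110 (.node 23107 (.node 23106 (.leaf 0x27a23) (.leaf 0x27a23)) (.node 23108 (.leaf 0x27a23) (.node 23109 (.leaf 0x27a23) (.leaf 0x27a23)))) (.node 23112 (.node 23111 (.leaf 0x27a23) (.leaf 0x27a23)) (.node 23113 (.leaf 0x27a23) (.node 23114 (.leaf 0x27a23) (.leaf 0x27a23))))) (.node 23120 (.node 23117 (.node 23116 (.leaf 0x27a23) (.leaf 0x27a23)) (.node 23118 (.leaf 0x27a23) (.node 23119 (.leaf 0x27a23) (.leaf 0x27a23)))) (.node 23122 (.node 23121 (.leaf 0x27a23) (.leaf 0x27a23)) (.node 23123 (.leaf 0x27a23) (.node 23124 (.leaf 0x27a23) (.leaf 0x27a23))))))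

def candS_1143 : Store := (.node 23135 (.node 23130 (.node 23127 (.node 23126 (.leaf 0x27a23) (.leaf 0x27a23)) (.node 23128 (.leaf 0x27a23) (.node 23129 (.leaf 0x27a23) (.leaf 0x27a23)))) (.node 23132 (.node 23131 (.leaf 0x27a23) (.leaf 0x27a23)) (.node 23133 (.leaf 0x27a23) (.node 23134 (.leaf 0x27a23) (.leaf 0x27a23))))) (.node 23140 (.node 23137 (.node 23136 (.leaf 0x27a23) (.leaf 0x27a23)) (.node 23138 (.leaf 0x27a23) (.node 23139 (.leaf 0x27a23) (.leaf 0x27a23)))) (.node 23142 (.node 23141 (.leaf 0x27a23) (.leaf 0x27a23)) (.node 23143 (.leaf 0x27a23) (.node 23144 (.leaf 0x27a23) (.leaf 0x27a23))))))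

def candS_1144 : Store := (.node 23155 (.node 23150 (.node 23147 (.node 23146 (.leaf 0x27a23) (.leaf 0x27a23)) (.node 23148 (.leaf 0x27a23) (.node 23149 (.leaf 0x27a23) (.leaf 0x27a23)))) (.node 23152 (.node 23151 (.leaf 0x27a23) (.leaf 0x27a23)) (.node 23153 (.leaf 0x27a23) (.node 23154 (.leaf 0x27a23) (.leaf 0x27a23))))) (.node 23160 (.node 23157 (.node 23156 (.leaf 0x27a23) (.leaf 0x27a23)) (.node 23158 (.leaf 0x27a23) (.node 23159 (.leaf 0x27a23) (.leaf 0x27a23)))) (.node 23163 (.node 23161 (.leaf 0x27a23) (.node 23162 (.leaf 0x27a23) (.leaf 0x27a23))) (.node 23164 (.leaf 0x27a23) (.node 23165 (.leaf 0x27a23) (.leaf 0x27a23))))))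

def candS_1145 : Store := (.node 23176 (.node 23171 (.node 23168 (.node 23167 (.leaf 0x27a23) (.leaf 0x27a23)) (.node 23169 (.leaf 0x27a23) (.node 23170 (.leaf 0x27a23) (.leaf 0x27a23)))) (.node 23173 (.node 23172 (.leaf 0x27a23) (.leaf 0x27a23)) (.node 23174 (.leaf 0x27a23) (.node 23175 (.leaf 0x27a23) (.leaf 0x27a23))))) (.node 23181 (.node 23178 (.node 23177 (.leaf 0x27a23) (.leaf 0x27a23)) (.node 23179 (.leaf 0x27a23) (.node 23180 (.leaf 0x27a23) (.leaf 0x27a23)))) (.node 23183 (.node 23182 (.leaf 0x27a23) (.leaf 0x27a23)) (.node 23184 (.leaf 0x27a23) (.node 23185 (.leaf 0x27a23) (.leaf 0x27a23))))))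

def candS_1146 : Store := (.node 23196 (.node 23191 (.node 23188 (.node 23187 (.leaf 0x27a23) (.leaf 0x27a23)) (.node 23189 (.leaf 0x27a23) (.node 23190 (.leaf 0x27a23) (.leaf 0x27a23)))) (.node 23193 (.node 23192 (.leaf 0x27a23) (.leaf 0x27a23)) (.node 23194 (.leaf 0x27a23) (.node 23195 (.leaf 0x27a23) (.leaf 0x27a23))))) (.node 23201 (.node 23198 (.node 23197 (.leaf 0x27a23) (.leaf 0x27a23)) (.node 23199 (.leaf 0x27a23) (.node 23200 (.leaf 0x27a23) (.leaf 0x27a23)))) (.node 23203 (.node 23202 (.leaf 0x27a23) (.leaf 0x27a23)) (.node 23204 (.leaf 0x27a23) (.node 23205 (.leaf 0x27a23) (.leaf 0x27a23))))))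

def candS_1147 : Store := (.node 23216 (.node 23211 (.node 23208 (.node 23207 (.leaf 0x27a23) (.leaf 0x27a23)) (.node 23209 (.leaf 0x27a23) (.node 23210 (.leaf 0x27a23) (.leaf 0x27a23)))) (.node 23213 (.node 23212 (.leaf 0x27a23) (.leaf 0x27a23)) (.node 23214 (.leaf 0x27a23) (.node 23215 (.leaf 0x27a23) (.leaf 0x27a23))))) (.node 23221 (.node 23218 (.node 23217 (.leaf 0x27a23) (.leaf 0x27a23)) (.node 23219 (.leaf 0x27a23) (.node 23220 (.leaf 0x27a23) (.leaf 0x27a23)))) (.node 23223 (.node 23222 (.leaf 0x27a23) (.leaf 0x27a23)) (.node 23224 (.leaf 0x27a23) (.node 23225 (.leaf 0x27a23) (.leaf 0x27a23))))))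

def candS_1148 : Store := (.node 23236 (.node 23231 (.node 23228 (.node 23227 (.leaf 0x27a23) (.leaf 0x27a23)) (.node 23229 (.leaf 0x27a23) (.node 23230 (.leaf 0x27a23) (.leaf 0x27a23)))) (.node 23233 (.node 23232 (.leaf 0x27a23) (.leaf 0x27a23)) (.node 23234 (.leaf 0x27a23) (.node 23235 (.leaf 0x27a23) (.leaf 0x27a23))))) (.node 23241 (.node 23238 (.node 23237 (.leaf 0x27a23) (.leaf 0x27a23)) (.node 23239 (.leaf 0x27a23) (.node 23240 (.leaf 0x27a23) (.leaf 0x27a23)))) (.node 23244 (.node 23242 (.leaf 0x27a23) (.node 23243 (.leaf 0x27a23) (.leaf 0x27a23))) (.node 23245 (.leaf 0x27a23) (.node 23246 (.leaf 0x27a23) (.leaf 0x27a23))))))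

def candS_1149 : Store := (.node 23257 (.node 23252 (.node 23249 (.node 23248 (.leaf 0x27a23) (.leaf 0x27a23)) (.node 23250 (.leaf 0x27a23) (.node 23251 (.leaf 0x27a23) (.leaf 0x27a23)))) (.node 23254 (.node 23253 (.leaf 0x27a23) (.leaf 0x27a23)) (.node 23255 (.leaf 0x27a23) (.node 23256 (.leaf 0x27a23) (.leaf 0x27a23))))) (.node 23262 (.node 23259 (.node 23258 (.leaf 0x27a23) (.leaf 0x27a23)) (.node 23260 (.leaf 0x27a23) (.node 23261 (.leaf 0x27a23) (.leaf 0x27a23)))) (.node 23264 (.node 23263 (.leaf 0x27a23) (.leaf 0x27a23)) (.node 23265 (.leaf 0x27a23) (.node 23266 (.leaf 0x27a23) (.leaf 0x27a23))))))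

def candS_1150 : Store := (.node 23277 (.node 23272 (.node 23269 (.node 23268 (.leaf 0x27a23) (.leaf 0x27a23)) (.node 23270 (.leaf 0x27a23) (.node 23271 (.leaf 0x27a23) (.leaf 0x27a23)))) (.node 23274 (.node 23273 (.leaf 0x27a23) (.leaf 0x27a23)) (.node 23275 (.leaf 0x27a23) (.node 23276 (.leaf 0x27a23) (.leaf 0x27a23))))) (.node 23282 (.node 23279 (.node 23278 (.leaf 0x27a23) (.leaf 0x27a23)) (.node 23280 (.leaf 0x27a23) (.node 23281 (.leaf 0x27a23) (.leaf 0x27a23)))) (.node 23284 (.node 23283 (.leaf 0x27a23) (.leaf 0x27a23)) (.node 23285 (.leaf 0x27a23) (.node 23286 (.leaf 0x27a23) (.leaf 0x27a23))))))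

def candS_1151 : Store := (.node 23297 (.node 23292 (.node 23289 (.node 23288 (.leaf 0x27a23) (.leaf 0x27a23)) (.node 23290 (.leaf 0x27a23) (.node 23291 (.leaf 0x27a23) (.leaf 0x27a23)))) (.node 23294 (.node 23293 (.leaf 0x27a23) (.leaf 0x27a23)) (.node 23295 (.leaf 0x27a23) (.node 23296 (.leaf 0x27a23) (.leaf 0x27a23))))) (.node 23302 (.node 23299 (.node 23298 (.leaf 0x27a23) (.leaf 0x27a23)) (.node 23300 (.leaf 0x27a23) (.node 23301 (.leaf 0x27a23) (.leaf 0x27a23)))) (.node 23304 (.node 23303 (.leaf 0x27a23) (.leaf 0x27a23)) (.node 23305 (.leaf 0x27a23) (.node 23306 (.leaf 0x27a23) (.leaf 0x27a23))))))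

def candS_1152 : Store := (.node 23317 (.node 23312 (.node 23309 (.node 23308 (.leaf 0x27a23) (.leaf 0x27a23)) (.node 23310 (.leaf 0x27a23) (.node 23311 (.leaf 0x27a23) (.leaf 0x27a23)))) (.node 23314 (.node 23313 (.leaf 0x27a23) (.leaf 0x27a23)) (.node 23315 (.leaf 0x27a23) (.node 23316 (.leaf 0x27a23) (.leaf 0x27a23))))) (.node 23322 (.node 23319 (.node 23318 (.leaf 0x27a23) (.leaf 0x27a23)) (.node 23320 (.leaf 0x27a23) (.node 23321 (.leaf 0x27a23) (.leaf 0x27a23)))) (.node 23325 (.node 23323 (.leaf 0x27a23) (.node 23324 (.leaf 0x27a23) (.leaf 0x27a23))) (.node 23326 (.leaf 0x27a23) (.node 23327 (.leaf 0x27a23) (.leaf 0x27a23))))))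

def candS_1153 : Store := (.node 23338 (.node 23333 (.node 23330 (.node 23329 (.leaf 0x27a23) (.leaf 0x27a23)) (.node 23331 (.leaf 0x27a23) (.node 23332 (.leaf 0x27a23) (.leaf 0x27a23)))) (.node 23335 (.node 23334 (.leaf 0x27a23) (.leaf 0x27a23)) (.node 23336 (.leaf 0x27a23) (.node 23337 (.leaf 0x27a23) (.leaf 0x27a23))))) (.node 23343 (.node 23340 (.node 23339 (.leaf 0x27a23) (.leaf 0x27a23)) (.node 23341 (.leaf 0x27a23) (.node 23342 (.leaf 0x27a23) (.leaf 0x27a23)))) (.node 23345 (.node 23344 (.leaf 0x27a23) (.leaf 0x27a23)) (.node 23346 (.leaf 0x27a23) (.node 23347 (.leaf 0x27a23) (.leaf 0x27a23))))))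

def candS_1154 : Store := (.node 23358 (.node 23353 (.node 23350 (.node 23349 (.leaf 0x27a23) (.leaf 0x27a23)) (.node 23351 (.leaf 0x27a23) (.node 23352 (.leaf 0x27a23) (.leaf 0x27a23)))) (.node 23355 (.node 23354 (.leaf 0x27a23) (.leaf 0x27a23)) (.node 23356 (.leaf 0x27a23) (.node 23357 (.leaf 0x27a23) (.leaf 0x27a23))))) (.node 23363 (.node 23360 (.node 23359 (.leaf 0x27a23) (.leaf 0x27a23)) (.node 23361 (.leaf 0x27a23) (.node 23362 (.leaf 0x27a23) (.leaf 0x27a23)))) (.node 23365 (.node 23364 (.leaf 0x27a23) (.leaf 0x27a23)) (.node 23366 (.leaf 0x27a23) (.node 23367 (.leaf 0x27a23) (.leaf 0x27a23))))))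

def candS_1155 : Store := (.node 23378 (.node 23373 (.node 23370 (.node 23369 (.leaf 0x27a23) (.leaf 0x27a23)) (.node 23371 (.leaf 0x27a23) (.node 23372 (.leaf 0x27a23) (.leaf 0x27a23)))) (.node 23375 (.node 23374 (.leaf 0x27a23) (.leaf 0x27a23)) (.node 23376 (.leaf 0x27a23) (.node 23377 (.leaf 0x27a23) (.leaf 0x27a23))))) (.node 23383 (.node 23380 (.node 23379 (.leaf 0x27a23) (.leaf 0x27a23)) (.node 23381 (.leaf 0x27a23) (.node 23382 (.leaf 0x27a23) (.leaf 0x27a23)))) (.node 23385 (.node 23384 (.leaf 0x27a23) (.leaf 0x27a23)) (.node 23386 (.leaf 0x27a23) (.node 23387 (.leaf 0x27a23) (.leaf 0x27a23))))))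

def candS_1156 : Store := (.node 23398 (.node 23393 (.node 23390 (.node 23389 (.leaf 0x27a23) (.leaf 0x27a23)) (.node 23391 (.leaf 0x27a23) (.node 23392 (.leaf 0x27a23) (.leaf 0x27a23)))) (.node 23395 (.node 23394 (.leaf 0x27a23) (.leaf 0x27a23)) (.node 23396 (.leaf 0x27a23) (.node 23397 (.leaf 0x27a23) (.leaf 0x27a23))))) (.node 23403 (.node 23400 (.node 23399 (.leaf 0x27a23) (.leaf 0x27a23)) (.node 23401 (.leaf 0x27a23) (.node 23402 (.leaf 0x27a23) (.leaf 0x27a23)))) (.node 23406 (.node 23404 (.leaf 0x27a23) (.node 23405 (.leaf 0x27a23) (.leaf 0x27a23))) (.node 23407 (.leaf 0x27a23) (.node 23408 (.leaf 0x27a23) (.leaf 0x27a23))))))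

def candS_1157 : Store := (.node 23419 (.node 23414 (.node 23411 (.node 23410 (.leaf 0x27a23) (.leaf 0x27a23)) (.node 23412 (.leaf 0x27a23) (.node 23413 (.leaf 0x27a23) (.leaf 0x27a23)))) (.node 23416 (.node 23415 (.leaf 0x27a23) (.leaf 0x27a23)) (.node 23417 (.leaf 0x27a23) (.node 23418 (.leaf 0x27a23) (.leaf 0x27a23))))) (.node 23424 (.node 23421 (.node 23420 (.leaf 0x27a23) (.leaf 0x27a23)) (.node 23422 (.leaf 0x27a23) (.node 23423 (.leaf 0x27a23) (.leaf 0x27a23)))) (.node 23426 (.node 23425 (.leaf 0x27a23) (.leaf 0x27a23)) (.node 23427 (.leaf 0x27a23) (.node 23428 (.leaf 0x27a23) (.leaf 0x27a23))))))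

def candS_1158 : Store := (.node 23439 (.node 23434 (.node 23431 (.node 23430 (.leaf 0x27a23) (.leaf 0x27a23)) (.node 23432 (.leaf 0x27a23) (.node 23433 (.leaf 0x27a23) (.leaf 0x27a23)))) (.node 23436 (.node 23435 (.leaf 0x27a23) (.leaf 0x27a23)) (.node 23437 (.leaf 0x27a23) (.node 23438 (.leaf 0x27a23) (.leaf 0x27a23))))) (.node 23444 (.node 23441 (.node 23440 (.leaf 0x27a23) (.leaf 0x27a23)) (.node 23442 (.leaf 0x27a23) (.node 23443 (.leaf 0x27a23) (.leaf 0x27a23)))) (.node 23446 (.node 23445 (.leaf 0x27a23) (.leaf 0x27a23)) (.node 23447 (.leaf 0x27a23) (.node 23448 (.leaf 0x27a23) (.leaf 0x27a23))))))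

def candS_1159 : Store := (.node 23459 (.node 23454 (.node 23451 (.node 23450 (.leaf 0x27a23) (.leaf 0x27a23)) (.node 23452 (.leaf 0x27a23) (.node 23453 (.leaf 0x27a23) (.leaf 0x27a23)))) (.node 23456 (.node 23455 (.leaf 0x27a23) (.leaf 0x27a23)) (.node 23457 (.leaf 0x27a23) (.node 23458 (.leaf 0x27a23) (.leaf 0x27a23))))) (.node 23464 (.node 23461 (.node 23460 (.leaf 0x27a23) (.leaf 0x27a23)) (.node 23462 (.leaf 0x27a23) (.node 23463 (.leaf 0x27a23) (.leaf 0x27a23)))) (.node 23466 (.node 23465 (.leaf 0x27a23) (.leaf 0x27a23)) (.node 23467 (.leaf 0x27a23) (.node 23468 (.leaf 0x27a23) (.leaf 0x27a23))))))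

def candS_1160 : Store := (.node 23479 (.node 23474 (.node 23471 (.node 23470 (.leaf 0x27a23) (.leaf 0x27a23)) (.node 23472 (.leaf 0x27a23) (.node 23473 (.leaf 0x27a23) (.leaf 0x27a23)))) (.node 23476 (.node 23475 (.leaf 0x27a23) (.leaf 0x27a23)) (.node 23477 (.leaf 0x27a23) (.node 23478 (.leaf 0x27a23) (.leaf 0x27a23))))) (.node 23484 (.node 23481 (.node 23480 (.leaf 0x27a23) (.leaf 0x27a23)) (.node 23482 (.leaf 0x27a23) (.node 23483 (.leaf 0x27a23) (.leaf 0x27a23)))) (.node 23487 (.node 23485 (.leaf 0x27a23) (.node 23486 (.leaf 0x27a23) (.leaf 0x27a23))) (.node 23488 (.leaf 0x27a23) (.node 23489 (.leaf 0x27a23) (.leaf 0x27a23))))))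

def candS_1161 : Store := (.node 23500 (.node 23495 (.node 23492 (.node 23491 (.leaf 0x27a23) (.leaf 0x27a23)) (.node 23493 (.leaf 0x27a23) (.node 23494 (.leaf 0x27a23) (.leaf 0x27a23)))) (.node 23497 (.node 23496 (.leaf 0x27a23) (.leaf 0x27a23)) (.node 23498 (.leaf 0x27a23) (.node 23499 (.leaf 0x27a23) (.leaf 0x27a23))))) (.node 23505 (.node 23502 (.node 23501 (.leaf 0x27a23) (.leaf 0x27a23)) (.node 23503 (.leaf 0x27a23) (.node 23504 (.leaf 0x27a23) (.leaf 0x27a23)))) (.node 23507 (.node 23506 (.leaf 0x27a23) (.leaf 0x27a23)) (.node 23508 (.leaf 0x27a23) (.node 23509 (.leaf 0x27a23) (.leaf 0x27a23))))))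

def candS_1162 : Store := (.node 23520 (.node 23515 (.node 23512 (.node 23511 (.leaf 0x27a23) (.leaf 0x27a23)) (.node 23513 (.leaf 0x27a23) (.node 23514 (.leaf 0x27a23) (.leaf 0x27a23)))) (.node 23517 (.node 23516 (.leaf 0x27a23) (.leaf 0x27a23)) (.node 23518 (.leaf 0x27a23) (.node 23519 (.leaf 0x27a23) (.leaf 0x27a23))))) (.node 23525 (.node 23522 (.node 23521 (.leaf 0x27a23) (.leaf 0x27a23)) (.node 23523 (.leaf 0x27a23) (.node 23524 (.leaf 0x27a23) (.leaf 0x27a23)))) (.node 23527 (.node 23526 (.leaf 0x27a23) (.leaf 0x27a23)) (.node 23528 (.leaf 0x27a23) (.node 23529 (.leaf 0x27a23) (.leaf 0x27a23))))))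

def candS_1163 : Store := (.node 23540 (.node 23535 (.node 23532 (.node 23531 (.leaf 0x27a23) (.leaf 0x27a23)) (.node 23533 (.leaf 0x27a23) (.node 23534 (.leaf 0x27a23) (.leaf 0x27a23)))) (.node 23537 (.node 23536 (.leaf 0x27a23) (.leaf 0x27a23)) (.node 23538 (.leaf 0x27a23) (.node 23539 (.leaf 0x27a23) (.leaf 0x27a23))))) (.node 23545 (.node 23542 (.node 23541 (.leaf 0x27a23) (.leaf 0x27a23)) (.node 23543 (.leaf 0x27a23) (.node 23544 (.leaf 0x27a23) (.leaf 0x27a23)))) (.node 23547 (.node 23546 (.leaf 0x27a23) (.leaf 0x27a23)) (.node 23548 (.leaf 0x27a23) (.node 23549 (.leaf 0x27a23) (.leaf 0x27a23))))))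

def candS_1164 : Store := (.node 23560 (.node 23555 (.node 23552 (.node 23551 (.leaf 0x27a23) (.leaf 0x27a23)) (.node 23553 (.leaf 0x27a23) (.node 23554 (.leaf 0x27a23) (.leaf 0x27a23)))) (.node 23557 (.node 23556 (.leaf 0x27a23) (.leaf 0x27a23)) (.node 23558 (.leaf 0x27a23) (.node 23559 (.leaf 0x27a23) (.leaf 0x27a23))))) (.node 23565 (.node 23562 (.node 23561 (.leaf 0x27a23) (.leaf 0x27a23)) (.node 23563 (.leaf 0x27a23) (.node 23564 (.leaf 0x27a23) (.leaf 0x27a23)))) (.node 23568 (.node 23566 (.leaf 0x27a23) (.node 23567 (.leaf 0x27a23) (.leaf 0x27a23))) (.node 23569 (.leaf 0x27a23) (.node 23570 (.leaf 0x27a23) (.leaf 0x27a23))))))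

def candS_1165 : Store := (.node 23581 (.node 23576 (.node 23573 (.node 23572 (.leaf 0x27a23) (.leaf 0x27a23)) (.node 23574 (.leaf 0x27a23) (.node 23575 (.leaf 0x27a23) (.leaf 0x27a23)))) (.node 23578 (.node 23577 (.leaf 0x27a23) (.leaf 0x27a23)) (.node 23579 (.leaf 0x27a23) (.node 23580 (.leaf 0x27a23) (.leaf 0x27a23))))) (.node 23586 (.node 23583 (.node 23582 (.leaf 0x27a23) (.leaf 0x27a23)) (.node 23584 (.leaf 0x27a23) (.node 23585 (.leaf 0x27a23) (.leaf 0x27a23)))) (.node 23588 (.node 23587 (.leaf 0x27a23) (.leaf 0x27a23)) (.node 23589 (.leaf 0x27a23) (.node 23590 (.leaf 0x27a23) (.leaf 0x27a23))))))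

def candS_1166 : Store := (.node 23601 (.node 23596 (.node 23593 (.node 23592 (.leaf 0x27a23) (.leaf 0x27a23)) (.node 23594 (.leaf 0x27a23) (.node 23595 (.leaf 0x27a23) (.leaf 0x27a23)))) (.node 23598 (.node 23597 (.leaf 0x27a23) (.leaf 0x27a23)) (.node 23599 (.leaf 0x27a23) (.node 23600 (.leaf 0x27a23) (.leaf 0x27a23))))) (.node 23606 (.node 23603 (.node 23602 (.leaf 0x27a23) (.leaf 0x27a23)) (.node 23604 (.leaf 0x27a23) (.node 23605 (.leaf 0x27a23) (.leaf 0x27a23)))) (.node 23608 (.node 23607 (.leaf 0x27a23) (.leaf 0x27a23)) (.node 23609 (.leaf 0x27a23) (.node 23610 (.leaf 0x27a23) (.leaf 0x27a23))))))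

def candS_1167 : Store := (.node 23621 (.node 23616 (.node 23613 (.node 23612 (.leaf 0x27a23) (.leaf 0x27a23)) (.node 23614 (.leaf 0x27a23) (.node 23615 (.leaf 0x27a23) (.leaf 0x27a23)))) (.node 23618 (.node 23617 (.leaf 0x27a23) (.leaf 0x27a23)) (.node 23619 (.leaf 0x27a23) (.node 23620 (.leaf 0x27a23) (.leaf 0x27a23))))) (.node 23626 (.node 23623 (.node 23622 (.leaf 0x27a23) (.leaf 0x27a23)) (.node 23624 (.leaf 0x27a23) (.node 23625 (.leaf 0x27a23) (.leaf 0x27a23)))) (.node 23628 (.node 23627 (.leaf 0x27a23) (.leaf 0x27a23)) (.node 23629 (.leaf 0x27a23) (.node 23630 (.leaf 0x27a23) (.leaf 0x27a23))))))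

def candS_1168 : Store := (.node 23641 (.node 23636 (.node 23633 (.node 23632 (.leaf 0x27a23) (.leaf 0x27a23)) (.node 23634 (.leaf 0x27a23) (.node 23635 (.leaf 0x27a23) (.leaf 0x27a23)))) (.node 23638 (.node 23637 (.leaf 0x27a23) (.leaf 0x27a23)) (.node 23639 (.leaf 0x27a23) (.node 23640 (.leaf 0x27a23) (.leaf 0x27a23))))) (.node 23646 (.node 23643 (.node 23642 (.leaf 0x27a23) (.leaf 0x27a23)) (.node 23644 (.leaf 0x27a23) (.node 23645 (.leaf 0x27a23) (.leaf 0x27a23)))) (.node 23649 (.node 23647 (.leaf 0x27a23) (.node 23648 (.leaf 0x27a23) (.leaf 0x27a23))) (.node 23650 (.leaf 0x27a23) (.node 23651 (.leaf 0x27a23) (.leaf 0x27a23))))))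

def candS_1169 : Store := (.node 23662 (.node 23657 (.node 23654 (.node 23653 (.leaf 0x27a23) (.leaf 0x27a23)) (.node 23655 (.leaf 0x27a23) (.node 23656 (.leaf 0x27a23) (.leaf 0x27a23)))) (.node 23659 (.node 23658 (.leaf 0x27a23) (.leaf 0x27a23)) (.node 23660 (.leaf 0x27a23) (.node 23661 (.leaf 0x27a23) (.leaf 0x27a23))))) (.node 23667 (.node 23664 (.node 23663 (.leaf 0x27a23) (.leaf 0x27a23)) (.node 23665 (.leaf 0x27a23) (.node 23666 (.leaf 0x27a23) (.leaf 0x27a23)))) (.node 23669 (.node 23668 (.leaf 0x27a23) (.leaf 0x27a23)) (.node 23670 (.leaf 0x27a23) (.node 23671 (.leaf 0x27a23) (.leaf 0x27a23))))))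

def candS_1170 : Store := (.node 23682 (.node 23677 (.node 23674 (.node 23673 (.leaf 0x27a23) (.leaf 0x27a23)) (.node 23675 (.leaf 0x27a23) (.node 23676 (.leaf 0x27a23) (.leaf 0x27a23)))) (.node 23679 (.node 23678 (.leaf 0x27a23) (.leaf 0x27a23)) (.node 23680 (.leaf 0x27a23) (.node 23681 (.leaf 0x27a23) (.leaf 0x27a23))))) (.node 23687 (.node 23684 (.node 23683 (.leaf 0x27a23) (.leaf 0x27a23)) (.node 23685 (.leaf 0x27a23) (.node 23686 (.leaf 0x27a23) (.leaf 0x27a23)))) (.node 23689 (.node 23688 (.leaf 0x27a23) (.leaf 0x27a23)) (.node 23690 (.leaf 0x27a23) (.node 23691 (.leaf 0x27a23) (.leaf 0x27a23))))))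

def candS_1171 : Store := (.node 23702 (.node 23697 (.node 23694 (.node 23693 (.leaf 0x27a23) (.leaf 0x27a23)) (.node 23695 (.leaf 0x27a23) (.node 23696 (.leaf 0x27a23) (.leaf 0x27a23)))) (.node 23699 (.node 23698 (.leaf 0x27a23) (.leaf 0x27a23)) (.node 23700 (.leaf 0x27a23) (.node 23701 (.leaf 0x27a23) (.leaf 0x27a23))))) (.node 23707 (.node 23704 (.node 23703 (.leaf 0x27a23) (.leaf 0x27a23)) (.node 23705 (.leaf 0x27a23) (.node 23706 (.leaf 0x27a23) (.leaf 0x27a23)))) (.node 23709 (.node 23708 (.leaf 0x27a23) (.leaf 0x27a23)) (.node 23710 (.leaf 0x27a23) (.node 23711 (.leaf 0x27a23) (.leaf 0x27a23))))))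

def candS_1172 : Store := (.node 23722 (.node 23717 (.node 23714 (.node 23713 (.leaf 0x27a23) (.leaf 0x27a23)) (.node 23715 (.leaf 0x27a23) (.node 23716 (.leaf 0x27a23) (.leaf 0x27a23)))) (.node 23719 (.node 23718 (.leaf 0x27a23) (.leaf 0x27a23)) (.node 23720 (.leaf 0x27a23) (.node 23721 (.leaf 0x27a23) (.leaf 0x27a23))))) (.node 23727 (.node 23724 (.node 23723 (.leaf 0x27a23) (.leaf 0x27a23)) (.node 23725 (.leaf 0x27a23) (.node 23726 (.leaf 0x27a23) (.leaf 0x27a23)))) (.node 23730 (.node 23728 (.leaf 0x27a23) (.node 23729 (.leaf 0x27a23) (.leaf 0x27a23))) (.node 23731 (.leaf 0x27a23) (.node 23732 (.leaf 0x27a23) (.leaf 0x27a23))))))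

def candS_1173 : Store := (.node 23743 (.node 23738 (.node 23735 (.node 23734 (.leaf 0x27a23) (.leaf 0x27a23)) (.node 23736 (.leaf 0x27a23) (.node 23737 (.leaf 0x27a23) (.leaf 0x27a23)))) (.node 23740 (.node 23739 (.leaf 0x27a23) (.leaf 0x27a23)) (.node 23741 (.leaf 0x27a23) (.node 23742 (.leaf 0x27a23) (.leaf 0x27a23))))) (.node 23748 (.node 23745 (.node 23744 (.leaf 0x27a23) (.leaf 0x27a23)) (.node 23746 (.leaf 0x27a23) (.node 23747 (.leaf 0x27a23) (.leaf 0x27a23)))) (.node 23750 (.node 23749 (.leaf 0x27a23) (.leaf 0x27a23)) (.node 23751 (.leaf 0x27a23) (.node 23752 (.leaf 0x27a23) (.leaf 0x27a23))))))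

def candS_1174 : Store := (.node 23763 (.node 23758 (.node 23755 (.node 23754 (.leaf 0x27a23) (.leaf 0x27a23)) (.node 23756 (.leaf 0x27a23) (.node 23757 (.leaf 0x27a23) (.leaf 0x27a23)))) (.node 23760 (.node 23759 (.leaf 0x27a23) (.leaf 0x27a23)) (.node 23761 (.leaf 0x27a23) (.node 23762 (.leaf 0x27a23) (.leaf 0x27a23))))) (.node 23768 (.node 23765 (.node 23764 (.leaf 0x27a23) (.leaf 0x27a23)) (.node 23766 (.leaf 0x27a23) (.node 23767 (.leaf 0x27a23) (.leaf 0x27a23)))) (.node 23770 (.node 23769 (.leaf 0x27a23) (.leaf 0x27a23)) (.node 23771 (.leaf 0x27a23) (.node 23772 (.leaf 0x27a23) (.leaf 0x27a23))))))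

def candS_1175 : Store := (.node 23783 (.node 23778 (.node 23775 (.node 23774 (.leaf 0x27a23) (.leaf 0x27a23)) (.node 23776 (.leaf 0x27a23) (.node 23777 (.leaf 0x27a23) (.leaf 0x27a23)))) (.node 23780 (.node 23779 (.leaf 0x27a23) (.leaf 0x27a23)) (.node 23781 (.leaf 0x27a23) (.node 23782 (.leaf 0x27a23) (.leaf 0x27a23))))) (.node 23788 (.node 23785 (.node 23784 (.leaf 0x27a23) (.leaf 0x27a23)) (.node 23786 (.leaf 0x27a23) (.node 23787 (.leaf 0x27a23) (.leaf 0x27a23)))) (.node 23790 (.node 23789 (.leaf 0x27a23) (.leaf 0x27a23)) (.node 23791 (.leaf 0x27a23) (.node 23792 (.leaf 0x27a23) (.leaf 0x27a23))))))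

def candS_1176 : Store := (.node 23803 (.node 23798 (.node 23795 (.node 23794 (.leaf 0x27a23) (.leaf 0x27a23)) (.node 23796 (.leaf 0x27a23) (.node 23797 (.leaf 0x27a23) (.leaf 0x27a23)))) (.node 23800 (.node 23799 (.leaf 0x27a23) (.leaf 0x27a23)) (.node 23801 (.leaf 0x27a23) (.node 23802 (.leaf 0x27a23) (.leaf 0x27a23))))) (.node 23808 (.node 23805 (.node 23804 (.leaf 0x27a23) (.leaf 0x27a23)) (.node 23806 (.leaf 0x27a23) (.node 23807 (.leaf 0x27a23) (.leaf 0x27a23)))) (.node 23811 (.node 23809 (.leaf 0x27a23) (.node 23810 (.leaf 0x27a23) (.leaf 0x27a23))) (.node 23812 (.leaf 0x27a23) (.node 23813 (.leaf 0x27a23) (.leaf 0x27a23))))))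

def candS_1177 : Store := (.node 23824 (.node 23819 (.node 23816 (.node 23815 (.leaf 0x27a23) (.leaf 0x27a23)) (.node 23817 (.leaf 0x27a23) (.node 23818 (.leaf 0x27a23) (.leaf 0x27a23)))) (.node 23821 (.node 23820 (.leaf 0x27a23) (.leaf 0x27a23)) (.node 23822 (.leaf 0x27a23) (.node 23823 (.leaf 0x27a23) (.leaf 0x27a23))))) (.node 23829 (.node 23826 (.node 23825 (.leaf 0x27a23) (.leaf 0x27a23)) (.node 23827 (.leaf 0x27a23) (.node 23828 (.leaf 0x27a23) (.leaf 0x27a23)))) (.node 23831 (.node 23830 (.leaf 0x27a23) (.leaf 0x27a23)) (.node 23832 (.leaf 0x27a23) (.node 23833 (.leaf 0x27a23) (.leaf 0x27a23))))))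

def candS_1178 : Store := (.node 23844 (.node 23839 (.node 23836 (.node 23835 (.leaf 0x27a23) (.leaf 0x27a23)) (.node 23837 (.leaf 0x27a23) (.node 23838 (.leaf 0x27a23) (.leaf 0x27a23)))) (.node 23841 (.node 23840 (.leaf 0x27a23) (.leaf 0x27a23)) (.node 23842 (.leaf 0x27a23) (.node 23843 (.leaf 0x27a23) (.leaf 0x27a23))))) (.node 23849 (.node 23846 (.node 23845 (.leaf 0x27a23) (.leaf 0x27a23)) (.node 23847 (.leaf 0x27a23) (.node 23848 (.leaf 0x27a23) (.leaf 0x27a23)))) (.node 23851 (.node 23850 (.leaf 0x27a23) (.leaf 0x27a23)) (.node 23852 (.leaf 0x27a23) (.node 23853 (.leaf 0x27a23) (.leaf 0x27a23))))))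

def candS_1179 : Store := (.node 23864 (.node 23859 (.node 23856 (.node 23855 (.leaf 0x27a23) (.leaf 0x27a23)) (.node 23857 (.leaf 0x27a23) (.node 23858 (.leaf 0x27a23) (.leaf 0x27a23)))) (.node 23861 (.node 23860 (.leaf 0x27a23) (.leaf 0x27a23)) (.node 23862 (.leaf 0x27a23) (.node 23863 (.leaf 0x27a23) (.leaf 0x27a23))))) (.node 23869 (.node 23866 (.node 23865 (.leaf 0x27a23) (.leaf 0x27a23)) (.node 23867 (.leaf 0x27a23) (.node 23868 (.leaf 0x27a23) (.leaf 0x27a23)))) (.node 23871 (.node 23870 (.leaf 0x27a23) (.leaf 0x27a23)) (.node 23872 (.leaf 0x27a23) (.node 23873 (.leaf 0x27a23) (.leaf 0x27a23))))))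

def candS_1180 : Store := (.node 23884 (.node 23879 (.node 23876 (.node 23875 (.leaf 0x27a23) (.leaf 0x27a23)) (.node 23877 (.leaf 0x27a23) (.node 23878 (.leaf 0x27a23) (.leaf 0x27a23)))) (.node 23881 (.node 23880 (.leaf 0x27a23) (.leaf 0x27a23)) (.node 23882 (.leaf 0x27a23) (.node 23883 (.leaf 0x27a23) (.leaf 0x27a23))))) (.node 23889 (.node 23886 (.node 23885 (.leaf 0x27a23) (.leaf 0x27a23)) (.node 23887 (.leaf 0x27a23) (.node 23888 (.leaf 0x27a23) (.leaf 0x27a23)))) (.node 23892 (.node 23890 (.leaf 0x27a23) (.node 23891 (.leaf 0x27a23) (.leaf 0x27a23))) (.node 23893 (.leaf 0x27a23) (.node 23894 (.leaf 0x27a23) (.leaf 0x27a23))))))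

def candS_1181 : Store := (.node 23905 (.node 23900 (.node 23897 (.node 23896 (.leaf 0x27a23) (.leaf 0x27a23)) (.node 23898 (.leaf 0x27a23) (.node 23899 (.leaf 0x27a23) (.leaf 0x27a23)))) (.node 23902 (.node 23901 (.leaf 0x27a23) (.leaf 0x27a23)) (.node 23903 (.leaf 0x27a23) (.node 23904 (.leaf 0x27a23) (.leaf 0x27a23))))) (.node 23910 (.node 23907 (.node 23906 (.leaf 0x27a23) (.leaf 0x27a23)) (.node 23908 (.leaf 0x27a23) (.node 23909 (.leaf 0x27a23) (.leaf 0x27a23)))) (.node 23912 (.node 23911 (.leaf 0x27a23) (.leaf 0x27a23)) (.node 23913 (.leaf 0x27a23) (.node 23914 (.leaf 0x27a23) (.leaf 0x27a23))))))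

def candS_1182 : Store := (.node 23925 (.node 23920 (.node 23917 (.node 23916 (.leaf 0x27a23) (.leaf 0x27a23)) (.node 23918 (.leaf 0x27a23) (.node 23919 (.leaf 0x27a23) (.leaf 0x27a23)))) (.node 23922 (.node 23921 (.leaf 0x27a23) (.leaf 0x27a23)) (.node 23923 (.leaf 0x27a23) (.node 23924 (.leaf 0x27a23) (.leaf 0x27a23))))) (.node 23930 (.node 23927 (.node 23926 (.leaf 0x27a23) (.leaf 0x27a23)) (.node 23928 (.leaf 0x27a23) (.node 23929 (.leaf 0x27a23) (.leaf 0x27a23)))) (.node 23932 (.node 23931 (.leaf 0x27a23) (.leaf 0x27a23)) (.node 23933 (.leaf 0x27a23) (.node 23934 (.leaf 0x27a23) (.leaf 0x27a23))))))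

def candS_1183 : Store := (.node 23945 (.node 23940 (.node 23937 (.node 23936 (.leaf 0x27a23) (.leaf 0x27a23)) (.node 23938 (.leaf 0x27a23) (.node 23939 (.leaf 0x27a23) (.leaf 0x27a23)))) (.node 23942 (.node 23941 (.leaf 0x27a23) (.leaf 0x27a23)) (.node 23943 (.leaf 0x27a23) (.node 23944 (.leaf 0x27a23) (.leaf 0x27a23))))) (.node 23950 (.node 23947 (.node 23946 (.leaf 0x27a23) (.leaf 0x27a23)) (.node 23948 (.leaf 0x27a23) (.node 23949 (.leaf 0x27a23) (.leaf 0x27a23)))) (.node 23952 (.node 23951 (.leaf 0x27a23) (.leaf 0x27a23)) (.node 23953 (.leaf 0x27a23) (.node 23954 (.leaf 0x27a23) (.leaf 0x27a23))))))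

def candS_1184 : Store := (.node 23965 (.node 23960 (.node 23957 (.node 23956 (.leaf 0x27a23) (.leaf 0x27a23)) (.node 23958 (.leaf 0x27a23) (.node 23959 (.leaf 0x27a23) (.leaf 0x27a23)))) (.node 23962 (.node 23961 (.leaf 0x27a23) (.leaf 0x27a23)) (.node 23963 (.leaf 0x27a23) (.node 23964 (.leaf 0x27a23) (.leaf 0x27a23))))) (.node 23970 (.node 23967 (.node 23966 (.leaf 0x27a23) (.leaf 0x27a23)) (.node 23968 (.leaf 0x27a23) (.node 23969 (.leaf 0x27a23) (.leaf 0x27a23)))) (.node 23973 (.node 23971 (.leaf 0x27a23) (.node 23972 (.leaf 0x27a23) (.leaf 0x27a23))) (.node 23974 (.leaf 0x27a23) (.node 23975 (.leaf 0x27a23) (.leaf 0x27a23))))))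

def candS_1185 : Store := (.node 23986 (.node 23981 (.node 23978 (.node 23977 (.leaf 0x27a23) (.leaf 0x27a23)) (.node 23979 (.leaf 0x27a23) (.node 23980 (.leaf 0x27a23) (.leaf 0x27a23)))) (.node 23983 (.node 23982 (.leaf 0x27a23) (.leaf 0x27a23)) (.node 23984 (.leaf 0x27a23) (.node 23985 (.leaf 0x27a23) (.leaf 0x27a23))))) (.node 23991 (.node 23988 (.node 23987 (.leaf 0x27a23) (.leaf 0x27a23)) (.node 23989 (.leaf 0x27a23) (.node 23990 (.leaf 0x27a23) (.leaf 0x27a23)))) (.node 23993 (.node 23992 (.leaf 0x27a23) (.leaf 0x27a23)) (.node 23994 (.leaf 0x27a23) (.node 23995 (.leaf 0x27a23) (.leaf 0x27a23))))))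

def candS_1186 : Store := (.node 24006 (.node 24001 (.node 23998 (.node 23997 (.leaf 0x27a23) (.leaf 0x27a23)) (.node 23999 (.leaf 0x27a23) (.node 24000 (.leaf 0x27a23) (.leaf 0x27a23)))) (.node 24003 (.node 24002 (.leaf 0x27a23) (.leaf 0x27a23)) (.node 24004 (.leaf 0x27a23) (.node 24005 (.leaf 0x27a23) (.leaf 0x27a23))))) (.node 24011 (.node 24008 (.node 24007 (.leaf 0x27a23) (.leaf 0x27a23)) (.node 24009 (.leaf 0x27a23) (.node 24010 (.leaf 0x27a23) (.leaf 0x27a23)))) (.node 24013 (.node 24012 (.leaf 0x27a23) (.leaf 0x27a23)) (.node 24014 (.leaf 0x27a23) (.node 24015 (.leaf 0x27a23) (.leaf 0x27a23))))))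

def candS_1187 : Store := (.node 24026 (.node 24021 (.node 24018 (.node 24017 (.leaf 0x27a23) (.leaf 0x27a23)) (.node 24019 (.leaf 0x27a23) (.node 24020 (.leaf 0x27a23) (.leaf 0x27a23)))) (.node 24023 (.node 24022 (.leaf 0x27a23) (.leaf 0x27a23)) (.node 24024 (.leaf 0x27a23) (.node 24025 (.leaf 0x27a23) (.leaf 0x27a23))))) (.node 24031 (.node 24028 (.node 24027 (.leaf 0x27a23) (.leaf 0x27a23)) (.node 24029 (.leaf 0x27a23) (.node 24030 (.leaf 0x27a23) (.leaf 0x27a23)))) (.node 24033 (.node 24032 (.leaf 0x27a23) (.leaf 0x27a23)) (.node 24034 (.leaf 0x27a23) (.node 24035 (.leaf 0x27a23) (.leaf 0x27a23))))))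

def candS_1188 : Store := (.node 24046 (.node 24041 (.node 24038 (.node 24037 (.leaf 0x27a23) (.leaf 0x27a23)) (.node 24039 (.leaf 0x27a23) (.node 24040 (.leaf 0x27a23) (.leaf 0x27a23)))) (.node 24043 (.node 24042 (.leaf 0x27a23) (.leaf 0x27a23)) (.node 24044 (.leaf 0x27a23) (.node 24045 (.leaf 0x27a23) (.leaf 0x27a23))))) (.node 24051 (.node 24048 (.node 24047 (.leaf 0x27a23) (.leaf 0x27a23)) (.node 24049 (.leaf 0x27a23) (.node 24050 (.leaf 0x27a23) (.leaf 0x27a23)))) (.node 24054 (.node 24052 (.leaf 0x27a23) (.node 24053 (.leaf 0x27a23) (.leaf 0x27a23))) (.node 24055 (.leaf 0x27a23) (.node 24056 (.leaf 0x27a23) (.leaf 0x27a23))))))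

def candS_1189 : Store := (.node 24067 (.node 24062 (.node 24059 (.node 24058 (.leaf 0x27a23) (.leaf 0x27a23)) (.node 24060 (.leaf 0x27a23) (.node 24061 (.leaf 0x27a23) (.leaf 0x27a23)))) (.node 24064 (.node 24063 (.leaf 0x27a23) (.leaf 0x27a23)) (.node 24065 (.leaf 0x27a23) (.node 24066 (.leaf 0x27a23) (.leaf 0x27a23))))) (.node 24072 (.node 24069 (.node 24068 (.leaf 0x27a23) (.leaf 0x27a23)) (.node 24070 (.leaf 0x27a23) (.node 24071 (.leaf 0x27a23) (.leaf 0x27a23)))) (.node 24074 (.node 24073 (.leaf 0x27a23) (.leaf 0x27a23)) (.node 24075 (.leaf 0x27a23) (.node 24076 (.leaf 0x27a23) (.leaf 0x27a23))))))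

def candS_1190 : Store := (.node 24087 (.node 24082 (.node 24079 (.node 24078 (.leaf 0x27a23) (.leaf 0x27a23)) (.node 24080 (.leaf 0x27a23) (.node 24081 (.leaf 0x27a23) (.leaf 0x27a23)))) (.node 24084 (.node 24083 (.leaf 0x27a23) (.leaf 0x27a23)) (.node 24085 (.leaf 0x27a23) (.node 24086 (.leaf 0x27a23) (.leaf 0x27a23))))) (.node 24092 (.node 24089 (.node 24088 (.leaf 0x27a23) (.leaf 0x27a23)) (.node 24090 (.leaf 0x27a23) (.node 24091 (.leaf 0x27a23) (.leaf 0x27a23)))) (.node 24094 (.node 24093 (.leaf 0x27a23) (.leaf 0x27a23)) (.node 24095 (.leaf 0x27a23) (.node 24096 (.leaf 0x27a23) (.leaf 0x27a23))))))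

def candS_1191 : Store := (.node 24107 (.node 24102 (.node 24099 (.node 24098 (.leaf 0x27a23) (.leaf 0x27a23)) (.node 24100 (.leaf 0x27a23) (.node 24101 (.leaf 0x27a23) (.leaf 0x27a23)))) (.node 24104 (.node 24103 (.leaf 0x27a23) (.leaf 0x27a23)) (.node 24105 (.leaf 0x27a23) (.node 24106 (.leaf 0x27a23) (.leaf 0x27a23))))) (.node 24112 (.node 24109 (.node 24108 (.leaf 0x27a23) (.leaf 0x27a23)) (.node 24110 (.leaf 0x27a23) (.node 24111 (.leaf 0x27a23) (.leaf 0x27a23)))) (.node 24114 (.node 24113 (.leaf 0x27a23) (.leaf 0x27a23)) (.node 24115 (.leaf 0x27a23) (.node 24116 (.leaf 0x27a23) (.leaf 0x27a23))))))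

def candS_1192 : Store := (.node 24127 (.node 24122 (.node 24119 (.node 24118 (.leaf 0x27a23) (.leaf 0x27a23)) (.node 24120 (.leaf 0x27a23) (.node 24121 (.leaf 0x27a23) (.leaf 0x27a23)))) (.node 24124 (.node 24123 (.leaf 0x27a23) (.leaf 0x27a23)) (.node 24125 (.leaf 0x27a23) (.node 24126 (.leaf 0x27a23) (.leaf 0x27a23))))) (.node 24132 (.node 24129 (.node 24128 (.leaf 0x27a23) (.leaf 0x27a23)) (.node 24130 (.leaf 0x27a23) (.node 24131 (.leaf 0x27a23) (.leaf 0x27a23)))) (.node 24135 (.node 24133 (.leaf 0x27a23) (.node 24134 (.leaf 0x27a23) (.leaf 0x27a23))) (.node 24136 (.leaf 0x27a23) (.node 24137 (.leaf 0x27a23) (.leaf 0x27a23))))))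

def candS_1193 : Store := (.node 24148 (.node 24143 (.node 24140 (.node 24139 (.leaf 0x27a23) (.leaf 0x27a23)) (.node 24141 (.leaf 0x27a23) (.node 24142 (.leaf 0x27a23) (.leaf 0x27a23)))) (.node 24145 (.node 24144 (.leaf 0x27a23) (.leaf 0x27a23)) (.node 24146 (.leaf 0x27a23) (.node 24147 (.leaf 0x27a23) (.leaf 0x27a23))))) (.node 24153 (.node 24150 (.node 24149 (.leaf 0x27a23) (.leaf 0x27a23)) (.node 24151 (.leaf 0x27a23) (.node 24152 (.leaf 0x27a23) (.leaf 0x27a23)))) (.node 24155 (.node 24154 (.leaf 0x27a23) (.leaf 0x27a23)) (.node 24156 (.leaf 0x27a23) (.node 24157 (.leaf 0x27a23) (.leaf 0x27a23))))))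

def candS_1194 : Store := (.node 24168 (.node 24163 (.node 24160 (.node 24159 (.leaf 0x27a23) (.leaf 0x27a23)) (.node 24161 (.leaf 0x27a23) (.node 24162 (.leaf 0x27a23) (.leaf 0x27a23)))) (.node 24165 (.node 24164 (.leaf 0x27a23) (.leaf 0x27a23)) (.node 24166 (.leaf 0x27a23) (.node 24167 (.leaf 0x27a23) (.leaf 0x27a23))))) (.node 24173 (.node 24170 (.node 24169 (.leaf 0x27a23) (.leaf 0x27a23)) (.node 24171 (.leaf 0x27a23) (.node 24172 (.leaf 0x27a23) (.leaf 0x27a23)))) (.node 24175 (.node 24174 (.leaf 0x27a23) (.leaf 0x27a23)) (.node 24176 (.leaf 0x27a23) (.node 24177 (.leaf 0x27a23) (.leaf 0x27a23))))))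

def candS_1195 : Store := (.node 24188 (.node 24183 (.node 24180 (.node 24179 (.leaf 0x27a23) (.leaf 0x27a23)) (.node 24181 (.leaf 0x27a23) (.node 24182 (.leaf 0x27a23) (.leaf 0x27a23)))) (.node 24185 (.node 24184 (.leaf 0x27a23) (.leaf 0x27a23)) (.node 24186 (.leaf 0x27a23) (.node 24187 (.leaf 0x27a23) (.leaf 0x27a23))))) (.node 24193 (.node 24190 (.node 24189 (.leaf 0x27a23) (.leaf 0x27a23)) (.node 24191 (.leaf 0x27a23) (.node 24192 (.leaf 0x27a23) (.leaf 0x38d53)))) (.node 24195 (.node 24194 (.leaf 0x38d53) (.leaf 0x38d53)) (.node 24196 (.leaf 0x38d53) (.node 24197 (.leaf 0x38d53) (.leaf 0x38d53))))))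

def candS_1196 : Store := (.node 24208 (.node 24203 (.node 24200 (.node 24199 (.leaf 0x38d53) (.leaf 0x38d53)) (.node 24201 (.leaf 0x38d53) (.node 24202 (.leaf 0x38d53) (.leaf 0x38d53)))) (.node 24205 (.node 24204 (.leaf 0x38d53) (.leaf 0x38d53)) (.node 24206 (.leaf 0x38d53) (.node 24207 (.leaf 0x38d53) (.leaf 0x38d53))))) (.node 24213 (.node 24210 (.node 24209 (.leaf 0x38d53) (.leaf 0x38d53)) (.node 24211 (.leaf 0x38d53) (.node 24212 (.leaf 0x38d53) (.leaf 0x38d53)))) (.node 24216 (.node 24214 (.leaf 0x38d53) (.node 24215 (.leaf 0x38d53) (.leaf 0x38d53))) (.node 24217 (.leaf 0x38d53) (.node 24218 (.leaf 0x38d53) (.leaf 0x38d53))))))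

def candS_1197 : Store := (.node 24229 (.node 24224 (.node 24221 (.node 24220 (.leaf 0x38d53) (.leaf 0x38d53)) (.node 24222 (.leaf 0x38d53) (.node 24223 (.leaf 0x38d53) (.leaf 0x38d53)))) (.node 24226 (.node 24225 (.leaf 0x38d53) (.leaf 0x38d53)) (.node 24227 (.leaf 0x38d53) (.node 24228 (.leaf 0x38d53) (.leaf 0x38d53))))) (.node 24234 (.node 24231 (.node 24230 (.leaf 0x38d53) (.leaf 0x38d53)) (.node 24232 (.leaf 0x38d53) (.node 24233 (.leaf 0x38d53) (.leaf 0x38d53)))) (.node 24236 (.node 24235 (.leaf 0x38d53) (.leaf 0x38d53)) (.node 24237 (.leaf 0x38d53) (.node 24238 (.leaf 0x38d53) (.leaf 0x38d53))))))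

def candS_1198 : Store := (.node 24249 (.node 24244 (.node 24241 (.node 24240 (.leaf 0x38d53) (.leaf 0x38d53)) (.node 24242 (.leaf 0x38d53) (.node 24243 (.leaf 0x38d53) (.leaf 0x38d53)))) (.node 24246 (.node 24245 (.leaf 0x38d53) (.leaf 0x38d53)) (.node 24247 (.leaf 0x38d53) (.node 24248 (.leaf 0x38d53) (.leaf 0x38d53))))) (.node 24254 (.node 24251 (.node 24250 (.leaf 0x38d53) (.leaf 0x38d53)) (.node 24252 (.leaf 0x38d53) (.node 24253 (.leaf 0x38d53) (.leaf 0x38d53)))) (.node 24256 (.node 24255 (.leaf 0x38d53) (.leaf 0x38d53)) (.node 24257 (.leaf 0x38d53) (.node 24258 (.leaf 0x38d53) (.leaf 0x38d53))))))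

def candS_1199 : Store := (.node 24269 (.node 24264 (.node 24261 (.node 24260 (.leaf 0x38d53) (.leaf 0x38d53)) (.node 24262 (.leaf 0x38d53) (.node 24263 (.leaf 0x38d53) (.leaf 0x38d53)))) (.node 24266 (.node 24265 (.leaf 0x38d53) (.leaf 0x38d53)) (.node 24267 (.leaf 0x38d53) (.node 24268 (.leaf 0x38d53) (.leaf 0x38d53))))) (.node 24274 (.node 24271 (.node 24270 (.leaf 0x38d53) (.leaf 0x38d53)) (.node 24272 (.leaf 0x38d53) (.node 24273 (.leaf 0x38d53) (.leaf 0x38d53)))) (.node 24276 (.node 24275 (.leaf 0x38d53) (.leaf 0x38d53)) (.node 24277 (.leaf 0x38d53) (.node 24278 (.leaf 0x38d53) (.leaf 0x38d53))))))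

def candS_1200 : Store := (.node 24289 (.node 24284 (.node 24281 (.node 24280 (.leaf 0x38d53) (.leaf 0x38d53)) (.node 24282 (.leaf 0x38d53) (.node 24283 (.leaf 0x38d53) (.leaf 0x38d53)))) (.node 24286 (.node 24285 (.leaf 0x38d53) (.leaf 0x38d53)) (.node 24287 (.leaf 0x38d53) (.node 24288 (.leaf 0x38d53) (.leaf 0x38d53))))) (.node 24294 (.node 24291 (.node 24290 (.leaf 0x38d53) (.leaf 0x38d53)) (.node 24292 (.leaf 0x38d53) (.node 24293 (.leaf 0x38d53) (.leaf 0x38d53)))) (.node 24297 (.node 24295 (.leaf 0x38d53) (.node 24296 (.leaf 0x38d53) (.leaf 0x38d53))) (.node 24298 (.leaf 0x38d53) (.node 24299 (.leaf 0x38d53) (.leaf 0x38d53))))))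

def candS_1201 : Store := (.node 24310 (.node 24305 (.node 24302 (.node 24301 (.leaf 0x38d53) (.leaf 0x38d53)) (.node 24303 (.leaf 0x38d53) (.node 24304 (.leaf 0x38d53) (.leaf 0x38d53)))) (.node 24307 (.node 24306 (.leaf 0x38d53) (.leaf 0x38d53)) (.node 24308 (.leaf 0x38d53) (.node 24309 (.leaf 0x38d53) (.leaf 0x38d53))))) (.node 24315 (.node 24312 (.node 24311 (.leaf 0x38d53) (.leaf 0x38d53)) (.node 24313 (.leaf 0x38d53) (.node 24314 (.leaf 0x38d53) (.leaf 0x38d53)))) (.node 24317 (.node 24316 (.leaf 0x38d53) (.leaf 0x38d53)) (.node 24318 (.leaf 0x38d53) (.node 24319 (.leaf 0x38d53) (.leaf 0x38d53))))))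

def candS_1202 : Store := (.node 24330 (.node 24325 (.node 24322 (.node 24321 (.leaf 0x38d53) (.leaf 0x38d53)) (.node 24323 (.leaf 0x38d53) (.node 24324 (.leaf 0x38d53) (.leaf 0x38d53)))) (.node 24327 (.node 24326 (.leaf 0x38d53) (.leaf 0x38d53)) (.node 24328 (.leaf 0x38d53) (.node 24329 (.leaf 0x38d53) (.leaf 0x38d53))))) (.node 24335 (.node 24332 (.node 24331 (.leaf 0x38d53) (.leaf 0x38d53)) (.node 24333 (.leaf 0x38d53) (.node 24334 (.leaf 0x38d53) (.leaf 0x38d53)))) (.node 24337 (.node 24336 (.leaf 0x38d53) (.leaf 0x38d53)) (.node 24338 (.leaf 0x38d53) (.node 24339 (.leaf 0x38d53) (.leaf 0x38d53))))))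

def candS_1203 : Store := (.node 24350 (.node 24345 (.node 24342 (.node 24341 (.leaf 0x38d53) (.leaf 0x38d53)) (.node 24343 (.leaf 0x38d53) (.node 24344 (.leaf 0x38d53) (.leaf 0x38d53)))) (.node 24347 (.node 24346 (.leaf 0x38d53) (.leaf 0x38d53)) (.node 24348 (.leaf 0x38d53) (.node 24349 (.leaf 0x38d53) (.leaf 0x38d53))))) (.node 24355 (.node 24352 (.node 24351 (.leaf 0x38d53) (.leaf 0x38d53)) (.node 24353 (.leaf 0x38d53) (.node 24354 (.leaf 0x38d53) (.leaf 0x38d53)))) (.node 24357 (.node 24356 (.leaf 0x38d53) (.leaf 0x38d53)) (.node 24358 (.leaf 0x38d53) (.node 24359 (.leaf 0x38d53) (.leaf 0x38d53))))))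

def candS_1204 : Store := (.node 24370 (.node 24365 (.node 24362 (.node 24361 (.leaf 0x38d53) (.leaf 0x38d53)) (.node 24363 (.leaf 0x38d53) (.node 24364 (.leaf 0x38d53) (.leaf 0x38d53)))) (.node 24367 (.node 24366 (.leaf 0x38d53) (.leaf 0x38d53)) (.node 24368 (.leaf 0x38d53) (.node 24369 (.leaf 0x38d53) (.leaf 0x38d53))))) (.node 24375 (.node 24372 (.node 24371 (.leaf 0x38d53) (.leaf 0x38d53)) (.node 24373 (.leaf 0x38d53) (.node 24374 (.leaf 0x38d53) (.leaf 0x38d53)))) (.node 24378 (.node 24376 (.leaf 0x38d53) (.node 24377 (.leaf 0x38d53) (.leaf 0x38d53))) (.node 24379 (.leaf 0x38d53) (.node 24380 (.leaf 0x38d53) (.leaf 0x38d53))))))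

def candS_1205 : Store := (.node 24391 (.node 24386 (.node 24383 (.node 24382 (.leaf 0x38d53) (.leaf 0x38d53)) (.node 24384 (.leaf 0x38d53) (.node 24385 (.leaf 0x38d53) (.leaf 0x38d53)))) (.node 24388 (.node 24387 (.leaf 0x38d53) (.leaf 0x38d53)) (.node 24389 (.leaf 0x38d53) (.node 24390 (.leaf 0x38d53) (.leaf 0x38d53))))) (.node 24396 (.node 24393 (.node 24392 (.leaf 0x38d53) (.leaf 0x38d53)) (.node 24394 (.leaf 0x38d53) (.node 24395 (.leaf 0x38d53) (.leaf 0x38d53)))) (.node 24398 (.node 24397 (.leaf 0x38d53) (.leaf 0x38d53)) (.node 24399 (.leaf 0x38d53) (.node 24400 (.leaf 0x38d53) (.leaf 0x38d53))))))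

def candS_1206 : Store := (.node 24411 (.node 24406 (.node 24403 (.node 24402 (.leaf 0x38d53) (.leaf 0x38d53)) (.node 24404 (.leaf 0x38d53) (.node 24405 (.leaf 0x38d53) (.leaf 0x38d53)))) (.node 24408 (.node 24407 (.leaf 0x38d53) (.leaf 0x38d53)) (.node 24409 (.leaf 0x38d53) (.node 24410 (.leaf 0x38d53) (.leaf 0x38d53))))) (.node 24416 (.node 24413 (.node 24412 (.leaf 0x38d53) (.leaf 0x38d53)) (.node 24414 (.leaf 0x38d53) (.node 24415 (.leaf 0x38d53) (.leaf 0x38d53)))) (.node 24418 (.node 24417 (.leaf 0x38d53) (.leaf 0x38d53)) (.node 24419 (.leaf 0x38d53) (.node 24420 (.leaf 0x38d53) (.leaf 0x38d53))))))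

def candS_1207 : Store := (.node 24431 (.node 24426 (.node 24423 (.node 24422 (.leaf 0x38d53) (.leaf 0x38d53)) (.node 24424 (.leaf 0x38d53) (.node 24425 (.leaf 0x38d53) (.leaf 0x38d53)))) (.node 24428 (.node 24427 (.leaf 0x38d53) (.leaf 0x38d53)) (.node 24429 (.leaf 0x38d53) (.node 24430 (.leaf 0x38d53) (.leaf 0x38d53))))) (.node 24436 (.node 24433 (.node 24432 (.leaf 0x38d53) (.leaf 0x38d53)) (.node 24434 (.leaf 0x38d53) (.node 24435 (.leaf 0x38d53) (.leaf 0x38d53)))) (.node 24438 (.node 24437 (.leaf 0x38d53) (.leaf 0x38d53)) (.node 24439 (.leaf 0x38d53) (.node 24440 (.leaf 0x38d53) (.leaf 0x38d53))))))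

def candS_1208 : Store := (.node 24451 (.node 24446 (.node 24443 (.node 24442 (.leaf 0x38d53) (.leaf 0x38d53)) (.node 24444 (.leaf 0x38d53) (.node 24445 (.leaf 0x38d53) (.leaf 0x38d53)))) (.node 24448 (.node 24447 (.leaf 0x38d53) (.leaf 0x38d53)) (.node 24449 (.leaf 0x38d53) (.node 24450 (.leaf 0x38d53) (.leaf 0x38d53))))) (.node 24456 (.node 24453 (.node 24452 (.leaf 0x38d53) (.leaf 0x38d53)) (.node 24454 (.leaf 0x38d53) (.node 24455 (.leaf 0x38d53) (.leaf 0x38d53)))) (.node 24459 (.node 24457 (.leaf 0x38d53) (.node 24458 (.leaf 0x38d53) (.leaf 0x38d53))) (.node 24460 (.leaf 0x38d53) (.node 24461 (.leaf 0x38d53) (.leaf 0x38d53))))))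

def candS_1209 : Store := (.node 24472 (.node 24467 (.node 24464 (.node 24463 (.leaf 0x38d53) (.leaf 0x38d53)) (.node 24465 (.leaf 0x38d53) (.node 24466 (.leaf 0x38d53) (.leaf 0x38d53)))) (.node 24469 (.node 24468 (.leaf 0x38d53) (.leaf 0x38d53)) (.node 24470 (.leaf 0x38d53) (.node 24471 (.leaf 0x38d53) (.leaf 0x38d53))))) (.node 24477 (.node 24474 (.node 24473 (.leaf 0x38d53) (.leaf 0x38d53)) (.node 24475 (.leaf 0x38d53) (.node 24476 (.leaf 0x38d53) (.leaf 0x38d53)))) (.node 24479 (.node 24478 (.leaf 0x38d53) (.leaf 0x38d53)) (.node 24480 (.leaf 0x38d53) (.node 24481 (.leaf 0x38d53) (.leaf 0x38d53))))))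

def candS_1210 : Store := (.node 24492 (.node 24487 (.node 24484 (.node 24483 (.leaf 0x38d53) (.leaf 0x38d53)) (.node 24485 (.leaf 0x38d53) (.node 24486 (.leaf 0x38d53) (.leaf 0x38d53)))) (.node 24489 (.node 24488 (.leaf 0x38d53) (.leaf 0x38d53)) (.node 24490 (.leaf 0x38d53) (.node 24491 (.leaf 0x38d53) (.leaf 0x38d53))))) (.node 24497 (.node 24494 (.node 24493 (.leaf 0x38d53) (.leaf 0x38d53)) (.node 24495 (.leaf 0x38d53) (.node 24496 (.leaf 0x38d53) (.leaf 0x38d53)))) (.node 24499 (.node 24498 (.leaf 0x38d53) (.leaf 0x38d53)) (.node 24500 (.leaf 0x38d53) (.node 24501 (.leaf 0x38d53) (.leaf 0x38d53))))))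

def candS_1211 : Store := (.node 24512 (.node 24507 (.node 24504 (.node 24503 (.leaf 0x38d53) (.leaf 0x38d53)) (.node 24505 (.leaf 0x38d53) (.node 24506 (.leaf 0x38d53) (.leaf 0x38d53)))) (.node 24509 (.node 24508 (.leaf 0x38d53) (.leaf 0x38d53)) (.node 24510 (.leaf 0x38d53) (.node 24511 (.leaf 0x38d53) (.leaf 0x38d53))))) (.node 24517 (.node 24514 (.node 24513 (.leaf 0x38d53) (.leaf 0x38d53)) (.node 24515 (.leaf 0x38d53) (.node 24516 (.leaf 0x38d53) (.leaf 0x38d53)))) (.node 24519 (.node 24518 (.leaf 0x38d53) (.leaf 0x38d53)) (.node 24520 (.leaf 0x38d53) (.node 24521 (.leaf 0x38d53) (.leaf 0x38d53))))))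

def candS_1212 : Store := (.node 24532 (.node 24527 (.node 24524 (.node 24523 (.leaf 0x38d53) (.leaf 0x38d53)) (.node 24525 (.leaf 0x38d53) (.node 24526 (.leaf 0x38d53) (.leaf 0x38d53)))) (.node 24529 (.node 24528 (.leaf 0x38d53) (.leaf 0x38d53)) (.node 24530 (.leaf 0x38d53) (.node 24531 (.leaf 0x38d53) (.leaf 0x38d53))))) (.node 24537 (.node 24534 (.node 24533 (.leaf 0x38d53) (.leaf 0x38d53)) (.node 24535 (.leaf 0x38d53) (.node 24536 (.leaf 0x38d53) (.leaf 0x38d53)))) (.node 24540 (.node 24538 (.leaf 0x38d53) (.node 24539 (.leaf 0x38d53) (.leaf 0x38d53))) (.node 24541 (.leaf 0x38d53) (.node 24542 (.leaf 0x38d53) (.leaf 0x38d53))))))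

def candS_1213 : Store := (.node 24553 (.node 24548 (.node 24545 (.node 24544 (.leaf 0x38d53) (.leaf 0x38d53)) (.node 24546 (.leaf 0x38d53) (.node 24547 (.leaf 0x38d53) (.leaf 0x38d53)))) (.node 24550 (.node 24549 (.leaf 0x38d53) (.leaf 0x38d53)) (.node 24551 (.leaf 0x38d53) (.node 24552 (.leaf 0x38d53) (.leaf 0x38d53))))) (.node 24558 (.node 24555 (.node 24554 (.leaf 0x38d53) (.leaf 0x38d53)) (.node 24556 (.leaf 0x38d53) (.node 24557 (.leaf 0x38d53) (.leaf 0x38d53)))) (.node 24560 (.node 24559 (.leaf 0x38d53) (.leaf 0x38d53)) (.node 24561 (.leaf 0x38d53) (.node 24562 (.leaf 0x38d53) (.leaf 0x38d53))))))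

def candS_1214 : Store := (.node 24573 (.node 24568 (.node 24565 (.node 24564 (.leaf 0x38d53) (.leaf 0x38d53)) (.node 24566 (.leaf 0x38d53) (.node 24567 (.leaf 0x38d53) (.leaf 0x38d53)))) (.node 24570 (.node 24569 (.leaf 0x38d53) (.leaf 0x38d53)) (.node 24571 (.leaf 0x38d53) (.node 24572 (.leaf 0x38d53) (.leaf 0x38d53))))) (.node 24578 (.node 24575 (.node 24574 (.leaf 0x38d53) (.leaf 0x38d53)) (.node 24576 (.leaf 0x38d53) (.node 24577 (.leaf 0x38d53) (.leaf 0x38d53)))) (.node 24580 (.node 24579 (.leaf 0x38d53) (.leaf 0x38d53)) (.node 24581 (.leaf 0x38d53) (.node 24582 (.leaf 0x38d53) (.leaf 0x38d53))))))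

def candS_1215 : Store := (.node 24593 (.node 24588 (.node 24585 (.node 24584 (.leaf 0x38d53) (.leaf 0x38d53)) (.node 24586 (.leaf 0x38d53) (.node 24587 (.leaf 0x38d53) (.leaf 0x38d53)))) (.node 24590 (.node 24589 (.leaf 0x38d53) (.leaf 0x38d53)) (.node 24591 (.leaf 0x38d53) (.node 24592 (.leaf 0x38d53) (.leaf 0x38d53))))) (.node 24598 (.node 24595 (.node 24594 (.leaf 0x38d53) (.leaf 0x38d53)) (.node 24596 (.leaf 0x38d53) (.node 24597 (.leaf 0x38d53) (.leaf 0x38d53)))) (.node 24600 (.node 24599 (.leaf 0x38d53) (.leaf 0x38d53)) (.node 24601 (.leaf 0x38d53) (.node 24602 (.leaf 0x38d53) (.leaf 0x38d53))))))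

def candS_1216 : Store := (.node 24613 (.node 24608 (.node 24605 (.node 24604 (.leaf 0x38d53) (.leaf 0x38d53)) (.node 24606 (.leaf 0x38d53) (.node 24607 (.leaf 0x38d53) (.leaf 0x38d53)))) (.node 24610 (.node 24609 (.leaf 0x38d53) (.leaf 0x38d53)) (.node 24611 (.leaf 0x38d53) (.node 24612 (.leaf 0x38d53) (.leaf 0x38d53))))) (.node 24618 (.node 24615 (.node 24614 (.leaf 0x38d53) (.leaf 0x38d53)) (.node 24616 (.leaf 0x38d53) (.node 24617 (.leaf 0x38d53) (.leaf 0x38d53)))) (.node 24621 (.node 24619 (.leaf 0x38d53) (.node 24620 (.leaf 0x38d53) (.leaf 0x38d53))) (.node 24622 (.leaf 0x38d53) (.node 24623 (.leaf 0x38d53) (.leaf 0x38d53))))))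

def candS_1217 : Store := (.node 24634 (.node 24629 (.node 24626 (.node 24625 (.leaf 0x38d53) (.leaf 0x38d53)) (.node 24627 (.leaf 0x38d53) (.node 24628 (.leaf 0x38d53) (.leaf 0x38d53)))) (.node 24631 (.node 24630 (.leaf 0x38d53) (.leaf 0x38d53)) (.node 24632 (.leaf 0x38d53) (.node 24633 (.leaf 0x38d53) (.leaf 0x38d53))))) (.node 24639 (.node 24636 (.node 24635 (.leaf 0x38d53) (.leaf 0x38d53)) (.node 24637 (.leaf 0x38d53) (.node 24638 (.leaf 0x38d53) (.leaf 0x38d53)))) (.node 24641 (.node 24640 (.leaf 0x38d53) (.leaf 0x38d53)) (.node 24642 (.leaf 0x38d53) (.node 24643 (.leaf 0x38d53) (.leaf 0x38d53))))))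

def candS_1218 : Store := (.node 24654 (.node 24649 (.node 24646 (.node 24645 (.leaf 0x38d53) (.leaf 0x38d53)) (.node 24647 (.leaf 0x38d53) (.node 24648 (.leaf 0x38d53) (.leaf 0x38d53)))) (.node 24651 (.node 24650 (.leaf 0x38d53) (.leaf 0x38d53)) (.node 24652 (.leaf 0x38d53) (.node 24653 (.leaf 0x38d53) (.leaf 0x38d53))))) (.node 24659 (.node 24656 (.node 24655 (.leaf 0x38d53) (.leaf 0x38d53)) (.node 24657 (.leaf 0x38d53) (.node 24658 (.leaf 0x38d53) (.leaf 0x38d53)))) (.node 24661 (.node 24660 (.leaf 0x38d53) (.leaf 0x38d53)) (.node 24662 (.leaf 0x38d53) (.node 24663 (.leaf 0x38d53) (.leaf 0x38d53))))))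

def candS_1219 : Store := (.node 24674 (.node 24669 (.node 24666 (.node 24665 (.leaf 0x38d53) (.leaf 0x38d53)) (.node 24667 (.leaf 0x38d53) (.node 24668 (.leaf 0x38d53) (.leaf 0x38d53)))) (.node 24671 (.node 24670 (.leaf 0x38d53) (.leaf 0x38d53)) (.node 24672 (.leaf 0x38d53) (.node 24673 (.leaf 0x38d53) (.leaf 0x38d53))))) (.node 24679 (.node 24676 (.node 24675 (.leaf 0x38d53) (.leaf 0x38d53)) (.node 24677 (.leaf 0x38d53) (.node 24678 (.leaf 0x38d53) (.leaf 0x38d53)))) (.node 24681 (.node 24680 (.leaf 0x38d53) (.leaf 0x38d53)) (.node 24682 (.leaf 0x38d53) (.node 24683 (.leaf 0x38d53) (.leaf 0x38d53))))))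

def candS_1220 : Store := (.node 24694 (.node 24689 (.node 24686 (.node 24685 (.leaf 0x38d53) (.leaf 0x38d53)) (.node 24687 (.leaf 0x38d53) (.node 24688 (.leaf 0x38d53) (.leaf 0x38d53)))) (.node 24691 (.node 24690 (.leaf 0x38d53) (.leaf 0x38d53)) (.node 24692 (.leaf 0x38d53) (.node 24693 (.leaf 0x38d53) (.leaf 0x38d53))))) (.node 24699 (.node 24696 (.node 24695 (.leaf 0x38d53) (.leaf 0x38d53)) (.node 24697 (.leaf 0x38d53) (.node 24698 (.leaf 0x38d53) (.leaf 0x38d53)))) (.node 24702 (.node 24700 (.leaf 0x38d53) (.node 24701 (.leaf 0x38d53) (.leaf 0x38d53))) (.node 24703 (.leaf 0x38d53) (.node 24704 (.leaf 0x38d53) (.leaf 0x38d53))))))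

def candS_1221 : Store := (.node 24715 (.node 24710 (.node 24707 (.node 24706 (.leaf 0x38d53) (.leaf 0x38d53)) (.node 24708 (.leaf 0x38d53) (.node 24709 (.leaf 0x38d53) (.leaf 0x38d53)))) (.node 24712 (.node 24711 (.leaf 0x38d53) (.leaf 0x38d53)) (.node 24713 (.leaf 0x38d53) (.node 24714 (.leaf 0x38d53) (.leaf 0x38d53))))) (.node 24720 (.node 24717 (.node 24716 (.leaf 0x38d53) (.leaf 0x38d53)) (.node 24718 (.leaf 0x38d53) (.node 24719 (.leaf 0x38d53) (.leaf 0x38d53)))) (.node 24722 (.node 24721 (.leaf 0x38d53) (.leaf 0x38d53)) (.node 24723 (.leaf 0x38d53) (.node 24724 (.leaf 0x38d53) (.leaf 0x38d53))))))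

def candS_1222 : Store := (.node 24735 (.node 24730 (.node 24727 (.node 24726 (.leaf 0x38d53) (.leaf 0x38d53)) (.node 24728 (.leaf 0x38d53) (.node 24729 (.leaf 0x38d53) (.leaf 0x38d53)))) (.node 24732 (.node 24731 (.leaf 0x38d53) (.leaf 0x38d53)) (.node 24733 (.leaf 0x38d53) (.node 24734 (.leaf 0x38d53) (.leaf 0x38d53))))) (.node 24740 (.node 24737 (.node 24736 (.leaf 0x38d53) (.leaf 0x38d53)) (.node 24738 (.leaf 0x38d53) (.node 24739 (.leaf 0x38d53) (.leaf 0x38d53)))) (.node 24742 (.node 24741 (.leaf 0x38d53) (.leaf 0x38d53)) (.node 24743 (.leaf 0x38d53) (.node 24744 (.leaf 0x38d53) (.leaf 0x38d53))))))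

def candS_1223 : Store := (.node 24755 (.node 24750 (.node 24747 (.node 24746 (.leaf 0x38d53) (.leaf 0x38d53)) (.node 24748 (.leaf 0x38d53) (.node 24749 (.leaf 0x38d53) (.leaf 0x38d53)))) (.node 24752 (.node 24751 (.leaf 0x38d53) (.leaf 0x38d53)) (.node 24753 (.leaf 0x38d53) (.node 24754 (.leaf 0x38d53) (.leaf 0x38d53))))) (.node 24760 (.node 24757 (.node 24756 (.leaf 0x38d53) (.leaf 0x38d53)) (.node 24758 (.leaf 0x38d53) (.node 24759 (.leaf 0x38d53) (.leaf 0x38d53)))) (.node 24762 (.node 24761 (.leaf 0x38d53) (.leaf 0x38d53)) (.node 24763 (.leaf 0x38d53) (.node 24764 (.leaf 0x38d53) (.leaf 0x38d53))))))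

def candS_1224 : Store := (.node 24775 (.node 24770 (.node 24767 (.node 24766 (.leaf 0x38d53) (.leaf 0x38d53)) (.node 24768 (.leaf 0x38d53) (.node 24769 (.leaf 0x38d53) (.leaf 0x38d53)))) (.node 24772 (.node 24771 (.leaf 0x38d53) (.leaf 0x38d53)) (.node 24773 (.leaf 0x38d53) (.node 24774 (.leaf 0x38d53) (.leaf 0x38d53))))) (.node 24780 (.node 24777 (.node 24776 (.leaf 0x38d53) (.leaf 0x38d53)) (.node 24778 (.leaf 0x38d53) (.node 24779 (.leaf 0x38d53) (.leaf 0x38d53)))) (.node 24783 (.node 24781 (.leaf 0x38d53) (.node 24782 (.leaf 0x38d53) (.leaf 0x38d53))) (.node 24784 (.leaf 0x38d53) (.node 24785 (.leaf 0x38d53) (.leaf 0x38d53))))))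

def candS_1225 : Store := (.node 24796 (.node 24791 (.node 24788 (.node 24787 (.leaf 0x38d53) (.leaf 0x38d53)) (.node 24789 (.leaf 0x38d53) (.node 24790 (.leaf 0x38d53) (.leaf 0x38d53)))) (.node 24793 (.node 24792 (.leaf 0x38d53) (.leaf 0x38d53)) (.node 24794 (.leaf 0x38d53) (.node 24795 (.leaf 0x38d53) (.leaf 0x38d53))))) (.node 24801 (.node 24798 (.node 24797 (.leaf 0x38d53) (.leaf 0x38d53)) (.node 24799 (.leaf 0x38d53) (.node 24800 (.leaf 0x38d53) (.leaf 0x38d53)))) (.node 24803 (.node 24802 (.leaf 0x38d53) (.leaf 0x38d53)) (.node 24804 (.leaf 0x38d53) (.node 24805 (.leaf 0x38d53) (.leaf 0x38d53))))))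

def candS_1226 : Store := (.node 24816 (.node 24811 (.node 24808 (.node 24807 (.leaf 0x38d53) (.leaf 0x38d53)) (.node 24809 (.leaf 0x38d53) (.node 24810 (.leaf 0x38d53) (.leaf 0x38d53)))) (.node 24813 (.node 24812 (.leaf 0x38d53) (.leaf 0x38d53)) (.node 24814 (.leaf 0x38d53) (.node 24815 (.leaf 0x38d53) (.leaf 0x38d53))))) (.node 24821 (.node 24818 (.node 24817 (.leaf 0x38d53) (.leaf 0x38d53)) (.node 24819 (.leaf 0x38d53) (.node 24820 (.leaf 0x38d53) (.leaf 0x38d53)))) (.node 24823 (.node 24822 (.leaf 0x38d53) (.leaf 0x38d53)) (.node 24824 (.leaf 0x38d53) (.node 24825 (.leaf 0x38d53) (.leaf 0x38d53))))))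

def candS_1227 : Store := (.node 24836 (.node 24831 (.node 24828 (.node 24827 (.leaf 0x38d53) (.leaf 0x38d53)) (.node 24829 (.leaf 0x38d53) (.node 24830 (.leaf 0x38d53) (.leaf 0x38d53)))) (.node 24833 (.node 24832 (.leaf 0x38d53) (.leaf 0x38d53)) (.node 24834 (.leaf 0x38d53) (.node 24835 (.leaf 0x38d53) (.leaf 0x38d53))))) (.node 24841 (.node 24838 (.node 24837 (.leaf 0x38d53) (.leaf 0x38d53)) (.node 24839 (.leaf 0x38d53) (.node 24840 (.leaf 0x38d53) (.leaf 0x38d53)))) (.node 24843 (.node 24842 (.leaf 0x38d53) (.leaf 0x38d53)) (.node 24844 (.leaf 0x38d53) (.node 24845 (.leaf 0x38d53) (.leaf 0x38d53))))))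

def candS_1228 : Store := (.node 24856 (.node 24851 (.node 24848 (.node 24847 (.leaf 0x38d53) (.leaf 0x38d53)) (.node 24849 (.leaf 0x38d53) (.node 24850 (.leaf 0x38d53) (.leaf 0x38d53)))) (.node 24853 (.node 24852 (.leaf 0x38d53) (.leaf 0x38d53)) (.node 24854 (.leaf 0x38d53) (.node 24855 (.leaf 0x38d53) (.leaf 0x38d53))))) (.node 24861 (.node 24858 (.node 24857 (.leaf 0x38d53) (.leaf 0x38d53)) (.node 24859 (.leaf 0x38d53) (.node 24860 (.leaf 0x38d53) (.leaf 0x38d53)))) (.node 24864 (.node 24862 (.leaf 0x38d53) (.node 24863 (.leaf 0x38d53) (.leaf 0x38d53))) (.node 24865 (.leaf 0x38d53) (.node 24866 (.leaf 0x38d53) (.leaf 0x38d53))))))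

def candS_1229 : Store := (.node 24877 (.node 24872 (.node 24869 (.node 24868 (.leaf 0x38d53) (.leaf 0x38d53)) (.node 24870 (.leaf 0x38d53) (.node 24871 (.leaf 0x38d53) (.leaf 0x38d53)))) (.node 24874 (.node 24873 (.leaf 0x38d53) (.leaf 0x38d53)) (.node 24875 (.leaf 0x38d53) (.node 24876 (.leaf 0x38d53) (.leaf 0x38d53))))) (.node 24882 (.node 24879 (.node 24878 (.leaf 0x38d53) (.leaf 0x38d53)) (.node 24880 (.leaf 0x38d53) (.node 24881 (.leaf 0x38d53) (.leaf 0x38d53)))) (.node 24884 (.node 24883 (.leaf 0x38d53) (.leaf 0x38d53)) (.node 24885 (.leaf 0x38d53) (.node 24886 (.leaf 0x38d53) (.leaf 0x38d53))))))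

def candS_1230 : Store := (.node 24897 (.node 24892 (.node 24889 (.node 24888 (.leaf 0x38d53) (.leaf 0x38d53)) (.node 24890 (.leaf 0x38d53) (.node 24891 (.leaf 0x38d53) (.leaf 0x38d53)))) (.node 24894 (.node 24893 (.leaf 0x38d53) (.leaf 0x38d53)) (.node 24895 (.leaf 0x38d53) (.node 24896 (.leaf 0x38d53) (.leaf 0x38d53))))) (.node 24902 (.node 24899 (.node 24898 (.leaf 0x38d53) (.leaf 0x38d53)) (.node 24900 (.leaf 0x38d53) (.node 24901 (.leaf 0x38d53) (.leaf 0x38d53)))) (.node 24904 (.node 24903 (.leaf 0x38d53) (.leaf 0x38d53)) (.node 24905 (.leaf 0x38d53) (.node 24906 (.leaf 0x38d53) (.leaf 0x38d53))))))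

def candS_1231 : Store := (.node 24917 (.node 24912 (.node 24909 (.node 24908 (.leaf 0x38d53) (.leaf 0x38d53)) (.node 24910 (.leaf 0x38d53) (.node 24911 (.leaf 0x38d53) (.leaf 0x38d53)))) (.node 24914 (.node 24913 (.leaf 0x38d53) (.leaf 0x38d53)) (.node 24915 (.leaf 0x38d53) (.node 24916 (.leaf 0x38d53) (.leaf 0x38d53))))) (.node 24922 (.node 24919 (.node 24918 (.leaf 0x38d53) (.leaf 0x38d53)) (.node 24920 (.leaf 0x38d53) (.node 24921 (.leaf 0x38d53) (.leaf 0x38d53)))) (.node 24924 (.node 24923 (.leaf 0x38d53) (.leaf 0x38d53)) (.node 24925 (.leaf 0x38d53) (.node 24926 (.leaf 0x38d53) (.leaf 0x38d53))))))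

def candS_1232 : Store := (.node 24937 (.node 24932 (.node 24929 (.node 24928 (.leaf 0x38d53) (.leaf 0x38d53)) (.node 24930 (.leaf 0x38d53) (.node 24931 (.leaf 0x38d53) (.leaf 0x38d53)))) (.node 24934 (.node 24933 (.leaf 0x38d53) (.leaf 0x38d53)) (.node 24935 (.leaf 0x38d53) (.node 24936 (.leaf 0x38d53) (.leaf 0x38d53))))) (.node 24942 (.node 24939 (.node 24938 (.leaf 0x38d53) (.leaf 0x38d53)) (.node 24940 (.leaf 0x38d53) (.node 24941 (.leaf 0x38d53) (.leaf 0x38d53)))) (.node 24945 (.node 24943 (.leaf 0x38d53) (.node 24944 (.leaf 0x38d53) (.leaf 0x38d53))) (.node 24946 (.leaf 0x38d53) (.node 24947 (.leaf 0x38d53) (.leaf 0x38d53))))))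

def candS_1233 : Store := (.node 24958 (.node 24953 (.node 24950 (.node 24949 (.leaf 0x38d53) (.leaf 0x38d53)) (.node 24951 (.leaf 0x38d53) (.node 24952 (.leaf 0x38d53) (.leaf 0x38d53)))) (.node 24955 (.node 24954 (.leaf 0x38d53) (.leaf 0x38d53)) (.node 24956 (.leaf 0x38d53) (.node 24957 (.leaf 0x38d53) (.leaf 0x38d53))))) (.node 24963 (.node 24960 (.node 24959 (.leaf 0x38d53) (.leaf 0x38d53)) (.node 24961 (.leaf 0x38d53) (.node 24962 (.leaf 0x38d53) (.leaf 0x38d53)))) (.node 24965 (.node 24964 (.leaf 0x38d53) (.leaf 0x38d53)) (.node 24966 (.leaf 0x38d53) (.node 24967 (.leaf 0x38d53) (.leaf 0x38d53))))))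

def candS_1234 : Store := (.node 24978 (.node 24973 (.node 24970 (.node 24969 (.leaf 0x38d53) (.leaf 0x38d53)) (.node 24971 (.leaf 0x38d53) (.node 24972 (.leaf 0x38d53) (.leaf 0x38d53)))) (.node 24975 (.node 24974 (.leaf 0x38d53) (.leaf 0x38d53)) (.node 24976 (.leaf 0x38d53) (.node 24977 (.leaf 0x38d53) (.leaf 0x38d53))))) (.node 24983 (.node 24980 (.node 24979 (.leaf 0x38d53) (.leaf 0x38d53)) (.node 24981 (.leaf 0x38d53) (.node 24982 (.leaf 0x38d53) (.leaf 0x38d53)))) (.node 24985 (.node 24984 (.leaf 0x38d53) (.leaf 0x38d53)) (.node 24986 (.leaf 0x38d53) (.node 24987 (.leaf 0x38d53) (.leaf 0x38d53))))))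

def candS_1235 : Store := (.node 24998 (.node 24993 (.node 24990 (.node 24989 (.leaf 0x38d53) (.leaf 0x38d53)) (.node 24991 (.leaf 0x38d53) (.node 24992 (.leaf 0x38d53) (.leaf 0x38d53)))) (.node 24995 (.node 24994 (.leaf 0x38d53) (.leaf 0x38d53)) (.node 24996 (.leaf 0x38d53) (.node 24997 (.leaf 0x38d53) (.leaf 0x38d53))))) (.node 25003 (.node 25000 (.node 24999 (.leaf 0x38d53) (.leaf 0x38d53)) (.node 25001 (.leaf 0x38d53) (.node 25002 (.leaf 0x38d53) (.leaf 0x38d53)))) (.node 25005 (.node 25004 (.leaf 0x38d53) (.leaf 0x38d53)) (.node 25006 (.leaf 0x38d53) (.node 25007 (.leaf 0x38d53) (.leaf 0x38d53))))))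

def candS_1236 : Store := (.node 25018 (.node 25013 (.node 25010 (.node 25009 (.leaf 0x38d53) (.leaf 0x38d53)) (.node 25011 (.leaf 0x38d53) (.node 25012 (.leaf 0x38d53) (.leaf 0x38d53)))) (.node 25015 (.node 25014 (.leaf 0x38d53) (.leaf 0x38d53)) (.node 25016 (.leaf 0x38d53) (.node 25017 (.leaf 0x38d53) (.leaf 0x38d53))))) (.node 25023 (.node 25020 (.node 25019 (.leaf 0x38d53) (.leaf 0x38d53)) (.node 25021 (.leaf 0x38d53) (.node 25022 (.leaf 0x38d53) (.leaf 0x38d53)))) (.node 25026 (.node 25024 (.leaf 0x38d53) (.node 25025 (.leaf 0x38d53) (.leaf 0x38d53))) (.node 25027 (.leaf 0x38d53) (.node 25028 (.leaf 0x38d53) (.leaf 0x38d53))))))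

def candS_1237 : Store := (.node 25039 (.node 25034 (.node 25031 (.node 25030 (.leaf 0x38d53) (.leaf 0x38d53)) (.node 25032 (.leaf 0x38d53) (.node 25033 (.leaf 0x38d53) (.leaf 0x38d53)))) (.node 25036 (.node 25035 (.leaf 0x38d53) (.leaf 0x38d53)) (.node 25037 (.leaf 0x38d53) (.node 25038 (.leaf 0x38d53) (.leaf 0x38d53))))) (.node 25044 (.node 25041 (.node 25040 (.leaf 0x38d53) (.leaf 0x38d53)) (.node 25042 (.leaf 0x38d53) (.node 25043 (.leaf 0x38d53) (.leaf 0x38d53)))) (.node 25046 (.node 25045 (.leaf 0x38d53) (.leaf 0x38d53)) (.node 25047 (.leaf 0x38d53) (.node 25048 (.leaf 0x38d53) (.leaf 0x38d53))))))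

def candS_1238 : Store := (.node 25059 (.node 25054 (.node 25051 (.node 25050 (.leaf 0x38d53) (.leaf 0x38d53)) (.node 25052 (.leaf 0x38d53) (.node 25053 (.leaf 0x38d53) (.leaf 0x38d53)))) (.node 25056 (.node 25055 (.leaf 0x38d53) (.leaf 0x38d53)) (.node 25057 (.leaf 0x38d53) (.node 25058 (.leaf 0x38d53) (.leaf 0x38d53))))) (.node 25064 (.node 25061 (.node 25060 (.leaf 0x38d53) (.leaf 0x38d53)) (.node 25062 (.leaf 0x38d53) (.node 25063 (.leaf 0x38d53) (.leaf 0x38d53)))) (.node 25066 (.node 25065 (.leaf 0x38d53) (.leaf 0x38d53)) (.node 25067 (.leaf 0x38d53) (.node 25068 (.leaf 0x38d53) (.leaf 0x38d53))))))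

def candS_1239 : Store := (.node 25079 (.node 25074 (.node 25071 (.node 25070 (.leaf 0x38d53) (.leaf 0x38d53)) (.node 25072 (.leaf 0x38d53) (.node 25073 (.leaf 0x38d53) (.leaf 0x38d53)))) (.node 25076 (.node 25075 (.leaf 0x38d53) (.leaf 0x38d53)) (.node 25077 (.leaf 0x38d53) (.node 25078 (.leaf 0x38d53) (.leaf 0x38d53))))) (.node 25084 (.node 25081 (.node 25080 (.leaf 0x38d53) (.leaf 0x38d53)) (.node 25082 (.leaf 0x38d53) (.node 25083 (.leaf 0x38d53) (.leaf 0x38d53)))) (.node 25086 (.node 25085 (.leaf 0x38d53) (.leaf 0x38d53)) (.node 25087 (.leaf 0x38d53) (.node 25088 (.leaf 0x38d53) (.leaf 0x38d53))))))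

def candS_1240 : Store := (.node 25099 (.node 25094 (.node 25091 (.node 25090 (.leaf 0x38d53) (.leaf 0x38d53)) (.node 25092 (.leaf 0x38d53) (.node 25093 (.leaf 0x38d53) (.leaf 0x38d53)))) (.node 25096 (.node 25095 (.leaf 0x38d53) (.leaf 0x38d53)) (.node 25097 (.leaf 0x38d53) (.node 25098 (.leaf 0x38d53) (.leaf 0x38d53))))) (.node 25104 (.node 25101 (.node 25100 (.leaf 0x38d53) (.leaf 0x38d53)) (.node 25102 (.leaf 0x38d53) (.node 25103 (.leaf 0x38d53) (.leaf 0x38d53)))) (.node 25107 (.node 25105 (.leaf 0x38d53) (.node 25106 (.leaf 0x38d53) (.leaf 0x38d53))) (.node 25108 (.leaf 0x38d53) (.node 25109 (.leaf 0x38d53) (.leaf 0x38d53))))))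

def candS_1241 : Store := (.node 25120 (.node 25115 (.node 25112 (.node 25111 (.leaf 0x38d53) (.leaf 0x38d53)) (.node 25113 (.leaf 0x38d53) (.node 25114 (.leaf 0x38d53) (.leaf 0x38d53)))) (.node 25117 (.node 25116 (.leaf 0x38d53) (.leaf 0x38d53)) (.node 25118 (.leaf 0x38d53) (.node 25119 (.leaf 0x38d53) (.leaf 0x38d53))))) (.node 25125 (.node 25122 (.node 25121 (.leaf 0x38d53) (.leaf 0x38d53)) (.node 25123 (.leaf 0x38d53) (.node 25124 (.leaf 0x38d53) (.leaf 0x38d53)))) (.node 25127 (.node 25126 (.leaf 0x38d53) (.leaf 0x38d53)) (.node 25128 (.leaf 0x38d53) (.node 25129 (.leaf 0x38d53) (.leaf 0x38d53))))))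

def candS_1242 : Store := (.node 25140 (.node 25135 (.node 25132 (.node 25131 (.leaf 0x38d53) (.leaf 0x38d53)) (.node 25133 (.leaf 0x38d53) (.node 25134 (.leaf 0x38d53) (.leaf 0x38d53)))) (.node 25137 (.node 25136 (.leaf 0x38d53) (.leaf 0x38d53)) (.node 25138 (.leaf 0x38d53) (.node 25139 (.leaf 0x38d53) (.leaf 0x38d53))))) (.node 25145 (.node 25142 (.node 25141 (.leaf 0x38d53) (.leaf 0x38d53)) (.node 25143 (.leaf 0x38d53) (.node 25144 (.leaf 0x38d53) (.leaf 0x38d53)))) (.node 25147 (.node 25146 (.leaf 0x38d53) (.leaf 0x38d53)) (.node 25148 (.leaf 0x38d53) (.node 25149 (.leaf 0x38d53) (.leaf 0x38d53))))))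

def candS_1243 : Store := (.node 25160 (.node 25155 (.node 25152 (.node 25151 (.leaf 0x38d53) (.leaf 0x38d53)) (.node 25153 (.leaf 0x38d53) (.node 25154 (.leaf 0x38d53) (.leaf 0x38d53)))) (.node 25157 (.node 25156 (.leaf 0x38d53) (.leaf 0x38d53)) (.node 25158 (.leaf 0x38d53) (.node 25159 (.leaf 0x38d53) (.leaf 0x38d53))))) (.node 25165 (.node 25162 (.node 25161 (.leaf 0x38d53) (.leaf 0x38d53)) (.node 25163 (.leaf 0x38d53) (.node 25164 (.leaf 0x38d53) (.leaf 0x38d53)))) (.node 25167 (.node 25166 (.leaf 0x38d53) (.leaf 0x38d53)) (.node 25168 (.leaf 0x38d53) (.node 25169 (.leaf 0x38d53) (.leaf 0x38d53))))))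

def candS_1244 : Store := (.node 25180 (.node 25175 (.node 25172 (.node 25171 (.leaf 0x38d53) (.leaf 0x38d53)) (.node 25173 (.leaf 0x38d53) (.node 25174 (.leaf 0x38d53) (.leaf 0x38d53)))) (.node 25177 (.node 25176 (.leaf 0x38d53) (.leaf 0x38d53)) (.node 25178 (.leaf 0x38d53) (.node 25179 (.leaf 0x38d53) (.leaf 0x38d53))))) (.node 25185 (.node 25182 (.node 25181 (.leaf 0x38d53) (.leaf 0x38d53)) (.node 25183 (.leaf 0x38d53) (.node 25184 (.leaf 0x38d53) (.leaf 0x38d53)))) (.node 25188 (.node 25186 (.leaf 0x38d53) (.node 25187 (.leaf 0x38d53) (.leaf 0x38d53))) (.node 25189 (.leaf 0x38d53) (.node 25190 (.leaf 0x38d53) (.leaf 0x38d53))))))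

def candS_1245 : Store := (.node 25201 (.node 25196 (.node 25193 (.node 25192 (.leaf 0x38d53) (.leaf 0x38d53)) (.node 25194 (.leaf 0x38d53) (.node 25195 (.leaf 0x38d53) (.leaf 0x38d53)))) (.node 25198 (.node 25197 (.leaf 0x38d53) (.leaf 0x38d53)) (.node 25199 (.leaf 0x38d53) (.node 25200 (.leaf 0x38d53) (.leaf 0x38d53))))) (.node 25206 (.node 25203 (.node 25202 (.leaf 0x38d53) (.leaf 0x38d53)) (.node 25204 (.leaf 0x38d53) (.node 25205 (.leaf 0x38d53) (.leaf 0x38d53)))) (.node 25208 (.node 25207 (.leaf 0x38d53) (.leaf 0x38d53)) (.node 25209 (.leaf 0x38d53) (.node 25210 (.leaf 0x38d53) (.leaf 0x38d53))))))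

def candS_1246 : Store := (.node 25221 (.node 25216 (.node 25213 (.node 25212 (.leaf 0x38d53) (.leaf 0x38d53)) (.node 25214 (.leaf 0x38d53) (.node 25215 (.leaf 0x38d53) (.leaf 0x38d53)))) (.node 25218 (.node 25217 (.leaf 0x38d53) (.leaf 0x38d53)) (.node 25219 (.leaf 0x38d53) (.node 25220 (.leaf 0x38d53) (.leaf 0x38d53))))) (.node 25226 (.node 25223 (.node 25222 (.leaf 0x38d53) (.leaf 0x38d53)) (.node 25224 (.leaf 0x38d53) (.node 25225 (.leaf 0x38d53) (.leaf 0x38d53)))) (.node 25228 (.node 25227 (.leaf 0x38d53) (.leaf 0x38d53)) (.node 25229 (.leaf 0x38d53) (.node 25230 (.leaf 0x38d53) (.leaf 0x38d53))))))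

def candS_1247 : Store := (.node 25241 (.node 25236 (.node 25233 (.node 25232 (.leaf 0x38d53) (.leaf 0x38d53)) (.node 25234 (.leaf 0x38d53) (.node 25235 (.leaf 0x38d53) (.leaf 0x38d53)))) (.node 25238 (.node 25237 (.leaf 0x38d53) (.leaf 0x38d53)) (.node 25239 (.leaf 0x38d53) (.node 25240 (.leaf 0x38d53) (.leaf 0x38d53))))) (.node 25246 (.node 25243 (.node 25242 (.leaf 0x38d53) (.leaf 0x38d53)) (.node 25244 (.leaf 0x38d53) (.node 25245 (.leaf 0x38d53) (.leaf 0x38d53)))) (.node 25248 (.node 25247 (.leaf 0x38d53) (.leaf 0x38d53)) (.node 25249 (.leaf 0x38d53) (.node 25250 (.leaf 0x38d53) (.leaf 0x38d53))))))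

def candS_1248 : Store := (.node 25261 (.node 25256 (.node 25253 (.node 25252 (.leaf 0x38d53) (.leaf 0x38d53)) (.node 25254 (.leaf 0x38d53) (.node 25255 (.leaf 0x38d53) (.leaf 0x38d53)))) (.node 25258 (.node 25257 (.leaf 0x38d53) (.leaf 0x38d53)) (.node 25259 (.leaf 0x38d53) (.node 25260 (.leaf 0x38d53) (.leaf 0x38d53))))) (.node 25266 (.node 25263 (.node 25262 (.leaf 0x38d53) (.leaf 0x38d53)) (.node 25264 (.leaf 0x38d53) (.node 25265 (.leaf 0x38d53) (.leaf 0x38d53)))) (.node 25269 (.node 25267 (.leaf 0x38d53) (.node 25268 (.leaf 0x38d53) (.leaf 0x38d53))) (.node 25270 (.leaf 0x38d53) (.node 25271 (.leaf 0x38d53) (.leaf 0x38d53))))))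

def candS_1249 : Store := (.node 25282 (.node 25277 (.node 25274 (.node 25273 (.leaf 0x38d53) (.leaf 0x38d53)) (.node 25275 (.leaf 0x38d53) (.node 25276 (.leaf 0x38d53) (.leaf 0x38d53)))) (.node 25279 (.node 25278 (.leaf 0x38d53) (.leaf 0x38d53)) (.node 25280 (.leaf 0x38d53) (.node 25281 (.leaf 0x38d53) (.leaf 0x38d53))))) (.node 25287 (.node 25284 (.node 25283 (.leaf 0x38d53) (.leaf 0x38d53)) (.node 25285 (.leaf 0x38d53) (.node 25286 (.leaf 0x38d53) (.leaf 0x38d53)))) (.node 25289 (.node 25288 (.leaf 0x38d53) (.leaf 0x38d53)) (.node 25290 (.leaf 0x38d53) (.node 25291 (.leaf 0x38d53) (.leaf 0x38d53))))))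

def candS_1250 : Store := (.node 25302 (.node 25297 (.node 25294 (.node 25293 (.leaf 0x38d53) (.leaf 0x38d53)) (.node 25295 (.leaf 0x38d53) (.node 25296 (.leaf 0x38d53) (.leaf 0x38d53)))) (.node 25299 (.node 25298 (.leaf 0x38d53) (.leaf 0x38d53)) (.node 25300 (.leaf 0x38d53) (.node 25301 (.leaf 0x38d53) (.leaf 0x38d53))))) (.node 25307 (.node 25304 (.node 25303 (.leaf 0x38d53) (.leaf 0x38d53)) (.node 25305 (.leaf 0x38d53) (.node 25306 (.leaf 0x38d53) (.leaf 0x38d53)))) (.node 25309 (.node 25308 (.leaf 0x38d53) (.leaf 0x38d53)) (.node 25310 (.leaf 0x38d53) (.node 25311 (.leaf 0x38d53) (.leaf 0x38d53))))))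

def candS_1251 : Store := (.node 25322 (.node 25317 (.node 25314 (.node 25313 (.leaf 0x38d53) (.leaf 0x38d53)) (.node 25315 (.leaf 0x38d53) (.node 25316 (.leaf 0x38d53) (.leaf 0x38d53)))) (.node 25319 (.node 25318 (.leaf 0x38d53) (.leaf 0x38d53)) (.node 25320 (.leaf 0x38d53) (.node 25321 (.leaf 0x38d53) (.leaf 0x38d53))))) (.node 25327 (.node 25324 (.node 25323 (.leaf 0x38d53) (.leaf 0x38d53)) (.node 25325 (.leaf 0x38d53) (.node 25326 (.leaf 0x38d53) (.leaf 0x38d53)))) (.node 25329 (.node 25328 (.leaf 0x38d53) (.leaf 0x38d53)) (.node 25330 (.leaf 0x38d53) (.node 25331 (.leaf 0x38d53) (.leaf 0x38d53))))))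

def candS_1252 : Store := (.node 25342 (.node 25337 (.node 25334 (.node 25333 (.leaf 0x38d53) (.leaf 0x38d53)) (.node 25335 (.leaf 0x38d53) (.node 25336 (.leaf 0x38d53) (.leaf 0x38d53)))) (.node 25339 (.node 25338 (.leaf 0x38d53) (.leaf 0x38d53)) (.node 25340 (.leaf 0x38d53) (.node 25341 (.leaf 0x38d53) (.leaf 0x38d53))))) (.node 25347 (.node 25344 (.node 25343 (.leaf 0x38d53) (.leaf 0x38d53)) (.node 25345 (.leaf 0x38d53) (.node 25346 (.leaf 0x38d53) (.leaf 0x38d53)))) (.node 25350 (.node 25348 (.leaf 0x38d53) (.node 25349 (.leaf 0x38d53) (.leaf 0x38d53))) (.node 25351 (.leaf 0x38d53) (.node 25352 (.leaf 0x38d53) (.leaf 0x38d53))))))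

def candS_1253 : Store := (.node 25363 (.node 25358 (.node 25355 (.node 25354 (.leaf 0x38d53) (.leaf 0x38d53)) (.node 25356 (.leaf 0x38d53) (.node 25357 (.leaf 0x38d53) (.leaf 0x38d53)))) (.node 25360 (.node 25359 (.leaf 0x38d53) (.leaf 0x38d53)) (.node 25361 (.leaf 0x38d53) (.node 25362 (.leaf 0x38d53) (.leaf 0x38d53))))) (.node 25368 (.node 25365 (.node 25364 (.leaf 0x38d53) (.leaf 0x38d53)) (.node 25366 (.leaf 0x38d53) (.node 25367 (.leaf 0x38d53) (.leaf 0x38d53)))) (.node 25370 (.node 25369 (.leaf 0x38d53) (.leaf 0x38d53)) (.node 25371 (.leaf 0x38d53) (.node 25372 (.leaf 0x38d53) (.leaf 0x38d53))))))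

def candS_1254 : Store := (.node 25383 (.node 25378 (.node 25375 (.node 25374 (.leaf 0x38d53) (.leaf 0x38d53)) (.node 25376 (.leaf 0x38d53) (.node 25377 (.leaf 0x38d53) (.leaf 0x38d53)))) (.node 25380 (.node 25379 (.leaf 0x38d53) (.leaf 0x38d53)) (.node 25381 (.leaf 0x38d53) (.node 25382 (.leaf 0x38d53) (.leaf 0x38d53))))) (.node 25388 (.node 25385 (.node 25384 (.leaf 0x38d53) (.leaf 0x38d53)) (.node 25386 (.leaf 0x38d53) (.node 25387 (.leaf 0x38d53) (.leaf 0x38d53)))) (.node 25390 (.node 25389 (.leaf 0x38d53) (.leaf 0x38d53)) (.node 25391 (.leaf 0x38d53) (.node 25392 (.leaf 0x38d53) (.leaf 0x38d53))))))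

def candS_1255 : Store := (.node 25403 (.node 25398 (.node 25395 (.node 25394 (.leaf 0x38d53) (.leaf 0x38d53)) (.node 25396 (.leaf 0x38d53) (.node 25397 (.leaf 0x38d53) (.leaf 0x38d53)))) (.node 25400 (.node 25399 (.leaf 0x38d53) (.leaf 0x38d53)) (.node 25401 (.leaf 0x38d53) (.node 25402 (.leaf 0x38d53) (.leaf 0x38d53))))) (.node 25408 (.node 25405 (.node 25404 (.leaf 0x38d53) (.leaf 0x38d53)) (.node 25406 (.leaf 0x38d53) (.node 25407 (.leaf 0x38d53) (.leaf 0x38d53)))) (.node 25410 (.node 25409 (.leaf 0x38d53) (.leaf 0x38d53)) (.node 25411 (.leaf 0x38d53) (.node 25412 (.leaf 0x38d53) (.leaf 0x38d53))))))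

def candS_1256 : Store := (.node 25423 (.node 25418 (.node 25415 (.node 25414 (.leaf 0x38d53) (.leaf 0x38d53)) (.node 25416 (.leaf 0x38d53) (.node 25417 (.leaf 0x38d53) (.leaf 0x38d53)))) (.node 25420 (.node 25419 (.leaf 0x38d53) (.leaf 0x38d53)) (.node 25421 (.leaf 0x38d53) (.node 25422 (.leaf 0x38d53) (.leaf 0x38d53))))) (.node 25428 (.node 25425 (.node 25424 (.leaf 0x38d53) (.leaf 0x38d53)) (.node 25426 (.leaf 0x38d53) (.node 25427 (.leaf 0x38d53) (.leaf 0x38d53)))) (.node 25431 (.node 25429 (.leaf 0x38d53) (.node 25430 (.leaf 0x38d53) (.leaf 0x38d53))) (.node 25432 (.leaf 0x38d53) (.node 25433 (.leaf 0x38d53) (.leaf 0x38d53))))))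

def candS_1257 : Store := (.node 25444 (.node 25439 (.node 25436 (.node 25435 (.leaf 0x38d53) (.leaf 0x38d53)) (.node 25437 (.leaf 0x38d53) (.node 25438 (.leaf 0x38d53) (.leaf 0x38d53)))) (.node 25441 (.node 25440 (.leaf 0x38d53) (.leaf 0x38d53)) (.node 25442 (.leaf 0x38d53) (.node 25443 (.leaf 0x38d53) (.leaf 0x38d53))))) (.node 25449 (.node 25446 (.node 25445 (.leaf 0x38d53) (.leaf 0x38d53)) (.node 25447 (.leaf 0x38d53) (.node 25448 (.leaf 0x38d53) (.leaf 0x38d53)))) (.node 25451 (.node 25450 (.leaf 0x38d53) (.leaf 0x38d53)) (.node 25452 (.leaf 0x38d53) (.node 25453 (.leaf 0x38d53) (.leaf 0x38d53))))))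

def candS_1258 : Store := (.node 25464 (.node 25459 (.node 25456 (.node 25455 (.leaf 0x38d53) (.leaf 0x38d53)) (.node 25457 (.leaf 0x38d53) (.node 25458 (.leaf 0x38d53) (.leaf 0x38d53)))) (.node 25461 (.node 25460 (.leaf 0x38d53) (.leaf 0x38d53)) (.node 25462 (.leaf 0x38d53) (.node 25463 (.leaf 0x38d53) (.leaf 0x38d53))))) (.node 25469 (.node 25466 (.node 25465 (.leaf 0x38d53) (.leaf 0x38d53)) (.node 25467 (.leaf 0x38d53) (.node 25468 (.leaf 0x38d53) (.leaf 0x38d53)))) (.node 25471 (.node 25470 (.leaf 0x38d53) (.leaf 0x38d53)) (.node 25472 (.leaf 0x38d53) (.node 25473 (.leaf 0x38d53) (.leaf 0x38d53))))))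

def candS_1259 : Store := (.node 25484 (.node 25479 (.node 25476 (.node 25475 (.leaf 0x38d53) (.leaf 0x38d53)) (.node 25477 (.leaf 0x38d53) (.node 25478 (.leaf 0x38d53) (.leaf 0x38d53)))) (.node 25481 (.node 25480 (.leaf 0x38d53) (.leaf 0x38d53)) (.node 25482 (.leaf 0x38d53) (.node 25483 (.leaf 0x38d53) (.leaf 0x38d53))))) (.node 25489 (.node 25486 (.node 25485 (.leaf 0x38d53) (.leaf 0x38d53)) (.node 25487 (.leaf 0x38d53) (.node 25488 (.leaf 0x38d53) (.leaf 0x38d53)))) (.node 25491 (.node 25490 (.leaf 0x38d53) (.leaf 0x38d53)) (.node 25492 (.leaf 0x38d53) (.node 25493 (.leaf 0x38d53) (.leaf 0x38d53))))))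

def candS_1260 : Store := (.node 25504 (.node 25499 (.node 25496 (.node 25495 (.leaf 0x38d53) (.leaf 0x38d53)) (.node 25497 (.leaf 0x38d53) (.node 25498 (.leaf 0x38d53) (.leaf 0x38d53)))) (.node 25501 (.node 25500 (.leaf 0x38d53) (.leaf 0x38d53)) (.node 25502 (.leaf 0x38d53) (.node 25503 (.leaf 0x38d53) (.leaf 0x38d53))))) (.node 25509 (.node 25506 (.node 25505 (.leaf 0x38d53) (.leaf 0x38d53)) (.node 25507 (.leaf 0x38d53) (.node 25508 (.leaf 0x38d53) (.leaf 0x38d53)))) (.node 25512 (.node 25510 (.leaf 0x38d53) (.node 25511 (.leaf 0x38d53) (.leaf 0x38d53))) (.node 25513 (.leaf 0x38d53) (.node 25514 (.leaf 0x38d53) (.leaf 0x38d53))))))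

def candS_1261 : Store := (.node 25525 (.node 25520 (.node 25517 (.node 25516 (.leaf 0x38d53) (.leaf 0x38d53)) (.node 25518 (.leaf 0x38d53) (.node 25519 (.leaf 0x38d53) (.leaf 0x38d53)))) (.node 25522 (.node 25521 (.leaf 0x38d53) (.leaf 0x38d53)) (.node 25523 (.leaf 0x38d53) (.node 25524 (.leaf 0x38d53) (.leaf 0x38d53))))) (.node 25530 (.node 25527 (.node 25526 (.leaf 0x38d53) (.leaf 0x38d53)) (.node 25528 (.leaf 0x38d53) (.node 25529 (.leaf 0x38d53) (.leaf 0x38d53)))) (.node 25532 (.node 25531 (.leaf 0x38d53) (.leaf 0x38d53)) (.node 25533 (.leaf 0x38d53) (.node 25534 (.leaf 0x38d53) (.leaf 0x38d53))))))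

def candS_1262 : Store := (.node 25545 (.node 25540 (.node 25537 (.node 25536 (.leaf 0x38d53) (.leaf 0x38d53)) (.node 25538 (.leaf 0x38d53) (.node 25539 (.leaf 0x38d53) (.leaf 0x38d53)))) (.node 25542 (.node 25541 (.leaf 0x38d53) (.leaf 0x38d53)) (.node 25543 (.leaf 0x38d53) (.node 25544 (.leaf 0x38d53) (.leaf 0x38d53))))) (.node 25550 (.node 25547 (.node 25546 (.leaf 0x38d53) (.leaf 0x38d53)) (.node 25548 (.leaf 0x38d53) (.node 25549 (.leaf 0x38d53) (.leaf 0x38d53)))) (.node 25552 (.node 25551 (.leaf 0x38d53) (.leaf 0x38d53)) (.node 25553 (.leaf 0x38d53) (.node 25554 (.leaf 0x38d53) (.leaf 0x38d53))))))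

def candS_1263 : Store := (.node 25565 (.node 25560 (.node 25557 (.node 25556 (.leaf 0x38d53) (.leaf 0x38d53)) (.node 25558 (.leaf 0x38d53) (.node 25559 (.leaf 0x38d53) (.leaf 0x38d53)))) (.node 25562 (.node 25561 (.leaf 0x38d53) (.leaf 0x38d53)) (.node 25563 (.leaf 0x38d53) (.node 25564 (.leaf 0x38d53) (.leaf 0x38d53))))) (.node 25570 (.node 25567 (.node 25566 (.leaf 0x38d53) (.leaf 0x38d53)) (.node 25568 (.leaf 0x38d53) (.node 25569 (.leaf 0x38d53) (.leaf 0x38d53)))) (.node 25572 (.node 25571 (.leaf 0x38d53) (.leaf 0x38d53)) (.node 25573 (.leaf 0x38d53) (.node 25574 (.leaf 0x38d53) (.leaf 0x38d53))))))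

def candS_1264 : Store := (.node 25585 (.node 25580 (.node 25577 (.node 25576 (.leaf 0x38d53) (.leaf 0x38d53)) (.node 25578 (.leaf 0x38d53) (.node 25579 (.leaf 0x38d53) (.leaf 0x38d53)))) (.node 25582 (.node 25581 (.leaf 0x38d53) (.leaf 0x38d53)) (.node 25583 (.leaf 0x38d53) (.node 25584 (.leaf 0x38d53) (.leaf 0x38d53))))) (.node 25590 (.node 25587 (.node 25586 (.leaf 0x38d53) (.leaf 0x38d53)) (.node 25588 (.leaf 0x38d53) (.node 25589 (.leaf 0x38d53) (.leaf 0x38d53)))) (.node 25593 (.node 25591 (.leaf 0x38d53) (.node 25592 (.leaf 0x38d53) (.leaf 0x38d53))) (.node 25594 (.leaf 0x38d53) (.node 25595 (.leaf 0x38d53) (.leaf 0x38d53))))))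

def candS_1265 : Store := (.node 25606 (.node 25601 (.node 25598 (.node 25597 (.leaf 0x38d53) (.leaf 0x38d53)) (.node 25599 (.leaf 0x38d53) (.node 25600 (.leaf 0x38d53) (.leaf 0x38d53)))) (.node 25603 (.node 25602 (.leaf 0x38d53) (.leaf 0x38d53)) (.node 25604 (.leaf 0x38d53) (.node 25605 (.leaf 0x38d53) (.leaf 0x38d53))))) (.node 25611 (.node 25608 (.node 25607 (.leaf 0x38d53) (.leaf 0x38d53)) (.node 25609 (.leaf 0x38d53) (.node 25610 (.leaf 0x38d53) (.leaf 0x38d53)))) (.node 25613 (.node 25612 (.leaf 0x38d53) (.leaf 0x38d53)) (.node 25614 (.leaf 0x38d53) (.node 25615 (.leaf 0x38d53) (.leaf 0x38d53))))))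

def candS_1266 : Store := (.node 25626 (.node 25621 (.node 25618 (.node 25617 (.leaf 0x38d53) (.leaf 0x38d53)) (.node 25619 (.leaf 0x38d53) (.node 25620 (.leaf 0x38d53) (.leaf 0x38d53)))) (.node 25623 (.node 25622 (.leaf 0x38d53) (.leaf 0x38d53)) (.node 25624 (.leaf 0x38d53) (.node 25625 (.leaf 0x38d53) (.leaf 0x38d53))))) (.node 25631 (.node 25628 (.node 25627 (.leaf 0x38d53) (.leaf 0x38d53)) (.node 25629 (.leaf 0x38d53) (.node 25630 (.leaf 0x38d53) (.leaf 0x38d53)))) (.node 25633 (.node 25632 (.leaf 0x38d53) (.leaf 0x38d53)) (.node 25634 (.leaf 0x38d53) (.node 25635 (.leaf 0x38d53) (.leaf 0x38d53))))))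

def candS_1267 : Store := (.node 25646 (.node 25641 (.node 25638 (.node 25637 (.leaf 0x38d53) (.leaf 0x38d53)) (.node 25639 (.leaf 0x38d53) (.node 25640 (.leaf 0x38d53) (.leaf 0x38d53)))) (.node 25643 (.node 25642 (.leaf 0x38d53) (.leaf 0x38d53)) (.node 25644 (.leaf 0x38d53) (.node 25645 (.leaf 0x38d53) (.leaf 0x38d53))))) (.node 25651 (.node 25648 (.node 25647 (.leaf 0x38d53) (.leaf 0x38d53)) (.node 25649 (.leaf 0x38d53) (.node 25650 (.leaf 0x38d53) (.leaf 0x38d53)))) (.node 25653 (.node 25652 (.leaf 0x38d53) (.leaf 0x38d53)) (.node 25654 (.leaf 0x38d53) (.node 25655 (.leaf 0x38d53) (.leaf 0x38d53))))))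

def candS_1268 : Store := (.node 25666 (.node 25661 (.node 25658 (.node 25657 (.leaf 0x38d53) (.leaf 0x38d53)) (.node 25659 (.leaf 0x38d53) (.node 25660 (.leaf 0x38d53) (.leaf 0x38d53)))) (.node 25663 (.node 25662 (.leaf 0x38d53) (.leaf 0x38d53)) (.node 25664 (.leaf 0x38d53) (.node 25665 (.leaf 0x38d53) (.leaf 0x38d53))))) (.node 25671 (.node 25668 (.node 25667 (.leaf 0x38d53) (.leaf 0x38d53)) (.node 25669 (.leaf 0x38d53) (.node 25670 (.leaf 0x38d53) (.leaf 0x38d53)))) (.node 25674 (.node 25672 (.leaf 0x38d53) (.node 25673 (.leaf 0x38d53) (.leaf 0x38d53))) (.node 25675 (.leaf 0x38d53) (.node 25676 (.leaf 0x38d53) (.leaf 0x38d53))))))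

def candS_1269 : Store := (.node 25687 (.node 25682 (.node 25679 (.node 25678 (.leaf 0x38d53) (.leaf 0x38d53)) (.node 25680 (.leaf 0x38d53) (.node 25681 (.leaf 0x38d53) (.leaf 0x38d53)))) (.node 25684 (.node 25683 (.leaf 0x38d53) (.leaf 0x38d53)) (.node 25685 (.leaf 0x38d53) (.node 25686 (.leaf 0x38d53) (.leaf 0x38d53))))) (.node 25692 (.node 25689 (.node 25688 (.leaf 0x38d53) (.leaf 0x38d53)) (.node 25690 (.leaf 0x38d53) (.node 25691 (.leaf 0x38d53) (.leaf 0x38d53)))) (.node 25694 (.node 25693 (.leaf 0x38d53) (.leaf 0x38d53)) (.node 25695 (.leaf 0x38d53) (.node 25696 (.leaf 0x38d53) (.leaf 0x38d53))))))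

def candS_1270 : Store := (.node 25707 (.node 25702 (.node 25699 (.node 25698 (.leaf 0x38d53) (.leaf 0x38d53)) (.node 25700 (.leaf 0x38d53) (.node 25701 (.leaf 0x38d53) (.leaf 0x38d53)))) (.node 25704 (.node 25703 (.leaf 0x38d53) (.leaf 0x38d53)) (.node 25705 (.leaf 0x38d53) (.node 25706 (.leaf 0x38d53) (.leaf 0x38d53))))) (.node 25712 (.node 25709 (.node 25708 (.leaf 0x38d53) (.leaf 0x38d53)) (.node 25710 (.leaf 0x38d53) (.node 25711 (.leaf 0x38d53) (.leaf 0x38d53)))) (.node 25714 (.node 25713 (.leaf 0x38d53) (.leaf 0x38d53)) (.node 25715 (.leaf 0x38d53) (.node 25716 (.leaf 0x38d53) (.leaf 0x38d53))))))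

def candS_1271 : Store := (.node 25727 (.node 25722 (.node 25719 (.node 25718 (.leaf 0x38d53) (.leaf 0x38d53)) (.node 25720 (.leaf 0x38d53) (.node 25721 (.leaf 0x38d53) (.leaf 0x38d53)))) (.node 25724 (.node 25723 (.leaf 0x38d53) (.leaf 0x38d53)) (.node 25725 (.leaf 0x38d53) (.node 25726 (.leaf 0x38d53) (.leaf 0x38d53))))) (.node 25732 (.node 25729 (.node 25728 (.leaf 0x38d53) (.leaf 0x38d53)) (.node 25730 (.leaf 0x38d53) (.node 25731 (.leaf 0x38d53) (.leaf 0x38d53)))) (.node 25734 (.node 25733 (.leaf 0x38d53) (.leaf 0x38d53)) (.node 25735 (.leaf 0x38d53) (.node 25736 (.leaf 0x38d53) (.leaf 0x38d53))))))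

def candS_1272 : Store := (.node 25747 (.node 25742 (.node 25739 (.node 25738 (.leaf 0x38d53) (.leaf 0x38d53)) (.node 25740 (.leaf 0x38d53) (.node 25741 (.leaf 0x38d53) (.leaf 0x38d53)))) (.node 25744 (.node 25743 (.leaf 0x38d53) (.leaf 0x38d53)) (.node 25745 (.leaf 0x38d53) (.node 25746 (.leaf 0x38d53) (.leaf 0x38d53))))) (.node 25752 (.node 25749 (.node 25748 (.leaf 0x38d53) (.leaf 0x38d53)) (.node 25750 (.leaf 0x38d53) (.node 25751 (.leaf 0x38d53) (.leaf 0x38d53)))) (.node 25755 (.node 25753 (.leaf 0x38d53) (.node 25754 (.leaf 0x38d53) (.leaf 0x38d53))) (.node 25756 (.leaf 0x38d53) (.node 25757 (.leaf 0x38d53) (.leaf 0x38d53))))))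

def candS_1273 : Store := (.node 25768 (.node 25763 (.node 25760 (.node 25759 (.leaf 0x38d53) (.leaf 0x38d53)) (.node 25761 (.leaf 0x38d53) (.node 25762 (.leaf 0x38d53) (.leaf 0x38d53)))) (.node 25765 (.node 25764 (.leaf 0x38d53) (.leaf 0x38d53)) (.node 25766 (.leaf 0x38d53) (.node 25767 (.leaf 0x38d53) (.leaf 0x38d53))))) (.node 25773 (.node 25770 (.node 25769 (.leaf 0x38d53) (.leaf 0x38d53)) (.node 25771 (.leaf 0x38d53) (.node 25772 (.leaf 0x38d53) (.leaf 0x38d53)))) (.node 25775 (.node 25774 (.leaf 0x38d53) (.leaf 0x38d53)) (.node 25776 (.leaf 0x38d53) (.node 25777 (.leaf 0x38d53) (.leaf 0x38d53))))))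

def candS_1274 : Store := (.node 25788 (.node 25783 (.node 25780 (.node 25779 (.leaf 0x38d53) (.leaf 0x38d53)) (.node 25781 (.leaf 0x38d53) (.node 25782 (.leaf 0x38d53) (.leaf 0x38d53)))) (.node 25785 (.node 25784 (.leaf 0x38d53) (.leaf 0x38d53)) (.node 25786 (.leaf 0x38d53) (.node 25787 (.leaf 0x38d53) (.leaf 0x38d53))))) (.node 25793 (.node 25790 (.node 25789 (.leaf 0x38d53) (.leaf 0x38d53)) (.node 25791 (.leaf 0x38d53) (.node 25792 (.leaf 0x38d53) (.leaf 0x38d53)))) (.node 25795 (.node 25794 (.leaf 0x38d53) (.leaf 0x38d53)) (.node 25796 (.leaf 0x38d53) (.node 25797 (.leaf 0x38d53) (.leaf 0x38d53))))))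

def candS_1275 : Store := (.node 25808 (.node 25803 (.node 25800 (.node 25799 (.leaf 0x38d53) (.leaf 0x38d53)) (.node 25801 (.leaf 0x38d53) (.node 25802 (.leaf 0x38d53) (.leaf 0x38d53)))) (.node 25805 (.node 25804 (.leaf 0x38d53) (.leaf 0x38d53)) (.node 25806 (.leaf 0x38d53) (.node 25807 (.leaf 0x38d53) (.leaf 0x38d53))))) (.node 25813 (.node 25810 (.node 25809 (.leaf 0x38d53) (.leaf 0x38d53)) (.node 25811 (.leaf 0x38d53) (.node 25812 (.leaf 0x38d53) (.leaf 0x38d53)))) (.node 25815 (.node 25814 (.leaf 0x38d53) (.leaf 0x38d53)) (.node 25816 (.leaf 0x38d53) (.node 25817 (.leaf 0x38d53) (.leaf 0x38d53))))))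

def candS_1276 : Store := (.node 25828 (.node 25823 (.node 25820 (.node 25819 (.leaf 0x38d53) (.leaf 0x38d53)) (.node 25821 (.leaf 0x38d53) (.node 25822 (.leaf 0x38d53) (.leaf 0x38d53)))) (.node 25825 (.node 25824 (.leaf 0x38d53) (.leaf 0x38d53)) (.node 25826 (.leaf 0x38d53) (.node 25827 (.leaf 0x38d53) (.leaf 0x38d53))))) (.node 25833 (.node 25830 (.node 25829 (.leaf 0x38d53) (.leaf 0x38d53)) (.node 25831 (.leaf 0x38d53) (.node 25832 (.leaf 0x38d53) (.leaf 0x38d53)))) (.node 25836 (.node 25834 (.leaf 0x38d53) (.node 25835 (.leaf 0x38d53) (.leaf 0x38d53))) (.node 25837 (.leaf 0x38d53) (.node 25838 (.leaf 0x38d53) (.leaf 0x38d53))))))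

def candS_1277 : Store := (.node 25849 (.node 25844 (.node 25841 (.node 25840 (.leaf 0x38d53) (.leaf 0x38d53)) (.node 25842 (.leaf 0x38d53) (.node 25843 (.leaf 0x38d53) (.leaf 0x38d53)))) (.node 25846 (.node 25845 (.leaf 0x38d53) (.leaf 0x38d53)) (.node 25847 (.leaf 0x38d53) (.node 25848 (.leaf 0x38d53) (.leaf 0x38d53))))) (.node 25854 (.node 25851 (.node 25850 (.leaf 0x38d53) (.leaf 0x38d53)) (.node 25852 (.leaf 0x38d53) (.node 25853 (.leaf 0x38d53) (.leaf 0x38d53)))) (.node 25856 (.node 25855 (.leaf 0x38d53) (.leaf 0x38d53)) (.node 25857 (.leaf 0x38d53) (.node 25858 (.leaf 0x38d53) (.leaf 0x38d53))))))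

def candS_1278 : Store := (.node 25869 (.node 25864 (.node 25861 (.node 25860 (.leaf 0x38d53) (.leaf 0x38d53)) (.node 25862 (.leaf 0x38d53) (.node 25863 (.leaf 0x38d53) (.leaf 0x38d53)))) (.node 25866 (.node 25865 (.leaf 0x38d53) (.leaf 0x38d53)) (.node 25867 (.leaf 0x38d53) (.node 25868 (.leaf 0x38d53) (.leaf 0x38d53))))) (.node 25874 (.node 25871 (.node 25870 (.leaf 0x38d53) (.leaf 0x38d53)) (.node 25872 (.leaf 0x38d53) (.node 25873 (.leaf 0x38d53) (.leaf 0x38d53)))) (.node 25876 (.node 25875 (.leaf 0x38d53) (.leaf 0x38d53)) (.node 25877 (.leaf 0x38d53) (.node 25878 (.leaf 0x38d53) (.leaf 0x38d53))))))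

def candS_1279 : Store := (.node 25889 (.node 25884 (.node 25881 (.node 25880 (.leaf 0x38d53) (.leaf 0x38d53)) (.node 25882 (.leaf 0x38d53) (.node 25883 (.leaf 0x38d53) (.leaf 0x38d53)))) (.node 25886 (.node 25885 (.leaf 0x38d53) (.leaf 0x38d53)) (.node 25887 (.leaf 0x38d53) (.node 25888 (.leaf 0x38d53) (.leaf 0x38d53))))) (.node 25894 (.node 25891 (.node 25890 (.leaf 0x38d53) (.leaf 0x38d53)) (.node 25892 (.leaf 0x38d53) (.node 25893 (.leaf 0x38d53) (.leaf 0x38d53)))) (.node 25896 (.node 25895 (.leaf 0x38d53) (.leaf 0x38d53)) (.node 25897 (.leaf 0x38d53) (.node 25898 (.leaf 0x38d53) (.leaf 0x38d53))))))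

def candS_1280 : Store := (.node 25909 (.node 25904 (.node 25901 (.node 25900 (.leaf 0x38d53) (.leaf 0x38d53)) (.node 25902 (.leaf 0x38d53) (.node 25903 (.leaf 0x38d53) (.leaf 0x38d53)))) (.node 25906 (.node 25905 (.leaf 0x38d53) (.leaf 0x38d53)) (.node 25907 (.leaf 0x38d53) (.node 25908 (.leaf 0x38d53) (.leaf 0x38d53))))) (.node 25914 (.node 25911 (.node 25910 (.leaf 0x38d53) (.leaf 0x38d53)) (.node 25912 (.leaf 0x38d53) (.node 25913 (.leaf 0x38d53) (.leaf 0x38d53)))) (.node 25917 (.node 25915 (.leaf 0x38d53) (.node 25916 (.leaf 0x38d53) (.leaf 0x38d53))) (.node 25918 (.leaf 0x38d53) (.node 25919 (.leaf 0x38d53) (.leaf 0x38d53))))))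

def candS_1281 : Store := (.node 25930 (.node 25925 (.node 25922 (.node 25921 (.leaf 0x111c1) (.leaf 0x111c1)) (.node 25923 (.leaf 0x111c1) (.node 25924 (.leaf 0x111c1) (.leaf 0x111c1)))) (.node 25927 (.node 25926 (.leaf 0x111c1) (.leaf 0x111c1)) (.node 25928 (.leaf 0x111c1) (.node 25929 (.leaf 0x111c1) (.leaf 0x111c1))))) (.node 25935 (.node 25932 (.node 25931 (.leaf 0x111c1) (.leaf 0x111c1)) (.node 25933 (.leaf 0x111c1) (.node 25934 (.leaf 0x111c1) (.leaf 0x111c1)))) (.node 25937 (.node 25936 (.leaf 0x111c1) (.leaf 0x111c1)) (.node 25938 (.leaf 0x111c1) (.node 25939 (.leaf 0x111c1) (.leaf 0x111c1))))))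

def candS_1282 : Store := (.node 25950 (.node 25945 (.node 25942 (.node 25941 (.leaf 0x111c1) (.leaf 0x111c1)) (.node 25943 (.leaf 0x111c1) (.node 25944 (.leaf 0x111c1) (.leaf 0x111c1)))) (.node 25947 (.node 25946 (.leaf 0x111c1) (.leaf 0x111c1)) (.node 25948 (.leaf 0x111c1) (.node 25949 (.leaf 0x111c1) (.leaf 0x111c1))))) (.node 25955 (.node 25952 (.node 25951 (.leaf 0x111c1) (.leaf 0x111c1)) (.node 25953 (.leaf 0x111c1) (.node 25954 (.leaf 0x111c1) (.leaf 0x111c1)))) (.node 25957 (.node 25956 (.leaf 0x111c1) (.leaf 0x111c1)) (.node 25958 (.leaf 0x111c1) (.node 25959 (.leaf 0x111c1) (.leaf 0x111c1))))))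

def candS_1283 : Store := (.node 25970 (.node 25965 (.node 25962 (.node 25961 (.leaf 0x111c1) (.leaf 0x111c1)) (.node 25963 (.leaf 0x111c1) (.node 25964 (.leaf 0x111c1) (.leaf 0x111c1)))) (.node 25967 (.node 25966 (.leaf 0x111c1) (.leaf 0x111c1)) (.node 25968 (.leaf 0x111c1) (.node 25969 (.leaf 0x111c1) (.leaf 0x111c1))))) (.node 25975 (.node 25972 (.node 25971 (.leaf 0x111c1) (.leaf 0x111c1)) (.node 25973 (.leaf 0x111c1) (.node 25974 (.leaf 0x111c1) (.leaf 0x111c1)))) (.node 25977 (.node 25976 (.leaf 0x111c1) (.leaf 0x111c1)) (.node 25978 (.leaf 0x111c1) (.node 25979 (.leaf 0x111c1) (.leaf 0x111c1))))))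

def candS_1284 : Store := (.node 25990 (.node 25985 (.node 25982 (.node 25981 (.leaf 0x111c1) (.leaf 0x111c1)) (.node 25983 (.leaf 0x111c1) (.node 25984 (.leaf 0x111c1) (.leaf 0x111c1)))) (.node 25987 (.node 25986 (.leaf 0x111c1) (.leaf 0x111c1)) (.node 25988 (.leaf 0x111c1) (.node 25989 (.leaf 0x111c1) (.leaf 0x111c1))))) (.node 25995 (.node 25992 (.node 25991 (.leaf 0x111c1) (.leaf 0x111c1)) (.node 25993 (.leaf 0x111c1) (.node 25994 (.leaf 0x111c1) (.leaf 0x111c1)))) (.node 25998 (.node 25996 (.leaf 0x111c1) (.node 25997 (.leaf 0x111c1) (.leaf 0x111c1))) (.node 25999 (.leaf 0x111c1) (.node 26000 (.leaf 0x111c1) (.leaf 0x111c1))))))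

def candS_1285 : Store := (.node 26011 (.node 26006 (.node 26003 (.node 26002 (.leaf 0x111c1) (.leaf 0x111c1)) (.node 26004 (.leaf 0x111c1) (.node 26005 (.leaf 0x111c1) (.leaf 0x111c1)))) (.node 26008 (.node 26007 (.leaf 0x111c1) (.leaf 0x111c1)) (.node 26009 (.leaf 0x111c1) (.node 26010 (.leaf 0x111c1) (.leaf 0x111c1))))) (.node 26016 (.node 26013 (.node 26012 (.leaf 0x111c1) (.leaf 0x111c1)) (.node 26014 (.leaf 0x111c1) (.node 26015 (.leaf 0x111c1) (.leaf 0x111c1)))) (.node 26018 (.node 26017 (.leaf 0x111c1) (.leaf 0x111c1)) (.node 26019 (.leaf 0x111c1) (.node 26020 (.leaf 0x111c1) (.leaf 0x111c1))))))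

def candS_1286 : Store := (.node 26031 (.node 26026 (.node 26023 (.node 26022 (.leaf 0x111c1) (.leaf 0x111c1)) (.node 26024 (.leaf 0x111c1) (.node 26025 (.leaf 0x111c1) (.leaf 0x111c1)))) (.node 26028 (.node 26027 (.leaf 0x111c1) (.leaf 0x111c1)) (.node 26029 (.leaf 0x111c1) (.node 26030 (.leaf 0x111c1) (.leaf 0x111c1))))) (.node 26036 (.node 26033 (.node 26032 (.leaf 0x111c1) (.leaf 0x111c1)) (.node 26034 (.leaf 0x111c1) (.node 26035 (.leaf 0x111c1) (.leaf 0x111c1)))) (.node 26038 (.node 26037 (.leaf 0x111c1) (.leaf 0x111c1)) (.node 26039 (.leaf 0x111c1) (.node 26040 (.leaf 0x111c1) (.leaf 0x111c1))))))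

def candS_1287 : Store := (.node 26051 (.node 26046 (.node 26043 (.node 26042 (.leaf 0x111c1) (.leaf 0x111c1)) (.node 26044 (.leaf 0x111c1) (.node 26045 (.leaf 0x111c1) (.leaf 0x111c1)))) (.node 26048 (.node 26047 (.leaf 0x111c1) (.leaf 0x111c1)) (.node 26049 (.leaf 0x111c1) (.node 26050 (.leaf 0x111c1) (.leaf 0x111c1))))) (.node 26056 (.node 26053 (.node 26052 (.leaf 0x111c1) (.leaf 0x111c1)) (.node 26054 (.leaf 0x111c1) (.node 26055 (.leaf 0x111c1) (.leaf 0x111c1)))) (.node 26058 (.node 26057 (.leaf 0x111c1) (.leaf 0x111c1)) (.node 26059 (.leaf 0x111c1) (.node 26060 (.leaf 0x111c1) (.leaf 0x111c1))))))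

def candS_1288 : Store := (.node 26071 (.node 26066 (.node 26063 (.node 26062 (.leaf 0x111c1) (.leaf 0x111c1)) (.node 26064 (.leaf 0x111c1) (.node 26065 (.leaf 0x111c1) (.leaf 0x111c1)))) (.node 26068 (.node 26067 (.leaf 0x111c1) (.leaf 0x111c1)) (.node 26069 (.leaf 0x111c1) (.node 26070 (.leaf 0x111c1) (.leaf 0x111c1))))) (.node 26076 (.node 26073 (.node 26072 (.leaf 0x111c1) (.leaf 0x111c1)) (.node 26074 (.leaf 0x111c1) (.node 26075 (.leaf 0x111c1) (.leaf 0x111c1)))) (.node 26079 (.node 26077 (.leaf 0x111c1) (.node 26078 (.leaf 0x111c1) (.leaf 0x111c1))) (.node 26080 (.leaf 0x111c1) (.node 26081 (.leaf 0x111c1) (.leaf 0x111c1))))))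

def candS_1289 : Store := (.node 26092 (.node 26087 (.node 26084 (.node 26083 (.leaf 0x111c1) (.leaf 0x111c1)) (.node 26085 (.leaf 0x111c1) (.node 26086 (.leaf 0x111c1) (.leaf 0x111c1)))) (.node 26089 (.node 26088 (.leaf 0x111c1) (.leaf 0x111c1)) (.node 26090 (.leaf 0x111c1) (.node 26091 (.leaf 0x111c1) (.leaf 0x111c1))))) (.node 26097 (.node 26094 (.node 26093 (.leaf 0x111c1) (.leaf 0x111c1)) (.node 26095 (.leaf 0x111c1) (.node 26096 (.leaf 0x111c1) (.leaf 0x111c1)))) (.node 26099 (.node 26098 (.leaf 0x111c1) (.leaf 0x111c1)) (.node 26100 (.leaf 0x111c1) (.node 26101 (.leaf 0x111c1) (.leaf 0x111c1))))))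

def candS_1290 : Store := (.node 26112 (.node 26107 (.node 26104 (.node 26103 (.leaf 0x111c1) (.leaf 0x111c1)) (.node 26105 (.leaf 0x111c1) (.node 26106 (.leaf 0x111c1) (.leaf 0x111c1)))) (.node 26109 (.node 26108 (.leaf 0x111c1) (.leaf 0x111c1)) (.node 26110 (.leaf 0x111c1) (.node 26111 (.leaf 0x111c1) (.leaf 0x111c1))))) (.node 26117 (.node 26114 (.node 26113 (.leaf 0x111c1) (.leaf 0x111c1)) (.node 26115 (.leaf 0x111c1) (.node 26116 (.leaf 0x111c1) (.leaf 0x111c1)))) (.node 26119 (.node 26118 (.leaf 0x111c1) (.leaf 0x111c1)) (.node 26120 (.leaf 0x111c1) (.node 26121 (.leaf 0x111c1) (.leaf 0x111c1))))))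

def candS_1291 : Store := (.node 26132 (.node 26127 (.node 26124 (.node 26123 (.leaf 0x111c1) (.leaf 0x111c1)) (.node 26125 (.leaf 0x111c1) (.node 26126 (.leaf 0x111c1) (.leaf 0x111c1)))) (.node 26129 (.node 26128 (.leaf 0x111c1) (.leaf 0x111c1)) (.node 26130 (.leaf 0x111c1) (.node 26131 (.leaf 0x111c1) (.leaf 0x111c1))))) (.node 26137 (.node 26134 (.node 26133 (.leaf 0x111c1) (.leaf 0x111c1)) (.node 26135 (.leaf 0x111c1) (.node 26136 (.leaf 0x111c1) (.leaf 0x111c1)))) (.node 26139 (.node 26138 (.leaf 0x111c1) (.leaf 0x111c1)) (.node 26140 (.leaf 0x111c1) (.node 26141 (.leaf 0x111c1) (.leaf 0x111c1))))))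

def candS_1292 : Store := (.node 26152 (.node 26147 (.node 26144 (.node 26143 (.leaf 0x111c1) (.leaf 0x111c1)) (.node 26145 (.leaf 0x111c1) (.node 26146 (.leaf 0x111c1) (.leaf 0x111c1)))) (.node 26149 (.node 26148 (.leaf 0x111c1) (.leaf 0x111c1)) (.node 26150 (.leaf 0x111c1) (.node 26151 (.leaf 0x111c1) (.leaf 0x111c1))))) (.node 26157 (.node 26154 (.node 26153 (.leaf 0x111c1) (.leaf 0x111c1)) (.node 26155 (.leaf 0x111c1) (.node 26156 (.leaf 0x111c1) (.leaf 0x111c1)))) (.node 26160 (.node 26158 (.leaf 0x111c1) (.node 26159 (.leaf 0x111c1) (.leaf 0x111c1))) (.node 26161 (.leaf 0x111c1) (.node 26162 (.leaf 0x111c1) (.leaf 0x111c1))))))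

def candS_1293 : Store := (.node 26173 (.node 26168 (.node 26165 (.node 26164 (.leaf 0x111c1) (.leaf 0x111c1)) (.node 26166 (.leaf 0x111c1) (.node 26167 (.leaf 0x111c1) (.leaf 0x111c1)))) (.node 26170 (.node 26169 (.leaf 0x111c1) (.leaf 0x111c1)) (.node 26171 (.leaf 0x111c1) (.node 26172 (.leaf 0x111c1) (.leaf 0x111c1))))) (.node 26178 (.node 26175 (.node 26174 (.leaf 0x111c1) (.leaf 0x111c1)) (.node 26176 (.leaf 0x111c1) (.node 26177 (.leaf 0x111c1) (.leaf 0x111c1)))) (.node 26180 (.node 26179 (.leaf 0x111c1) (.leaf 0x111c1)) (.node 26181 (.leaf 0x111c1) (.node 26182 (.leaf 0x111c1) (.leaf 0x111c1))))))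

def candS_1294 : Store := (.node 26193 (.node 26188 (.node 26185 (.node 26184 (.leaf 0x111c1) (.leaf 0x111c1)) (.node 26186 (.leaf 0x111c1) (.node 26187 (.leaf 0x111c1) (.leaf 0x111c1)))) (.node 26190 (.node 26189 (.leaf 0x111c1) (.leaf 0x111c1)) (.node 26191 (.leaf 0x111c1) (.node 26192 (.leaf 0x111c1) (.leaf 0x111c1))))) (.node 26198 (.node 26195 (.node 26194 (.leaf 0x111c1) (.leaf 0x111c1)) (.node 26196 (.leaf 0x111c1) (.node 26197 (.leaf 0x111c1) (.leaf 0x111c1)))) (.node 26200 (.node 26199 (.leaf 0x111c1) (.leaf 0x111c1)) (.node 26201 (.leaf 0x111c1) (.node 26202 (.leaf 0x111c1) (.leaf 0x111c1))))))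

def candS_1295 : Store := (.node 26213 (.node 26208 (.node 26205 (.node 26204 (.leaf 0x111c1) (.leaf 0x111c1)) (.node 26206 (.leaf 0x111c1) (.node 26207 (.leaf 0x111c1) (.leaf 0x111c1)))) (.node 26210 (.node 26209 (.leaf 0x111c1) (.leaf 0x111c1)) (.node 26211 (.leaf 0x111c1) (.node 26212 (.leaf 0x111c1) (.leaf 0x111c1))))) (.node 26218 (.node 26215 (.node 26214 (.leaf 0x111c1) (.leaf 0x111c1)) (.node 26216 (.leaf 0x111c1) (.node 26217 (.leaf 0x111c1) (.leaf 0x111c1)))) (.node 26220 (.node 26219 (.leaf 0x111c1) (.leaf 0x111c1)) (.node 26221 (.leaf 0x111c1) (.node 26222 (.leaf 0x111c1) (.leaf 0x111c1))))))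

def candS_1296 : Store := (.node 26233 (.node 26228 (.node 26225 (.node 26224 (.leaf 0x111c1) (.leaf 0x111c1)) (.node 26226 (.leaf 0x111c1) (.node 26227 (.leaf 0x111c1) (.leaf 0x111c1)))) (.node 26230 (.node 26229 (.leaf 0x111c1) (.leaf 0x111c1)) (.node 26231 (.leaf 0x111c1) (.node 26232 (.leaf 0x111c1) (.leaf 0x111c1))))) (.node 26238 (.node 26235 (.node 26234 (.leaf 0x111c1) (.leaf 0x111c1)) (.node 26236 (.leaf 0x111c1) (.node 26237 (.leaf 0x111c1) (.leaf 0x111c1)))) (.node 26241 (.node 26239 (.leaf 0x111c1) (.node 26240 (.leaf 0x111c1) (.leaf 0x111c1))) (.node 26242 (.leaf 0x111c1) (.node 26243 (.leaf 0x111c1) (.leaf 0x111c1))))))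

def candS_1297 : Store := (.node 26254 (.node 26249 (.node 26246 (.node 26245 (.leaf 0x111c1) (.leaf 0x111c1)) (.node 26247 (.leaf 0x111c1) (.node 26248 (.leaf 0x111c1) (.leaf 0x111c1)))) (.node 26251 (.node 26250 (.leaf 0x111c1) (.leaf 0x111c1)) (.node 26252 (.leaf 0x111c1) (.node 26253 (.leaf 0x111c1) (.leaf 0x111c1))))) (.node 26259 (.node 26256 (.node 26255 (.leaf 0x111c1) (.leaf 0x111c1)) (.node 26257 (.leaf 0x111c1) (.node 26258 (.leaf 0x111c1) (.leaf 0x111c1)))) (.node 26261 (.node 26260 (.leaf 0x111c1) (.leaf 0x111c1)) (.node 26262 (.leaf 0x111c1) (.node 26263 (.leaf 0x111c1) (.leaf 0x111c1))))))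

def candS_1298 : Store := (.node 26274 (.node 26269 (.node 26266 (.node 26265 (.leaf 0x111c1) (.leaf 0x111c1)) (.node 26267 (.leaf 0x111c1) (.node 26268 (.leaf 0x111c1) (.leaf 0x111c1)))) (.node 26271 (.node 26270 (.leaf 0x111c1) (.leaf 0x111c1)) (.node 26272 (.leaf 0x111c1) (.node 26273 (.leaf 0x111c1) (.leaf 0x111c1))))) (.node 26279 (.node 26276 (.node 26275 (.leaf 0x111c1) (.leaf 0x111c1)) (.node 26277 (.leaf 0x111c1) (.node 26278 (.leaf 0x111c1) (.leaf 0x111c1)))) (.node 26281 (.node 26280 (.leaf 0x111c1) (.leaf 0x111c1)) (.node 26282 (.leaf 0x111c1) (.node 26283 (.leaf 0x111c1) (.leaf 0x111c1))))))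

def candS_1299 : Store := (.node 26294 (.node 26289 (.node 26286 (.node 26285 (.leaf 0x111c1) (.leaf 0x111c1)) (.node 26287 (.leaf 0x111c1) (.node 26288 (.leaf 0x111c1) (.leaf 0x111c1)))) (.node 26291 (.node 26290 (.leaf 0x111c1) (.leaf 0x111c1)) (.node 26292 (.leaf 0x111c1) (.node 26293 (.leaf 0x111c1) (.leaf 0x111c1))))) (.node 26299 (.node 26296 (.node 26295 (.leaf 0x111c1) (.leaf 0x111c1)) (.node 26297 (.leaf 0x111c1) (.node 26298 (.leaf 0x111c1) (.leaf 0x111c1)))) (.node 26301 (.node 26300 (.leaf 0x111c1) (.leaf 0x111c1)) (.node 26302 (.leaf 0x111c1) (.node 26303 (.leaf 0x111c1) (.leaf 0x111c1))))))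

def candS_1300 : Store := (.node 26314 (.node 26309 (.node 26306 (.node 26305 (.leaf 0x111c1) (.leaf 0x111c1)) (.node 26307 (.leaf 0x111c1) (.node 26308 (.leaf 0x111c1) (.leaf 0x111c1)))) (.node 26311 (.node 26310 (.leaf 0x111c1) (.leaf 0x111c1)) (.node 26312 (.leaf 0x111c1) (.node 26313 (.leaf 0x111c1) (.leaf 0x111c1))))) (.node 26319 (.node 26316 (.node 26315 (.leaf 0x111c1) (.leaf 0x111c1)) (.node 26317 (.leaf 0x111c1) (.node 26318 (.leaf 0x111c1) (.leaf 0x111c1)))) (.node 26322 (.node 26320 (.leaf 0x111c1) (.node 26321 (.leaf 0x111c1) (.leaf 0x111c1))) (.node 26323 (.leaf 0x111c1) (.node 26324 (.leaf 0x111c1) (.leaf 0x111c1))))))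

def candS_1301 : Store := (.node 26335 (.node 26330 (.node 26327 (.node 26326 (.leaf 0x111c1) (.leaf 0x111c1)) (.node 26328 (.leaf 0x111c1) (.node 26329 (.leaf 0x111c1) (.leaf 0x111c1)))) (.node 26332 (.node 26331 (.leaf 0x111c1) (.leaf 0x111c1)) (.node 26333 (.leaf 0x111c1) (.node 26334 (.leaf 0x111c1) (.leaf 0x111c1))))) (.node 26340 (.node 26337 (.node 26336 (.leaf 0x111c1) (.leaf 0x111c1)) (.node 26338 (.leaf 0x111c1) (.node 26339 (.leaf 0x111c1) (.leaf 0x111c1)))) (.node 26342 (.node 26341 (.leaf 0x111c1) (.leaf 0x111c1)) (.node 26343 (.leaf 0x111c1) (.node 26344 (.leaf 0x111c1) (.leaf 0x111c1))))))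

def candS_1302 : Store := (.node 26355 (.node 26350 (.node 26347 (.node 26346 (.leaf 0x111c1) (.leaf 0x111c1)) (.node 26348 (.leaf 0x111c1) (.node 26349 (.leaf 0x111c1) (.leaf 0x111c1)))) (.node 26352 (.node 26351 (.leaf 0x111c1) (.leaf 0x111c1)) (.node 26353 (.leaf 0x111c1) (.node 26354 (.leaf 0x111c1) (.leaf 0x111c1))))) (.node 26360 (.node 26357 (.node 26356 (.leaf 0x111c1) (.leaf 0x111c1)) (.node 26358 (.leaf 0x111c1) (.node 26359 (.leaf 0x111c1) (.leaf 0x111c1)))) (.node 26362 (.node 26361 (.leaf 0x111c1) (.leaf 0x111c1)) (.node 26363 (.leaf 0x111c1) (.node 26364 (.leaf 0x111c1) (.leaf 0x111c1))))))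

def candS_1303 : Store := (.node 26375 (.node 26370 (.node 26367 (.node 26366 (.leaf 0x111c1) (.leaf 0x111c1)) (.node 26368 (.leaf 0x111c1) (.node 26369 (.leaf 0x111c1) (.leaf 0x111c1)))) (.node 26372 (.node 26371 (.leaf 0x111c1) (.leaf 0x111c1)) (.node 26373 (.leaf 0x111c1) (.node 26374 (.leaf 0x111c1) (.leaf 0x111c1))))) (.node 26380 (.node 26377 (.node 26376 (.leaf 0x111c1) (.leaf 0x111c1)) (.node 26378 (.leaf 0x111c1) (.node 26379 (.leaf 0x111c1) (.leaf 0x111c1)))) (.node 26382 (.node 26381 (.leaf 0x111c1) (.leaf 0x111c1)) (.node 26383 (.leaf 0x111c1) (.node 26384 (.leaf 0x111c1) (.leaf 0x111c1))))))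

def candS_1304 : Store := (.node 26395 (.node 26390 (.node 26387 (.node 26386 (.leaf 0x111c1) (.leaf 0x111c1)) (.node 26388 (.leaf 0x111c1) (.node 26389 (.leaf 0x111c1) (.leaf 0x111c1)))) (.node 26392 (.node 26391 (.leaf 0x111c1) (.leaf 0x111c1)) (.node 26393 (.leaf 0x111c1) (.node 26394 (.leaf 0x111c1) (.leaf 0x111c1))))) (.node 26400 (.node 26397 (.node 26396 (.leaf 0x111c1) (.leaf 0x111c1)) (.node 26398 (.leaf 0x111c1) (.node 26399 (.leaf 0x111c1) (.leaf 0x111c1)))) (.node 26403 (.node 26401 (.leaf 0x111c1) (.node 26402 (.leaf 0x111c1) (.leaf 0x111c1))) (.node 26404 (.leaf 0x111c1) (.node 26405 (.leaf 0x111c1) (.leaf 0x111c1))))))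

def candS_1305 : Store := (.node 26416 (.node 26411 (.node 26408 (.node 26407 (.leaf 0x111c1) (.leaf 0x111c1)) (.node 26409 (.leaf 0x111c1) (.node 26410 (.leaf 0x111c1) (.leaf 0x111c1)))) (.node 26413 (.node 26412 (.leaf 0x111c1) (.leaf 0x111c1)) (.node 26414 (.leaf 0x111c1) (.node 26415 (.leaf 0x111c1) (.leaf 0x111c1))))) (.node 26421 (.node 26418 (.node 26417 (.leaf 0x111c1) (.leaf 0x111c1)) (.node 26419 (.leaf 0x111c1) (.node 26420 (.leaf 0x111c1) (.leaf 0x111c1)))) (.node 26423 (.node 26422 (.leaf 0x111c1) (.leaf 0x111c1)) (.node 26424 (.leaf 0x111c1) (.node 26425 (.leaf 0x111c1) (.leaf 0x111c1))))))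

def candS_1306 : Store := (.node 26436 (.node 26431 (.node 26428 (.node 26427 (.leaf 0x111c1) (.leaf 0x111c1)) (.node 26429 (.leaf 0x111c1) (.node 26430 (.leaf 0x111c1) (.leaf 0x111c1)))) (.node 26433 (.node 26432 (.leaf 0x111c1) (.leaf 0x111c1)) (.node 26434 (.leaf 0x111c1) (.node 26435 (.leaf 0x111c1) (.leaf 0x111c1))))) (.node 26441 (.node 26438 (.node 26437 (.leaf 0x111c1) (.leaf 0x111c1)) (.node 26439 (.leaf 0x111c1) (.node 26440 (.leaf 0x111c1) (.leaf 0x111c1)))) (.node 26443 (.node 26442 (.leaf 0x111c1) (.leaf 0x111c1)) (.node 26444 (.leaf 0x111c1) (.node 26445 (.leaf 0x111c1) (.leaf 0x111c1))))))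

def candS_1307 : Store := (.node 26456 (.node 26451 (.node 26448 (.node 26447 (.leaf 0x111c1) (.leaf 0x111c1)) (.node 26449 (.leaf 0x111c1) (.node 26450 (.leaf 0x111c1) (.leaf 0x111c1)))) (.node 26453 (.node 26452 (.leaf 0x111c1) (.leaf 0x111c1)) (.node 26454 (.leaf 0x111c1) (.node 26455 (.leaf 0x111c1) (.leaf 0x111c1))))) (.node 26461 (.node 26458 (.node 26457 (.leaf 0x111c1) (.leaf 0x111c1)) (.node 26459 (.leaf 0x111c1) (.node 26460 (.leaf 0x111c1) (.leaf 0x111c1)))) (.node 26463 (.node 26462 (.leaf 0x111c1) (.leaf 0x111c1)) (.node 26464 (.leaf 0x111c1) (.node 26465 (.leaf 0x111c1) (.leaf 0x111c1))))))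

def candS_1308 : Store := (.node 26476 (.node 26471 (.node 26468 (.node 26467 (.leaf 0x111c1) (.leaf 0x111c1)) (.node 26469 (.leaf 0x111c1) (.node 26470 (.leaf 0x111c1) (.leaf 0x111c1)))) (.node 26473 (.node 26472 (.leaf 0x111c1) (.leaf 0x111c1)) (.node 26474 (.leaf 0x111c1) (.node 26475 (.leaf 0x111c1) (.leaf 0x111c1))))) (.node 26481 (.node 26478 (.node 26477 (.leaf 0x111c1) (.leaf 0x111c1)) (.node 26479 (.leaf 0x111c1) (.node 26480 (.leaf 0x111c1) (.leaf 0x111c1)))) (.node 26484 (.node 26482 (.leaf 0x111c1) (.node 26483 (.leaf 0x111c1) (.leaf 0x111c1))) (.node 26485 (.leaf 0x111c1) (.node 26486 (.leaf 0x111c1) (.leaf 0x111c1))))))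

def candS_1309 : Store := (.node 26497 (.node 26492 (.node 26489 (.node 26488 (.leaf 0x111c1) (.leaf 0x111c1)) (.node 26490 (.leaf 0x111c1) (.node 26491 (.leaf 0x111c1) (.leaf 0x111c1)))) (.node 26494 (.node 26493 (.leaf 0x111c1) (.leaf 0x111c1)) (.node 26495 (.leaf 0x111c1) (.node 26496 (.leaf 0x111c1) (.leaf 0x111c1))))) (.node 26502 (.node 26499 (.node 26498 (.leaf 0x111c1) (.leaf 0x111c1)) (.node 26500 (.leaf 0x111c1) (.node 26501 (.leaf 0x111c1) (.leaf 0x111c1)))) (.node 26504 (.node 26503 (.leaf 0x111c1) (.leaf 0x111c1)) (.node 26505 (.leaf 0x111c1) (.node 26506 (.leaf 0x111c1) (.leaf 0x111c1))))))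

def candS_1310 : Store := (.node 26517 (.node 26512 (.node 26509 (.node 26508 (.leaf 0x111c1) (.leaf 0x111c1)) (.node 26510 (.leaf 0x111c1) (.node 26511 (.leaf 0x111c1) (.leaf 0x111c1)))) (.node 26514 (.node 26513 (.leaf 0x111c1) (.leaf 0x111c1)) (.node 26515 (.leaf 0x111c1) (.node 26516 (.leaf 0x111c1) (.leaf 0x111c1))))) (.node 26522 (.node 26519 (.node 26518 (.leaf 0x111c1) (.leaf 0x111c1)) (.node 26520 (.leaf 0x111c1) (.node 26521 (.leaf 0x111c1) (.leaf 0x111c1)))) (.node 26524 (.node 26523 (.leaf 0x111c1) (.leaf 0x111c1)) (.node 26525 (.leaf 0x111c1) (.node 26526 (.leaf 0x111c1) (.leaf 0x111c1))))))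

def candS_1311 : Store := (.node 26537 (.node 26532 (.node 26529 (.node 26528 (.leaf 0x111c1) (.leaf 0x111c1)) (.node 26530 (.leaf 0x111c1) (.node 26531 (.leaf 0x111c1) (.leaf 0x111c1)))) (.node 26534 (.node 26533 (.leaf 0x111c1) (.leaf 0x111c1)) (.node 26535 (.leaf 0x111c1) (.node 26536 (.leaf 0x111c1) (.leaf 0x111c1))))) (.node 26542 (.node 26539 (.node 26538 (.leaf 0x111c1) (.leaf 0x111c1)) (.node 26540 (.leaf 0x111c1) (.node 26541 (.leaf 0x111c1) (.leaf 0x111c1)))) (.node 26544 (.node 26543 (.leaf 0x111c1) (.leaf 0x111c1)) (.node 26545 (.leaf 0x111c1) (.node 26546 (.leaf 0x111c1) (.leaf 0x111c1))))))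

def candS_1312 : Store := (.node 26557 (.node 26552 (.node 26549 (.node 26548 (.leaf 0x111c1) (.leaf 0x111c1)) (.node 26550 (.leaf 0x111c1) (.node 26551 (.leaf 0x111c1) (.leaf 0x111c1)))) (.node 26554 (.node 26553 (.leaf 0x111c1) (.leaf 0x111c1)) (.node 26555 (.leaf 0x111c1) (.node 26556 (.leaf 0x111c1) (.leaf 0x111c1))))) (.node 26562 (.node 26559 (.node 26558 (.leaf 0x111c1) (.leaf 0x111c1)) (.node 26560 (.leaf 0x111c1) (.node 26561 (.leaf 0x111c1) (.leaf 0x111c1)))) (.node 26565 (.node 26563 (.leaf 0x111c1) (.node 26564 (.leaf 0x111c1) (.leaf 0x111c1))) (.node 26566 (.leaf 0x111c1) (.node 26567 (.leaf 0x111c1) (.leaf 0x111c1))))))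

def candS_1313 : Store := (.node 26578 (.node 26573 (.node 26570 (.node 26569 (.leaf 0x111c1) (.leaf 0x111c1)) (.node 26571 (.leaf 0x111c1) (.node 26572 (.leaf 0x111c1) (.leaf 0x111c1)))) (.node 26575 (.node 26574 (.leaf 0x111c1) (.leaf 0x111c1)) (.node 26576 (.leaf 0x111c1) (.node 26577 (.leaf 0x111c1) (.leaf 0x111c1))))) (.node 26583 (.node 26580 (.node 26579 (.leaf 0x111c1) (.leaf 0x111c1)) (.node 26581 (.leaf 0x111c1) (.node 26582 (.leaf 0x111c1) (.leaf 0x111c1)))) (.node 26585 (.node 26584 (.leaf 0x111c1) (.leaf 0x111c1)) (.node 26586 (.leaf 0x111c1) (.node 26587 (.leaf 0x111c1) (.leaf 0x111c1))))))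

def candS_1314 : Store := (.node 26598 (.node 26593 (.node 26590 (.node 26589 (.leaf 0x111c1) (.leaf 0x111c1)) (.node 26591 (.leaf 0x111c1) (.node 26592 (.leaf 0x111c1) (.leaf 0x111c1)))) (.node 26595 (.node 26594 (.leaf 0x111c1) (.leaf 0x111c1)) (.node 26596 (.leaf 0x111c1) (.node 26597 (.leaf 0x111c1) (.leaf 0x111c1))))) (.node 26603 (.node 26600 (.node 26599 (.leaf 0x111c1) (.leaf 0x111c1)) (.node 26601 (.leaf 0x111c1) (.node 26602 (.leaf 0x111c1) (.leaf 0x111c1)))) (.node 26605 (.node 26604 (.leaf 0x111c1) (.leaf 0x111c1)) (.node 26606 (.leaf 0x111c1) (.node 26607 (.leaf 0x111c1) (.leaf 0x111c1))))))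

def candS_1315 : Store := (.node 26618 (.node 26613 (.node 26610 (.node 26609 (.leaf 0x111c1) (.leaf 0x111c1)) (.node 26611 (.leaf 0x111c1) (.node 26612 (.leaf 0x111c1) (.leaf 0x111c1)))) (.node 26615 (.node 26614 (.leaf 0x111c1) (.leaf 0x111c1)) (.node 26616 (.leaf 0x111c1) (.node 26617 (.leaf 0x111c1) (.leaf 0x111c1))))) (.node 26623 (.node 26620 (.node 26619 (.leaf 0x111c1) (.leaf 0x111c1)) (.node 26621 (.leaf 0x111c1) (.node 26622 (.leaf 0x111c1) (.leaf 0x111c1)))) (.node 26625 (.node 26624 (.leaf 0x111c1) (.leaf 0x111c1)) (.node 26626 (.leaf 0x111c1) (.node 26627 (.leaf 0x111c1) (.leaf 0x111c1))))))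

def candS_1316 : Store := (.node 26638 (.node 26633 (.node 26630 (.node 26629 (.leaf 0x111c1) (.leaf 0x111c1)) (.node 26631 (.leaf 0x111c1) (.node 26632 (.leaf 0x111c1) (.leaf 0x111c1)))) (.node 26635 (.node 26634 (.leaf 0x111c1) (.leaf 0x111c1)) (.node 26636 (.leaf 0x111c1) (.node 26637 (.leaf 0x111c1) (.leaf 0x111c1))))) (.node 26643 (.node 26640 (.node 26639 (.leaf 0x111c1) (.leaf 0x111c1)) (.node 26641 (.leaf 0x111c1) (.node 26642 (.leaf 0x111c1) (.leaf 0x111c1)))) (.node 26646 (.node 26644 (.leaf 0x111c1) (.node 26645 (.leaf 0x111c1) (.leaf 0x111c1))) (.node 26647 (.leaf 0x111c1) (.node 26648 (.leaf 0x111c1) (.leaf 0x111c1))))))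

def candS_1317 : Store := (.node 26659 (.node 26654 (.node 26651 (.node 26650 (.leaf 0x111c1) (.leaf 0x111c1)) (.node 26652 (.leaf 0x111c1) (.node 26653 (.leaf 0x111c1) (.leaf 0x111c1)))) (.node 26656 (.node 26655 (.leaf 0x111c1) (.leaf 0x111c1)) (.node 26657 (.leaf 0x111c1) (.node 26658 (.leaf 0x111c1) (.leaf 0x111c1))))) (.node 26664 (.node 26661 (.node 26660 (.leaf 0x111c1) (.leaf 0x111c1)) (.node 26662 (.leaf 0x111c1) (.node 26663 (.leaf 0x111c1) (.leaf 0x111c1)))) (.node 26666 (.node 26665 (.leaf 0x111c1) (.leaf 0x111c1)) (.node 26667 (.leaf 0x111c1) (.node 26668 (.leaf 0x111c1) (.leaf 0x111c1))))))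

def candS_1318 : Store := (.node 26679 (.node 26674 (.node 26671 (.node 26670 (.leaf 0x111c1) (.leaf 0x111c1)) (.node 26672 (.leaf 0x111c1) (.node 26673 (.leaf 0x111c1) (.leaf 0x111c1)))) (.node 26676 (.node 26675 (.leaf 0x111c1) (.leaf 0x111c1)) (.node 26677 (.leaf 0x111c1) (.node 26678 (.leaf 0x111c1) (.leaf 0x111c1))))) (.node 26684 (.node 26681 (.node 26680 (.leaf 0x111c1) (.leaf 0x111c1)) (.node 26682 (.leaf 0x111c1) (.node 26683 (.leaf 0x111c1) (.leaf 0x111c1)))) (.node 26686 (.node 26685 (.leaf 0x111c1) (.leaf 0x111c1)) (.node 26687 (.leaf 0x111c1) (.node 26688 (.leaf 0x111c1) (.leaf 0x111c1))))))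

def candS_1319 : Store := (.node 26699 (.node 26694 (.node 26691 (.node 26690 (.leaf 0x111c1) (.leaf 0x111c1)) (.node 26692 (.leaf 0x111c1) (.node 26693 (.leaf 0x111c1) (.leaf 0x111c1)))) (.node 26696 (.node 26695 (.leaf 0x111c1) (.leaf 0x111c1)) (.node 26697 (.leaf 0x111c1) (.node 26698 (.leaf 0x111c1) (.leaf 0x111c1))))) (.node 26704 (.node 26701 (.node 26700 (.leaf 0x111c1) (.leaf 0x111c1)) (.node 26702 (.leaf 0x111c1) (.node 26703 (.leaf 0x111c1) (.leaf 0x111c1)))) (.node 26706 (.node 26705 (.leaf 0x111c1) (.leaf 0x111c1)) (.node 26707 (.leaf 0x111c1) (.node 26708 (.leaf 0x111c1) (.leaf 0x111c1))))))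

def candS_1320 : Store := (.node 26719 (.node 26714 (.node 26711 (.node 26710 (.leaf 0x111c1) (.leaf 0x111c1)) (.node 26712 (.leaf 0x111c1) (.node 26713 (.leaf 0x111c1) (.leaf 0x111c1)))) (.node 26716 (.node 26715 (.leaf 0x111c1) (.leaf 0x111c1)) (.node 26717 (.leaf 0x111c1) (.node 26718 (.leaf 0x111c1) (.leaf 0x111c1))))) (.node 26724 (.node 26721 (.node 26720 (.leaf 0x111c1) (.leaf 0x111c1)) (.node 26722 (.leaf 0x111c1) (.node 26723 (.leaf 0x111c1) (.leaf 0x111c1)))) (.node 26727 (.node 26725 (.leaf 0x111c1) (.node 26726 (.leaf 0x111c1) (.leaf 0x111c1))) (.node 26728 (.leaf 0x111c1) (.node 26729 (.leaf 0x111c1) (.leaf 0x111c1))))))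

def candS_1321 : Store := (.node 26740 (.node 26735 (.node 26732 (.node 26731 (.leaf 0x111c1) (.leaf 0x111c1)) (.node 26733 (.leaf 0x111c1) (.node 26734 (.leaf 0x111c1) (.leaf 0x111c1)))) (.node 26737 (.node 26736 (.leaf 0x111c1) (.leaf 0x111c1)) (.node 26738 (.leaf 0x111c1) (.node 26739 (.leaf 0x111c1) (.leaf 0x111c1))))) (.node 26745 (.node 26742 (.node 26741 (.leaf 0x111c1) (.leaf 0x111c1)) (.node 26743 (.leaf 0x111c1) (.node 26744 (.leaf 0x111c1) (.leaf 0x111c1)))) (.node 26747 (.node 26746 (.leaf 0x111c1) (.leaf 0x111c1)) (.node 26748 (.leaf 0x111c1) (.node 26749 (.leaf 0x111c1) (.leaf 0x111c1))))))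

def candS_1322 : Store := (.node 26760 (.node 26755 (.node 26752 (.node 26751 (.leaf 0x111c1) (.leaf 0x111c1)) (.node 26753 (.leaf 0x111c1) (.node 26754 (.leaf 0x111c1) (.leaf 0x111c1)))) (.node 26757 (.node 26756 (.leaf 0x111c1) (.leaf 0x111c1)) (.node 26758 (.leaf 0x111c1) (.node 26759 (.leaf 0x111c1) (.leaf 0x111c1))))) (.node 26765 (.node 26762 (.node 26761 (.leaf 0x111c1) (.leaf 0x111c1)) (.node 26763 (.leaf 0x111c1) (.node 26764 (.leaf 0x111c1) (.leaf 0x111c1)))) (.node 26767 (.node 26766 (.leaf 0x111c1) (.leaf 0x111c1)) (.node 26768 (.leaf 0x111c1) (.node 26769 (.leaf 0x111c1) (.leaf 0x111c1))))))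

def candS_1323 : Store := (.node 26780 (.node 26775 (.node 26772 (.node 26771 (.leaf 0x111c1) (.leaf 0x111c1)) (.node 26773 (.leaf 0x111c1) (.node 26774 (.leaf 0x111c1) (.leaf 0x111c1)))) (.node 26777 (.node 26776 (.leaf 0x111c1) (.leaf 0x111c1)) (.node 26778 (.leaf 0x111c1) (.node 26779 (.leaf 0x111c1) (.leaf 0x111c1))))) (.node 26785 (.node 26782 (.node 26781 (.leaf 0x111c1) (.leaf 0x111c1)) (.node 26783 (.leaf 0x111c1) (.node 26784 (.leaf 0x111c1) (.leaf 0x111c1)))) (.node 26787 (.node 26786 (.leaf 0x111c1) (.leaf 0x111c1)) (.node 26788 (.leaf 0x111c1) (.node 26789 (.leaf 0x111c1) (.leaf 0x111c1))))))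

def candS_1324 : Store := (.node 26800 (.node 26795 (.node 26792 (.node 26791 (.leaf 0x111c1) (.leaf 0x111c1)) (.node 26793 (.leaf 0x111c1) (.node 26794 (.leaf 0x111c1) (.leaf 0x111c1)))) (.node 26797 (.node 26796 (.leaf 0x111c1) (.leaf 0x111c1)) (.node 26798 (.leaf 0x111c1) (.node 26799 (.leaf 0x111c1) (.leaf 0x111c1))))) (.node 26805 (.node 26802 (.node 26801 (.leaf 0x111c1) (.leaf 0x111c1)) (.node 26803 (.leaf 0x111c1) (.node 26804 (.leaf 0x111c1) (.leaf 0x111c1)))) (.node 26808 (.node 26806 (.leaf 0x111c1) (.node 26807 (.leaf 0x111c1) (.leaf 0x111c1))) (.node 26809 (.leaf 0x111c1) (.node 26810 (.leaf 0x111c1) (.leaf 0x111c1))))))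

def candS_1325 : Store := (.node 26821 (.node 26816 (.node 26813 (.node 26812 (.leaf 0x111c1) (.leaf 0x111c1)) (.node 26814 (.leaf 0x111c1) (.node 26815 (.leaf 0x111c1) (.leaf 0x111c1)))) (.node 26818 (.node 26817 (.leaf 0x111c1) (.leaf 0x111c1)) (.node 26819 (.leaf 0x111c1) (.node 26820 (.leaf 0x111c1) (.leaf 0x111c1))))) (.node 26826 (.node 26823 (.node 26822 (.leaf 0x111c1) (.leaf 0x111c1)) (.node 26824 (.leaf 0x111c1) (.node 26825 (.leaf 0x111c1) (.leaf 0x111c1)))) (.node 26828 (.node 26827 (.leaf 0x111c1) (.leaf 0x111c1)) (.node 26829 (.leaf 0x111c1) (.node 26830 (.leaf 0x111c1) (.leaf 0x111c1))))))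

def candS_1326 : Store := (.node 26841 (.node 26836 (.node 26833 (.node 26832 (.leaf 0x111c1) (.leaf 0x111c1)) (.node 26834 (.leaf 0x111c1) (.node 26835 (.leaf 0x111c1) (.leaf 0x111c1)))) (.node 26838 (.node 26837 (.leaf 0x111c1) (.leaf 0x111c1)) (.node 26839 (.leaf 0x111c1) (.node 26840 (.leaf 0x111c1) (.leaf 0x111c1))))) (.node 26846 (.node 26843 (.node 26842 (.leaf 0x111c1) (.leaf 0x111c1)) (.node 26844 (.leaf 0x111c1) (.node 26845 (.leaf 0x111c1) (.leaf 0x111c1)))) (.node 26848 (.node 26847 (.leaf 0x111c1) (.leaf 0x111c1)) (.node 26849 (.leaf 0x111c1) (.node 26850 (.leaf 0x111c1) (.leaf 0x111c1))))))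

def candS_1327 : Store := (.node 26861 (.node 26856 (.node 26853 (.node 26852 (.leaf 0x111c1) (.leaf 0x111c1)) (.node 26854 (.leaf 0x111c1) (.node 26855 (.leaf 0x111c1) (.leaf 0x111c1)))) (.node 26858 (.node 26857 (.leaf 0x111c1) (.leaf 0x111c1)) (.node 26859 (.leaf 0x111c1) (.node 26860 (.leaf 0x111c1) (.leaf 0x111c1))))) (.node 26866 (.node 26863 (.node 26862 (.leaf 0x111c1) (.leaf 0x111c1)) (.node 26864 (.leaf 0x111c1) (.node 26865 (.leaf 0x111c1) (.leaf 0x111c1)))) (.node 26868 (.node 26867 (.leaf 0x111c1) (.leaf 0x111c1)) (.node 26869 (.leaf 0x111c1) (.node 26870 (.leaf 0x111c1) (.leaf 0x111c1))))))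

def candS_1328 : Store := (.node 26881 (.node 26876 (.node 26873 (.node 26872 (.leaf 0x111c1) (.leaf 0x111c1)) (.node 26874 (.leaf 0x111c1) (.node 26875 (.leaf 0x111c1) (.leaf 0x111c1)))) (.node 26878 (.node 26877 (.leaf 0x111c1) (.leaf 0x111c1)) (.node 26879 (.leaf 0x111c1) (.node 26880 (.leaf 0x111c1) (.leaf 0x111c1))))) (.node 26886 (.node 26883 (.node 26882 (.leaf 0x111c1) (.leaf 0x111c1)) (.node 26884 (.leaf 0x111c1) (.node 26885 (.leaf 0x111c1) (.leaf 0x111c1)))) (.node 26889 (.node 26887 (.leaf 0x111c1) (.node 26888 (.leaf 0x111c1) (.leaf 0x111c1))) (.node 26890 (.leaf 0x111c1) (.node 26891 (.leaf 0x111c1) (.leaf 0x111c1))))))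

def candS_1329 : Store := (.node 26902 (.node 26897 (.node 26894 (.node 26893 (.leaf 0x111c1) (.leaf 0x111c1)) (.node 26895 (.leaf 0x111c1) (.node 26896 (.leaf 0x111c1) (.leaf 0x111c1)))) (.node 26899 (.node 26898 (.leaf 0x111c1) (.leaf 0x111c1)) (.node 26900 (.leaf 0x111c1) (.node 26901 (.leaf 0x111c1) (.leaf 0x111c1))))) (.node 26907 (.node 26904 (.node 26903 (.leaf 0x111c1) (.leaf 0x111c1)) (.node 26905 (.leaf 0x111c1) (.node 26906 (.leaf 0x111c1) (.leaf 0x111c1)))) (.node 26909 (.node 26908 (.leaf 0x111c1) (.leaf 0x111c1)) (.node 26910 (.leaf 0x111c1) (.node 26911 (.leaf 0x111c1) (.leaf 0x111c1))))))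

def candS_1330 : Store := (.node 26922 (.node 26917 (.node 26914 (.node 26913 (.leaf 0x111c1) (.leaf 0x111c1)) (.node 26915 (.leaf 0x111c1) (.node 26916 (.leaf 0x111c1) (.leaf 0x111c1)))) (.node 26919 (.node 26918 (.leaf 0x111c1) (.leaf 0x111c1)) (.node 26920 (.leaf 0x111c1) (.node 26921 (.leaf 0x111c1) (.leaf 0x111c1))))) (.node 26927 (.node 26924 (.node 26923 (.leaf 0x111c1) (.leaf 0x111c1)) (.node 26925 (.leaf 0x111c1) (.node 26926 (.leaf 0x111c1) (.leaf 0x111c1)))) (.node 26929 (.node 26928 (.leaf 0x111c1) (.leaf 0x111c1)) (.node 26930 (.leaf 0x111c1) (.node 26931 (.leaf 0x111c1) (.leaf 0x111c1))))))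

def candS_1331 : Store := (.node 26942 (.node 26937 (.node 26934 (.node 26933 (.leaf 0x111c1) (.leaf 0x111c1)) (.node 26935 (.leaf 0x111c1) (.node 26936 (.leaf 0x111c1) (.leaf 0x111c1)))) (.node 26939 (.node 26938 (.leaf 0x111c1) (.leaf 0x111c1)) (.node 26940 (.leaf 0x111c1) (.node 26941 (.leaf 0x111c1) (.leaf 0x111c1))))) (.node 26947 (.node 26944 (.node 26943 (.leaf 0x111c1) (.leaf 0x111c1)) (.node 26945 (.leaf 0x111c1) (.node 26946 (.leaf 0x111c1) (.leaf 0x111c1)))) (.node 26949 (.node 26948 (.leaf 0x111c1) (.leaf 0x111c1)) (.node 26950 (.leaf 0x111c1) (.node 26951 (.leaf 0x111c1) (.leaf 0x111c1))))))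

def candS_1332 : Store := (.node 26962 (.node 26957 (.node 26954 (.node 26953 (.leaf 0x111c1) (.leaf 0x111c1)) (.node 26955 (.leaf 0x111c1) (.node 26956 (.leaf 0x111c1) (.leaf 0x111c1)))) (.node 26959 (.node 26958 (.leaf 0x111c1) (.leaf 0x111c1)) (.node 26960 (.leaf 0x111c1) (.node 26961 (.leaf 0x111c1) (.leaf 0x111c1))))) (.node 26967 (.node 26964 (.node 26963 (.leaf 0x111c1) (.leaf 0x111c1)) (.node 26965 (.leaf 0x111c1) (.node 26966 (.leaf 0x111c1) (.leaf 0x111c1)))) (.node 26970 (.node 26968 (.leaf 0x111c1) (.node 26969 (.leaf 0x111c1) (.leaf 0x111c1))) (.node 26971 (.leaf 0x111c1) (.node 26972 (.leaf 0x111c1) (.leaf 0x111c1))))))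

def candS_1333 : Store := (.node 26983 (.node 26978 (.node 26975 (.node 26974 (.leaf 0x111c1) (.leaf 0x111c1)) (.node 26976 (.leaf 0x111c1) (.node 26977 (.leaf 0x111c1) (.leaf 0x111c1)))) (.node 26980 (.node 26979 (.leaf 0x111c1) (.leaf 0x111c1)) (.node 26981 (.leaf 0x111c1) (.node 26982 (.leaf 0x111c1) (.leaf 0x111c1))))) (.node 26988 (.node 26985 (.node 26984 (.leaf 0x111c1) (.leaf 0x111c1)) (.node 26986 (.leaf 0x111c1) (.node 26987 (.leaf 0x111c1) (.leaf 0x111c1)))) (.node 26990 (.node 26989 (.leaf 0x111c1) (.leaf 0x111c1)) (.node 26991 (.leaf 0x111c1) (.node 26992 (.leaf 0x111c1) (.leaf 0x111c1))))))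

def candS_1334 : Store := (.node 27003 (.node 26998 (.node 26995 (.node 26994 (.leaf 0x111c1) (.leaf 0x111c1)) (.node 26996 (.leaf 0x111c1) (.node 26997 (.leaf 0x111c1) (.leaf 0x111c1)))) (.node 27000 (.node 26999 (.leaf 0x111c1) (.leaf 0x111c1)) (.node 27001 (.leaf 0x111c1) (.node 27002 (.leaf 0x111c1) (.leaf 0x111c1))))) (.node 27008 (.node 27005 (.node 27004 (.leaf 0x111c1) (.leaf 0x111c1)) (.node 27006 (.leaf 0x111c1) (.node 27007 (.leaf 0x111c1) (.leaf 0x111c1)))) (.node 27010 (.node 27009 (.leaf 0x111c1) (.leaf 0x111c1)) (.node 27011 (.leaf 0x111c1) (.node 27012 (.leaf 0x111c1) (.leaf 0x111c1))))))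

def candS_1335 : Store := (.node 27023 (.node 27018 (.node 27015 (.node 27014 (.leaf 0x111c1) (.leaf 0x111c1)) (.node 27016 (.leaf 0x111c1) (.node 27017 (.leaf 0x111c1) (.leaf 0x111c1)))) (.node 27020 (.node 27019 (.leaf 0x111c1) (.leaf 0x111c1)) (.node 27021 (.leaf 0x111c1) (.node 27022 (.leaf 0x111c1) (.leaf 0x111c1))))) (.node 27028 (.node 27025 (.node 27024 (.leaf 0x111c1) (.leaf 0x111c1)) (.node 27026 (.leaf 0x111c1) (.node 27027 (.leaf 0x111c1) (.leaf 0x111c1)))) (.node 27030 (.node 27029 (.leaf 0x111c1) (.leaf 0x111c1)) (.node 27031 (.leaf 0x111c1) (.node 27032 (.leaf 0x111c1) (.leaf 0x111c1))))))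

def candS_1336 : Store := (.node 27043 (.node 27038 (.node 27035 (.node 27034 (.leaf 0x111c1) (.leaf 0x111c1)) (.node 27036 (.leaf 0x111c1) (.node 27037 (.leaf 0x111c1) (.leaf 0x111c1)))) (.node 27040 (.node 27039 (.leaf 0x111c1) (.leaf 0x111c1)) (.node 27041 (.leaf 0x111c1) (.node 27042 (.leaf 0x111c1) (.leaf 0x111c1))))) (.node 27048 (.node 27045 (.node 27044 (.leaf 0x111c1) (.leaf 0x111c1)) (.node 27046 (.leaf 0x111c1) (.node 27047 (.leaf 0x111c1) (.leaf 0x111c1)))) (.node 27051 (.node 27049 (.leaf 0x111c1) (.node 27050 (.leaf 0x111c1) (.leaf 0x111c1))) (.node 27052 (.leaf 0x111c1) (.node 27053 (.leaf 0x111c1) (.leaf 0x111c1))))))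

def candS_1337 : Store := (.node 27064 (.node 27059 (.node 27056 (.node 27055 (.leaf 0x111c1) (.leaf 0x111c1)) (.node 27057 (.leaf 0x111c1) (.node 27058 (.leaf 0x111c1) (.leaf 0x111c1)))) (.node 27061 (.node 27060 (.leaf 0x111c1) (.leaf 0x111c1)) (.node 27062 (.leaf 0x111c1) (.node 27063 (.leaf 0x111c1) (.leaf 0x111c1))))) (.node 27069 (.node 27066 (.node 27065 (.leaf 0x111c1) (.leaf 0x111c1)) (.node 27067 (.leaf 0x111c1) (.node 27068 (.leaf 0x111c1) (.leaf 0x111c1)))) (.node 27071 (.node 27070 (.leaf 0x111c1) (.leaf 0x111c1)) (.node 27072 (.leaf 0x111c1) (.node 27073 (.leaf 0x111c1) (.leaf 0x111c1))))))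

def candS_1338 : Store := (.node 27084 (.node 27079 (.node 27076 (.node 27075 (.leaf 0x111c1) (.leaf 0x111c1)) (.node 27077 (.leaf 0x111c1) (.node 27078 (.leaf 0x111c1) (.leaf 0x111c1)))) (.node 27081 (.node 27080 (.leaf 0x111c1) (.leaf 0x111c1)) (.node 27082 (.leaf 0x111c1) (.node 27083 (.leaf 0x111c1) (.leaf 0x111c1))))) (.node 27089 (.node 27086 (.node 27085 (.leaf 0x111c1) (.leaf 0x111c1)) (.node 27087 (.leaf 0x111c1) (.node 27088 (.leaf 0x111c1) (.leaf 0x111c1)))) (.node 27091 (.node 27090 (.leaf 0x111c1) (.leaf 0x111c1)) (.node 27092 (.leaf 0x111c1) (.node 27093 (.leaf 0x111c1) (.leaf 0x111c1))))))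

def candS_1339 : Store := (.node 27104 (.node 27099 (.node 27096 (.node 27095 (.leaf 0x111c1) (.leaf 0x111c1)) (.node 27097 (.leaf 0x111c1) (.node 27098 (.leaf 0x111c1) (.leaf 0x111c1)))) (.node 27101 (.node 27100 (.leaf 0x111c1) (.leaf 0x111c1)) (.node 27102 (.leaf 0x111c1) (.node 27103 (.leaf 0x111c1) (.leaf 0x111c1))))) (.node 27109 (.node 27106 (.node 27105 (.leaf 0x111c1) (.leaf 0x111c1)) (.node 27107 (.leaf 0x111c1) (.node 27108 (.leaf 0x111c1) (.leaf 0x111c1)))) (.node 27111 (.node 27110 (.leaf 0x111c1) (.leaf 0x111c1)) (.node 27112 (.leaf 0x111c1) (.node 27113 (.leaf 0x111c1) (.leaf 0x111c1))))))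

def candS_1340 : Store := (.node 27124 (.node 27119 (.node 27116 (.node 27115 (.leaf 0x111c1) (.leaf 0x111c1)) (.node 27117 (.leaf 0x111c1) (.node 27118 (.leaf 0x111c1) (.leaf 0x111c1)))) (.node 27121 (.node 27120 (.leaf 0x111c1) (.leaf 0x111c1)) (.node 27122 (.leaf 0x111c1) (.node 27123 (.leaf 0x111c1) (.leaf 0x111c1))))) (.node 27129 (.node 27126 (.node 27125 (.leaf 0x111c1) (.leaf 0x111c1)) (.node 27127 (.leaf 0x111c1) (.node 27128 (.leaf 0x111c1) (.leaf 0x111c1)))) (.node 27132 (.node 27130 (.leaf 0x111c1) (.node 27131 (.leaf 0x111c1) (.leaf 0x111c1))) (.node 27133 (.leaf 0x111c1) (.node 27134 (.leaf 0x111c1) (.leaf 0x111c1))))))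

def candS_1341 : Store := (.node 27145 (.node 27140 (.node 27137 (.node 27136 (.leaf 0x111c1) (.leaf 0x111c1)) (.node 27138 (.leaf 0x111c1) (.node 27139 (.leaf 0x111c1) (.leaf 0x111c1)))) (.node 27142 (.node 27141 (.leaf 0x111c1) (.leaf 0x111c1)) (.node 27143 (.leaf 0x111c1) (.node 27144 (.leaf 0x111c1) (.leaf 0x111c1))))) (.node 27150 (.node 27147 (.node 27146 (.leaf 0x111c1) (.leaf 0x111c1)) (.node 27148 (.leaf 0x111c1) (.node 27149 (.leaf 0x111c1) (.leaf 0x111c1)))) (.node 27152 (.node 27151 (.leaf 0x111c1) (.leaf 0x111c1)) (.node 27153 (.leaf 0x111c1) (.node 27154 (.leaf 0x111c1) (.leaf 0x111c1))))))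

def candS_1342 : Store := (.node 27165 (.node 27160 (.node 27157 (.node 27156 (.leaf 0x111c1) (.leaf 0x111c1)) (.node 27158 (.leaf 0x111c1) (.node 27159 (.leaf 0x111c1) (.leaf 0x111c1)))) (.node 27162 (.node 27161 (.leaf 0x111c1) (.leaf 0x111c1)) (.node 27163 (.leaf 0x111c1) (.node 27164 (.leaf 0x111c1) (.leaf 0x111c1))))) (.node 27170 (.node 27167 (.node 27166 (.leaf 0x111c1) (.leaf 0x111c1)) (.node 27168 (.leaf 0x111c1) (.node 27169 (.leaf 0x111c1) (.leaf 0x111c1)))) (.node 27172 (.node 27171 (.leaf 0x111c1) (.leaf 0x111c1)) (.node 27173 (.leaf 0x111c1) (.node 27174 (.leaf 0x111c1) (.leaf 0x111c1))))))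

def candS_1343 : Store := (.node 27185 (.node 27180 (.node 27177 (.node 27176 (.leaf 0x111c1) (.leaf 0x111c1)) (.node 27178 (.leaf 0x111c1) (.node 27179 (.leaf 0x111c1) (.leaf 0x111c1)))) (.node 27182 (.node 27181 (.leaf 0x111c1) (.leaf 0x111c1)) (.node 27183 (.leaf 0x111c1) (.node 27184 (.leaf 0x111c1) (.leaf 0x111c1))))) (.node 27190 (.node 27187 (.node 27186 (.leaf 0x111c1) (.leaf 0x111c1)) (.node 27188 (.leaf 0x111c1) (.node 27189 (.leaf 0x111c1) (.leaf 0x111c1)))) (.node 27192 (.node 27191 (.leaf 0x111c1) (.leaf 0x111c1)) (.node 27193 (.leaf 0x111c1) (.node 27194 (.leaf 0x111c1) (.leaf 0x111c1))))))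

def candS_1344 : Store := (.node 27205 (.node 27200 (.node 27197 (.node 27196 (.leaf 0x111c1) (.leaf 0x111c1)) (.node 27198 (.leaf 0x111c1) (.node 27199 (.leaf 0x111c1) (.leaf 0x111c1)))) (.node 27202 (.node 27201 (.leaf 0x111c1) (.leaf 0x111c1)) (.node 27203 (.leaf 0x111c1) (.node 27204 (.leaf 0x111c1) (.leaf 0x111c1))))) (.node 27210 (.node 27207 (.node 27206 (.leaf 0x111c1) (.leaf 0x111c1)) (.node 27208 (.leaf 0x111c1) (.node 27209 (.leaf 0x111c1) (.leaf 0x111c1)))) (.node 27213 (.node 27211 (.leaf 0x111c1) (.node 27212 (.leaf 0x111c1) (.leaf 0x111c1))) (.node 27214 (.leaf 0x111c1) (.node 27215 (.leaf 0x111c1) (.leaf 0x111c1))))))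

def candS_1345 : Store := (.node 27226 (.node 27221 (.node 27218 (.node 27217 (.leaf 0x111c1) (.leaf 0x111c1)) (.node 27219 (.leaf 0x111c1) (.node 27220 (.leaf 0x111c1) (.leaf 0x111c1)))) (.node 27223 (.node 27222 (.leaf 0x111c1) (.leaf 0x111c1)) (.node 27224 (.leaf 0x111c1) (.node 27225 (.leaf 0x111c1) (.leaf 0x111c1))))) (.node 27231 (.node 27228 (.node 27227 (.leaf 0x111c1) (.leaf 0x111c1)) (.node 27229 (.leaf 0x111c1) (.node 27230 (.leaf 0x111c1) (.leaf 0x111c1)))) (.node 27233 (.node 27232 (.leaf 0x111c1) (.leaf 0x111c1)) (.node 27234 (.leaf 0x111c1) (.node 27235 (.leaf 0x111c1) (.leaf 0x111c1))))))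

def candS_1346 : Store := (.node 27246 (.node 27241 (.node 27238 (.node 27237 (.leaf 0x111c1) (.leaf 0x111c1)) (.node 27239 (.leaf 0x111c1) (.node 27240 (.leaf 0x111c1) (.leaf 0x111c1)))) (.node 27243 (.node 27242 (.leaf 0x111c1) (.leaf 0x111c1)) (.node 27244 (.leaf 0x111c1) (.node 27245 (.leaf 0x111c1) (.leaf 0x111c1))))) (.node 27251 (.node 27248 (.node 27247 (.leaf 0x111c1) (.leaf 0x111c1)) (.node 27249 (.leaf 0x111c1) (.node 27250 (.leaf 0x111c1) (.leaf 0x111c1)))) (.node 27253 (.node 27252 (.leaf 0x111c1) (.leaf 0x111c1)) (.node 27254 (.leaf 0x111c1) (.node 27255 (.leaf 0x111c1) (.leaf 0x111c1))))))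

def candS_1347 : Store := (.node 27266 (.node 27261 (.node 27258 (.node 27257 (.leaf 0x111c1) (.leaf 0x111c1)) (.node 27259 (.leaf 0x111c1) (.node 27260 (.leaf 0x111c1) (.leaf 0x111c1)))) (.node 27263 (.node 27262 (.leaf 0x111c1) (.leaf 0x111c1)) (.node 27264 (.leaf 0x111c1) (.node 27265 (.leaf 0x111c1) (.leaf 0x111c1))))) (.node 27271 (.node 27268 (.node 27267 (.leaf 0x111c1) (.leaf 0x111c1)) (.node 27269 (.leaf 0x111c1) (.node 27270 (.leaf 0x111c1) (.leaf 0x111c1)))) (.node 27273 (.node 27272 (.leaf 0x111c1) (.leaf 0x111c1)) (.node 27274 (.leaf 0x111c1) (.node 27275 (.leaf 0x111c1) (.leaf 0x111c1))))))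

def candS_1348 : Store := (.node 27286 (.node 27281 (.node 27278 (.node 27277 (.leaf 0x111c1) (.leaf 0x111c1)) (.node 27279 (.leaf 0x111c1) (.node 27280 (.leaf 0x111c1) (.leaf 0x111c1)))) (.node 27283 (.node 27282 (.leaf 0x111c1) (.leaf 0x111c1)) (.node 27284 (.leaf 0x111c1) (.node 27285 (.leaf 0x111c1) (.leaf 0x111c1))))) (.node 27291 (.node 27288 (.node 27287 (.leaf 0x111c1) (.leaf 0x111c1)) (.node 27289 (.leaf 0x111c1) (.node 27290 (.leaf 0x111c1) (.leaf 0x111c1)))) (.node 27294 (.node 27292 (.leaf 0x111c1) (.node 27293 (.leaf 0x111c1) (.leaf 0x111c1))) (.node 27295 (.leaf 0x111c1) (.node 27296 (.leaf 0x111c1) (.leaf 0x111c1))))))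

def candS_1349 : Store := (.node 27307 (.node 27302 (.node 27299 (.node 27298 (.leaf 0x111c1) (.leaf 0x111c1)) (.node 27300 (.leaf 0x111c1) (.node 27301 (.leaf 0x111c1) (.leaf 0x111c1)))) (.node 27304 (.node 27303 (.leaf 0x111c1) (.leaf 0x111c1)) (.node 27305 (.leaf 0x111c1) (.node 27306 (.leaf 0x111c1) (.leaf 0x111c1))))) (.node 27312 (.node 27309 (.node 27308 (.leaf 0x111c1) (.leaf 0x111c1)) (.node 27310 (.leaf 0x111c1) (.node 27311 (.leaf 0x111c1) (.leaf 0x111c1)))) (.node 27314 (.node 27313 (.leaf 0x111c1) (.leaf 0x111c1)) (.node 27315 (.leaf 0x111c1) (.node 27316 (.leaf 0x111c1) (.leaf 0x111c1))))))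

def candS_1350 : Store := (.node 27327 (.node 27322 (.node 27319 (.node 27318 (.leaf 0x111c1) (.leaf 0x111c1)) (.node 27320 (.leaf 0x111c1) (.node 27321 (.leaf 0x111c1) (.leaf 0x111c1)))) (.node 27324 (.node 27323 (.leaf 0x111c1) (.leaf 0x111c1)) (.node 27325 (.leaf 0x111c1) (.node 27326 (.leaf 0x111c1) (.leaf 0x111c1))))) (.node 27332 (.node 27329 (.node 27328 (.leaf 0x111c1) (.leaf 0x111c1)) (.node 27330 (.leaf 0x111c1) (.node 27331 (.leaf 0x111c1) (.leaf 0x111c1)))) (.node 27334 (.node 27333 (.leaf 0x111c1) (.leaf 0x111c1)) (.node 27335 (.leaf 0x111c1) (.node 27336 (.leaf 0x111c1) (.leaf 0x111c1))))))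

def candS_1351 : Store := (.node 27347 (.node 27342 (.node 27339 (.node 27338 (.leaf 0x111c1) (.leaf 0x111c1)) (.node 27340 (.leaf 0x111c1) (.node 27341 (.leaf 0x111c1) (.leaf 0x111c1)))) (.node 27344 (.node 27343 (.leaf 0x111c1) (.leaf 0x111c1)) (.node 27345 (.leaf 0x111c1) (.node 27346 (.leaf 0x111c1) (.leaf 0x111c1))))) (.node 27352 (.node 27349 (.node 27348 (.leaf 0x111c1) (.leaf 0x111c1)) (.node 27350 (.leaf 0x111c1) (.node 27351 (.leaf 0x111c1) (.leaf 0x111c1)))) (.node 27354 (.node 27353 (.leaf 0x111c1) (.leaf 0x111c1)) (.node 27355 (.leaf 0x111c1) (.node 27356 (.leaf 0x111c1) (.leaf 0x111c1))))))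

def candS_1352 : Store := (.node 27367 (.node 27362 (.node 27359 (.node 27358 (.leaf 0x111c1) (.leaf 0x111c1)) (.node 27360 (.leaf 0x111c1) (.node 27361 (.leaf 0x111c1) (.leaf 0x111c1)))) (.node 27364 (.node 27363 (.leaf 0x111c1) (.leaf 0x111c1)) (.node 27365 (.leaf 0x111c1) (.node 27366 (.leaf 0x111c1) (.leaf 0x111c1))))) (.node 27372 (.node 27369 (.node 27368 (.leaf 0x111c1) (.leaf 0x111c1)) (.node 27370 (.leaf 0x111c1) (.node 27371 (.leaf 0x111c1) (.leaf 0x111c1)))) (.node 27375 (.node 27373 (.leaf 0x111c1) (.node 27374 (.leaf 0x111c1) (.leaf 0x111c1))) (.node 27376 (.leaf 0x111c1) (.node 27377 (.leaf 0x111c1) (.leaf 0x111c1))))))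

def candS_1353 : Store := (.node 27388 (.node 27383 (.node 27380 (.node 27379 (.leaf 0x111c1) (.leaf 0x111c1)) (.node 27381 (.leaf 0x111c1) (.node 27382 (.leaf 0x111c1) (.leaf 0x111c1)))) (.node 27385 (.node 27384 (.leaf 0x111c1) (.leaf 0x111c1)) (.node 27386 (.leaf 0x111c1) (.node 27387 (.leaf 0x111c1) (.leaf 0x111c1))))) (.node 27393 (.node 27390 (.node 27389 (.leaf 0x111c1) (.leaf 0x111c1)) (.node 27391 (.leaf 0x111c1) (.node 27392 (.leaf 0x111c1) (.leaf 0x111c1)))) (.node 27395 (.node 27394 (.leaf 0x111c1) (.leaf 0x111c1)) (.node 27396 (.leaf 0x111c1) (.node 27397 (.leaf 0x111c1) (.leaf 0x111c1))))))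

def candS_1354 : Store := (.node 27408 (.node 27403 (.node 27400 (.node 27399 (.leaf 0x111c1) (.leaf 0x111c1)) (.node 27401 (.leaf 0x111c1) (.node 27402 (.leaf 0x111c1) (.leaf 0x111c1)))) (.node 27405 (.node 27404 (.leaf 0x111c1) (.leaf 0x111c1)) (.node 27406 (.leaf 0x111c1) (.node 27407 (.leaf 0x111c1) (.leaf 0x111c1))))) (.node 27413 (.node 27410 (.node 27409 (.leaf 0x111c1) (.leaf 0x111c1)) (.node 27411 (.leaf 0x111c1) (.node 27412 (.leaf 0x111c1) (.leaf 0x111c1)))) (.node 27415 (.node 27414 (.leaf 0x111c1) (.leaf 0x111c1)) (.node 27416 (.leaf 0x111c1) (.node 27417 (.leaf 0x111c1) (.leaf 0x111c1))))))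

def candS_1355 : Store := (.node 27428 (.node 27423 (.node 27420 (.node 27419 (.leaf 0x111c1) (.leaf 0x111c1)) (.node 27421 (.leaf 0x111c1) (.node 27422 (.leaf 0x111c1) (.leaf 0x111c1)))) (.node 27425 (.node 27424 (.leaf 0x111c1) (.leaf 0x111c1)) (.node 27426 (.leaf 0x111c1) (.node 27427 (.leaf 0x111c1) (.leaf 0x111c1))))) (.node 27433 (.node 27430 (.node 27429 (.leaf 0x111c1) (.leaf 0x111c1)) (.node 27431 (.leaf 0x111c1) (.node 27432 (.leaf 0x111c1) (.leaf 0x111c1)))) (.node 27435 (.node 27434 (.leaf 0x111c1) (.leaf 0x111c1)) (.node 27436 (.leaf 0x111c1) (.node 27437 (.leaf 0x111c1) (.leaf 0x111c1))))))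

def candS_1356 : Store := (.node 27448 (.node 27443 (.node 27440 (.node 27439 (.leaf 0x111c1) (.leaf 0x111c1)) (.node 27441 (.leaf 0x111c1) (.node 27442 (.leaf 0x111c1) (.leaf 0x111c1)))) (.node 27445 (.node 27444 (.leaf 0x111c1) (.leaf 0x111c1)) (.node 27446 (.leaf 0x111c1) (.node 27447 (.leaf 0x111c1) (.leaf 0x111c1))))) (.node 27453 (.node 27450 (.node 27449 (.leaf 0x111c1) (.leaf 0x111c1)) (.node 27451 (.leaf 0x111c1) (.node 27452 (.leaf 0x111c1) (.leaf 0x111c1)))) (.node 27456 (.node 27454 (.leaf 0x111c1) (.node 27455 (.leaf 0x111c1) (.leaf 0x111c1))) (.node 27457 (.leaf 0x111c1) (.node 27458 (.leaf 0x111c1) (.leaf 0x111c1))))))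

def candS_1357 : Store := (.node 27469 (.node 27464 (.node 27461 (.node 27460 (.leaf 0x111c1) (.leaf 0x111c1)) (.node 27462 (.leaf 0x111c1) (.node 27463 (.leaf 0x111c1) (.leaf 0x111c1)))) (.node 27466 (.node 27465 (.leaf 0x111c1) (.leaf 0x111c1)) (.node 27467 (.leaf 0x111c1) (.node 27468 (.leaf 0x111c1) (.leaf 0x111c1))))) (.node 27474 (.node 27471 (.node 27470 (.leaf 0x111c1) (.leaf 0x111c1)) (.node 27472 (.leaf 0x111c1) (.node 27473 (.leaf 0x111c1) (.leaf 0x111c1)))) (.node 27476 (.node 27475 (.leaf 0x111c1) (.leaf 0x111c1)) (.node 27477 (.leaf 0x111c1) (.node 27478 (.leaf 0x111c1) (.leaf 0x111c1))))))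

def candS_1358 : Store := (.node 27489 (.node 27484 (.node 27481 (.node 27480 (.leaf 0x111c1) (.leaf 0x111c1)) (.node 27482 (.leaf 0x111c1) (.node 27483 (.leaf 0x111c1) (.leaf 0x111c1)))) (.node 27486 (.node 27485 (.leaf 0x111c1) (.leaf 0x111c1)) (.node 27487 (.leaf 0x111c1) (.node 27488 (.leaf 0x111c1) (.leaf 0x111c1))))) (.node 27494 (.node 27491 (.node 27490 (.leaf 0x111c1) (.leaf 0x111c1)) (.node 27492 (.leaf 0x111c1) (.node 27493 (.leaf 0x111c1) (.leaf 0x111c1)))) (.node 27496 (.node 27495 (.leaf 0x111c1) (.leaf 0x111c1)) (.node 27497 (.leaf 0x111c1) (.node 27498 (.leaf 0x111c1) (.leaf 0x111c1))))))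

def candS_1359 : Store := (.node 27509 (.node 27504 (.node 27501 (.node 27500 (.leaf 0x111c1) (.leaf 0x111c1)) (.node 27502 (.leaf 0x111c1) (.node 27503 (.leaf 0x111c1) (.leaf 0x111c1)))) (.node 27506 (.node 27505 (.leaf 0x111c1) (.leaf 0x111c1)) (.node 27507 (.leaf 0x111c1) (.node 27508 (.leaf 0x111c1) (.leaf 0x111c1))))) (.node 27514 (.node 27511 (.node 27510 (.leaf 0x111c1) (.leaf 0x111c1)) (.node 27512 (.leaf 0x111c1) (.node 27513 (.leaf 0x111c1) (.leaf 0x111c1)))) (.node 27516 (.node 27515 (.leaf 0x111c1) (.leaf 0x111c1)) (.node 27517 (.leaf 0x111c1) (.node 27518 (.leaf 0x111c1) (.leaf 0x111c1))))))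

def candS_1360 : Store := (.node 27529 (.node 27524 (.node 27521 (.node 27520 (.leaf 0x111c1) (.leaf 0x111c1)) (.node 27522 (.leaf 0x111c1) (.node 27523 (.leaf 0x111c1) (.leaf 0x111c1)))) (.node 27526 (.node 27525 (.leaf 0x111c1) (.leaf 0x111c1)) (.node 27527 (.leaf 0x111c1) (.node 27528 (.leaf 0x111c1) (.leaf 0x111c1))))) (.node 27534 (.node 27531 (.node 27530 (.leaf 0x111c1) (.leaf 0x111c1)) (.node 27532 (.leaf 0x111c1) (.node 27533 (.leaf 0x111c1) (.leaf 0x111c1)))) (.node 27537 (.node 27535 (.leaf 0x111c1) (.node 27536 (.leaf 0x111c1) (.leaf 0x111c1))) (.node 27538 (.leaf 0x111c1) (.node 27539 (.leaf 0x111c1) (.leaf 0x111c1))))))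

def candS_1361 : Store := (.node 27550 (.node 27545 (.node 27542 (.node 27541 (.leaf 0x111c1) (.leaf 0x111c1)) (.node 27543 (.leaf 0x111c1) (.node 27544 (.leaf 0x111c1) (.leaf 0x111c1)))) (.node 27547 (.node 27546 (.leaf 0x111c1) (.leaf 0x111c1)) (.node 27548 (.leaf 0x111c1) (.node 27549 (.leaf 0x111c1) (.leaf 0x111c1))))) (.node 27555 (.node 27552 (.node 27551 (.leaf 0x111c1) (.leaf 0x111c1)) (.node 27553 (.leaf 0x111c1) (.node 27554 (.leaf 0x111c1) (.leaf 0x111c1)))) (.node 27557 (.node 27556 (.leaf 0x111c1) (.leaf 0x111c1)) (.node 27558 (.leaf 0x111c1) (.node 27559 (.leaf 0x111c1) (.leaf 0x111c1))))))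

def candS_1362 : Store := (.node 27570 (.node 27565 (.node 27562 (.node 27561 (.leaf 0x111c1) (.leaf 0x111c1)) (.node 27563 (.leaf 0x111c1) (.node 27564 (.leaf 0x111c1) (.leaf 0x111c1)))) (.node 27567 (.node 27566 (.leaf 0x111c1) (.leaf 0x111c1)) (.node 27568 (.leaf 0x111c1) (.node 27569 (.leaf 0x111c1) (.leaf 0x111c1))))) (.node 27575 (.node 27572 (.node 27571 (.leaf 0x111c1) (.leaf 0x111c1)) (.node 27573 (.leaf 0x111c1) (.node 27574 (.leaf 0x111c1) (.leaf 0x111c1)))) (.node 27577 (.node 27576 (.leaf 0x111c1) (.leaf 0x111c1)) (.node 27578 (.leaf 0x111c1) (.node 27579 (.leaf 0x111c1) (.leaf 0x111c1))))))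

def candS_1363 : Store := (.node 27590 (.node 27585 (.node 27582 (.node 27581 (.leaf 0x111c1) (.leaf 0x111c1)) (.node 27583 (.leaf 0x111c1) (.node 27584 (.leaf 0x111c1) (.leaf 0x111c1)))) (.node 27587 (.node 27586 (.leaf 0x111c1) (.leaf 0x111c1)) (.node 27588 (.leaf 0x111c1) (.node 27589 (.leaf 0x111c1) (.leaf 0x111c1))))) (.node 27595 (.node 27592 (.node 27591 (.leaf 0x111c1) (.leaf 0x111c1)) (.node 27593 (.leaf 0x111c1) (.node 27594 (.leaf 0x111c1) (.leaf 0x111c1)))) (.node 27597 (.node 27596 (.leaf 0x111c1) (.leaf 0x111c1)) (.node 27598 (.leaf 0x111c1) (.node 27599 (.leaf 0x111c1) (.leaf 0x111c1))))))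

def candS_1364 : Store := (.node 27610 (.node 27605 (.node 27602 (.node 27601 (.leaf 0x111c1) (.leaf 0x111c1)) (.node 27603 (.leaf 0x111c1) (.node 27604 (.leaf 0x111c1) (.leaf 0x111c1)))) (.node 27607 (.node 27606 (.leaf 0x111c1) (.leaf 0x111c1)) (.node 27608 (.leaf 0x111c1) (.node 27609 (.leaf 0x111c1) (.leaf 0x111c1))))) (.node 27615 (.node 27612 (.node 27611 (.leaf 0x111c1) (.leaf 0x111c1)) (.node 27613 (.leaf 0x111c1) (.node 27614 (.leaf 0x111c1) (.leaf 0x111c1)))) (.node 27618 (.node 27616 (.leaf 0x111c1) (.node 27617 (.leaf 0x111c1) (.leaf 0x111c1))) (.node 27619 (.leaf 0x111c1) (.node 27620 (.leaf 0x111c1) (.leaf 0x111c1))))))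

def candS_1365 : Store := (.node 27631 (.node 27626 (.node 27623 (.node 27622 (.leaf 0x111c1) (.leaf 0x111c1)) (.node 27624 (.leaf 0x111c1) (.node 27625 (.leaf 0x111c1) (.leaf 0x111c1)))) (.node 27628 (.node 27627 (.leaf 0x111c1) (.leaf 0x111c1)) (.node 27629 (.leaf 0x111c1) (.node 27630 (.leaf 0x111c1) (.leaf 0x111c1))))) (.node 27636 (.node 27633 (.node 27632 (.leaf 0x111c1) (.leaf 0x111c1)) (.node 27634 (.leaf 0x111c1) (.node 27635 (.leaf 0x111c1) (.leaf 0x111c1)))) (.node 27638 (.node 27637 (.leaf 0x111c1) (.leaf 0x111c1)) (.node 27639 (.leaf 0x111c1) (.node 27640 (.leaf 0x111c1) (.leaf 0x111c1))))))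

def candS_1366 : Store := (.node 27651 (.node 27646 (.node 27643 (.node 27642 (.leaf 0x111c1) (.leaf 0x111c1)) (.node 27644 (.leaf 0x111c1) (.node 27645 (.leaf 0x111c1) (.leaf 0x111c1)))) (.node 27648 (.node 27647 (.leaf 0x111c1) (.leaf 0x111c1)) (.node 27649 (.leaf 0x2e197) (.node 27650 (.leaf 0x2e197) (.leaf 0x2e197))))) (.node 27656 (.node 27653 (.node 27652 (.leaf 0x2e197) (.leaf 0x2e197)) (.node 27654 (.leaf 0x2e197) (.node 27655 (.leaf 0x2e197) (.leaf 0x2e197)))) (.node 27658 (.node 27657 (.leaf 0x2e197) (.leaf 0x2e197)) (.node 27659 (.leaf 0x2e197) (.node 27660 (.leaf 0x2e197) (.leaf 0x2e197))))))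

def candS_1367 : Store := (.node 27671 (.node 27666 (.node 27663 (.node 27662 (.leaf 0x2e197) (.leaf 0x2e197)) (.node 27664 (.leaf 0x2e197) (.node 27665 (.leaf 0x2e197) (.leaf 0x2e197)))) (.node 27668 (.node 27667 (.leaf 0x2e197) (.leaf 0x2e197)) (.node 27669 (.leaf 0x2e197) (.node 27670 (.leaf 0x2e197) (.leaf 0x2e197))))) (.node 27676 (.node 27673 (.node 27672 (.leaf 0x2e197) (.leaf 0x2e197)) (.node 27674 (.leaf 0x2e197) (.node 27675 (.leaf 0x2e197) (.leaf 0x2e197)))) (.node 27678 (.node 27677 (.leaf 0x2e197) (.leaf 0x2e197)) (.node 27679 (.leaf 0x2e197) (.node 27680 (.leaf 0x2e197) (.leaf 0x2e197))))))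

def candS_1368 : Store := (.node 27691 (.node 27686 (.node 27683 (.node 27682 (.leaf 0x2e197) (.leaf 0x2e197)) (.node 27684 (.leaf 0x2e197) (.node 27685 (.leaf 0x2e197) (.leaf 0x2e197)))) (.node 27688 (.node 27687 (.leaf 0x2e197) (.leaf 0x2e197)) (.node 27689 (.leaf 0x2e197) (.node 27690 (.leaf 0x2e197) (.leaf 0x2e197))))) (.node 27696 (.node 27693 (.node 27692 (.leaf 0x2e197) (.leaf 0x2e197)) (.node 27694 (.leaf 0x2e197) (.node 27695 (.leaf 0x2e197) (.leaf 0x2e197)))) (.node 27699 (.node 27697 (.leaf 0x2e197) (.node 27698 (.leaf 0x2e197) (.leaf 0x2e197))) (.node 27700 (.leaf 0x2e197) (.node 27701 (.leaf 0x2e197) (.leaf 0x2e197))))))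

def candS_1369 : Store := (.node 27712 (.node 27707 (.node 27704 (.node 27703 (.leaf 0x2e197) (.leaf 0x2e197)) (.node 27705 (.leaf 0x2e197) (.node 27706 (.leaf 0x2e197) (.leaf 0x2e197)))) (.node 27709 (.node 27708 (.leaf 0x2e197) (.leaf 0x2e197)) (.node 27710 (.leaf 0x2e197) (.node 27711 (.leaf 0x2e197) (.leaf 0x2e197))))) (.node 27717 (.node 27714 (.node 27713 (.leaf 0x2e197) (.leaf 0x2e197)) (.node 27715 (.leaf 0x2e197) (.node 27716 (.leaf 0x2e197) (.leaf 0x2e197)))) (.node 27719 (.node 27718 (.leaf 0x2e197) (.leaf 0x2e197)) (.node 27720 (.leaf 0x2e197) (.node 27721 (.leaf 0x2e197) (.leaf 0x2e197))))))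

def candS_1370 : Store := (.node 27732 (.node 27727 (.node 27724 (.node 27723 (.leaf 0x2e197) (.leaf 0x2e197)) (.node 27725 (.leaf 0x2e197) (.node 27726 (.leaf 0x2e197) (.leaf 0x2e197)))) (.node 27729 (.node 27728 (.leaf 0x2e197) (.leaf 0x2e197)) (.node 27730 (.leaf 0x2e197) (.node 27731 (.leaf 0x2e197) (.leaf 0x2e197))))) (.node 27737 (.node 27734 (.node 27733 (.leaf 0x2e197) (.leaf 0x2e197)) (.node 27735 (.leaf 0x2e197) (.node 27736 (.leaf 0x2e197) (.leaf 0x2e197)))) (.node 27739 (.node 27738 (.leaf 0x2e197) (.leaf 0x2e197)) (.node 27740 (.leaf 0x2e197) (.node 27741 (.leaf 0x2e197) (.leaf 0x2e197))))))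

def candS_1371 : Store := (.node 27752 (.node 27747 (.node 27744 (.node 27743 (.leaf 0x2e197) (.leaf 0x2e197)) (.node 27745 (.leaf 0x2e197) (.node 27746 (.leaf 0x2e197) (.leaf 0x2e197)))) (.node 27749 (.node 27748 (.leaf 0x2e197) (.leaf 0x2e197)) (.node 27750 (.leaf 0x2e197) (.node 27751 (.leaf 0x2e197) (.leaf 0x2e197))))) (.node 27757 (.node 27754 (.node 27753 (.leaf 0x2e197) (.leaf 0x2e197)) (.node 27755 (.leaf 0x2e197) (.node 27756 (.leaf 0x2e197) (.leaf 0x2e197)))) (.node 27759 (.node 27758 (.leaf 0x2e197) (.leaf 0x2e197)) (.node 27760 (.leaf 0x2e197) (.node 27761 (.leaf 0x2e197) (.leaf 0x2e197))))))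

def candS_1372 : Store := (.node 27772 (.node 27767 (.node 27764 (.node 27763 (.leaf 0x2e197) (.leaf 0x2e197)) (.node 27765 (.leaf 0x2e197) (.node 27766 (.leaf 0x2e197) (.leaf 0x2e197)))) (.node 27769 (.node 27768 (.leaf 0x2e197) (.leaf 0x2e197)) (.node 27770 (.leaf 0x2e197) (.node 27771 (.leaf 0x2e197) (.leaf 0x2e197))))) (.node 27777 (.node 27774 (.node 27773 (.leaf 0x2e197) (.leaf 0x2e197)) (.node 27775 (.leaf 0x2e197) (.node 27776 (.leaf 0x2e197) (.leaf 0x2e197)))) (.node 27780 (.node 27778 (.leaf 0x2e197) (.node 27779 (.leaf 0x2e197) (.leaf 0x2e197))) (.node 27781 (.leaf 0x2e197) (.node 27782 (.leaf 0x2e197) (.leaf 0x2e197))))))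

def candS_1373 : Store := (.node 27793 (.node 27788 (.node 27785 (.node 27784 (.leaf 0x2e197) (.leaf 0x2e197)) (.node 27786 (.leaf 0x2e197) (.node 27787 (.leaf 0x2e197) (.leaf 0x2e197)))) (.node 27790 (.node 27789 (.leaf 0x2e197) (.leaf 0x2e197)) (.node 27791 (.leaf 0x2e197) (.node 27792 (.leaf 0x2e197) (.leaf 0x2e197))))) (.node 27798 (.node 27795 (.node 27794 (.leaf 0x2e197) (.leaf 0x2e197)) (.node 27796 (.leaf 0x2e197) (.node 27797 (.leaf 0x2e197) (.leaf 0x2e197)))) (.node 27800 (.node 27799 (.leaf 0x2e197) (.leaf 0x2e197)) (.node 27801 (.leaf 0x2e197) (.node 27802 (.leaf 0x2e197) (.leaf 0x2e197))))))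

def candS_1374 : Store := (.node 27813 (.node 27808 (.node 27805 (.node 27804 (.leaf 0x2e197) (.leaf 0x2e197)) (.node 27806 (.leaf 0x2e197) (.node 27807 (.leaf 0x2e197) (.leaf 0x2e197)))) (.node 27810 (.node 27809 (.leaf 0x2e197) (.leaf 0x2e197)) (.node 27811 (.leaf 0x2e197) (.node 27812 (.leaf 0x2e197) (.leaf 0x2e197))))) (.node 27818 (.node 27815 (.node 27814 (.leaf 0x2e197) (.leaf 0x2e197)) (.node 27816 (.leaf 0x2e197) (.node 27817 (.leaf 0x2e197) (.leaf 0x2e197)))) (.node 27820 (.node 27819 (.leaf 0x2e197) (.leaf 0x2e197)) (.node 27821 (.leaf 0x2e197) (.node 27822 (.leaf 0x2e197) (.leaf 0x2e197))))))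

def candS_1375 : Store := (.node 27833 (.node 27828 (.node 27825 (.node 27824 (.leaf 0x2e197) (.leaf 0x2e197)) (.node 27826 (.leaf 0x2e197) (.node 27827 (.leaf 0x2e197) (.leaf 0x2e197)))) (.node 27830 (.node 27829 (.leaf 0x2e197) (.leaf 0x2e197)) (.node 27831 (.leaf 0x2e197) (.node 27832 (.leaf 0x2e197) (.leaf 0x2e197))))) (.node 27838 (.node 27835 (.node 27834 (.leaf 0x2e197) (.leaf 0x2e197)) (.node 27836 (.leaf 0x2e197) (.node 27837 (.leaf 0x2e197) (.leaf 0x2e197)))) (.node 27840 (.node 27839 (.leaf 0x2e197) (.leaf 0x2e197)) (.node 27841 (.leaf 0x2e197) (.node 27842 (.leaf 0x2e197) (.leaf 0x2e197))))))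

def candS_1376 : Store := (.node 27853 (.node 27848 (.node 27845 (.node 27844 (.leaf 0x2e197) (.leaf 0x2e197)) (.node 27846 (.leaf 0x2e197) (.node 27847 (.leaf 0x2e197) (.leaf 0x2e197)))) (.node 27850 (.node 27849 (.leaf 0x2e197) (.leaf 0x2e197)) (.node 27851 (.leaf 0x2e197) (.node 27852 (.leaf 0x2e197) (.leaf 0x2e197))))) (.node 27858 (.node 27855 (.node 27854 (.leaf 0x2e197) (.leaf 0x2e197)) (.node 27856 (.leaf 0x2e197) (.node 27857 (.leaf 0x2e197) (.leaf 0x2e197)))) (.node 27861 (.node 27859 (.leaf 0x2e197) (.node 27860 (.leaf 0x2e197) (.leaf 0x2e197))) (.node 27862 (.leaf 0x2e197) (.node 27863 (.leaf 0x2e197) (.leaf 0x2e197))))))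

def candS_1377 : Store := (.node 27874 (.node 27869 (.node 27866 (.node 27865 (.leaf 0x2e197) (.leaf 0x2e197)) (.node 27867 (.leaf 0x2e197) (.node 27868 (.leaf 0x2e197) (.leaf 0x2e197)))) (.node 27871 (.node 27870 (.leaf 0x2e197) (.leaf 0x2e197)) (.node 27872 (.leaf 0x2e197) (.node 27873 (.leaf 0x2e197) (.leaf 0x2e197))))) (.node 27879 (.node 27876 (.node 27875 (.leaf 0x2e197) (.leaf 0x2e197)) (.node 27877 (.leaf 0x2e197) (.node 27878 (.leaf 0x2e197) (.leaf 0x2e197)))) (.node 27881 (.node 27880 (.leaf 0x2e197) (.leaf 0x2e197)) (.node 27882 (.leaf 0x2e197) (.node 27883 (.leaf 0x2e197) (.leaf 0x2e197))))))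

def candS_1378 : Store := (.node 27894 (.node 27889 (.node 27886 (.node 27885 (.leaf 0x2e197) (.leaf 0x2e197)) (.node 27887 (.leaf 0x2e197) (.node 27888 (.leaf 0x2e197) (.leaf 0x2e197)))) (.node 27891 (.node 27890 (.leaf 0x2e197) (.leaf 0x2e197)) (.node 27892 (.leaf 0x2e197) (.node 27893 (.leaf 0x2e197) (.leaf 0x2e197))))) (.node 27899 (.node 27896 (.node 27895 (.leaf 0x2e197) (.leaf 0x2e197)) (.node 27897 (.leaf 0x2e197) (.node 27898 (.leaf 0x2e197) (.leaf 0x2e197)))) (.node 27901 (.node 27900 (.leaf 0x2e197) (.leaf 0x2e197)) (.node 27902 (.leaf 0x2e197) (.node 27903 (.leaf 0x2e197) (.leaf 0x2e197))))))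

def candS_1379 : Store := (.node 27914 (.node 27909 (.node 27906 (.node 27905 (.leaf 0x2e197) (.leaf 0x2e197)) (.node 27907 (.leaf 0x2e197) (.node 27908 (.leaf 0x2e197) (.leaf 0x2e197)))) (.node 27911 (.node 27910 (.leaf 0x2e197) (.leaf 0x2e197)) (.node 27912 (.leaf 0x2e197) (.node 27913 (.leaf 0x2e197) (.leaf 0x2e197))))) (.node 27919 (.node 27916 (.node 27915 (.leaf 0x2e197) (.leaf 0x2e197)) (.node 27917 (.leaf 0x2e197) (.node 27918 (.leaf 0x2e197) (.leaf 0x2e197)))) (.node 27921 (.node 27920 (.leaf 0x2e197) (.leaf 0x2e197)) (.node 27922 (.leaf 0x2e197) (.node 27923 (.leaf 0x2e197) (.leaf 0x2e197))))))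

def candS_1380 : Store := (.node 27934 (.node 27929 (.node 27926 (.node 27925 (.leaf 0x2e197) (.leaf 0x2e197)) (.node 27927 (.leaf 0x2e197) (.node 27928 (.leaf 0x2e197) (.leaf 0x2e197)))) (.node 27931 (.node 27930 (.leaf 0x2e197) (.leaf 0x2e197)) (.node 27932 (.leaf 0x2e197) (.node 27933 (.leaf 0x2e197) (.leaf 0x2e197))))) (.node 27939 (.node 27936 (.node 27935 (.leaf 0x2e197) (.leaf 0x2e197)) (.node 27937 (.leaf 0x2e197) (.node 27938 (.leaf 0x2e197) (.leaf 0x2e197)))) (.node 27942 (.node 27940 (.leaf 0x2e197) (.node 27941 (.leaf 0x2e197) (.leaf 0x2e197))) (.node 27943 (.leaf 0x2e197) (.node 27944 (.leaf 0x2e197) (.leaf 0x2e197))))))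

def candS_1381 : Store := (.node 27955 (.node 27950 (.node 27947 (.node 27946 (.leaf 0x2e197) (.leaf 0x2e197)) (.node 27948 (.leaf 0x2e197) (.node 27949 (.leaf 0x2e197) (.leaf 0x2e197)))) (.node 27952 (.node 27951 (.leaf 0x2e197) (.leaf 0x2e197)) (.node 27953 (.leaf 0x2e197) (.node 27954 (.leaf 0x2e197) (.leaf 0x2e197))))) (.node 27960 (.node 27957 (.node 27956 (.leaf 0x2e197) (.leaf 0x2e197)) (.node 27958 (.leaf 0x2e197) (.node 27959 (.leaf 0x2e197) (.leaf 0x2e197)))) (.node 27962 (.node 27961 (.leaf 0x2e197) (.leaf 0x2e197)) (.node 27963 (.leaf 0x2e197) (.node 27964 (.leaf 0x2e197) (.leaf 0x2e197))))))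

def candS_1382 : Store := (.node 27975 (.node 27970 (.node 27967 (.node 27966 (.leaf 0x2e197) (.leaf 0x2e197)) (.node 27968 (.leaf 0x2e197) (.node 27969 (.leaf 0x2e197) (.leaf 0x2e197)))) (.node 27972 (.node 27971 (.leaf 0x2e197) (.leaf 0x2e197)) (.node 27973 (.leaf 0x2e197) (.node 27974 (.leaf 0x2e197) (.leaf 0x2e197))))) (.node 27980 (.node 27977 (.node 27976 (.leaf 0x2e197) (.leaf 0x2e197)) (.node 27978 (.leaf 0x2e197) (.node 27979 (.leaf 0x2e197) (.leaf 0x2e197)))) (.node 27982 (.node 27981 (.leaf 0x2e197) (.leaf 0x2e197)) (.node 27983 (.leaf 0x2e197) (.node 27984 (.leaf 0x2e197) (.leaf 0x2e197))))))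

def candS_1383 : Store := (.node 27995 (.node 27990 (.node 27987 (.node 27986 (.leaf 0x2e197) (.leaf 0x2e197)) (.node 27988 (.leaf 0x2e197) (.node 27989 (.leaf 0x2e197) (.leaf 0x2e197)))) (.node 27992 (.node 27991 (.leaf 0x2e197) (.leaf 0x2e197)) (.node 27993 (.leaf 0x2e197) (.node 27994 (.leaf 0x2e197) (.leaf 0x2e197))))) (.node 28000 (.node 27997 (.node 27996 (.leaf 0x2e197) (.leaf 0x2e197)) (.node 27998 (.leaf 0x2e197) (.node 27999 (.leaf 0x2e197) (.leaf 0x2e197)))) (.node 28002 (.node 28001 (.leaf 0x2e197) (.leaf 0x2e197)) (.node 28003 (.leaf 0x2e197) (.node 28004 (.leaf 0x2e197) (.leaf 0x2e197))))))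

def candS_1384 : Store := (.node 28015 (.node 28010 (.node 28007 (.node 28006 (.leaf 0x2e197) (.leaf 0x2e197)) (.node 28008 (.leaf 0x2e197) (.node 28009 (.leaf 0x2e197) (.leaf 0x2e197)))) (.node 28012 (.node 28011 (.leaf 0x2e197) (.leaf 0x2e197)) (.node 28013 (.leaf 0x2e197) (.node 28014 (.leaf 0x2e197) (.leaf 0x2e197))))) (.node 28020 (.node 28017 (.node 28016 (.leaf 0x2e197) (.leaf 0x2e197)) (.node 28018 (.leaf 0x2e197) (.node 28019 (.leaf 0x2e197) (.leaf 0x2e197)))) (.node 28023 (.node 28021 (.leaf 0x2e197) (.node 28022 (.leaf 0x2e197) (.leaf 0x2e197))) (.node 28024 (.leaf 0x2e197) (.node 28025 (.leaf 0x2e197) (.leaf 0x2e197))))))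

def candS_1385 : Store := (.node 28036 (.node 28031 (.node 28028 (.node 28027 (.leaf 0x2e197) (.leaf 0x2e197)) (.node 28029 (.leaf 0x2e197) (.node 28030 (.leaf 0x2e197) (.leaf 0x2e197)))) (.node 28033 (.node 28032 (.leaf 0x2e197) (.leaf 0x2e197)) (.node 28034 (.leaf 0x2e197) (.node 28035 (.leaf 0x2e197) (.leaf 0x2e197))))) (.node 28041 (.node 28038 (.node 28037 (.leaf 0x2e197) (.leaf 0x2e197)) (.node 28039 (.leaf 0x2e197) (.node 28040 (.leaf 0x2e197) (.leaf 0x2e197)))) (.node 28043 (.node 28042 (.leaf 0x2e197) (.leaf 0x2e197)) (.node 28044 (.leaf 0x2e197) (.node 28045 (.leaf 0x2e197) (.leaf 0x2e197))))))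

def candS_1386 : Store := (.node 28056 (.node 28051 (.node 28048 (.node 28047 (.leaf 0x2e197) (.leaf 0x2e197)) (.node 28049 (.leaf 0x2e197) (.node 28050 (.leaf 0x2e197) (.leaf 0x2e197)))) (.node 28053 (.node 28052 (.leaf 0x2e197) (.leaf 0x2e197)) (.node 28054 (.leaf 0x2e197) (.node 28055 (.leaf 0x2e197) (.leaf 0x2e197))))) (.node 28061 (.node 28058 (.node 28057 (.leaf 0x2e197) (.leaf 0x2e197)) (.node 28059 (.leaf 0x2e197) (.node 28060 (.leaf 0x2e197) (.leaf 0x2e197)))) (.node 28063 (.node 28062 (.leaf 0x2e197) (.leaf 0x2e197)) (.node 28064 (.leaf 0x2e197) (.node 28065 (.leaf 0x2e197) (.leaf 0x2e197))))))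

def candS_1387 : Store := (.node 28076 (.node 28071 (.node 28068 (.node 28067 (.leaf 0x2e197) (.leaf 0x2e197)) (.node 28069 (.leaf 0x2e197) (.node 28070 (.leaf 0x2e197) (.leaf 0x2e197)))) (.node 28073 (.node 28072 (.leaf 0x2e197) (.leaf 0x2e197)) (.node 28074 (.leaf 0x2e197) (.node 28075 (.leaf 0x2e197) (.leaf 0x2e197))))) (.node 28081 (.node 28078 (.node 28077 (.leaf 0x2e197) (.leaf 0x2e197)) (.node 28079 (.leaf 0x2e197) (.node 28080 (.leaf 0x2e197) (.leaf 0x2e197)))) (.node 28083 (.node 28082 (.leaf 0x2e197) (.leaf 0x2e197)) (.node 28084 (.leaf 0x2e197) (.node 28085 (.leaf 0x2e197) (.leaf 0x2e197))))))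

def candS_1388 : Store := (.node 28096 (.node 28091 (.node 28088 (.node 28087 (.leaf 0x2e197) (.leaf 0x2e197)) (.node 28089 (.leaf 0x2e197) (.node 28090 (.leaf 0x2e197) (.leaf 0x2e197)))) (.node 28093 (.node 28092 (.leaf 0x2e197) (.leaf 0x2e197)) (.node 28094 (.leaf 0x2e197) (.node 28095 (.leaf 0x2e197) (.leaf 0x2e197))))) (.node 28101 (.node 28098 (.node 28097 (.leaf 0x2e197) (.leaf 0x2e197)) (.node 28099 (.leaf 0x2e197) (.node 28100 (.leaf 0x2e197) (.leaf 0x2e197)))) (.node 28104 (.node 28102 (.leaf 0x2e197) (.node 28103 (.leaf 0x2e197) (.leaf 0x2e197))) (.node 28105 (.leaf 0x2e197) (.node 28106 (.leaf 0x2e197) (.leaf 0x2e197))))))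

def candS_1389 : Store := (.node 28117 (.node 28112 (.node 28109 (.node 28108 (.leaf 0x2e197) (.leaf 0x2e197)) (.node 28110 (.leaf 0x2e197) (.node 28111 (.leaf 0x2e197) (.leaf 0x2e197)))) (.node 28114 (.node 28113 (.leaf 0x2e197) (.leaf 0x2e197)) (.node 28115 (.leaf 0x2e197) (.node 28116 (.leaf 0x2e197) (.leaf 0x2e197))))) (.node 28122 (.node 28119 (.node 28118 (.leaf 0x2e197) (.leaf 0x2e197)) (.node 28120 (.leaf 0x2e197) (.node 28121 (.leaf 0x2e197) (.leaf 0x2e197)))) (.node 28124 (.node 28123 (.leaf 0x2e197) (.leaf 0x2e197)) (.node 28125 (.leaf 0x2e197) (.node 28126 (.leaf 0x2e197) (.leaf 0x2e197))))))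

def candS_1390 : Store := (.node 28137 (.node 28132 (.node 28129 (.node 28128 (.leaf 0x2e197) (.leaf 0x2e197)) (.node 28130 (.leaf 0x2e197) (.node 28131 (.leaf 0x2e197) (.leaf 0x2e197)))) (.node 28134 (.node 28133 (.leaf 0x2e197) (.leaf 0x2e197)) (.node 28135 (.leaf 0x2e197) (.node 28136 (.leaf 0x2e197) (.leaf 0x2e197))))) (.node 28142 (.node 28139 (.node 28138 (.leaf 0x2e197) (.leaf 0x2e197)) (.node 28140 (.leaf 0x2e197) (.node 28141 (.leaf 0x2e197) (.leaf 0x2e197)))) (.node 28144 (.node 28143 (.leaf 0x2e197) (.leaf 0x2e197)) (.node 28145 (.leaf 0x2e197) (.node 28146 (.leaf 0x2e197) (.leaf 0x2e197))))))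

def candS_1391 : Store := (.node 28157 (.node 28152 (.node 28149 (.node 28148 (.leaf 0x2e197) (.leaf 0x2e197)) (.node 28150 (.leaf 0x2e197) (.node 28151 (.leaf 0x2e197) (.leaf 0x2e197)))) (.node 28154 (.node 28153 (.leaf 0x2e197) (.leaf 0x2e197)) (.node 28155 (.leaf 0x2e197) (.node 28156 (.leaf 0x2e197) (.leaf 0x2e197))))) (.node 28162 (.node 28159 (.node 28158 (.leaf 0x2e197) (.leaf 0x2e197)) (.node 28160 (.leaf 0x2e197) (.node 28161 (.leaf 0x2e197) (.leaf 0x2e197)))) (.node 28164 (.node 28163 (.leaf 0x2e197) (.leaf 0x2e197)) (.node 28165 (.leaf 0x2e197) (.node 28166 (.leaf 0x2e197) (.leaf 0x2e197))))))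

def candS_1392 : Store := (.node 28177 (.node 28172 (.node 28169 (.node 28168 (.leaf 0x2e197) (.leaf 0x2e197)) (.node 28170 (.leaf 0x2e197) (.node 28171 (.leaf 0x2e197) (.leaf 0x2e197)))) (.node 28174 (.node 28173 (.leaf 0x2e197) (.leaf 0x2e197)) (.node 28175 (.leaf 0x2e197) (.node 28176 (.leaf 0x2e197) (.leaf 0x2e197))))) (.node 28182 (.node 28179 (.node 28178 (.leaf 0x2e197) (.leaf 0x2e197)) (.node 28180 (.leaf 0x2e197) (.node 28181 (.leaf 0x2e197) (.leaf 0x2e197)))) (.node 28185 (.node 28183 (.leaf 0x2e197) (.node 28184 (.leaf 0x2e197) (.leaf 0x2e197))) (.node 28186 (.leaf 0x2e197) (.node 28187 (.leaf 0x2e197) (.leaf 0x2e197))))))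

def candS_1393 : Store := (.node 28198 (.node 28193 (.node 28190 (.node 28189 (.leaf 0x2e197) (.leaf 0x2e197)) (.node 28191 (.leaf 0x2e197) (.node 28192 (.leaf 0x2e197) (.leaf 0x2e197)))) (.node 28195 (.node 28194 (.leaf 0x2e197) (.leaf 0x2e197)) (.node 28196 (.leaf 0x2e197) (.node 28197 (.leaf 0x2e197) (.leaf 0x2e197))))) (.node 28203 (.node 28200 (.node 28199 (.leaf 0x2e197) (.leaf 0x2e197)) (.node 28201 (.leaf 0x2e197) (.node 28202 (.leaf 0x2e197) (.leaf 0x2e197)))) (.node 28205 (.node 28204 (.leaf 0x2e197) (.leaf 0x2e197)) (.node 28206 (.leaf 0x2e197) (.node 28207 (.leaf 0x2e197) (.leaf 0x2e197))))))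

def candS_1394 : Store := (.node 28218 (.node 28213 (.node 28210 (.node 28209 (.leaf 0x2e197) (.leaf 0x2e197)) (.node 28211 (.leaf 0x2e197) (.node 28212 (.leaf 0x2e197) (.leaf 0x2e197)))) (.node 28215 (.node 28214 (.leaf 0x2e197) (.leaf 0x2e197)) (.node 28216 (.leaf 0x2e197) (.node 28217 (.leaf 0x2e197) (.leaf 0x2e197))))) (.node 28223 (.node 28220 (.node 28219 (.leaf 0x2e197) (.leaf 0x2e197)) (.node 28221 (.leaf 0x2e197) (.node 28222 (.leaf 0x2e197) (.leaf 0x2e197)))) (.node 28225 (.node 28224 (.leaf 0x2e197) (.leaf 0x2e197)) (.node 28226 (.leaf 0x2e197) (.node 28227 (.leaf 0x2e197) (.leaf 0x2e197))))))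

def candS_1395 : Store := (.node 28238 (.node 28233 (.node 28230 (.node 28229 (.leaf 0x2e197) (.leaf 0x2e197)) (.node 28231 (.leaf 0x2e197) (.node 28232 (.leaf 0x2e197) (.leaf 0x2e197)))) (.node 28235 (.node 28234 (.leaf 0x2e197) (.leaf 0x2e197)) (.node 28236 (.leaf 0x2e197) (.node 28237 (.leaf 0x2e197) (.leaf 0x2e197))))) (.node 28243 (.node 28240 (.node 28239 (.leaf 0x2e197) (.leaf 0x2e197)) (.node 28241 (.leaf 0x2e197) (.node 28242 (.leaf 0x2e197) (.leaf 0x2e197)))) (.node 28245 (.node 28244 (.leaf 0x2e197) (.leaf 0x2e197)) (.node 28246 (.leaf 0x2e197) (.node 28247 (.leaf 0x2e197) (.leaf 0x2e197))))))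

def candS_1396 : Store := (.node 28258 (.node 28253 (.node 28250 (.node 28249 (.leaf 0x2e197) (.leaf 0x2e197)) (.node 28251 (.leaf 0x2e197) (.node 28252 (.leaf 0x2e197) (.leaf 0x2e197)))) (.node 28255 (.node 28254 (.leaf 0x2e197) (.leaf 0x2e197)) (.node 28256 (.leaf 0x2e197) (.node 28257 (.leaf 0x2e197) (.leaf 0x2e197))))) (.node 28263 (.node 28260 (.node 28259 (.leaf 0x2e197) (.leaf 0x2e197)) (.node 28261 (.leaf 0x2e197) (.node 28262 (.leaf 0x2e197) (.leaf 0x2e197)))) (.node 28266 (.node 28264 (.leaf 0x2e197) (.node 28265 (.leaf 0x2e197) (.leaf 0x2e197))) (.node 28267 (.leaf 0x2e197) (.node 28268 (.leaf 0x2e197) (.leaf 0x2e197))))))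

def candS_1397 : Store := (.node 28279 (.node 28274 (.node 28271 (.node 28270 (.leaf 0x2e197) (.leaf 0x2e197)) (.node 28272 (.leaf 0x2e197) (.node 28273 (.leaf 0x2e197) (.leaf 0x2e197)))) (.node 28276 (.node 28275 (.leaf 0x2e197) (.leaf 0x2e197)) (.node 28277 (.leaf 0x2e197) (.node 28278 (.leaf 0x2e197) (.leaf 0x2e197))))) (.node 28284 (.node 28281 (.node 28280 (.leaf 0x2e197) (.leaf 0x2e197)) (.node 28282 (.leaf 0x2e197) (.node 28283 (.leaf 0x2e197) (.leaf 0x2e197)))) (.node 28286 (.node 28285 (.leaf 0x2e197) (.leaf 0x2e197)) (.node 28287 (.leaf 0x2e197) (.node 28288 (.leaf 0x2e197) (.leaf 0x2e197))))))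

def candS_1398 : Store := (.node 28299 (.node 28294 (.node 28291 (.node 28290 (.leaf 0x2e197) (.leaf 0x2e197)) (.node 28292 (.leaf 0x2e197) (.node 28293 (.leaf 0x2e197) (.leaf 0x2e197)))) (.node 28296 (.node 28295 (.leaf 0x2e197) (.leaf 0x2e197)) (.node 28297 (.leaf 0x2e197) (.node 28298 (.leaf 0x2e197) (.leaf 0x2e197))))) (.node 28304 (.node 28301 (.node 28300 (.leaf 0x2e197) (.leaf 0x2e197)) (.node 28302 (.leaf 0x2e197) (.node 28303 (.leaf 0x2e197) (.leaf 0x2e197)))) (.node 28306 (.node 28305 (.leaf 0x2e197) (.leaf 0x2e197)) (.node 28307 (.leaf 0x2e197) (.node 28308 (.leaf 0x2e197) (.leaf 0x2e197))))))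

def candS_1399 : Store := (.node 28319 (.node 28314 (.node 28311 (.node 28310 (.leaf 0x2e197) (.leaf 0x2e197)) (.node 28312 (.leaf 0x2e197) (.node 28313 (.leaf 0x2e197) (.leaf 0x2e197)))) (.node 28316 (.node 28315 (.leaf 0x2e197) (.leaf 0x2e197)) (.node 28317 (.leaf 0x2e197) (.node 28318 (.leaf 0x2e197) (.leaf 0x2e197))))) (.node 28324 (.node 28321 (.node 28320 (.leaf 0x2e197) (.leaf 0x2e197)) (.node 28322 (.leaf 0x2e197) (.node 28323 (.leaf 0x2e197) (.leaf 0x2e197)))) (.node 28326 (.node 28325 (.leaf 0x2e197) (.leaf 0x2e197)) (.node 28327 (.leaf 0x2e197) (.node 28328 (.leaf 0x2e197) (.leaf 0x2e197))))))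

def candS_1400 : Store := (.node 28339 (.node 28334 (.node 28331 (.node 28330 (.leaf 0x2e197) (.leaf 0x2e197)) (.node 28332 (.leaf 0x2e197) (.node 28333 (.leaf 0x2e197) (.leaf 0x2e197)))) (.node 28336 (.node 28335 (.leaf 0x2e197) (.leaf 0x2e197)) (.node 28337 (.leaf 0x2e197) (.node 28338 (.leaf 0x2e197) (.leaf 0x2e197))))) (.node 28344 (.node 28341 (.node 28340 (.leaf 0x2e197) (.leaf 0x2e197)) (.node 28342 (.leaf 0x2e197) (.node 28343 (.leaf 0x2e197) (.leaf 0x2e197)))) (.node 28347 (.node 28345 (.leaf 0x2e197) (.node 28346 (.leaf 0x2e197) (.leaf 0x2e197))) (.node 28348 (.leaf 0x2e197) (.node 28349 (.leaf 0x2e197) (.leaf 0x2e197))))))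

def candS_1401 : Store := (.node 28360 (.node 28355 (.node 28352 (.node 28351 (.leaf 0x2e197) (.leaf 0x2e197)) (.node 28353 (.leaf 0x2e197) (.node 28354 (.leaf 0x2e197) (.leaf 0x2e197)))) (.node 28357 (.node 28356 (.leaf 0x2e197) (.leaf 0x2e197)) (.node 28358 (.leaf 0x2e197) (.node 28359 (.leaf 0x2e197) (.leaf 0x2e197))))) (.node 28365 (.node 28362 (.node 28361 (.leaf 0x2e197) (.leaf 0x2e197)) (.node 28363 (.leaf 0x2e197) (.node 28364 (.leaf 0x2e197) (.leaf 0x2e197)))) (.node 28367 (.node 28366 (.leaf 0x2e197) (.leaf 0x2e197)) (.node 28368 (.leaf 0x2e197) (.node 28369 (.leaf 0x2e197) (.leaf 0x2e197))))))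

def candS_1402 : Store := (.node 28380 (.node 28375 (.node 28372 (.node 28371 (.leaf 0x2e197) (.leaf 0x2e197)) (.node 28373 (.leaf 0x2e197) (.node 28374 (.leaf 0x2e197) (.leaf 0x2e197)))) (.node 28377 (.node 28376 (.leaf 0x2e197) (.leaf 0x2e197)) (.node 28378 (.leaf 0x2e197) (.node 28379 (.leaf 0x2e197) (.leaf 0x2e197))))) (.node 28385 (.node 28382 (.node 28381 (.leaf 0x2e197) (.leaf 0x2e197)) (.node 28383 (.leaf 0x2e197) (.node 28384 (.leaf 0x2e197) (.leaf 0x2e197)))) (.node 28387 (.node 28386 (.leaf 0x2e197) (.leaf 0x2e197)) (.node 28388 (.leaf 0x2e197) (.node 28389 (.leaf 0x2e197) (.leaf 0x2e197))))))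

def candS_1403 : Store := (.node 28400 (.node 28395 (.node 28392 (.node 28391 (.leaf 0x2e197) (.leaf 0x2e197)) (.node 28393 (.leaf 0x2e197) (.node 28394 (.leaf 0x2e197) (.leaf 0x2e197)))) (.node 28397 (.node 28396 (.leaf 0x2e197) (.leaf 0x2e197)) (.node 28398 (.leaf 0x2e197) (.node 28399 (.leaf 0x2e197) (.leaf 0x2e197))))) (.node 28405 (.node 28402 (.node 28401 (.leaf 0x2e197) (.leaf 0x2e197)) (.node 28403 (.leaf 0x2e197) (.node 28404 (.leaf 0x2e197) (.leaf 0x2e197)))) (.node 28407 (.node 28406 (.leaf 0x2e197) (.leaf 0x2e197)) (.node 28408 (.leaf 0x2e197) (.node 28409 (.leaf 0x2e197) (.leaf 0x2e197))))))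

def candS_1404 : Store := (.node 28420 (.node 28415 (.node 28412 (.node 28411 (.leaf 0x2e197) (.leaf 0x2e197)) (.node 28413 (.leaf 0x2e197) (.node 28414 (.leaf 0x2e197) (.leaf 0x2e197)))) (.node 28417 (.node 28416 (.leaf 0x2e197) (.leaf 0x2e197)) (.node 28418 (.leaf 0x2e197) (.node 28419 (.leaf 0x2e197) (.leaf 0x2e197))))) (.node 28425 (.node 28422 (.node 28421 (.leaf 0x2e197) (.leaf 0x2e197)) (.node 28423 (.leaf 0x2e197) (.node 28424 (.leaf 0x2e197) (.leaf 0x2e197)))) (.node 28428 (.node 28426 (.leaf 0x2e197) (.node 28427 (.leaf 0x2e197) (.leaf 0x2e197))) (.node 28429 (.leaf 0x2e197) (.node 28430 (.leaf 0x2e197) (.leaf 0x2e197))))))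

def candS_1405 : Store := (.node 28441 (.node 28436 (.node 28433 (.node 28432 (.leaf 0x2e197) (.leaf 0x2e197)) (.node 28434 (.leaf 0x2e197) (.node 28435 (.leaf 0x2e197) (.leaf 0x2e197)))) (.node 28438 (.node 28437 (.leaf 0x2e197) (.leaf 0x2e197)) (.node 28439 (.leaf 0x2e197) (.node 28440 (.leaf 0x2e197) (.leaf 0x2e197))))) (.node 28446 (.node 28443 (.node 28442 (.leaf 0x2e197) (.leaf 0x2e197)) (.node 28444 (.leaf 0x2e197) (.node 28445 (.leaf 0x2e197) (.leaf 0x2e197)))) (.node 28448 (.node 28447 (.leaf 0x2e197) (.leaf 0x2e197)) (.node 28449 (.leaf 0x2e197) (.node 28450 (.leaf 0x2e197) (.leaf 0x2e197))))))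

def candS_1406 : Store := (.node 28461 (.node 28456 (.node 28453 (.node 28452 (.leaf 0x2e197) (.leaf 0x2e197)) (.node 28454 (.leaf 0x2e197) (.node 28455 (.leaf 0x2e197) (.leaf 0x2e197)))) (.node 28458 (.node 28457 (.leaf 0x2e197) (.leaf 0x2e197)) (.node 28459 (.leaf 0x2e197) (.node 28460 (.leaf 0x2e197) (.leaf 0x2e197))))) (.node 28466 (.node 28463 (.node 28462 (.leaf 0x2e197) (.leaf 0x2e197)) (.node 28464 (.leaf 0x2e197) (.node 28465 (.leaf 0x2e197) (.leaf 0x2e197)))) (.node 28468 (.node 28467 (.leaf 0x2e197) (.leaf 0x2e197)) (.node 28469 (.leaf 0x2e197) (.node 28470 (.leaf 0x2e197) (.leaf 0x2e197))))))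

def candS_1407 : Store := (.node 28481 (.node 28476 (.node 28473 (.node 28472 (.leaf 0x2e197) (.leaf 0x2e197)) (.node 28474 (.leaf 0x2e197) (.node 28475 (.leaf 0x2e197) (.leaf 0x2e197)))) (.node 28478 (.node 28477 (.leaf 0x2e197) (.leaf 0x2e197)) (.node 28479 (.leaf 0x2e197) (.node 28480 (.leaf 0x2e197) (.leaf 0x2e197))))) (.node 28486 (.node 28483 (.node 28482 (.leaf 0x2e197) (.leaf 0x2e197)) (.node 28484 (.leaf 0x2e197) (.node 28485 (.leaf 0x2e197) (.leaf 0x2e197)))) (.node 28488 (.node 28487 (.leaf 0x2e197) (.leaf 0x2e197)) (.node 28489 (.leaf 0x2e197) (.node 28490 (.leaf 0x2e197) (.leaf 0x2e197))))))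

def candS_1408 : Store := (.node 28501 (.node 28496 (.node 28493 (.node 28492 (.leaf 0x2e197) (.leaf 0x2e197)) (.node 28494 (.leaf 0x2e197) (.node 28495 (.leaf 0x2e197) (.leaf 0x2e197)))) (.node 28498 (.node 28497 (.leaf 0x2e197) (.leaf 0x2e197)) (.node 28499 (.leaf 0x2e197) (.node 28500 (.leaf 0x2e197) (.leaf 0x2e197))))) (.node 28506 (.node 28503 (.node 28502 (.leaf 0x2e197) (.leaf 0x2e197)) (.node 28504 (.leaf 0x2e197) (.node 28505 (.leaf 0x2e197) (.leaf 0x2e197)))) (.node 28509 (.node 28507 (.leaf 0x2e197) (.node 28508 (.leaf 0x2e197) (.leaf 0x2e197))) (.node 28510 (.leaf 0x2e197) (.node 28511 (.leaf 0x2e197) (.leaf 0x2e197))))))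

def candS_1409 : Store := (.node 28522 (.node 28517 (.node 28514 (.node 28513 (.leaf 0x2e197) (.leaf 0x2e197)) (.node 28515 (.leaf 0x2e197) (.node 28516 (.leaf 0x2e197) (.leaf 0x2e197)))) (.node 28519 (.node 28518 (.leaf 0x2e197) (.leaf 0x2e197)) (.node 28520 (.leaf 0x2e197) (.node 28521 (.leaf 0x2e197) (.leaf 0x2e197))))) (.node 28527 (.node 28524 (.node 28523 (.leaf 0x2e197) (.leaf 0x2e197)) (.node 28525 (.leaf 0x2e197) (.node 28526 (.leaf 0x2e197) (.leaf 0x2e197)))) (.node 28529 (.node 28528 (.leaf 0x2e197) (.leaf 0x2e197)) (.node 28530 (.leaf 0x2e197) (.node 28531 (.leaf 0x2e197) (.leaf 0x2e197))))))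

def candS_1410 : Store := (.node 28542 (.node 28537 (.node 28534 (.node 28533 (.leaf 0x2e197) (.leaf 0x2e197)) (.node 28535 (.leaf 0x2e197) (.node 28536 (.leaf 0x2e197) (.leaf 0x2e197)))) (.node 28539 (.node 28538 (.leaf 0x2e197) (.leaf 0x2e197)) (.node 28540 (.leaf 0x2e197) (.node 28541 (.leaf 0x2e197) (.leaf 0x2e197))))) (.node 28547 (.node 28544 (.node 28543 (.leaf 0x2e197) (.leaf 0x2e197)) (.node 28545 (.leaf 0x2e197) (.node 28546 (.leaf 0x2e197) (.leaf 0x2e197)))) (.node 28549 (.node 28548 (.leaf 0x2e197) (.leaf 0x2e197)) (.node 28550 (.leaf 0x2e197) (.node 28551 (.leaf 0x2e197) (.leaf 0x2e197))))))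

def candS_1411 : Store := (.node 28562 (.node 28557 (.node 28554 (.node 28553 (.leaf 0x2e197) (.leaf 0x2e197)) (.node 28555 (.leaf 0x2e197) (.node 28556 (.leaf 0x2e197) (.leaf 0x2e197)))) (.node 28559 (.node 28558 (.leaf 0x2e197) (.leaf 0x2e197)) (.node 28560 (.leaf 0x2e197) (.node 28561 (.leaf 0x2e197) (.leaf 0x2e197))))) (.node 28567 (.node 28564 (.node 28563 (.leaf 0x2e197) (.leaf 0x2e197)) (.node 28565 (.leaf 0x2e197) (.node 28566 (.leaf 0x2e197) (.leaf 0x2e197)))) (.node 28569 (.node 28568 (.leaf 0x2e197) (.leaf 0x2e197)) (.node 28570 (.leaf 0x2e197) (.node 28571 (.leaf 0x2e197) (.leaf 0x2e197))))))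

def candS_1412 : Store := (.node 28582 (.node 28577 (.node 28574 (.node 28573 (.leaf 0x2e197) (.leaf 0x2e197)) (.node 28575 (.leaf 0x2e197) (.node 28576 (.leaf 0x2e197) (.leaf 0x2e197)))) (.node 28579 (.node 28578 (.leaf 0x2e197) (.leaf 0x2e197)) (.node 28580 (.leaf 0x2e197) (.node 28581 (.leaf 0x2e197) (.leaf 0x2e197))))) (.node 28587 (.node 28584 (.node 28583 (.leaf 0x2e197) (.leaf 0x2e197)) (.node 28585 (.leaf 0x2e197) (.node 28586 (.leaf 0x2e197) (.leaf 0x2e197)))) (.node 28590 (.node 28588 (.leaf 0x2e197) (.node 28589 (.leaf 0x2e197) (.leaf 0x2e197))) (.node 28591 (.leaf 0x2e197) (.node 28592 (.leaf 0x2e197) (.leaf 0x2e197))))))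

def candS_1413 : Store := (.node 28603 (.node 28598 (.node 28595 (.node 28594 (.leaf 0x2e197) (.leaf 0x2e197)) (.node 28596 (.leaf 0x2e197) (.node 28597 (.leaf 0x2e197) (.leaf 0x2e197)))) (.node 28600 (.node 28599 (.leaf 0x2e197) (.leaf 0x2e197)) (.node 28601 (.leaf 0x2e197) (.node 28602 (.leaf 0x2e197) (.leaf 0x2e197))))) (.node 28608 (.node 28605 (.node 28604 (.leaf 0x2e197) (.leaf 0x2e197)) (.node 28606 (.leaf 0x2e197) (.node 28607 (.leaf 0x2e197) (.leaf 0x2e197)))) (.node 28610 (.node 28609 (.leaf 0x2e197) (.leaf 0x2e197)) (.node 28611 (.leaf 0x2e197) (.node 28612 (.leaf 0x2e197) (.leaf 0x2e197))))))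

def candS_1414 : Store := (.node 28623 (.node 28618 (.node 28615 (.node 28614 (.leaf 0x2e197) (.leaf 0x2e197)) (.node 28616 (.leaf 0x2e197) (.node 28617 (.leaf 0x2e197) (.leaf 0x2e197)))) (.node 28620 (.node 28619 (.leaf 0x2e197) (.leaf 0x2e197)) (.node 28621 (.leaf 0x2e197) (.node 28622 (.leaf 0x2e197) (.leaf 0x2e197))))) (.node 28628 (.node 28625 (.node 28624 (.leaf 0x2e197) (.leaf 0x2e197)) (.node 28626 (.leaf 0x2e197) (.node 28627 (.leaf 0x2e197) (.leaf 0x2e197)))) (.node 28630 (.node 28629 (.leaf 0x2e197) (.leaf 0x2e197)) (.node 28631 (.leaf 0x2e197) (.node 28632 (.leaf 0x2e197) (.leaf 0x2e197))))))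

def candS_1415 : Store := (.node 28643 (.node 28638 (.node 28635 (.node 28634 (.leaf 0x2e197) (.leaf 0x2e197)) (.node 28636 (.leaf 0x2e197) (.node 28637 (.leaf 0x2e197) (.leaf 0x2e197)))) (.node 28640 (.node 28639 (.leaf 0x2e197) (.leaf 0x2e197)) (.node 28641 (.leaf 0x2e197) (.node 28642 (.leaf 0x2e197) (.leaf 0x2e197))))) (.node 28648 (.node 28645 (.node 28644 (.leaf 0x2e197) (.leaf 0x2e197)) (.node 28646 (.leaf 0x2e197) (.node 28647 (.leaf 0x2e197) (.leaf 0x2e197)))) (.node 28650 (.node 28649 (.leaf 0x2e197) (.leaf 0x2e197)) (.node 28651 (.leaf 0x2e197) (.node 28652 (.leaf 0x2e197) (.leaf 0x2e197))))))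

def candS_1416 : Store := (.node 28663 (.node 28658 (.node 28655 (.node 28654 (.leaf 0x2e197) (.leaf 0x2e197)) (.node 28656 (.leaf 0x2e197) (.node 28657 (.leaf 0x2e197) (.leaf 0x2e197)))) (.node 28660 (.node 28659 (.leaf 0x2e197) (.leaf 0x2e197)) (.node 28661 (.leaf 0x2e197) (.node 28662 (.leaf 0x2e197) (.leaf 0x2e197))))) (.node 28668 (.node 28665 (.node 28664 (.leaf 0x2e197) (.leaf 0x2e197)) (.node 28666 (.leaf 0x2e197) (.node 28667 (.leaf 0x2e197) (.leaf 0x2e197)))) (.node 28671 (.node 28669 (.leaf 0x2e197) (.node 28670 (.leaf 0x2e197) (.leaf 0x2e197))) (.node 28672 (.leaf 0x2e197) (.node 28673 (.leaf 0x2e197) (.leaf 0x2e197))))))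

def candS_1417 : Store := (.node 28684 (.node 28679 (.node 28676 (.node 28675 (.leaf 0x2e197) (.leaf 0x2e197)) (.node 28677 (.leaf 0x2e197) (.node 28678 (.leaf 0x2e197) (.leaf 0x2e197)))) (.node 28681 (.node 28680 (.leaf 0x2e197) (.leaf 0x2e197)) (.node 28682 (.leaf 0x2e197) (.node 28683 (.leaf 0x2e197) (.leaf 0x2e197))))) (.node 28689 (.node 28686 (.node 28685 (.leaf 0x2e197) (.leaf 0x2e197)) (.node 28687 (.leaf 0x2e197) (.node 28688 (.leaf 0x2e197) (.leaf 0x2e197)))) (.node 28691 (.node 28690 (.leaf 0x2e197) (.leaf 0x2e197)) (.node 28692 (.leaf 0x2e197) (.node 28693 (.leaf 0x2e197) (.leaf 0x2e197))))))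

def candS_1418 : Store := (.node 28704 (.node 28699 (.node 28696 (.node 28695 (.leaf 0x2e197) (.leaf 0x2e197)) (.node 28697 (.leaf 0x2e197) (.node 28698 (.leaf 0x2e197) (.leaf 0x2e197)))) (.node 28701 (.node 28700 (.leaf 0x2e197) (.leaf 0x2e197)) (.node 28702 (.leaf 0x2e197) (.node 28703 (.leaf 0x2e197) (.leaf 0x2e197))))) (.node 28709 (.node 28706 (.node 28705 (.leaf 0x2e197) (.leaf 0x2e197)) (.node 28707 (.leaf 0x2e197) (.node 28708 (.leaf 0x2e197) (.leaf 0x2e197)))) (.node 28711 (.node 28710 (.leaf 0x2e197) (.leaf 0x2e197)) (.node 28712 (.leaf 0x2e197) (.node 28713 (.leaf 0x2e197) (.leaf 0x2e197))))))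

def candS_1419 : Store := (.node 28724 (.node 28719 (.node 28716 (.node 28715 (.leaf 0x2e197) (.leaf 0x2e197)) (.node 28717 (.leaf 0x2e197) (.node 28718 (.leaf 0x2e197) (.leaf 0x2e197)))) (.node 28721 (.node 28720 (.leaf 0x2e197) (.leaf 0x2e197)) (.node 28722 (.leaf 0x2e197) (.node 28723 (.leaf 0x2e197) (.leaf 0x2e197))))) (.node 28729 (.node 28726 (.node 28725 (.leaf 0x2e197) (.leaf 0x2e197)) (.node 28727 (.leaf 0x2e197) (.node 28728 (.leaf 0x2e197) (.leaf 0x2e197)))) (.node 28731 (.node 28730 (.leaf 0x2e197) (.leaf 0x2e197)) (.node 28732 (.leaf 0x2e197) (.node 28733 (.leaf 0x2e197) (.leaf 0x2e197))))))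

def candS_1420 : Store := (.node 28744 (.node 28739 (.node 28736 (.node 28735 (.leaf 0x2e197) (.leaf 0x2e197)) (.node 28737 (.leaf 0x2e197) (.node 28738 (.leaf 0x2e197) (.leaf 0x2e197)))) (.node 28741 (.node 28740 (.leaf 0x2e197) (.leaf 0x2e197)) (.node 28742 (.leaf 0x2e197) (.node 28743 (.leaf 0x2e197) (.leaf 0x2e197))))) (.node 28749 (.node 28746 (.node 28745 (.leaf 0x2e197) (.leaf 0x2e197)) (.node 28747 (.leaf 0x2e197) (.node 28748 (.leaf 0x2e197) (.leaf 0x2e197)))) (.node 28752 (.node 28750 (.leaf 0x2e197) (.node 28751 (.leaf 0x2e197) (.leaf 0x2e197))) (.node 28753 (.leaf 0x2e197) (.node 28754 (.leaf 0x2e197) (.leaf 0x2e197))))))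

def candS_1421 : Store := (.node 28765 (.node 28760 (.node 28757 (.node 28756 (.leaf 0x2e197) (.leaf 0x2e197)) (.node 28758 (.leaf 0x2e197) (.node 28759 (.leaf 0x2e197) (.leaf 0x2e197)))) (.node 28762 (.node 28761 (.leaf 0x2e197) (.leaf 0x2e197)) (.node 28763 (.leaf 0x2e197) (.node 28764 (.leaf 0x2e197) (.leaf 0x2e197))))) (.node 28770 (.node 28767 (.node 28766 (.leaf 0x2e197) (.leaf 0x2e197)) (.node 28768 (.leaf 0x2e197) (.node 28769 (.leaf 0x2e197) (.leaf 0x2e197)))) (.node 28772 (.node 28771 (.leaf 0x2e197) (.leaf 0x2e197)) (.node 28773 (.leaf 0x2e197) (.node 28774 (.leaf 0x2e197) (.leaf 0x2e197))))))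

def candS_1422 : Store := (.node 28785 (.node 28780 (.node 28777 (.node 28776 (.leaf 0x2e197) (.leaf 0x2e197)) (.node 28778 (.leaf 0x2e197) (.node 28779 (.leaf 0x2e197) (.leaf 0x2e197)))) (.node 28782 (.node 28781 (.leaf 0x2e197) (.leaf 0x2e197)) (.node 28783 (.leaf 0x2e197) (.node 28784 (.leaf 0x2e197) (.leaf 0x2e197))))) (.node 28790 (.node 28787 (.node 28786 (.leaf 0x2e197) (.leaf 0x2e197)) (.node 28788 (.leaf 0x2e197) (.node 28789 (.leaf 0x2e197) (.leaf 0x2e197)))) (.node 28792 (.node 28791 (.leaf 0x2e197) (.leaf 0x2e197)) (.node 28793 (.leaf 0x2e197) (.node 28794 (.leaf 0x2e197) (.leaf 0x2e197))))))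

def candS_1423 : Store := (.node 28805 (.node 28800 (.node 28797 (.node 28796 (.leaf 0x2e197) (.leaf 0x2e197)) (.node 28798 (.leaf 0x2e197) (.node 28799 (.leaf 0x2e197) (.leaf 0x2e197)))) (.node 28802 (.node 28801 (.leaf 0x2e197) (.leaf 0x2e197)) (.node 28803 (.leaf 0x2e197) (.node 28804 (.leaf 0x2e197) (.leaf 0x2e197))))) (.node 28810 (.node 28807 (.node 28806 (.leaf 0x2e197) (.leaf 0x2e197)) (.node 28808 (.leaf 0x2e197) (.node 28809 (.leaf 0x2e197) (.leaf 0x2e197)))) (.node 28812 (.node 28811 (.leaf 0x2e197) (.leaf 0x2e197)) (.node 28813 (.leaf 0x2e197) (.node 28814 (.leaf 0x2e197) (.leaf 0x2e197))))))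

def candS_1424 : Store := (.node 28825 (.node 28820 (.node 28817 (.node 28816 (.leaf 0x2e197) (.leaf 0x2e197)) (.node 28818 (.leaf 0x2e197) (.node 28819 (.leaf 0x2e197) (.leaf 0x2e197)))) (.node 28822 (.node 28821 (.leaf 0x2e197) (.leaf 0x2e197)) (.node 28823 (.leaf 0x2e197) (.node 28824 (.leaf 0x2e197) (.leaf 0x2e197))))) (.node 28830 (.node 28827 (.node 28826 (.leaf 0x2e197) (.leaf 0x2e197)) (.node 28828 (.leaf 0x2e197) (.node 28829 (.leaf 0x2e197) (.leaf 0x2e197)))) (.node 28833 (.node 28831 (.leaf 0x2e197) (.node 28832 (.leaf 0x2e197) (.leaf 0x2e197))) (.node 28834 (.leaf 0x2e197) (.node 28835 (.leaf 0x2e197) (.leaf 0x2e197))))))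

def candS_1425 : Store := (.node 28846 (.node 28841 (.node 28838 (.node 28837 (.leaf 0x2e197) (.leaf 0x2e197)) (.node 28839 (.leaf 0x2e197) (.node 28840 (.leaf 0x2e197) (.leaf 0x2e197)))) (.node 28843 (.node 28842 (.leaf 0x2e197) (.leaf 0x2e197)) (.node 28844 (.leaf 0x2e197) (.node 28845 (.leaf 0x2e197) (.leaf 0x2e197))))) (.node 28851 (.node 28848 (.node 28847 (.leaf 0x2e197) (.leaf 0x2e197)) (.node 28849 (.leaf 0x2e197) (.node 28850 (.leaf 0x2e197) (.leaf 0x2e197)))) (.node 28853 (.node 28852 (.leaf 0x2e197) (.leaf 0x2e197)) (.node 28854 (.leaf 0x2e197) (.node 28855 (.leaf 0x2e197) (.leaf 0x2e197))))))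

def candS_1426 : Store := (.node 28866 (.node 28861 (.node 28858 (.node 28857 (.leaf 0x2e197) (.leaf 0x2e197)) (.node 28859 (.leaf 0x2e197) (.node 28860 (.leaf 0x2e197) (.leaf 0x2e197)))) (.node 28863 (.node 28862 (.leaf 0x2e197) (.leaf 0x2e197)) (.node 28864 (.leaf 0x2e197) (.node 28865 (.leaf 0x2e197) (.leaf 0x2e197))))) (.node 28871 (.node 28868 (.node 28867 (.leaf 0x2e197) (.leaf 0x2e197)) (.node 28869 (.leaf 0x2e197) (.node 28870 (.leaf 0x2e197) (.leaf 0x2e197)))) (.node 28873 (.node 28872 (.leaf 0x2e197) (.leaf 0x2e197)) (.node 28874 (.leaf 0x2e197) (.node 28875 (.leaf 0x2e197) (.leaf 0x2e197))))))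

def candS_1427 : Store := (.node 28886 (.node 28881 (.node 28878 (.node 28877 (.leaf 0x2e197) (.leaf 0x2e197)) (.node 28879 (.leaf 0x2e197) (.node 28880 (.leaf 0x2e197) (.leaf 0x2e197)))) (.node 28883 (.node 28882 (.leaf 0x2e197) (.leaf 0x2e197)) (.node 28884 (.leaf 0x2e197) (.node 28885 (.leaf 0x2e197) (.leaf 0x2e197))))) (.node 28891 (.node 28888 (.node 28887 (.leaf 0x2e197) (.leaf 0x2e197)) (.node 28889 (.leaf 0x2e197) (.node 28890 (.leaf 0x2e197) (.leaf 0x2e197)))) (.node 28893 (.node 28892 (.leaf 0x2e197) (.leaf 0x2e197)) (.node 28894 (.leaf 0x2e197) (.node 28895 (.leaf 0x2e197) (.leaf 0x2e197))))))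

def candS_1428 : Store := (.node 28906 (.node 28901 (.node 28898 (.node 28897 (.leaf 0x2e197) (.leaf 0x2e197)) (.node 28899 (.leaf 0x2e197) (.node 28900 (.leaf 0x2e197) (.leaf 0x2e197)))) (.node 28903 (.node 28902 (.leaf 0x2e197) (.leaf 0x2e197)) (.node 28904 (.leaf 0x2e197) (.node 28905 (.leaf 0x2e197) (.leaf 0x2e197))))) (.node 28911 (.node 28908 (.node 28907 (.leaf 0x2e197) (.leaf 0x2e197)) (.node 28909 (.leaf 0x2e197) (.node 28910 (.leaf 0x2e197) (.leaf 0x2e197)))) (.node 28914 (.node 28912 (.leaf 0x2e197) (.node 28913 (.leaf 0x2e197) (.leaf 0x2e197))) (.node 28915 (.leaf 0x2e197) (.node 28916 (.leaf 0x2e197) (.leaf 0x2e197))))))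

def candS_1429 : Store := (.node 28927 (.node 28922 (.node 28919 (.node 28918 (.leaf 0x2e197) (.leaf 0x2e197)) (.node 28920 (.leaf 0x2e197) (.node 28921 (.leaf 0x2e197) (.leaf 0x2e197)))) (.node 28924 (.node 28923 (.leaf 0x2e197) (.leaf 0x2e197)) (.node 28925 (.leaf 0x2e197) (.node 28926 (.leaf 0x2e197) (.leaf 0x2e197))))) (.node 28932 (.node 28929 (.node 28928 (.leaf 0x2e197) (.leaf 0x2e197)) (.node 28930 (.leaf 0x2e197) (.node 28931 (.leaf 0x2e197) (.leaf 0x2e197)))) (.node 28934 (.node 28933 (.leaf 0x2e197) (.leaf 0x2e197)) (.node 28935 (.leaf 0x2e197) (.node 28936 (.leaf 0x2e197) (.leaf 0x2e197))))))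

def candS_1430 : Store := (.node 28947 (.node 28942 (.node 28939 (.node 28938 (.leaf 0x2e197) (.leaf 0x2e197)) (.node 28940 (.leaf 0x2e197) (.node 28941 (.leaf 0x2e197) (.leaf 0x2e197)))) (.node 28944 (.node 28943 (.leaf 0x2e197) (.leaf 0x2e197)) (.node 28945 (.leaf 0x2e197) (.node 28946 (.leaf 0x2e197) (.leaf 0x2e197))))) (.node 28952 (.node 28949 (.node 28948 (.leaf 0x2e197) (.leaf 0x2e197)) (.node 28950 (.leaf 0x2e197) (.node 28951 (.leaf 0x2e197) (.leaf 0x2e197)))) (.node 28954 (.node 28953 (.leaf 0x2e197) (.leaf 0x2e197)) (.node 28955 (.leaf 0x2e197) (.node 28956 (.leaf 0x2e197) (.leaf 0x2e197))))))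

def candS_1431 : Store := (.node 28967 (.node 28962 (.node 28959 (.node 28958 (.leaf 0x2e197) (.leaf 0x2e197)) (.node 28960 (.leaf 0x2e197) (.node 28961 (.leaf 0x2e197) (.leaf 0x2e197)))) (.node 28964 (.node 28963 (.leaf 0x2e197) (.leaf 0x2e197)) (.node 28965 (.leaf 0x2e197) (.node 28966 (.leaf 0x2e197) (.leaf 0x2e197))))) (.node 28972 (.node 28969 (.node 28968 (.leaf 0x2e197) (.leaf 0x2e197)) (.node 28970 (.leaf 0x2e197) (.node 28971 (.leaf 0x2e197) (.leaf 0x2e197)))) (.node 28974 (.node 28973 (.leaf 0x2e197) (.leaf 0x2e197)) (.node 28975 (.leaf 0x2e197) (.node 28976 (.leaf 0x2e197) (.leaf 0x2e197))))))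

def candS_1432 : Store := (.node 28987 (.node 28982 (.node 28979 (.node 28978 (.leaf 0x2e197) (.leaf 0x2e197)) (.node 28980 (.leaf 0x2e197) (.node 28981 (.leaf 0x2e197) (.leaf 0x2e197)))) (.node 28984 (.node 28983 (.leaf 0x2e197) (.leaf 0x2e197)) (.node 28985 (.leaf 0x2e197) (.node 28986 (.leaf 0x2e197) (.leaf 0x2e197))))) (.node 28992 (.node 28989 (.node 28988 (.leaf 0x2e197) (.leaf 0x2e197)) (.node 28990 (.leaf 0x2e197) (.node 28991 (.leaf 0x2e197) (.leaf 0x2e197)))) (.node 28995 (.node 28993 (.leaf 0x2e197) (.node 28994 (.leaf 0x2e197) (.leaf 0x2e197))) (.node 28996 (.leaf 0x2e197) (.node 28997 (.leaf 0x2e197) (.leaf 0x2e197))))))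

def candS_1433 : Store := (.node 29008 (.node 29003 (.node 29000 (.node 28999 (.leaf 0x2e197) (.leaf 0x2e197)) (.node 29001 (.leaf 0x2e197) (.node 29002 (.leaf 0x2e197) (.leaf 0x2e197)))) (.node 29005 (.node 29004 (.leaf 0x2e197) (.leaf 0x2e197)) (.node 29006 (.leaf 0x2e197) (.node 29007 (.leaf 0x2e197) (.leaf 0x2e197))))) (.node 29013 (.node 29010 (.node 29009 (.leaf 0x2e197) (.leaf 0x2e197)) (.node 29011 (.leaf 0x2e197) (.node 29012 (.leaf 0x2e197) (.leaf 0x2e197)))) (.node 29015 (.node 29014 (.leaf 0x2e197) (.leaf 0x2e197)) (.node 29016 (.leaf 0x2e197) (.node 29017 (.leaf 0x2e197) (.leaf 0x2e197))))))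

def candS_1434 : Store := (.node 29028 (.node 29023 (.node 29020 (.node 29019 (.leaf 0x2e197) (.leaf 0x2e197)) (.node 29021 (.leaf 0x2e197) (.node 29022 (.leaf 0x2e197) (.leaf 0x2e197)))) (.node 29025 (.node 29024 (.leaf 0x2e197) (.leaf 0x2e197)) (.node 29026 (.leaf 0x2e197) (.node 29027 (.leaf 0x2e197) (.leaf 0x2e197))))) (.node 29033 (.node 29030 (.node 29029 (.leaf 0x2e197) (.leaf 0x2e197)) (.node 29031 (.leaf 0x2e197) (.node 29032 (.leaf 0x2e197) (.leaf 0x2e197)))) (.node 29035 (.node 29034 (.leaf 0x2e197) (.leaf 0x2e197)) (.node 29036 (.leaf 0x2e197) (.node 29037 (.leaf 0x2e197) (.leaf 0x2e197))))))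

def candS_1435 : Store := (.node 29048 (.node 29043 (.node 29040 (.node 29039 (.leaf 0x2e197) (.leaf 0x2e197)) (.node 29041 (.leaf 0x2e197) (.node 29042 (.leaf 0x2e197) (.leaf 0x2e197)))) (.node 29045 (.node 29044 (.leaf 0x2e197) (.leaf 0x2e197)) (.node 29046 (.leaf 0x2e197) (.node 29047 (.leaf 0x2e197) (.leaf 0x2e197))))) (.node 29053 (.node 29050 (.node 29049 (.leaf 0x2e197) (.leaf 0x2e197)) (.node 29051 (.leaf 0x2e197) (.node 29052 (.leaf 0x2e197) (.leaf 0x2e197)))) (.node 29055 (.node 29054 (.leaf 0x2e197) (.leaf 0x2e197)) (.node 29056 (.leaf 0x2e197) (.node 29057 (.leaf 0x2e197) (.leaf 0x2e197))))))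

def candS_1436 : Store := (.node 29068 (.node 29063 (.node 29060 (.node 29059 (.leaf 0x2e197) (.leaf 0x2e197)) (.node 29061 (.leaf 0x2e197) (.node 29062 (.leaf 0x2e197) (.leaf 0x2e197)))) (.node 29065 (.node 29064 (.leaf 0x2e197) (.leaf 0x2e197)) (.node 29066 (.leaf 0x2e197) (.node 29067 (.leaf 0x2e197) (.leaf 0x2e197))))) (.node 29073 (.node 29070 (.node 29069 (.leaf 0x2e197) (.leaf 0x2e197)) (.node 29071 (.leaf 0x2e197) (.node 29072 (.leaf 0x2e197) (.leaf 0x2e197)))) (.node 29076 (.node 29074 (.leaf 0x2e197) (.node 29075 (.leaf 0x2e197) (.leaf 0x2e197))) (.node 29077 (.leaf 0x2e197) (.node 29078 (.leaf 0x2e197) (.leaf 0x2e197))))))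

def candS_1437 : Store := (.node 29089 (.node 29084 (.node 29081 (.node 29080 (.leaf 0x2e197) (.leaf 0x2e197)) (.node 29082 (.leaf 0x2e197) (.node 29083 (.leaf 0x2e197) (.leaf 0x2e197)))) (.node 29086 (.node 29085 (.leaf 0x2e197) (.leaf 0x2e197)) (.node 29087 (.leaf 0x2e197) (.node 29088 (.leaf 0x2e197) (.leaf 0x2e197))))) (.node 29094 (.node 29091 (.node 29090 (.leaf 0x2e197) (.leaf 0x2e197)) (.node 29092 (.leaf 0x2e197) (.node 29093 (.leaf 0x2e197) (.leaf 0x2e197)))) (.node 29096 (.node 29095 (.leaf 0x2e197) (.leaf 0x2e197)) (.node 29097 (.leaf 0x2e197) (.node 29098 (.leaf 0x2e197) (.leaf 0x2e197))))))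

def candS_1438 : Store := (.node 29109 (.node 29104 (.node 29101 (.node 29100 (.leaf 0x2e197) (.leaf 0x2e197)) (.node 29102 (.leaf 0x2e197) (.node 29103 (.leaf 0x2e197) (.leaf 0x2e197)))) (.node 29106 (.node 29105 (.leaf 0x2e197) (.leaf 0x2e197)) (.node 29107 (.leaf 0x2e197) (.node 29108 (.leaf 0x2e197) (.leaf 0x2e197))))) (.node 29114 (.node 29111 (.node 29110 (.leaf 0x2e197) (.leaf 0x2e197)) (.node 29112 (.leaf 0x2e197) (.node 29113 (.leaf 0x2e197) (.leaf 0x2e197)))) (.node 29116 (.node 29115 (.leaf 0x2e197) (.leaf 0x2e197)) (.node 29117 (.leaf 0x2e197) (.node 29118 (.leaf 0x2e197) (.leaf 0x2e197))))))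

def candS_1439 : Store := (.node 29129 (.node 29124 (.node 29121 (.node 29120 (.leaf 0x2e197) (.leaf 0x2e197)) (.node 29122 (.leaf 0x2e197) (.node 29123 (.leaf 0x2e197) (.leaf 0x2e197)))) (.node 29126 (.node 29125 (.leaf 0x2e197) (.leaf 0x2e197)) (.node 29127 (.leaf 0x2e197) (.node 29128 (.leaf 0x2e197) (.leaf 0x2e197))))) (.node 29134 (.node 29131 (.node 29130 (.leaf 0x2e197) (.leaf 0x2e197)) (.node 29132 (.leaf 0x2e197) (.node 29133 (.leaf 0x2e197) (.leaf 0x2e197)))) (.node 29136 (.node 29135 (.leaf 0x2e197) (.leaf 0x2e197)) (.node 29137 (.leaf 0x2e197) (.node 29138 (.leaf 0x2e197) (.leaf 0x2e197))))))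

def candS_1440 : Store := (.node 29149 (.node 29144 (.node 29141 (.node 29140 (.leaf 0x2e197) (.leaf 0x2e197)) (.node 29142 (.leaf 0x2e197) (.node 29143 (.leaf 0x2e197) (.leaf 0x2e197)))) (.node 29146 (.node 29145 (.leaf 0x2e197) (.leaf 0x2e197)) (.node 29147 (.leaf 0x2e197) (.node 29148 (.leaf 0x2e197) (.leaf 0x2e197))))) (.node 29154 (.node 29151 (.node 29150 (.leaf 0x2e197) (.leaf 0x2e197)) (.node 29152 (.leaf 0x2e197) (.node 29153 (.leaf 0x2e197) (.leaf 0x2e197)))) (.node 29157 (.node 29155 (.leaf 0x2e197) (.node 29156 (.leaf 0x2e197) (.leaf 0x2e197))) (.node 29158 (.leaf 0x2e197) (.node 29159 (.leaf 0x2e197) (.leaf 0x2e197))))))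

def candS_1441 : Store := (.node 29170 (.node 29165 (.node 29162 (.node 29161 (.leaf 0x2e197) (.leaf 0x2e197)) (.node 29163 (.leaf 0x2e197) (.node 29164 (.leaf 0x2e197) (.leaf 0x2e197)))) (.node 29167 (.node 29166 (.leaf 0x2e197) (.leaf 0x2e197)) (.node 29168 (.leaf 0x2e197) (.node 29169 (.leaf 0x2e197) (.leaf 0x2e197))))) (.node 29175 (.node 29172 (.node 29171 (.leaf 0x2e197) (.leaf 0x2e197)) (.node 29173 (.leaf 0x2e197) (.node 29174 (.leaf 0x2e197) (.leaf 0x2e197)))) (.node 29177 (.node 29176 (.leaf 0x2e197) (.leaf 0x2e197)) (.node 29178 (.leaf 0x2e197) (.node 29179 (.leaf 0x2e197) (.leaf 0x2e197))))))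

def candS_1442 : Store := (.node 29190 (.node 29185 (.node 29182 (.node 29181 (.leaf 0x2e197) (.leaf 0x2e197)) (.node 29183 (.leaf 0x2e197) (.node 29184 (.leaf 0x2e197) (.leaf 0x2e197)))) (.node 29187 (.node 29186 (.leaf 0x2e197) (.leaf 0x2e197)) (.node 29188 (.leaf 0x2e197) (.node 29189 (.leaf 0x2e197) (.leaf 0x2e197))))) (.node 29195 (.node 29192 (.node 29191 (.leaf 0x2e197) (.leaf 0x2e197)) (.node 29193 (.leaf 0x2e197) (.node 29194 (.leaf 0x2e197) (.leaf 0x2e197)))) (.node 29197 (.node 29196 (.leaf 0x2e197) (.leaf 0x2e197)) (.node 29198 (.leaf 0x2e197) (.node 29199 (.leaf 0x2e197) (.leaf 0x2e197))))))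

def candS_1443 : Store := (.node 29210 (.node 29205 (.node 29202 (.node 29201 (.leaf 0x2e197) (.leaf 0x2e197)) (.node 29203 (.leaf 0x2e197) (.node 29204 (.leaf 0x2e197) (.leaf 0x2e197)))) (.node 29207 (.node 29206 (.leaf 0x2e197) (.leaf 0x2e197)) (.node 29208 (.leaf 0x2e197) (.node 29209 (.leaf 0x2e197) (.leaf 0x2e197))))) (.node 29215 (.node 29212 (.node 29211 (.leaf 0x2e197) (.leaf 0x2e197)) (.node 29213 (.leaf 0x2e197) (.node 29214 (.leaf 0x2e197) (.leaf 0x2e197)))) (.node 29217 (.node 29216 (.leaf 0x2e197) (.leaf 0x2e197)) (.node 29218 (.leaf 0x2e197) (.node 29219 (.leaf 0x2e197) (.leaf 0x2e197))))))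

def candS_1444 : Store := (.node 29230 (.node 29225 (.node 29222 (.node 29221 (.leaf 0x2e197) (.leaf 0x2e197)) (.node 29223 (.leaf 0x2e197) (.node 29224 (.leaf 0x2e197) (.leaf 0x2e197)))) (.node 29227 (.node 29226 (.leaf 0x2e197) (.leaf 0x2e197)) (.node 29228 (.leaf 0x2e197) (.node 29229 (.leaf 0x2e197) (.leaf 0x2e197))))) (.node 29235 (.node 29232 (.node 29231 (.leaf 0x2e197) (.leaf 0x2e197)) (.node 29233 (.leaf 0x2e197) (.node 29234 (.leaf 0x2e197) (.leaf 0x2e197)))) (.node 29238 (.node 29236 (.leaf 0x2e197) (.node 29237 (.leaf 0x2e197) (.leaf 0x2e197))) (.node 29239 (.leaf 0x2e197) (.node 29240 (.leaf 0x2e197) (.leaf 0x2e197))))))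

def candS_1445 : Store := (.node 29251 (.node 29246 (.node 29243 (.node 29242 (.leaf 0x2e197) (.leaf 0x2e197)) (.node 29244 (.leaf 0x2e197) (.node 29245 (.leaf 0x2e197) (.leaf 0x2e197)))) (.node 29248 (.node 29247 (.leaf 0x2e197) (.leaf 0x2e197)) (.node 29249 (.leaf 0x2e197) (.node 29250 (.leaf 0x2e197) (.leaf 0x2e197))))) (.node 29256 (.node 29253 (.node 29252 (.leaf 0x2e197) (.leaf 0x2e197)) (.node 29254 (.leaf 0x2e197) (.node 29255 (.leaf 0x2e197) (.leaf 0x2e197)))) (.node 29258 (.node 29257 (.leaf 0x2e197) (.leaf 0x2e197)) (.node 29259 (.leaf 0x2e197) (.node 29260 (.leaf 0x2e197) (.leaf 0x2e197))))))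

def candS_1446 : Store := (.node 29271 (.node 29266 (.node 29263 (.node 29262 (.leaf 0x2e197) (.leaf 0x2e197)) (.node 29264 (.leaf 0x2e197) (.node 29265 (.leaf 0x2e197) (.leaf 0x2e197)))) (.node 29268 (.node 29267 (.leaf 0x2e197) (.leaf 0x2e197)) (.node 29269 (.leaf 0x2e197) (.node 29270 (.leaf 0x2e197) (.leaf 0x2e197))))) (.node 29276 (.node 29273 (.node 29272 (.leaf 0x2e197) (.leaf 0x2e197)) (.node 29274 (.leaf 0x2e197) (.node 29275 (.leaf 0x2e197) (.leaf 0x2e197)))) (.node 29278 (.node 29277 (.leaf 0x2e197) (.leaf 0x2e197)) (.node 29279 (.leaf 0x2e197) (.node 29280 (.leaf 0x2e197) (.leaf 0x2e197))))))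

def candS_1447 : Store := (.node 29291 (.node 29286 (.node 29283 (.node 29282 (.leaf 0x2e197) (.leaf 0x2e197)) (.node 29284 (.leaf 0x2e197) (.node 29285 (.leaf 0x2e197) (.leaf 0x2e197)))) (.node 29288 (.node 29287 (.leaf 0x2e197) (.leaf 0x2e197)) (.node 29289 (.leaf 0x2e197) (.node 29290 (.leaf 0x2e197) (.leaf 0x2e197))))) (.node 29296 (.node 29293 (.node 29292 (.leaf 0x2e197) (.leaf 0x2e197)) (.node 29294 (.leaf 0x2e197) (.node 29295 (.leaf 0x2e197) (.leaf 0x2e197)))) (.node 29298 (.node 29297 (.leaf 0x2e197) (.leaf 0x2e197)) (.node 29299 (.leaf 0x2e197) (.node 29300 (.leaf 0x2e197) (.leaf 0x2e197))))))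

def candS_1448 : Store := (.node 29311 (.node 29306 (.node 29303 (.node 29302 (.leaf 0x2e197) (.leaf 0x2e197)) (.node 29304 (.leaf 0x2e197) (.node 29305 (.leaf 0x2e197) (.leaf 0x2e197)))) (.node 29308 (.node 29307 (.leaf 0x2e197) (.leaf 0x2e197)) (.node 29309 (.leaf 0x2e197) (.node 29310 (.leaf 0x2e197) (.leaf 0x2e197))))) (.node 29316 (.node 29313 (.node 29312 (.leaf 0x2e197) (.leaf 0x2e197)) (.node 29314 (.leaf 0x2e197) (.node 29315 (.leaf 0x2e197) (.leaf 0x2e197)))) (.node 29319 (.node 29317 (.leaf 0x2e197) (.node 29318 (.leaf 0x2e197) (.leaf 0x2e197))) (.node 29320 (.leaf 0x2e197) (.node 29321 (.leaf 0x2e197) (.leaf 0x2e197))))))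

def candS_1449 : Store := (.node 29332 (.node 29327 (.node 29324 (.node 29323 (.leaf 0x2e197) (.leaf 0x2e197)) (.node 29325 (.leaf 0x2e197) (.node 29326 (.leaf 0x2e197) (.leaf 0x2e197)))) (.node 29329 (.node 29328 (.leaf 0x2e197) (.leaf 0x2e197)) (.node 29330 (.leaf 0x2e197) (.node 29331 (.leaf 0x2e197) (.leaf 0x2e197))))) (.node 29337 (.node 29334 (.node 29333 (.leaf 0x2e197) (.leaf 0x2e197)) (.node 29335 (.leaf 0x2e197) (.node 29336 (.leaf 0x2e197) (.leaf 0x2e197)))) (.node 29339 (.node 29338 (.leaf 0x2e197) (.leaf 0x2e197)) (.node 29340 (.leaf 0x2e197) (.node 29341 (.leaf 0x2e197) (.leaf 0x2e197))))))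

def candS_1450 : Store := (.node 29352 (.node 29347 (.node 29344 (.node 29343 (.leaf 0x2e197) (.leaf 0x2e197)) (.node 29345 (.leaf 0x2e197) (.node 29346 (.leaf 0x2e197) (.leaf 0x2e197)))) (.node 29349 (.node 29348 (.leaf 0x2e197) (.leaf 0x2e197)) (.node 29350 (.leaf 0x2e197) (.node 29351 (.leaf 0x2e197) (.leaf 0x2e197))))) (.node 29357 (.node 29354 (.node 29353 (.leaf 0x2e197) (.leaf 0x2e197)) (.node 29355 (.leaf 0x2e197) (.node 29356 (.leaf 0x2e197) (.leaf 0x2e197)))) (.node 29359 (.node 29358 (.leaf 0x2e197) (.leaf 0x2e197)) (.node 29360 (.leaf 0x2e197) (.node 29361 (.leaf 0x2e197) (.leaf 0x2e197))))))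

def candS_1451 : Store := (.node 29372 (.node 29367 (.node 29364 (.node 29363 (.leaf 0x2e197) (.leaf 0x2e197)) (.node 29365 (.leaf 0x2e197) (.node 29366 (.leaf 0x2e197) (.leaf 0x2e197)))) (.node 29369 (.node 29368 (.leaf 0x2e197) (.leaf 0x2e197)) (.node 29370 (.leaf 0x2e197) (.node 29371 (.leaf 0x2e197) (.leaf 0x2e197))))) (.node 29377 (.node 29374 (.node 29373 (.leaf 0x2e197) (.leaf 0x2e197)) (.node 29375 (.leaf 0x2e197) (.node 29376 (.leaf 0x2e197) (.leaf 0x35cfb)))) (.node 29379 (.node 29378 (.leaf 0x35cfb) (.leaf 0x35cfb)) (.node 29380 (.leaf 0x35cfb) (.node 29381 (.leaf 0x35cfb) (.leaf 0x35cfb))))))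

def candS_1452 : Store := (.node 29392 (.node 29387 (.node 29384 (.node 29383 (.leaf 0x35cfb) (.leaf 0x35cfb)) (.node 29385 (.leaf 0x35cfb) (.node 29386 (.leaf 0x35cfb) (.leaf 0x35cfb)))) (.node 29389 (.node 29388 (.leaf 0x35cfb) (.leaf 0x35cfb)) (.node 29390 (.leaf 0x35cfb) (.node 29391 (.leaf 0x35cfb) (.leaf 0x35cfb))))) (.node 29397 (.node 29394 (.node 29393 (.leaf 0x35cfb) (.leaf 0x35cfb)) (.node 29395 (.leaf 0x35cfb) (.node 29396 (.leaf 0x35cfb) (.leaf 0x35cfb)))) (.node 29400 (.node 29398 (.leaf 0x35cfb) (.node 29399 (.leaf 0x35cfb) (.leaf 0x35cfb))) (.node 29401 (.leaf 0x35cfb) (.node 29402 (.leaf 0x35cfb) (.leaf 0x35cfb))))))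

def candS_1453 : Store := (.node 29413 (.node 29408 (.node 29405 (.node 29404 (.leaf 0x35cfb) (.leaf 0x35cfb)) (.node 29406 (.leaf 0x35cfb) (.node 29407 (.leaf 0x35cfb) (.leaf 0x35cfb)))) (.node 29410 (.node 29409 (.leaf 0x35cfb) (.leaf 0x35cfb)) (.node 29411 (.leaf 0x35cfb) (.node 29412 (.leaf 0x35cfb) (.leaf 0x35cfb))))) (.node 29418 (.node 29415 (.node 29414 (.leaf 0x35cfb) (.leaf 0x35cfb)) (.node 29416 (.leaf 0x35cfb) (.node 29417 (.leaf 0x35cfb) (.leaf 0x35cfb)))) (.node 29420 (.node 29419 (.leaf 0x35cfb) (.leaf 0x35cfb)) (.node 29421 (.leaf 0x35cfb) (.node 29422 (.leaf 0x35cfb) (.leaf 0x35cfb))))))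

def candS_1454 : Store := (.node 29433 (.node 29428 (.node 29425 (.node 29424 (.leaf 0x35cfb) (.leaf 0x35cfb)) (.node 29426 (.leaf 0x35cfb) (.node 29427 (.leaf 0x35cfb) (.leaf 0x35cfb)))) (.node 29430 (.node 29429 (.leaf 0x35cfb) (.leaf 0x35cfb)) (.node 29431 (.leaf 0x35cfb) (.node 29432 (.leaf 0x35cfb) (.leaf 0x35cfb))))) (.node 29438 (.node 29435 (.node 29434 (.leaf 0x35cfb) (.leaf 0x35cfb)) (.node 29436 (.leaf 0x35cfb) (.node 29437 (.leaf 0x35cfb) (.leaf 0x35cfb)))) (.node 29440 (.node 29439 (.leaf 0x35cfb) (.leaf 0x35cfb)) (.node 29441 (.leaf 0x35cfb) (.node 29442 (.leaf 0x35cfb) (.leaf 0x35cfb))))))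

def candS_1455 : Store := (.node 29453 (.node 29448 (.node 29445 (.node 29444 (.leaf 0x35cfb) (.leaf 0x35cfb)) (.node 29446 (.leaf 0x35cfb) (.node 29447 (.leaf 0x35cfb) (.leaf 0x35cfb)))) (.node 29450 (.node 29449 (.leaf 0x35cfb) (.leaf 0x35cfb)) (.node 29451 (.leaf 0x35cfb) (.node 29452 (.leaf 0x35cfb) (.leaf 0x35cfb))))) (.node 29458 (.node 29455 (.node 29454 (.leaf 0x35cfb) (.leaf 0x35cfb)) (.node 29456 (.leaf 0x35cfb) (.node 29457 (.leaf 0x35cfb) (.leaf 0x35cfb)))) (.node 29460 (.node 29459 (.leaf 0x35cfb) (.leaf 0x35cfb)) (.node 29461 (.leaf 0x35cfb) (.node 29462 (.leaf 0x35cfb) (.leaf 0x35cfb))))))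

def candS_1456 : Store := (.node 29473 (.node 29468 (.node 29465 (.node 29464 (.leaf 0x35cfb) (.leaf 0x35cfb)) (.node 29466 (.leaf 0x35cfb) (.node 29467 (.leaf 0x35cfb) (.leaf 0x35cfb)))) (.node 29470 (.node 29469 (.leaf 0x35cfb) (.leaf 0x35cfb)) (.node 29471 (.leaf 0x35cfb) (.node 29472 (.leaf 0x35cfb) (.leaf 0x35cfb))))) (.node 29478 (.node 29475 (.node 29474 (.leaf 0x35cfb) (.leaf 0x35cfb)) (.node 29476 (.leaf 0x35cfb) (.node 29477 (.leaf 0x35cfb) (.leaf 0x35cfb)))) (.node 29481 (.node 29479 (.leaf 0x35cfb) (.node 29480 (.leaf 0x35cfb) (.leaf 0x35cfb))) (.node 29482 (.leaf 0x35cfb) (.node 29483 (.leaf 0x35cfb) (.leaf 0x35cfb))))))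

def candS_1457 : Store := (.node 29494 (.node 29489 (.node 29486 (.node 29485 (.leaf 0x35cfb) (.leaf 0x35cfb)) (.node 29487 (.leaf 0x35cfb) (.node 29488 (.leaf 0x35cfb) (.leaf 0x35cfb)))) (.node 29491 (.node 29490 (.leaf 0x35cfb) (.leaf 0x35cfb)) (.node 29492 (.leaf 0x35cfb) (.node 29493 (.leaf 0x35cfb) (.leaf 0x35cfb))))) (.node 29499 (.node 29496 (.node 29495 (.leaf 0x35cfb) (.leaf 0x35cfb)) (.node 29497 (.leaf 0x35cfb) (.node 29498 (.leaf 0x35cfb) (.leaf 0x35cfb)))) (.node 29501 (.node 29500 (.leaf 0x35cfb) (.leaf 0x35cfb)) (.node 29502 (.leaf 0x35cfb) (.node 29503 (.leaf 0x35cfb) (.leaf 0x35cfb))))))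

def candS_1458 : Store := (.node 29514 (.node 29509 (.node 29506 (.node 29505 (.leaf 0x35cfb) (.leaf 0x35cfb)) (.node 29507 (.leaf 0x35cfb) (.node 29508 (.leaf 0x35cfb) (.leaf 0x35cfb)))) (.node 29511 (.node 29510 (.leaf 0x35cfb) (.leaf 0x35cfb)) (.node 29512 (.leaf 0x35cfb) (.node 29513 (.leaf 0x35cfb) (.leaf 0x35cfb))))) (.node 29519 (.node 29516 (.node 29515 (.leaf 0x35cfb) (.leaf 0x35cfb)) (.node 29517 (.leaf 0x35cfb) (.node 29518 (.leaf 0x35cfb) (.leaf 0x35cfb)))) (.node 29521 (.node 29520 (.leaf 0x35cfb) (.leaf 0x35cfb)) (.node 29522 (.leaf 0x35cfb) (.node 29523 (.leaf 0x35cfb) (.leaf 0x35cfb))))))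

def candS_1459 : Store := (.node 29534 (.node 29529 (.node 29526 (.node 29525 (.leaf 0x35cfb) (.leaf 0x35cfb)) (.node 29527 (.leaf 0x35cfb) (.node 29528 (.leaf 0x35cfb) (.leaf 0x35cfb)))) (.node 29531 (.node 29530 (.leaf 0x35cfb) (.leaf 0x35cfb)) (.node 29532 (.leaf 0x35cfb) (.node 29533 (.leaf 0x35cfb) (.leaf 0x35cfb))))) (.node 29539 (.node 29536 (.node 29535 (.leaf 0x35cfb) (.leaf 0x35cfb)) (.node 29537 (.leaf 0x35cfb) (.node 29538 (.leaf 0x35cfb) (.leaf 0x35cfb)))) (.node 29541 (.node 29540 (.leaf 0x35cfb) (.leaf 0x35cfb)) (.node 29542 (.leaf 0x35cfb) (.node 29543 (.leaf 0x35cfb) (.leaf 0x35cfb))))))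

def candS_1460 : Store := (.node 29554 (.node 29549 (.node 29546 (.node 29545 (.leaf 0x35cfb) (.leaf 0x35cfb)) (.node 29547 (.leaf 0x35cfb) (.node 29548 (.leaf 0x35cfb) (.leaf 0x35cfb)))) (.node 29551 (.node 29550 (.leaf 0x35cfb) (.leaf 0x35cfb)) (.node 29552 (.leaf 0x35cfb) (.node 29553 (.leaf 0x35cfb) (.leaf 0x35cfb))))) (.node 29559 (.node 29556 (.node 29555 (.leaf 0x35cfb) (.leaf 0x35cfb)) (.node 29557 (.leaf 0x35cfb) (.node 29558 (.leaf 0x35cfb) (.leaf 0x35cfb)))) (.node 29562 (.node 29560 (.leaf 0x35cfb) (.node 29561 (.leaf 0x35cfb) (.leaf 0x35cfb))) (.node 29563 (.leaf 0x35cfb) (.node 29564 (.leaf 0x35cfb) (.leaf 0x35cfb))))))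

def candS_1461 : Store := (.node 29575 (.node 29570 (.node 29567 (.node 29566 (.leaf 0x35cfb) (.leaf 0x35cfb)) (.node 29568 (.leaf 0x35cfb) (.node 29569 (.leaf 0x35cfb) (.leaf 0x35cfb)))) (.node 29572 (.node 29571 (.leaf 0x35cfb) (.leaf 0x35cfb)) (.node 29573 (.leaf 0x35cfb) (.node 29574 (.leaf 0x35cfb) (.leaf 0x35cfb))))) (.node 29580 (.node 29577 (.node 29576 (.leaf 0x35cfb) (.leaf 0x35cfb)) (.node 29578 (.leaf 0x35cfb) (.node 29579 (.leaf 0x35cfb) (.leaf 0x35cfb)))) (.node 29582 (.node 29581 (.leaf 0x35cfb) (.leaf 0x35cfb)) (.node 29583 (.leaf 0x35cfb) (.node 29584 (.leaf 0x35cfb) (.leaf 0x35cfb))))))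

def candS_1462 : Store := (.node 29595 (.node 29590 (.node 29587 (.node 29586 (.leaf 0x35cfb) (.leaf 0x35cfb)) (.node 29588 (.leaf 0x35cfb) (.node 29589 (.leaf 0x35cfb) (.leaf 0x35cfb)))) (.node 29592 (.node 29591 (.leaf 0x35cfb) (.leaf 0x35cfb)) (.node 29593 (.leaf 0x35cfb) (.node 29594 (.leaf 0x35cfb) (.leaf 0x35cfb))))) (.node 29600 (.node 29597 (.node 29596 (.leaf 0x35cfb) (.leaf 0x35cfb)) (.node 29598 (.leaf 0x35cfb) (.node 29599 (.leaf 0x35cfb) (.leaf 0x35cfb)))) (.node 29602 (.node 29601 (.leaf 0x35cfb) (.leaf 0x35cfb)) (.node 29603 (.leaf 0x35cfb) (.node 29604 (.leaf 0x35cfb) (.leaf 0x35cfb))))))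

def candS_1463 : Store := (.node 29615 (.node 29610 (.node 29607 (.node 29606 (.leaf 0x35cfb) (.leaf 0x35cfb)) (.node 29608 (.leaf 0x35cfb) (.node 29609 (.leaf 0x35cfb) (.leaf 0x35cfb)))) (.node 29612 (.node 29611 (.leaf 0x35cfb) (.leaf 0x35cfb)) (.node 29613 (.leaf 0x35cfb) (.node 29614 (.leaf 0x35cfb) (.leaf 0x35cfb))))) (.node 29620 (.node 29617 (.node 29616 (.leaf 0x35cfb) (.leaf 0x35cfb)) (.node 29618 (.leaf 0x35cfb) (.node 29619 (.leaf 0x35cfb) (.leaf 0x35cfb)))) (.node 29622 (.node 29621 (.leaf 0x35cfb) (.leaf 0x35cfb)) (.node 29623 (.leaf 0x35cfb) (.node 29624 (.leaf 0x35cfb) (.leaf 0x35cfb))))))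

def candS_1464 : Store := (.node 29635 (.node 29630 (.node 29627 (.node 29626 (.leaf 0x35cfb) (.leaf 0x35cfb)) (.node 29628 (.leaf 0x35cfb) (.node 29629 (.leaf 0x35cfb) (.leaf 0x35cfb)))) (.node 29632 (.node 29631 (.leaf 0x35cfb) (.leaf 0x35cfb)) (.node 29633 (.leaf 0x35cfb) (.node 29634 (.leaf 0x35cfb) (.leaf 0x35cfb))))) (.node 29640 (.node 29637 (.node 29636 (.leaf 0x35cfb) (.leaf 0x35cfb)) (.node 29638 (.leaf 0x35cfb) (.node 29639 (.leaf 0x35cfb) (.leaf 0x35cfb)))) (.node 29643 (.node 29641 (.leaf 0x35cfb) (.node 29642 (.leaf 0x35cfb) (.leaf 0x35cfb))) (.node 29644 (.leaf 0x35cfb) (.node 29645 (.leaf 0x35cfb) (.leaf 0x35cfb))))))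

def candS_1465 : Store := (.node 29656 (.node 29651 (.node 29648 (.node 29647 (.leaf 0x35cfb) (.leaf 0x35cfb)) (.node 29649 (.leaf 0x35cfb) (.node 29650 (.leaf 0x35cfb) (.leaf 0x35cfb)))) (.node 29653 (.node 29652 (.leaf 0x35cfb) (.leaf 0x35cfb)) (.node 29654 (.leaf 0x35cfb) (.node 29655 (.leaf 0x35cfb) (.leaf 0x35cfb))))) (.node 29661 (.node 29658 (.node 29657 (.leaf 0x35cfb) (.leaf 0x35cfb)) (.node 29659 (.leaf 0x35cfb) (.node 29660 (.leaf 0x35cfb) (.leaf 0x35cfb)))) (.node 29663 (.node 29662 (.leaf 0x35cfb) (.leaf 0x35cfb)) (.node 29664 (.leaf 0x35cfb) (.node 29665 (.leaf 0x35cfb) (.leaf 0x35cfb))))))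

def candS_1466 : Store := (.node 29676 (.node 29671 (.node 29668 (.node 29667 (.leaf 0x35cfb) (.leaf 0x35cfb)) (.node 29669 (.leaf 0x35cfb) (.node 29670 (.leaf 0x35cfb) (.leaf 0x35cfb)))) (.node 29673 (.node 29672 (.leaf 0x35cfb) (.leaf 0x35cfb)) (.node 29674 (.leaf 0x35cfb) (.node 29675 (.leaf 0x35cfb) (.leaf 0x35cfb))))) (.node 29681 (.node 29678 (.node 29677 (.leaf 0x35cfb) (.leaf 0x35cfb)) (.node 29679 (.leaf 0x35cfb) (.node 29680 (.leaf 0x35cfb) (.leaf 0x35cfb)))) (.node 29683 (.node 29682 (.leaf 0x35cfb) (.leaf 0x35cfb)) (.node 29684 (.leaf 0x35cfb) (.node 29685 (.leaf 0x35cfb) (.leaf 0x35cfb))))))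

def candS_1467 : Store := (.node 29696 (.node 29691 (.node 29688 (.node 29687 (.leaf 0x35cfb) (.leaf 0x35cfb)) (.node 29689 (.leaf 0x35cfb) (.node 29690 (.leaf 0x35cfb) (.leaf 0x35cfb)))) (.node 29693 (.node 29692 (.leaf 0x35cfb) (.leaf 0x35cfb)) (.node 29694 (.leaf 0x35cfb) (.node 29695 (.leaf 0x35cfb) (.leaf 0x35cfb))))) (.node 29701 (.node 29698 (.node 29697 (.leaf 0x35cfb) (.leaf 0x35cfb)) (.node 29699 (.leaf 0x35cfb) (.node 29700 (.leaf 0x35cfb) (.leaf 0x35cfb)))) (.node 29703 (.node 29702 (.leaf 0x35cfb) (.leaf 0x35cfb)) (.node 29704 (.leaf 0x35cfb) (.node 29705 (.leaf 0x35cfb) (.leaf 0x35cfb))))))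

def candS_1468 : Store := (.node 29716 (.node 29711 (.node 29708 (.node 29707 (.leaf 0x35cfb) (.leaf 0x35cfb)) (.node 29709 (.leaf 0x35cfb) (.node 29710 (.leaf 0x35cfb) (.leaf 0x35cfb)))) (.node 29713 (.node 29712 (.leaf 0x35cfb) (.leaf 0x35cfb)) (.node 29714 (.leaf 0x35cfb) (.node 29715 (.leaf 0x35cfb) (.leaf 0x35cfb))))) (.node 29721 (.node 29718 (.node 29717 (.leaf 0x35cfb) (.leaf 0x35cfb)) (.node 29719 (.leaf 0x35cfb) (.node 29720 (.leaf 0x35cfb) (.leaf 0x35cfb)))) (.node 29724 (.node 29722 (.leaf 0x35cfb) (.node 29723 (.leaf 0x35cfb) (.leaf 0x35cfb))) (.node 29725 (.leaf 0x35cfb) (.node 29726 (.leaf 0x35cfb) (.leaf 0x35cfb))))))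

def candS_1469 : Store := (.node 29737 (.node 29732 (.node 29729 (.node 29728 (.leaf 0x35cfb) (.leaf 0x35cfb)) (.node 29730 (.leaf 0x35cfb) (.node 29731 (.leaf 0x35cfb) (.leaf 0x35cfb)))) (.node 29734 (.node 29733 (.leaf 0x35cfb) (.leaf 0x35cfb)) (.node 29735 (.leaf 0x35cfb) (.node 29736 (.leaf 0x35cfb) (.leaf 0x35cfb))))) (.node 29742 (.node 29739 (.node 29738 (.leaf 0x35cfb) (.leaf 0x35cfb)) (.node 29740 (.leaf 0x35cfb) (.node 29741 (.leaf 0x35cfb) (.leaf 0x35cfb)))) (.node 29744 (.node 29743 (.leaf 0x35cfb) (.leaf 0x35cfb)) (.node 29745 (.leaf 0x35cfb) (.node 29746 (.leaf 0x35cfb) (.leaf 0x35cfb))))))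

def candS_1470 : Store := (.node 29757 (.node 29752 (.node 29749 (.node 29748 (.leaf 0x35cfb) (.leaf 0x35cfb)) (.node 29750 (.leaf 0x35cfb) (.node 29751 (.leaf 0x35cfb) (.leaf 0x35cfb)))) (.node 29754 (.node 29753 (.leaf 0x35cfb) (.leaf 0x35cfb)) (.node 29755 (.leaf 0x35cfb) (.node 29756 (.leaf 0x35cfb) (.leaf 0x35cfb))))) (.node 29762 (.node 29759 (.node 29758 (.leaf 0x35cfb) (.leaf 0x35cfb)) (.node 29760 (.leaf 0x35cfb) (.node 29761 (.leaf 0x35cfb) (.leaf 0x35cfb)))) (.node 29764 (.node 29763 (.leaf 0x35cfb) (.leaf 0x35cfb)) (.node 29765 (.leaf 0x35cfb) (.node 29766 (.leaf 0x35cfb) (.leaf 0x35cfb))))))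

def candS_1471 : Store := (.node 29777 (.node 29772 (.node 29769 (.node 29768 (.leaf 0x35cfb) (.leaf 0x35cfb)) (.node 29770 (.leaf 0x35cfb) (.node 29771 (.leaf 0x35cfb) (.leaf 0x35cfb)))) (.node 29774 (.node 29773 (.leaf 0x35cfb) (.leaf 0x35cfb)) (.node 29775 (.leaf 0x35cfb) (.node 29776 (.leaf 0x35cfb) (.leaf 0x35cfb))))) (.node 29782 (.node 29779 (.node 29778 (.leaf 0x35cfb) (.leaf 0x35cfb)) (.node 29780 (.leaf 0x35cfb) (.node 29781 (.leaf 0x35cfb) (.leaf 0x35cfb)))) (.node 29784 (.node 29783 (.leaf 0x35cfb) (.leaf 0x35cfb)) (.node 29785 (.leaf 0x35cfb) (.node 29786 (.leaf 0x35cfb) (.leaf 0x35cfb))))))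

def candS_1472 : Store := (.node 29797 (.node 29792 (.node 29789 (.node 29788 (.leaf 0x35cfb) (.leaf 0x35cfb)) (.node 29790 (.leaf 0x35cfb) (.node 29791 (.leaf 0x35cfb) (.leaf 0x35cfb)))) (.node 29794 (.node 29793 (.leaf 0x35cfb) (.leaf 0x35cfb)) (.node 29795 (.leaf 0x35cfb) (.node 29796 (.leaf 0x35cfb) (.leaf 0x35cfb))))) (.node 29802 (.node 29799 (.node 29798 (.leaf 0x35cfb) (.leaf 0x35cfb)) (.node 29800 (.leaf 0x35cfb) (.node 29801 (.leaf 0x35cfb) (.leaf 0x35cfb)))) (.node 29805 (.node 29803 (.leaf 0x35cfb) (.node 29804 (.leaf 0x35cfb) (.leaf 0x35cfb))) (.node 29806 (.leaf 0x35cfb) (.node 29807 (.leaf 0x35cfb) (.leaf 0x35cfb))))))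

def candS_1473 : Store := (.node 29818 (.node 29813 (.node 29810 (.node 29809 (.leaf 0x35cfb) (.leaf 0x35cfb)) (.node 29811 (.leaf 0x35cfb) (.node 29812 (.leaf 0x35cfb) (.leaf 0x35cfb)))) (.node 29815 (.node 29814 (.leaf 0x35cfb) (.leaf 0x35cfb)) (.node 29816 (.leaf 0x35cfb) (.node 29817 (.leaf 0x35cfb) (.leaf 0x35cfb))))) (.node 29823 (.node 29820 (.node 29819 (.leaf 0x35cfb) (.leaf 0x35cfb)) (.node 29821 (.leaf 0x35cfb) (.node 29822 (.leaf 0x35cfb) (.leaf 0x35cfb)))) (.node 29825 (.node 29824 (.leaf 0x35cfb) (.leaf 0x35cfb)) (.node 29826 (.leaf 0x35cfb) (.node 29827 (.leaf 0x35cfb) (.leaf 0x35cfb))))))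

def candS_1474 : Store := (.node 29838 (.node 29833 (.node 29830 (.node 29829 (.leaf 0x35cfb) (.leaf 0x35cfb)) (.node 29831 (.leaf 0x35cfb) (.node 29832 (.leaf 0x35cfb) (.leaf 0x35cfb)))) (.node 29835 (.node 29834 (.leaf 0x35cfb) (.leaf 0x35cfb)) (.node 29836 (.leaf 0x35cfb) (.node 29837 (.leaf 0x35cfb) (.leaf 0x35cfb))))) (.node 29843 (.node 29840 (.node 29839 (.leaf 0x35cfb) (.leaf 0x35cfb)) (.node 29841 (.leaf 0x35cfb) (.node 29842 (.leaf 0x35cfb) (.leaf 0x35cfb)))) (.node 29845 (.node 29844 (.leaf 0x35cfb) (.leaf 0x35cfb)) (.node 29846 (.leaf 0x35cfb) (.node 29847 (.leaf 0x35cfb) (.leaf 0x35cfb))))))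

def candS_1475 : Store := (.node 29858 (.node 29853 (.node 29850 (.node 29849 (.leaf 0x35cfb) (.leaf 0x35cfb)) (.node 29851 (.leaf 0x35cfb) (.node 29852 (.leaf 0x35cfb) (.leaf 0x35cfb)))) (.node 29855 (.node 29854 (.leaf 0x35cfb) (.leaf 0x35cfb)) (.node 29856 (.leaf 0x35cfb) (.node 29857 (.leaf 0x35cfb) (.leaf 0x35cfb))))) (.node 29863 (.node 29860 (.node 29859 (.leaf 0x35cfb) (.leaf 0x35cfb)) (.node 29861 (.leaf 0x35cfb) (.node 29862 (.leaf 0x35cfb) (.leaf 0x35cfb)))) (.node 29865 (.node 29864 (.leaf 0x35cfb) (.leaf 0x35cfb)) (.node 29866 (.leaf 0x35cfb) (.node 29867 (.leaf 0x35cfb) (.leaf 0x35cfb))))))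

def candS_1476 : Store := (.node 29878 (.node 29873 (.node 29870 (.node 29869 (.leaf 0x35cfb) (.leaf 0x35cfb)) (.node 29871 (.leaf 0x35cfb) (.node 29872 (.leaf 0x35cfb) (.leaf 0x35cfb)))) (.node 29875 (.node 29874 (.leaf 0x35cfb) (.leaf 0x35cfb)) (.node 29876 (.leaf 0x35cfb) (.node 29877 (.leaf 0x35cfb) (.leaf 0x35cfb))))) (.node 29883 (.node 29880 (.node 29879 (.leaf 0x35cfb) (.leaf 0x35cfb)) (.node 29881 (.leaf 0x35cfb) (.node 29882 (.leaf 0x35cfb) (.leaf 0x35cfb)))) (.node 29886 (.node 29884 (.leaf 0x35cfb) (.node 29885 (.leaf 0x35cfb) (.leaf 0x35cfb))) (.node 29887 (.leaf 0x35cfb) (.node 29888 (.leaf 0x35cfb) (.leaf 0x35cfb))))))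

def candS_1477 : Store := (.node 29899 (.node 29894 (.node 29891 (.node 29890 (.leaf 0x35cfb) (.leaf 0x35cfb)) (.node 29892 (.leaf 0x35cfb) (.node 29893 (.leaf 0x35cfb) (.leaf 0x35cfb)))) (.node 29896 (.node 29895 (.leaf 0x35cfb) (.leaf 0x35cfb)) (.node 29897 (.leaf 0x35cfb) (.node 29898 (.leaf 0x35cfb) (.leaf 0x35cfb))))) (.node 29904 (.node 29901 (.node 29900 (.leaf 0x35cfb) (.leaf 0x35cfb)) (.node 29902 (.leaf 0x35cfb) (.node 29903 (.leaf 0x35cfb) (.leaf 0x35cfb)))) (.node 29906 (.node 29905 (.leaf 0x35cfb) (.leaf 0x35cfb)) (.node 29907 (.leaf 0x35cfb) (.node 29908 (.leaf 0x35cfb) (.leaf 0x35cfb))))))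

def candS_1478 : Store := (.node 29919 (.node 29914 (.node 29911 (.node 29910 (.leaf 0x35cfb) (.leaf 0x35cfb)) (.node 29912 (.leaf 0x35cfb) (.node 29913 (.leaf 0x35cfb) (.leaf 0x35cfb)))) (.node 29916 (.node 29915 (.leaf 0x35cfb) (.leaf 0x35cfb)) (.node 29917 (.leaf 0x35cfb) (.node 29918 (.leaf 0x35cfb) (.leaf 0x35cfb))))) (.node 29924 (.node 29921 (.node 29920 (.leaf 0x35cfb) (.leaf 0x35cfb)) (.node 29922 (.leaf 0x35cfb) (.node 29923 (.leaf 0x35cfb) (.leaf 0x35cfb)))) (.node 29926 (.node 29925 (.leaf 0x35cfb) (.leaf 0x35cfb)) (.node 29927 (.leaf 0x35cfb) (.node 29928 (.leaf 0x35cfb) (.leaf 0x35cfb))))))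

def candS_1479 : Store := (.node 29939 (.node 29934 (.node 29931 (.node 29930 (.leaf 0x35cfb) (.leaf 0x35cfb)) (.node 29932 (.leaf 0x35cfb) (.node 29933 (.leaf 0x35cfb) (.leaf 0x35cfb)))) (.node 29936 (.node 29935 (.leaf 0x35cfb) (.leaf 0x35cfb)) (.node 29937 (.leaf 0x35cfb) (.node 29938 (.leaf 0x35cfb) (.leaf 0x35cfb))))) (.node 29944 (.node 29941 (.node 29940 (.leaf 0x35cfb) (.leaf 0x35cfb)) (.node 29942 (.leaf 0x35cfb) (.node 29943 (.leaf 0x35cfb) (.leaf 0x35cfb)))) (.node 29946 (.node 29945 (.leaf 0x35cfb) (.leaf 0x35cfb)) (.node 29947 (.leaf 0x35cfb) (.node 29948 (.leaf 0x35cfb) (.leaf 0x35cfb))))))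

def candS_1480 : Store := (.node 29959 (.node 29954 (.node 29951 (.node 29950 (.leaf 0x35cfb) (.leaf 0x35cfb)) (.node 29952 (.leaf 0x35cfb) (.node 29953 (.leaf 0x35cfb) (.leaf 0x35cfb)))) (.node 29956 (.node 29955 (.leaf 0x35cfb) (.leaf 0x35cfb)) (.node 29957 (.leaf 0x35cfb) (.node 29958 (.leaf 0x35cfb) (.leaf 0x35cfb))))) (.node 29964 (.node 29961 (.node 29960 (.leaf 0x35cfb) (.leaf 0x35cfb)) (.node 29962 (.leaf 0x35cfb) (.node 29963 (.leaf 0x35cfb) (.leaf 0x35cfb)))) (.node 29967 (.node 29965 (.leaf 0x35cfb) (.node 29966 (.leaf 0x35cfb) (.leaf 0x35cfb))) (.node 29968 (.leaf 0x35cfb) (.node 29969 (.leaf 0x35cfb) (.leaf 0x35cfb))))))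

def candS_1481 : Store := (.node 29980 (.node 29975 (.node 29972 (.node 29971 (.leaf 0x35cfb) (.leaf 0x35cfb)) (.node 29973 (.leaf 0x35cfb) (.node 29974 (.leaf 0x35cfb) (.leaf 0x35cfb)))) (.node 29977 (.node 29976 (.leaf 0x35cfb) (.leaf 0x35cfb)) (.node 29978 (.leaf 0x35cfb) (.node 29979 (.leaf 0x35cfb) (.leaf 0x35cfb))))) (.node 29985 (.node 29982 (.node 29981 (.leaf 0x35cfb) (.leaf 0x35cfb)) (.node 29983 (.leaf 0x35cfb) (.node 29984 (.leaf 0x35cfb) (.leaf 0x35cfb)))) (.node 29987 (.node 29986 (.leaf 0x35cfb) (.leaf 0x35cfb)) (.node 29988 (.leaf 0x35cfb) (.node 29989 (.leaf 0x35cfb) (.leaf 0x35cfb))))))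

def candS_1482 : Store := (.node 30000 (.node 29995 (.node 29992 (.node 29991 (.leaf 0x35cfb) (.leaf 0x35cfb)) (.node 29993 (.leaf 0x35cfb) (.node 29994 (.leaf 0x35cfb) (.leaf 0x35cfb)))) (.node 29997 (.node 29996 (.leaf 0x35cfb) (.leaf 0x35cfb)) (.node 29998 (.leaf 0x35cfb) (.node 29999 (.leaf 0x35cfb) (.leaf 0x35cfb))))) (.node 30005 (.node 30002 (.node 30001 (.leaf 0x35cfb) (.leaf 0x35cfb)) (.node 30003 (.leaf 0x35cfb) (.node 30004 (.leaf 0x35cfb) (.leaf 0x35cfb)))) (.node 30007 (.node 30006 (.leaf 0x35cfb) (.leaf 0x35cfb)) (.node 30008 (.leaf 0x35cfb) (.node 30009 (.leaf 0x35cfb) (.leaf 0x35cfb))))))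

def candS_1483 : Store := (.node 30020 (.node 30015 (.node 30012 (.node 30011 (.leaf 0x35cfb) (.leaf 0x35cfb)) (.node 30013 (.leaf 0x35cfb) (.node 30014 (.leaf 0x35cfb) (.leaf 0x35cfb)))) (.node 30017 (.node 30016 (.leaf 0x35cfb) (.leaf 0x35cfb)) (.node 30018 (.leaf 0x35cfb) (.node 30019 (.leaf 0x35cfb) (.leaf 0x35cfb))))) (.node 30025 (.node 30022 (.node 30021 (.leaf 0x35cfb) (.leaf 0x35cfb)) (.node 30023 (.leaf 0x35cfb) (.node 30024 (.leaf 0x35cfb) (.leaf 0x35cfb)))) (.node 30027 (.node 30026 (.leaf 0x35cfb) (.leaf 0x35cfb)) (.node 30028 (.leaf 0x35cfb) (.node 30029 (.leaf 0x35cfb) (.leaf 0x35cfb))))))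

def candS_1484 : Store := (.node 30040 (.node 30035 (.node 30032 (.node 30031 (.leaf 0x35cfb) (.leaf 0x35cfb)) (.node 30033 (.leaf 0x35cfb) (.node 30034 (.leaf 0x35cfb) (.leaf 0x35cfb)))) (.node 30037 (.node 30036 (.leaf 0x35cfb) (.leaf 0x35cfb)) (.node 30038 (.leaf 0x35cfb) (.node 30039 (.leaf 0x35cfb) (.leaf 0x35cfb))))) (.node 30045 (.node 30042 (.node 30041 (.leaf 0x35cfb) (.leaf 0x35cfb)) (.node 30043 (.leaf 0x35cfb) (.node 30044 (.leaf 0x35cfb) (.leaf 0x35cfb)))) (.node 30048 (.node 30046 (.leaf 0x35cfb) (.node 30047 (.leaf 0x35cfb) (.leaf 0x35cfb))) (.node 30049 (.leaf 0x35cfb) (.node 30050 (.leaf 0x35cfb) (.leaf 0x35cfb))))))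

def candS_1485 : Store := (.node 30061 (.node 30056 (.node 30053 (.node 30052 (.leaf 0x35cfb) (.leaf 0x35cfb)) (.node 30054 (.leaf 0x35cfb) (.node 30055 (.leaf 0x35cfb) (.leaf 0x35cfb)))) (.node 30058 (.node 30057 (.leaf 0x35cfb) (.leaf 0x35cfb)) (.node 30059 (.leaf 0x35cfb) (.node 30060 (.leaf 0x35cfb) (.leaf 0x35cfb))))) (.node 30066 (.node 30063 (.node 30062 (.leaf 0x35cfb) (.leaf 0x35cfb)) (.node 30064 (.leaf 0x35cfb) (.node 30065 (.leaf 0x35cfb) (.leaf 0x35cfb)))) (.node 30068 (.node 30067 (.leaf 0x35cfb) (.leaf 0x35cfb)) (.node 30069 (.leaf 0x35cfb) (.node 30070 (.leaf 0x35cfb) (.leaf 0x35cfb))))))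

def candS_1486 : Store := (.node 30081 (.node 30076 (.node 30073 (.node 30072 (.leaf 0x35cfb) (.leaf 0x35cfb)) (.node 30074 (.leaf 0x35cfb) (.node 30075 (.leaf 0x35cfb) (.leaf 0x35cfb)))) (.node 30078 (.node 30077 (.leaf 0x35cfb) (.leaf 0x35cfb)) (.node 30079 (.leaf 0x35cfb) (.node 30080 (.leaf 0x35cfb) (.leaf 0x35cfb))))) (.node 30086 (.node 30083 (.node 30082 (.leaf 0x35cfb) (.leaf 0x35cfb)) (.node 30084 (.leaf 0x35cfb) (.node 30085 (.leaf 0x35cfb) (.leaf 0x35cfb)))) (.node 30088 (.node 30087 (.leaf 0x35cfb) (.leaf 0x35cfb)) (.node 30089 (.leaf 0x35cfb) (.node 30090 (.leaf 0x35cfb) (.leaf 0x35cfb))))))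

def candS_1487 : Store := (.node 30101 (.node 30096 (.node 30093 (.node 30092 (.leaf 0x35cfb) (.leaf 0x35cfb)) (.node 30094 (.leaf 0x35cfb) (.node 30095 (.leaf 0x35cfb) (.leaf 0x35cfb)))) (.node 30098 (.node 30097 (.leaf 0x35cfb) (.leaf 0x35cfb)) (.node 30099 (.leaf 0x35cfb) (.node 30100 (.leaf 0x35cfb) (.leaf 0x35cfb))))) (.node 30106 (.node 30103 (.node 30102 (.leaf 0x35cfb) (.leaf 0x35cfb)) (.node 30104 (.leaf 0x35cfb) (.node 30105 (.leaf 0x35cfb) (.leaf 0x35cfb)))) (.node 30108 (.node 30107 (.leaf 0x35cfb) (.leaf 0x35cfb)) (.node 30109 (.leaf 0x35cfb) (.node 30110 (.leaf 0x35cfb) (.leaf 0x35cfb))))))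

def candS_1488 : Store := (.node 30121 (.node 30116 (.node 30113 (.node 30112 (.leaf 0x35cfb) (.leaf 0x35cfb)) (.node 30114 (.leaf 0x35cfb) (.node 30115 (.leaf 0x35cfb) (.leaf 0x35cfb)))) (.node 30118 (.node 30117 (.leaf 0x35cfb) (.leaf 0x35cfb)) (.node 30119 (.leaf 0x35cfb) (.node 30120 (.leaf 0x35cfb) (.leaf 0x35cfb))))) (.node 30126 (.node 30123 (.node 30122 (.leaf 0x35cfb) (.leaf 0x35cfb)) (.node 30124 (.leaf 0x35cfb) (.node 30125 (.leaf 0x35cfb) (.leaf 0x35cfb)))) (.node 30129 (.node 30127 (.leaf 0x35cfb) (.node 30128 (.leaf 0x35cfb) (.leaf 0x35cfb))) (.node 30130 (.leaf 0x35cfb) (.node 30131 (.leaf 0x35cfb) (.leaf 0x35cfb))))))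

def candS_1489 : Store := (.node 30142 (.node 30137 (.node 30134 (.node 30133 (.leaf 0x35cfb) (.leaf 0x35cfb)) (.node 30135 (.leaf 0x35cfb) (.node 30136 (.leaf 0x35cfb) (.leaf 0x35cfb)))) (.node 30139 (.node 30138 (.leaf 0x35cfb) (.leaf 0x35cfb)) (.node 30140 (.leaf 0x35cfb) (.node 30141 (.leaf 0x35cfb) (.leaf 0x35cfb))))) (.node 30147 (.node 30144 (.node 30143 (.leaf 0x35cfb) (.leaf 0x35cfb)) (.node 30145 (.leaf 0x35cfb) (.node 30146 (.leaf 0x35cfb) (.leaf 0x35cfb)))) (.node 30149 (.node 30148 (.leaf 0x35cfb) (.leaf 0x35cfb)) (.node 30150 (.leaf 0x35cfb) (.node 30151 (.leaf 0x35cfb) (.leaf 0x35cfb))))))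

def candS_1490 : Store := (.node 30162 (.node 30157 (.node 30154 (.node 30153 (.leaf 0x35cfb) (.leaf 0x35cfb)) (.node 30155 (.leaf 0x35cfb) (.node 30156 (.leaf 0x35cfb) (.leaf 0x35cfb)))) (.node 30159 (.node 30158 (.leaf 0x35cfb) (.leaf 0x35cfb)) (.node 30160 (.leaf 0x35cfb) (.node 30161 (.leaf 0x35cfb) (.leaf 0x35cfb))))) (.node 30167 (.node 30164 (.node 30163 (.leaf 0x35cfb) (.leaf 0x35cfb)) (.node 30165 (.leaf 0x35cfb) (.node 30166 (.leaf 0x35cfb) (.leaf 0x35cfb)))) (.node 30169 (.node 30168 (.leaf 0x35cfb) (.leaf 0x35cfb)) (.node 30170 (.leaf 0x35cfb) (.node 30171 (.leaf 0x35cfb) (.leaf 0x35cfb))))))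

def candS_1491 : Store := (.node 30182 (.node 30177 (.node 30174 (.node 30173 (.leaf 0x35cfb) (.leaf 0x35cfb)) (.node 30175 (.leaf 0x35cfb) (.node 30176 (.leaf 0x35cfb) (.leaf 0x35cfb)))) (.node 30179 (.node 30178 (.leaf 0x35cfb) (.leaf 0x35cfb)) (.node 30180 (.leaf 0x35cfb) (.node 30181 (.leaf 0x35cfb) (.leaf 0x35cfb))))) (.node 30187 (.node 30184 (.node 30183 (.leaf 0x35cfb) (.leaf 0x35cfb)) (.node 30185 (.leaf 0x35cfb) (.node 30186 (.leaf 0x35cfb) (.leaf 0x35cfb)))) (.node 30189 (.node 30188 (.leaf 0x35cfb) (.leaf 0x35cfb)) (.node 30190 (.leaf 0x35cfb) (.node 30191 (.leaf 0x35cfb) (.leaf 0x35cfb))))))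

def candS_1492 : Store := (.node 30202 (.node 30197 (.node 30194 (.node 30193 (.leaf 0x35cfb) (.leaf 0x35cfb)) (.node 30195 (.leaf 0x35cfb) (.node 30196 (.leaf 0x35cfb) (.leaf 0x35cfb)))) (.node 30199 (.node 30198 (.leaf 0x35cfb) (.leaf 0x35cfb)) (.node 30200 (.leaf 0x35cfb) (.node 30201 (.leaf 0x35cfb) (.leaf 0x35cfb))))) (.node 30207 (.node 30204 (.node 30203 (.leaf 0x35cfb) (.leaf 0x35cfb)) (.node 30205 (.leaf 0x35cfb) (.node 30206 (.leaf 0x35cfb) (.leaf 0x35cfb)))) (.node 30210 (.node 30208 (.leaf 0x35cfb) (.node 30209 (.leaf 0x35cfb) (.leaf 0x35cfb))) (.node 30211 (.leaf 0x35cfb) (.node 30212 (.leaf 0x35cfb) (.leaf 0x35cfb))))))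

def candS_1493 : Store := (.node 30223 (.node 30218 (.node 30215 (.node 30214 (.leaf 0x35cfb) (.leaf 0x35cfb)) (.node 30216 (.leaf 0x35cfb) (.node 30217 (.leaf 0x35cfb) (.leaf 0x35cfb)))) (.node 30220 (.node 30219 (.leaf 0x35cfb) (.leaf 0x35cfb)) (.node 30221 (.leaf 0x35cfb) (.node 30222 (.leaf 0x35cfb) (.leaf 0x35cfb))))) (.node 30228 (.node 30225 (.node 30224 (.leaf 0x35cfb) (.leaf 0x35cfb)) (.node 30226 (.leaf 0x35cfb) (.node 30227 (.leaf 0x35cfb) (.leaf 0x35cfb)))) (.node 30230 (.node 30229 (.leaf 0x35cfb) (.leaf 0x35cfb)) (.node 30231 (.leaf 0x35cfb) (.node 30232 (.leaf 0x35cfb) (.leaf 0x35cfb))))))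

def candS_1494 : Store := (.node 30243 (.node 30238 (.node 30235 (.node 30234 (.leaf 0x35cfb) (.leaf 0x35cfb)) (.node 30236 (.leaf 0x35cfb) (.node 30237 (.leaf 0x35cfb) (.leaf 0x35cfb)))) (.node 30240 (.node 30239 (.leaf 0x35cfb) (.leaf 0x35cfb)) (.node 30241 (.leaf 0x35cfb) (.node 30242 (.leaf 0x35cfb) (.leaf 0x35cfb))))) (.node 30248 (.node 30245 (.node 30244 (.leaf 0x35cfb) (.leaf 0x35cfb)) (.node 30246 (.leaf 0x35cfb) (.node 30247 (.leaf 0x35cfb) (.leaf 0x35cfb)))) (.node 30250 (.node 30249 (.leaf 0x35cfb) (.leaf 0x35cfb)) (.node 30251 (.leaf 0x35cfb) (.node 30252 (.leaf 0x35cfb) (.leaf 0x35cfb))))))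

def candS_1495 : Store := (.node 30263 (.node 30258 (.node 30255 (.node 30254 (.leaf 0x35cfb) (.leaf 0x35cfb)) (.node 30256 (.leaf 0x35cfb) (.node 30257 (.leaf 0x35cfb) (.leaf 0x35cfb)))) (.node 30260 (.node 30259 (.leaf 0x35cfb) (.leaf 0x35cfb)) (.node 30261 (.leaf 0x35cfb) (.node 30262 (.leaf 0x35cfb) (.leaf 0x35cfb))))) (.node 30268 (.node 30265 (.node 30264 (.leaf 0x35cfb) (.leaf 0x35cfb)) (.node 30266 (.leaf 0x35cfb) (.node 30267 (.leaf 0x35cfb) (.leaf 0x35cfb)))) (.node 30270 (.node 30269 (.leaf 0x35cfb) (.leaf 0x35cfb)) (.node 30271 (.leaf 0x35cfb) (.node 30272 (.leaf 0x35cfb) (.leaf 0x35cfb))))))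

def candS_1496 : Store := (.node 30283 (.node 30278 (.node 30275 (.node 30274 (.leaf 0x35cfb) (.leaf 0x35cfb)) (.node 30276 (.leaf 0x35cfb) (.node 30277 (.leaf 0x35cfb) (.leaf 0x35cfb)))) (.node 30280 (.node 30279 (.leaf 0x35cfb) (.leaf 0x35cfb)) (.node 30281 (.leaf 0x35cfb) (.node 30282 (.leaf 0x35cfb) (.leaf 0x35cfb))))) (.node 30288 (.node 30285 (.node 30284 (.leaf 0x35cfb) (.leaf 0x35cfb)) (.node 30286 (.leaf 0x35cfb) (.node 30287 (.leaf 0x35cfb) (.leaf 0x35cfb)))) (.node 30291 (.node 30289 (.leaf 0x35cfb) (.node 30290 (.leaf 0x35cfb) (.leaf 0x35cfb))) (.node 30292 (.leaf 0x35cfb) (.node 30293 (.leaf 0x35cfb) (.leaf 0x35cfb))))))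

def candS_1497 : Store := (.node 30304 (.node 30299 (.node 30296 (.node 30295 (.leaf 0x35cfb) (.leaf 0x35cfb)) (.node 30297 (.leaf 0x35cfb) (.node 30298 (.leaf 0x35cfb) (.leaf 0x35cfb)))) (.node 30301 (.node 30300 (.leaf 0x35cfb) (.leaf 0x35cfb)) (.node 30302 (.leaf 0x35cfb) (.node 30303 (.leaf 0x35cfb) (.leaf 0x35cfb))))) (.node 30309 (.node 30306 (.node 30305 (.leaf 0x35cfb) (.leaf 0x35cfb)) (.node 30307 (.leaf 0x35cfb) (.node 30308 (.leaf 0x35cfb) (.leaf 0x35cfb)))) (.node 30311 (.node 30310 (.leaf 0x35cfb) (.leaf 0x35cfb)) (.node 30312 (.leaf 0x35cfb) (.node 30313 (.leaf 0x35cfb) (.leaf 0x35cfb))))))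

def candS_1498 : Store := (.node 30324 (.node 30319 (.node 30316 (.node 30315 (.leaf 0x35cfb) (.leaf 0x35cfb)) (.node 30317 (.leaf 0x35cfb) (.node 30318 (.leaf 0x35cfb) (.leaf 0x35cfb)))) (.node 30321 (.node 30320 (.leaf 0x35cfb) (.leaf 0x35cfb)) (.node 30322 (.leaf 0x35cfb) (.node 30323 (.leaf 0x35cfb) (.leaf 0x35cfb))))) (.node 30329 (.node 30326 (.node 30325 (.leaf 0x35cfb) (.leaf 0x35cfb)) (.node 30327 (.leaf 0x35cfb) (.node 30328 (.leaf 0x35cfb) (.leaf 0x35cfb)))) (.node 30331 (.node 30330 (.leaf 0x35cfb) (.leaf 0x35cfb)) (.node 30332 (.leaf 0x35cfb) (.node 30333 (.leaf 0x35cfb) (.leaf 0x35cfb))))))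

def candS_1499 : Store := (.node 30344 (.node 30339 (.node 30336 (.node 30335 (.leaf 0x35cfb) (.leaf 0x35cfb)) (.node 30337 (.leaf 0x35cfb) (.node 30338 (.leaf 0x35cfb) (.leaf 0x35cfb)))) (.node 30341 (.node 30340 (.leaf 0x35cfb) (.leaf 0x35cfb)) (.node 30342 (.leaf 0x35cfb) (.node 30343 (.leaf 0x35cfb) (.leaf 0x35cfb))))) (.node 30349 (.node 30346 (.node 30345 (.leaf 0x35cfb) (.leaf 0x35cfb)) (.node 30347 (.leaf 0x35cfb) (.node 30348 (.leaf 0x35cfb) (.leaf 0x35cfb)))) (.node 30351 (.node 30350 (.leaf 0x35cfb) (.leaf 0x35cfb)) (.node 30352 (.leaf 0x35cfb) (.node 30353 (.leaf 0x35cfb) (.leaf 0x35cfb))))))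

def candS_1500 : Store := (.node 30364 (.node 30359 (.node 30356 (.node 30355 (.leaf 0x35cfb) (.leaf 0x35cfb)) (.node 30357 (.leaf 0x35cfb) (.node 30358 (.leaf 0x35cfb) (.leaf 0x35cfb)))) (.node 30361 (.node 30360 (.leaf 0x35cfb) (.leaf 0x35cfb)) (.node 30362 (.leaf 0x35cfb) (.node 30363 (.leaf 0x35cfb) (.leaf 0x35cfb))))) (.node 30369 (.node 30366 (.node 30365 (.leaf 0x35cfb) (.leaf 0x35cfb)) (.node 30367 (.leaf 0x35cfb) (.node 30368 (.leaf 0x35cfb) (.leaf 0x35cfb)))) (.node 30372 (.node 30370 (.leaf 0x35cfb) (.node 30371 (.leaf 0x35cfb) (.leaf 0x35cfb))) (.node 30373 (.leaf 0x35cfb) (.node 30374 (.leaf 0x35cfb) (.leaf 0x35cfb))))))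

def candS_1501 : Store := (.node 30385 (.node 30380 (.node 30377 (.node 30376 (.leaf 0x35cfb) (.leaf 0x35cfb)) (.node 30378 (.leaf 0x35cfb) (.node 30379 (.leaf 0x35cfb) (.leaf 0x35cfb)))) (.node 30382 (.node 30381 (.leaf 0x35cfb) (.leaf 0x35cfb)) (.node 30383 (.leaf 0x35cfb) (.node 30384 (.leaf 0x35cfb) (.leaf 0x35cfb))))) (.node 30390 (.node 30387 (.node 30386 (.leaf 0x35cfb) (.leaf 0x35cfb)) (.node 30388 (.leaf 0x35cfb) (.node 30389 (.leaf 0x35cfb) (.leaf 0x35cfb)))) (.node 30392 (.node 30391 (.leaf 0x35cfb) (.leaf 0x35cfb)) (.node 30393 (.leaf 0x35cfb) (.node 30394 (.leaf 0x35cfb) (.leaf 0x35cfb))))))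

def candS_1502 : Store := (.node 30405 (.node 30400 (.node 30397 (.node 30396 (.leaf 0x35cfb) (.leaf 0x35cfb)) (.node 30398 (.leaf 0x35cfb) (.node 30399 (.leaf 0x35cfb) (.leaf 0x35cfb)))) (.node 30402 (.node 30401 (.leaf 0x35cfb) (.leaf 0x35cfb)) (.node 30403 (.leaf 0x35cfb) (.node 30404 (.leaf 0x35cfb) (.leaf 0x35cfb))))) (.node 30410 (.node 30407 (.node 30406 (.leaf 0x35cfb) (.leaf 0x35cfb)) (.node 30408 (.leaf 0x35cfb) (.node 30409 (.leaf 0x35cfb) (.leaf 0x35cfb)))) (.node 30412 (.node 30411 (.leaf 0x35cfb) (.leaf 0x35cfb)) (.node 30413 (.leaf 0x35cfb) (.node 30414 (.leaf 0x35cfb) (.leaf 0x35cfb))))))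

def candS_1503 : Store := (.node 30425 (.node 30420 (.node 30417 (.node 30416 (.leaf 0x35cfb) (.leaf 0x35cfb)) (.node 30418 (.leaf 0x35cfb) (.node 30419 (.leaf 0x35cfb) (.leaf 0x35cfb)))) (.node 30422 (.node 30421 (.leaf 0x35cfb) (.leaf 0x35cfb)) (.node 30423 (.leaf 0x35cfb) (.node 30424 (.leaf 0x35cfb) (.leaf 0x35cfb))))) (.node 30430 (.node 30427 (.node 30426 (.leaf 0x35cfb) (.leaf 0x35cfb)) (.node 30428 (.leaf 0x35cfb) (.node 30429 (.leaf 0x35cfb) (.leaf 0x35cfb)))) (.node 30432 (.node 30431 (.leaf 0x35cfb) (.leaf 0x35cfb)) (.node 30433 (.leaf 0x35cfb) (.node 30434 (.leaf 0x35cfb) (.leaf 0x35cfb))))))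

def candS_1504 : Store := (.node 30445 (.node 30440 (.node 30437 (.node 30436 (.leaf 0x35cfb) (.leaf 0x35cfb)) (.node 30438 (.leaf 0x35cfb) (.node 30439 (.leaf 0x35cfb) (.leaf 0x35cfb)))) (.node 30442 (.node 30441 (.leaf 0x35cfb) (.leaf 0x35cfb)) (.node 30443 (.leaf 0x35cfb) (.node 30444 (.leaf 0x35cfb) (.leaf 0x35cfb))))) (.node 30450 (.node 30447 (.node 30446 (.leaf 0x35cfb) (.leaf 0x35cfb)) (.node 30448 (.leaf 0x35cfb) (.node 30449 (.leaf 0x35cfb) (.leaf 0x35cfb)))) (.node 30453 (.node 30451 (.leaf 0x35cfb) (.node 30452 (.leaf 0x35cfb) (.leaf 0x35cfb))) (.node 30454 (.leaf 0x35cfb) (.node 30455 (.leaf 0x35cfb) (.leaf 0x35cfb))))))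

def candS_1505 : Store := (.node 30466 (.node 30461 (.node 30458 (.node 30457 (.leaf 0x35cfb) (.leaf 0x35cfb)) (.node 30459 (.leaf 0x35cfb) (.node 30460 (.leaf 0x35cfb) (.leaf 0x35cfb)))) (.node 30463 (.node 30462 (.leaf 0x35cfb) (.leaf 0x35cfb)) (.node 30464 (.leaf 0x35cfb) (.node 30465 (.leaf 0x35cfb) (.leaf 0x35cfb))))) (.node 30471 (.node 30468 (.node 30467 (.leaf 0x35cfb) (.leaf 0x35cfb)) (.node 30469 (.leaf 0x35cfb) (.node 30470 (.leaf 0x35cfb) (.leaf 0x35cfb)))) (.node 30473 (.node 30472 (.leaf 0x35cfb) (.leaf 0x35cfb)) (.node 30474 (.leaf 0x35cfb) (.node 30475 (.leaf 0x35cfb) (.leaf 0x35cfb))))))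

def candS_1506 : Store := (.node 30486 (.node 30481 (.node 30478 (.node 30477 (.leaf 0x35cfb) (.leaf 0x35cfb)) (.node 30479 (.leaf 0x35cfb) (.node 30480 (.leaf 0x35cfb) (.leaf 0x35cfb)))) (.node 30483 (.node 30482 (.leaf 0x35cfb) (.leaf 0x35cfb)) (.node 30484 (.leaf 0x35cfb) (.node 30485 (.leaf 0x35cfb) (.leaf 0x35cfb))))) (.node 30491 (.node 30488 (.node 30487 (.leaf 0x35cfb) (.leaf 0x35cfb)) (.node 30489 (.leaf 0x35cfb) (.node 30490 (.leaf 0x35cfb) (.leaf 0x35cfb)))) (.node 30493 (.node 30492 (.leaf 0x35cfb) (.leaf 0x35cfb)) (.node 30494 (.leaf 0x35cfb) (.node 30495 (.leaf 0x35cfb) (.leaf 0x35cfb))))))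

def candS_1507 : Store := (.node 30506 (.node 30501 (.node 30498 (.node 30497 (.leaf 0x35cfb) (.leaf 0x35cfb)) (.node 30499 (.leaf 0x35cfb) (.node 30500 (.leaf 0x35cfb) (.leaf 0x35cfb)))) (.node 30503 (.node 30502 (.leaf 0x35cfb) (.leaf 0x35cfb)) (.node 30504 (.leaf 0x35cfb) (.node 30505 (.leaf 0x35cfb) (.leaf 0x35cfb))))) (.node 30511 (.node 30508 (.node 30507 (.leaf 0x35cfb) (.leaf 0x35cfb)) (.node 30509 (.leaf 0x35cfb) (.node 30510 (.leaf 0x35cfb) (.leaf 0x35cfb)))) (.node 30513 (.node 30512 (.leaf 0x35cfb) (.leaf 0x35cfb)) (.node 30514 (.leaf 0x35cfb) (.node 30515 (.leaf 0x35cfb) (.leaf 0x35cfb))))))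

def candS_1508 : Store := (.node 30526 (.node 30521 (.node 30518 (.node 30517 (.leaf 0x35cfb) (.leaf 0x35cfb)) (.node 30519 (.leaf 0x35cfb) (.node 30520 (.leaf 0x35cfb) (.leaf 0x35cfb)))) (.node 30523 (.node 30522 (.leaf 0x35cfb) (.leaf 0x35cfb)) (.node 30524 (.leaf 0x35cfb) (.node 30525 (.leaf 0x35cfb) (.leaf 0x35cfb))))) (.node 30531 (.node 30528 (.node 30527 (.leaf 0x35cfb) (.leaf 0x35cfb)) (.node 30529 (.leaf 0x35cfb) (.node 30530 (.leaf 0x35cfb) (.leaf 0x35cfb)))) (.node 30534 (.node 30532 (.leaf 0x35cfb) (.node 30533 (.leaf 0x35cfb) (.leaf 0x35cfb))) (.node 30535 (.leaf 0x35cfb) (.node 30536 (.leaf 0x35cfb) (.leaf 0x35cfb))))))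

def candS_1509 : Store := (.node 30547 (.node 30542 (.node 30539 (.node 30538 (.leaf 0x35cfb) (.leaf 0x35cfb)) (.node 30540 (.leaf 0x35cfb) (.node 30541 (.leaf 0x35cfb) (.leaf 0x35cfb)))) (.node 30544 (.node 30543 (.leaf 0x35cfb) (.leaf 0x35cfb)) (.node 30545 (.leaf 0x35cfb) (.node 30546 (.leaf 0x35cfb) (.leaf 0x35cfb))))) (.node 30552 (.node 30549 (.node 30548 (.leaf 0x35cfb) (.leaf 0x35cfb)) (.node 30550 (.leaf 0x35cfb) (.node 30551 (.leaf 0x35cfb) (.leaf 0x35cfb)))) (.node 30554 (.node 30553 (.leaf 0x35cfb) (.leaf 0x35cfb)) (.node 30555 (.leaf 0x35cfb) (.node 30556 (.leaf 0x35cfb) (.leaf 0x35cfb))))))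

def candS_1510 : Store := (.node 30567 (.node 30562 (.node 30559 (.node 30558 (.leaf 0x35cfb) (.leaf 0x35cfb)) (.node 30560 (.leaf 0x35cfb) (.node 30561 (.leaf 0x35cfb) (.leaf 0x35cfb)))) (.node 30564 (.node 30563 (.leaf 0x35cfb) (.leaf 0x35cfb)) (.node 30565 (.leaf 0x35cfb) (.node 30566 (.leaf 0x35cfb) (.leaf 0x35cfb))))) (.node 30572 (.node 30569 (.node 30568 (.leaf 0x35cfb) (.leaf 0x35cfb)) (.node 30570 (.leaf 0x35cfb) (.node 30571 (.leaf 0x35cfb) (.leaf 0x35cfb)))) (.node 30574 (.node 30573 (.leaf 0x35cfb) (.leaf 0x35cfb)) (.node 30575 (.leaf 0x35cfb) (.node 30576 (.leaf 0x35cfb) (.leaf 0x35cfb))))))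

def candS_1511 : Store := (.node 30587 (.node 30582 (.node 30579 (.node 30578 (.leaf 0x35cfb) (.leaf 0x35cfb)) (.node 30580 (.leaf 0x35cfb) (.node 30581 (.leaf 0x35cfb) (.leaf 0x35cfb)))) (.node 30584 (.node 30583 (.leaf 0x35cfb) (.leaf 0x35cfb)) (.node 30585 (.leaf 0x35cfb) (.node 30586 (.leaf 0x35cfb) (.leaf 0x35cfb))))) (.node 30592 (.node 30589 (.node 30588 (.leaf 0x35cfb) (.leaf 0x35cfb)) (.node 30590 (.leaf 0x35cfb) (.node 30591 (.leaf 0x35cfb) (.leaf 0x35cfb)))) (.node 30594 (.node 30593 (.leaf 0x35cfb) (.leaf 0x35cfb)) (.node 30595 (.leaf 0x35cfb) (.node 30596 (.leaf 0x35cfb) (.leaf 0x35cfb))))))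

def candS_1512 : Store := (.node 30607 (.node 30602 (.node 30599 (.node 30598 (.leaf 0x35cfb) (.leaf 0x35cfb)) (.node 30600 (.leaf 0x35cfb) (.node 30601 (.leaf 0x35cfb) (.leaf 0x35cfb)))) (.node 30604 (.node 30603 (.leaf 0x35cfb) (.leaf 0x35cfb)) (.node 30605 (.leaf 0x35cfb) (.node 30606 (.leaf 0x35cfb) (.leaf 0x35cfb))))) (.node 30612 (.node 30609 (.node 30608 (.leaf 0x35cfb) (.leaf 0x35cfb)) (.node 30610 (.leaf 0x35cfb) (.node 30611 (.leaf 0x35cfb) (.leaf 0x35cfb)))) (.node 30615 (.node 30613 (.leaf 0x35cfb) (.node 30614 (.leaf 0x35cfb) (.leaf 0x35cfb))) (.node 30616 (.leaf 0x35cfb) (.node 30617 (.leaf 0x35cfb) (.leaf 0x35cfb))))))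

def candS_1513 : Store := (.node 30628 (.node 30623 (.node 30620 (.node 30619 (.leaf 0x35cfb) (.leaf 0x35cfb)) (.node 30621 (.leaf 0x35cfb) (.node 30622 (.leaf 0x35cfb) (.leaf 0x35cfb)))) (.node 30625 (.node 30624 (.leaf 0x35cfb) (.leaf 0x35cfb)) (.node 30626 (.leaf 0x35cfb) (.node 30627 (.leaf 0x35cfb) (.leaf 0x35cfb))))) (.node 30633 (.node 30630 (.node 30629 (.leaf 0x35cfb) (.leaf 0x35cfb)) (.node 30631 (.leaf 0x35cfb) (.node 30632 (.leaf 0x35cfb) (.leaf 0x35cfb)))) (.node 30635 (.node 30634 (.leaf 0x35cfb) (.leaf 0x35cfb)) (.node 30636 (.leaf 0x35cfb) (.node 30637 (.leaf 0x35cfb) (.leaf 0x35cfb))))))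

def candS_1514 : Store := (.node 30648 (.node 30643 (.node 30640 (.node 30639 (.leaf 0x35cfb) (.leaf 0x35cfb)) (.node 30641 (.leaf 0x35cfb) (.node 30642 (.leaf 0x35cfb) (.leaf 0x35cfb)))) (.node 30645 (.node 30644 (.leaf 0x35cfb) (.leaf 0x35cfb)) (.node 30646 (.leaf 0x35cfb) (.node 30647 (.leaf 0x35cfb) (.leaf 0x35cfb))))) (.node 30653 (.node 30650 (.node 30649 (.leaf 0x35cfb) (.leaf 0x35cfb)) (.node 30651 (.leaf 0x35cfb) (.node 30652 (.leaf 0x35cfb) (.leaf 0x35cfb)))) (.node 30655 (.node 30654 (.leaf 0x35cfb) (.leaf 0x35cfb)) (.node 30656 (.leaf 0x35cfb) (.node 30657 (.leaf 0x35cfb) (.leaf 0x35cfb))))))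

def candS_1515 : Store := (.node 30668 (.node 30663 (.node 30660 (.node 30659 (.leaf 0x35cfb) (.leaf 0x35cfb)) (.node 30661 (.leaf 0x35cfb) (.node 30662 (.leaf 0x35cfb) (.leaf 0x35cfb)))) (.node 30665 (.node 30664 (.leaf 0x35cfb) (.leaf 0x35cfb)) (.node 30666 (.leaf 0x35cfb) (.node 30667 (.leaf 0x35cfb) (.leaf 0x35cfb))))) (.node 30673 (.node 30670 (.node 30669 (.leaf 0x35cfb) (.leaf 0x35cfb)) (.node 30671 (.leaf 0x35cfb) (.node 30672 (.leaf 0x35cfb) (.leaf 0x35cfb)))) (.node 30675 (.node 30674 (.leaf 0x35cfb) (.leaf 0x35cfb)) (.node 30676 (.leaf 0x35cfb) (.node 30677 (.leaf 0x35cfb) (.leaf 0x35cfb))))))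

def candS_1516 : Store := (.node 30688 (.node 30683 (.node 30680 (.node 30679 (.leaf 0x35cfb) (.leaf 0x35cfb)) (.node 30681 (.leaf 0x35cfb) (.node 30682 (.leaf 0x35cfb) (.leaf 0x35cfb)))) (.node 30685 (.node 30684 (.leaf 0x35cfb) (.leaf 0x35cfb)) (.node 30686 (.leaf 0x35cfb) (.node 30687 (.leaf 0x35cfb) (.leaf 0x35cfb))))) (.node 30693 (.node 30690 (.node 30689 (.leaf 0x35cfb) (.leaf 0x35cfb)) (.node 30691 (.leaf 0x35cfb) (.node 30692 (.leaf 0x35cfb) (.leaf 0x35cfb)))) (.node 30696 (.node 30694 (.leaf 0x35cfb) (.node 30695 (.leaf 0x35cfb) (.leaf 0x35cfb))) (.node 30697 (.leaf 0x35cfb) (.node 30698 (.leaf 0x35cfb) (.leaf 0x35cfb))))))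

def candS_1517 : Store := (.node 30709 (.node 30704 (.node 30701 (.node 30700 (.leaf 0x35cfb) (.leaf 0x35cfb)) (.node 30702 (.leaf 0x35cfb) (.node 30703 (.leaf 0x35cfb) (.leaf 0x35cfb)))) (.node 30706 (.node 30705 (.leaf 0x35cfb) (.leaf 0x35cfb)) (.node 30707 (.leaf 0x35cfb) (.node 30708 (.leaf 0x35cfb) (.leaf 0x35cfb))))) (.node 30714 (.node 30711 (.node 30710 (.leaf 0x35cfb) (.leaf 0x35cfb)) (.node 30712 (.leaf 0x35cfb) (.node 30713 (.leaf 0x35cfb) (.leaf 0x35cfb)))) (.node 30716 (.node 30715 (.leaf 0x35cfb) (.leaf 0x35cfb)) (.node 30717 (.leaf 0x35cfb) (.node 30718 (.leaf 0x35cfb) (.leaf 0x35cfb))))))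

def candS_1518 : Store := (.node 30729 (.node 30724 (.node 30721 (.node 30720 (.leaf 0x35cfb) (.leaf 0x35cfb)) (.node 30722 (.leaf 0x35cfb) (.node 30723 (.leaf 0x35cfb) (.leaf 0x35cfb)))) (.node 30726 (.node 30725 (.leaf 0x35cfb) (.leaf 0x35cfb)) (.node 30727 (.leaf 0x35cfb) (.node 30728 (.leaf 0x35cfb) (.leaf 0x35cfb))))) (.node 30734 (.node 30731 (.node 30730 (.leaf 0x35cfb) (.leaf 0x35cfb)) (.node 30732 (.leaf 0x35cfb) (.node 30733 (.leaf 0x35cfb) (.leaf 0x35cfb)))) (.node 30736 (.node 30735 (.leaf 0x35cfb) (.leaf 0x35cfb)) (.node 30737 (.leaf 0x35cfb) (.node 30738 (.leaf 0x35cfb) (.leaf 0x35cfb))))))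

def candS_1519 : Store := (.node 30749 (.node 30744 (.node 30741 (.node 30740 (.leaf 0x35cfb) (.leaf 0x35cfb)) (.node 30742 (.leaf 0x35cfb) (.node 30743 (.leaf 0x35cfb) (.leaf 0x35cfb)))) (.node 30746 (.node 30745 (.leaf 0x35cfb) (.leaf 0x35cfb)) (.node 30747 (.leaf 0x35cfb) (.node 30748 (.leaf 0x35cfb) (.leaf 0x35cfb))))) (.node 30754 (.node 30751 (.node 30750 (.leaf 0x35cfb) (.leaf 0x35cfb)) (.node 30752 (.leaf 0x35cfb) (.node 30753 (.leaf 0x35cfb) (.leaf 0x35cfb)))) (.node 30756 (.node 30755 (.leaf 0x35cfb) (.leaf 0x35cfb)) (.node 30757 (.leaf 0x35cfb) (.node 30758 (.leaf 0x35cfb) (.leaf 0x35cfb))))))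

def candS_1520 : Store := (.node 30769 (.node 30764 (.node 30761 (.node 30760 (.leaf 0x35cfb) (.leaf 0x35cfb)) (.node 30762 (.leaf 0x35cfb) (.node 30763 (.leaf 0x35cfb) (.leaf 0x35cfb)))) (.node 30766 (.node 30765 (.leaf 0x35cfb) (.leaf 0x35cfb)) (.node 30767 (.leaf 0x35cfb) (.node 30768 (.leaf 0x35cfb) (.leaf 0x35cfb))))) (.node 30774 (.node 30771 (.node 30770 (.leaf 0x35cfb) (.leaf 0x35cfb)) (.node 30772 (.leaf 0x35cfb) (.node 30773 (.leaf 0x35cfb) (.leaf 0x35cfb)))) (.node 30777 (.node 30775 (.leaf 0x35cfb) (.node 30776 (.leaf 0x35cfb) (.leaf 0x35cfb))) (.node 30778 (.leaf 0x35cfb) (.node 30779 (.leaf 0x35cfb) (.leaf 0x35cfb))))))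

def candS_1521 : Store := (.node 30790 (.node 30785 (.node 30782 (.node 30781 (.leaf 0x35cfb) (.leaf 0x35cfb)) (.node 30783 (.leaf 0x35cfb) (.node 30784 (.leaf 0x35cfb) (.leaf 0x35cfb)))) (.node 30787 (.node 30786 (.leaf 0x35cfb) (.leaf 0x35cfb)) (.node 30788 (.leaf 0x35cfb) (.node 30789 (.leaf 0x35cfb) (.leaf 0x35cfb))))) (.node 30795 (.node 30792 (.node 30791 (.leaf 0x35cfb) (.leaf 0x35cfb)) (.node 30793 (.leaf 0x35cfb) (.node 30794 (.leaf 0x35cfb) (.leaf 0x35cfb)))) (.node 30797 (.node 30796 (.leaf 0x35cfb) (.leaf 0x35cfb)) (.node 30798 (.leaf 0x35cfb) (.node 30799 (.leaf 0x35cfb) (.leaf 0x35cfb))))))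

def candS_1522 : Store := (.node 30810 (.node 30805 (.node 30802 (.node 30801 (.leaf 0x35cfb) (.leaf 0x35cfb)) (.node 30803 (.leaf 0x35cfb) (.node 30804 (.leaf 0x35cfb) (.leaf 0x35cfb)))) (.node 30807 (.node 30806 (.leaf 0x35cfb) (.leaf 0x35cfb)) (.node 30808 (.leaf 0x35cfb) (.node 30809 (.leaf 0x35cfb) (.leaf 0x35cfb))))) (.node 30815 (.node 30812 (.node 30811 (.leaf 0x35cfb) (.leaf 0x35cfb)) (.node 30813 (.leaf 0x35cfb) (.node 30814 (.leaf 0x35cfb) (.leaf 0x35cfb)))) (.node 30817 (.node 30816 (.leaf 0x35cfb) (.leaf 0x35cfb)) (.node 30818 (.leaf 0x35cfb) (.node 30819 (.leaf 0x35cfb) (.leaf 0x35cfb))))))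

def candS_1523 : Store := (.node 30830 (.node 30825 (.node 30822 (.node 30821 (.leaf 0x35cfb) (.leaf 0x35cfb)) (.node 30823 (.leaf 0x35cfb) (.node 30824 (.leaf 0x35cfb) (.leaf 0x35cfb)))) (.node 30827 (.node 30826 (.leaf 0x35cfb) (.leaf 0x35cfb)) (.node 30828 (.leaf 0x35cfb) (.node 30829 (.leaf 0x35cfb) (.leaf 0x35cfb))))) (.node 30835 (.node 30832 (.node 30831 (.leaf 0x35cfb) (.leaf 0x35cfb)) (.node 30833 (.leaf 0x35cfb) (.node 30834 (.leaf 0x35cfb) (.leaf 0x35cfb)))) (.node 30837 (.node 30836 (.leaf 0x35cfb) (.leaf 0x35cfb)) (.node 30838 (.leaf 0x35cfb) (.node 30839 (.leaf 0x35cfb) (.leaf 0x35cfb))))))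

def candS_1524 : Store := (.node 30850 (.node 30845 (.node 30842 (.node 30841 (.leaf 0x35cfb) (.leaf 0x35cfb)) (.node 30843 (.leaf 0x35cfb) (.node 30844 (.leaf 0x35cfb) (.leaf 0x35cfb)))) (.node 30847 (.node 30846 (.leaf 0x35cfb) (.leaf 0x35cfb)) (.node 30848 (.leaf 0x35cfb) (.node 30849 (.leaf 0x35cfb) (.leaf 0x35cfb))))) (.node 30855 (.node 30852 (.node 30851 (.leaf 0x35cfb) (.leaf 0x35cfb)) (.node 30853 (.leaf 0x35cfb) (.node 30854 (.leaf 0x35cfb) (.leaf 0x35cfb)))) (.node 30858 (.node 30856 (.leaf 0x35cfb) (.node 30857 (.leaf 0x35cfb) (.leaf 0x35cfb))) (.node 30859 (.leaf 0x35cfb) (.node 30860 (.leaf 0x35cfb) (.leaf 0x35cfb))))))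

def candS_1525 : Store := (.node 30871 (.node 30866 (.node 30863 (.node 30862 (.leaf 0x35cfb) (.leaf 0x35cfb)) (.node 30864 (.leaf 0x35cfb) (.node 30865 (.leaf 0x35cfb) (.leaf 0x35cfb)))) (.node 30868 (.node 30867 (.leaf 0x35cfb) (.leaf 0x35cfb)) (.node 30869 (.leaf 0x35cfb) (.node 30870 (.leaf 0x35cfb) (.leaf 0x35cfb))))) (.node 30876 (.node 30873 (.node 30872 (.leaf 0x35cfb) (.leaf 0x35cfb)) (.node 30874 (.leaf 0x35cfb) (.node 30875 (.leaf 0x35cfb) (.leaf 0x35cfb)))) (.node 30878 (.node 30877 (.leaf 0x35cfb) (.leaf 0x35cfb)) (.node 30879 (.leaf 0x35cfb) (.node 30880 (.leaf 0x35cfb) (.leaf 0x35cfb))))))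

def candS_1526 : Store := (.node 30891 (.node 30886 (.node 30883 (.node 30882 (.leaf 0x35cfb) (.leaf 0x35cfb)) (.node 30884 (.leaf 0x35cfb) (.node 30885 (.leaf 0x35cfb) (.leaf 0x35cfb)))) (.node 30888 (.node 30887 (.leaf 0x35cfb) (.leaf 0x35cfb)) (.node 30889 (.leaf 0x35cfb) (.node 30890 (.leaf 0x35cfb) (.leaf 0x35cfb))))) (.node 30896 (.node 30893 (.node 30892 (.leaf 0x35cfb) (.leaf 0x35cfb)) (.node 30894 (.leaf 0x35cfb) (.node 30895 (.leaf 0x35cfb) (.leaf 0x35cfb)))) (.node 30898 (.node 30897 (.leaf 0x35cfb) (.leaf 0x35cfb)) (.node 30899 (.leaf 0x35cfb) (.node 30900 (.leaf 0x35cfb) (.leaf 0x35cfb))))))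

def candS_1527 : Store := (.node 30911 (.node 30906 (.node 30903 (.node 30902 (.leaf 0x35cfb) (.leaf 0x35cfb)) (.node 30904 (.leaf 0x35cfb) (.node 30905 (.leaf 0x35cfb) (.leaf 0x35cfb)))) (.node 30908 (.node 30907 (.leaf 0x35cfb) (.leaf 0x35cfb)) (.node 30909 (.leaf 0x35cfb) (.node 30910 (.leaf 0x35cfb) (.leaf 0x35cfb))))) (.node 30916 (.node 30913 (.node 30912 (.leaf 0x35cfb) (.leaf 0x35cfb)) (.node 30914 (.leaf 0x35cfb) (.node 30915 (.leaf 0x35cfb) (.leaf 0x35cfb)))) (.node 30918 (.node 30917 (.leaf 0x35cfb) (.leaf 0x35cfb)) (.node 30919 (.leaf 0x35cfb) (.node 30920 (.leaf 0x35cfb) (.leaf 0x35cfb))))))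

def candS_1528 : Store := (.node 30931 (.node 30926 (.node 30923 (.node 30922 (.leaf 0x35cfb) (.leaf 0x35cfb)) (.node 30924 (.leaf 0x35cfb) (.node 30925 (.leaf 0x35cfb) (.leaf 0x35cfb)))) (.node 30928 (.node 30927 (.leaf 0x35cfb) (.leaf 0x35cfb)) (.node 30929 (.leaf 0x35cfb) (.node 30930 (.leaf 0x35cfb) (.leaf 0x35cfb))))) (.node 30936 (.node 30933 (.node 30932 (.leaf 0x35cfb) (.leaf 0x35cfb)) (.node 30934 (.leaf 0x35cfb) (.node 30935 (.leaf 0x35cfb) (.leaf 0x35cfb)))) (.node 30939 (.node 30937 (.leaf 0x35cfb) (.node 30938 (.leaf 0x35cfb) (.leaf 0x35cfb))) (.node 30940 (.leaf 0x35cfb) (.node 30941 (.leaf 0x35cfb) (.leaf 0x35cfb))))))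

def candS_1529 : Store := (.node 30952 (.node 30947 (.node 30944 (.node 30943 (.leaf 0x35cfb) (.leaf 0x35cfb)) (.node 30945 (.leaf 0x35cfb) (.node 30946 (.leaf 0x35cfb) (.leaf 0x35cfb)))) (.node 30949 (.node 30948 (.leaf 0x35cfb) (.leaf 0x35cfb)) (.node 30950 (.leaf 0x35cfb) (.node 30951 (.leaf 0x35cfb) (.leaf 0x35cfb))))) (.node 30957 (.node 30954 (.node 30953 (.leaf 0x35cfb) (.leaf 0x35cfb)) (.node 30955 (.leaf 0x35cfb) (.node 30956 (.leaf 0x35cfb) (.leaf 0x35cfb)))) (.node 30959 (.node 30958 (.leaf 0x35cfb) (.leaf 0x35cfb)) (.node 30960 (.leaf 0x35cfb) (.node 30961 (.leaf 0x35cfb) (.leaf 0x35cfb))))))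

def candS_1530 : Store := (.node 30972 (.node 30967 (.node 30964 (.node 30963 (.leaf 0x35cfb) (.leaf 0x35cfb)) (.node 30965 (.leaf 0x35cfb) (.node 30966 (.leaf 0x35cfb) (.leaf 0x35cfb)))) (.node 30969 (.node 30968 (.leaf 0x35cfb) (.leaf 0x35cfb)) (.node 30970 (.leaf 0x35cfb) (.node 30971 (.leaf 0x35cfb) (.leaf 0x35cfb))))) (.node 30977 (.node 30974 (.node 30973 (.leaf 0x35cfb) (.leaf 0x35cfb)) (.node 30975 (.leaf 0x35cfb) (.node 30976 (.leaf 0x35cfb) (.leaf 0x35cfb)))) (.node 30979 (.node 30978 (.leaf 0x35cfb) (.leaf 0x35cfb)) (.node 30980 (.leaf 0x35cfb) (.node 30981 (.leaf 0x35cfb) (.leaf 0x35cfb))))))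

def candS_1531 : Store := (.node 30992 (.node 30987 (.node 30984 (.node 30983 (.leaf 0x35cfb) (.leaf 0x35cfb)) (.node 30985 (.leaf 0x35cfb) (.node 30986 (.leaf 0x35cfb) (.leaf 0x35cfb)))) (.node 30989 (.node 30988 (.leaf 0x35cfb) (.leaf 0x35cfb)) (.node 30990 (.leaf 0x35cfb) (.node 30991 (.leaf 0x35cfb) (.leaf 0x35cfb))))) (.node 30997 (.node 30994 (.node 30993 (.leaf 0x35cfb) (.leaf 0x35cfb)) (.node 30995 (.leaf 0x35cfb) (.node 30996 (.leaf 0x35cfb) (.leaf 0x35cfb)))) (.node 30999 (.node 30998 (.leaf 0x35cfb) (.leaf 0x35cfb)) (.node 31000 (.leaf 0x35cfb) (.node 31001 (.leaf 0x35cfb) (.leaf 0x35cfb))))))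

def candS_1532 : Store := (.node 31012 (.node 31007 (.node 31004 (.node 31003 (.leaf 0x35cfb) (.leaf 0x35cfb)) (.node 31005 (.leaf 0x35cfb) (.node 31006 (.leaf 0x35cfb) (.leaf 0x35cfb)))) (.node 31009 (.node 31008 (.leaf 0x35cfb) (.leaf 0x35cfb)) (.node 31010 (.leaf 0x35cfb) (.node 31011 (.leaf 0x35cfb) (.leaf 0x35cfb))))) (.node 31017 (.node 31014 (.node 31013 (.leaf 0x35cfb) (.leaf 0x35cfb)) (.node 31015 (.leaf 0x35cfb) (.node 31016 (.leaf 0x35cfb) (.leaf 0x35cfb)))) (.node 31020 (.node 31018 (.leaf 0x35cfb) (.node 31019 (.leaf 0x35cfb) (.leaf 0x35cfb))) (.node 31021 (.leaf 0x35cfb) (.node 31022 (.leaf 0x35cfb) (.leaf 0x35cfb))))))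

def candS_1533 : Store := (.node 31033 (.node 31028 (.node 31025 (.node 31024 (.leaf 0x35cfb) (.leaf 0x35cfb)) (.node 31026 (.leaf 0x35cfb) (.node 31027 (.leaf 0x35cfb) (.leaf 0x35cfb)))) (.node 31030 (.node 31029 (.leaf 0x35cfb) (.leaf 0x35cfb)) (.node 31031 (.leaf 0x35cfb) (.node 31032 (.leaf 0x35cfb) (.leaf 0x35cfb))))) (.node 31038 (.node 31035 (.node 31034 (.leaf 0x35cfb) (.leaf 0x35cfb)) (.node 31036 (.leaf 0x35cfb) (.node 31037 (.leaf 0x35cfb) (.leaf 0x35cfb)))) (.node 31040 (.node 31039 (.leaf 0x35cfb) (.leaf 0x35cfb)) (.node 31041 (.leaf 0x35cfb) (.node 31042 (.leaf 0x35cfb) (.leaf 0x35cfb))))))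

def candS_1534 : Store := (.node 31053 (.node 31048 (.node 31045 (.node 31044 (.leaf 0x35cfb) (.leaf 0x35cfb)) (.node 31046 (.leaf 0x35cfb) (.node 31047 (.leaf 0x35cfb) (.leaf 0x35cfb)))) (.node 31050 (.node 31049 (.leaf 0x35cfb) (.leaf 0x35cfb)) (.node 31051 (.leaf 0x35cfb) (.node 31052 (.leaf 0x35cfb) (.leaf 0x35cfb))))) (.node 31058 (.node 31055 (.node 31054 (.leaf 0x35cfb) (.leaf 0x35cfb)) (.node 31056 (.leaf 0x35cfb) (.node 31057 (.leaf 0x35cfb) (.leaf 0x35cfb)))) (.node 31060 (.node 31059 (.leaf 0x35cfb) (.leaf 0x35cfb)) (.node 31061 (.leaf 0x35cfb) (.node 31062 (.leaf 0x35cfb) (.leaf 0x35cfb))))))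

def candS_1535 : Store := (.node 31073 (.node 31068 (.node 31065 (.node 31064 (.leaf 0x35cfb) (.leaf 0x35cfb)) (.node 31066 (.leaf 0x35cfb) (.node 31067 (.leaf 0x35cfb) (.leaf 0x35cfb)))) (.node 31070 (.node 31069 (.leaf 0x35cfb) (.leaf 0x35cfb)) (.node 31071 (.leaf 0x35cfb) (.node 31072 (.leaf 0x35cfb) (.leaf 0x35cfb))))) (.node 31078 (.node 31075 (.node 31074 (.leaf 0x35cfb) (.leaf 0x35cfb)) (.node 31076 (.leaf 0x35cfb) (.node 31077 (.leaf 0x35cfb) (.leaf 0x35cfb)))) (.node 31080 (.node 31079 (.leaf 0x35cfb) (.leaf 0x35cfb)) (.node 31081 (.leaf 0x35cfb) (.node 31082 (.leaf 0x35cfb) (.leaf 0x35cfb))))))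

def candS_1536 : Store := (.node 31093 (.node 31088 (.node 31085 (.node 31084 (.leaf 0x35cfb) (.leaf 0x35cfb)) (.node 31086 (.leaf 0x35cfb) (.node 31087 (.leaf 0x35cfb) (.leaf 0x35cfb)))) (.node 31090 (.node 31089 (.leaf 0x35cfb) (.leaf 0x35cfb)) (.node 31091 (.leaf 0x35cfb) (.node 31092 (.leaf 0x35cfb) (.leaf 0x35cfb))))) (.node 31098 (.node 31095 (.node 31094 (.leaf 0x35cfb) (.leaf 0x35cfb)) (.node 31096 (.leaf 0x35cfb) (.node 31097 (.leaf 0x35cfb) (.leaf 0x35cfb)))) (.node 31101 (.node 31099 (.leaf 0x35cfb) (.node 31100 (.leaf 0x35cfb) (.leaf 0x35cfb))) (.node 31102 (.leaf 0x35cfb) (.node 31103 (.leaf 0x35cfb) (.leaf 0x35cfb))))))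

def candS_1537 : Store := (.node 31114 (.node 31109 (.node 31106 (.node 31105 (.leaf 0x29055) (.leaf 0x29055)) (.node 31107 (.leaf 0x29055) (.node 31108 (.leaf 0x29055) (.leaf 0x29055)))) (.node 31111 (.node 31110 (.leaf 0x29055) (.leaf 0x29055)) (.node 31112 (.leaf 0x29055) (.node 31113 (.leaf 0x29055) (.leaf 0x29055))))) (.node 31119 (.node 31116 (.node 31115 (.leaf 0x29055) (.leaf 0x29055)) (.node 31117 (.leaf 0x29055) (.node 31118 (.leaf 0x29055) (.leaf 0x29055)))) (.node 31121 (.node 31120 (.leaf 0x29055) (.leaf 0x29055)) (.node 31122 (.leaf 0x29055) (.node 31123 (.leaf 0x29055) (.leaf 0x29055))))))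

def candS_1538 : Store := (.node 31134 (.node 31129 (.node 31126 (.node 31125 (.leaf 0x29055) (.leaf 0x29055)) (.node 31127 (.leaf 0x29055) (.node 31128 (.leaf 0x29055) (.leaf 0x29055)))) (.node 31131 (.node 31130 (.leaf 0x29055) (.leaf 0x29055)) (.node 31132 (.leaf 0x29055) (.node 31133 (.leaf 0x29055) (.leaf 0x29055))))) (.node 31139 (.node 31136 (.node 31135 (.leaf 0x29055) (.leaf 0x29055)) (.node 31137 (.leaf 0x29055) (.node 31138 (.leaf 0x29055) (.leaf 0x29055)))) (.node 31141 (.node 31140 (.leaf 0x29055) (.leaf 0x29055)) (.node 31142 (.leaf 0x29055) (.node 31143 (.leaf 0x29055) (.leaf 0x29055))))))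

def candS_1539 : Store := (.node 31154 (.node 31149 (.node 31146 (.node 31145 (.leaf 0x29055) (.leaf 0x29055)) (.node 31147 (.leaf 0x29055) (.node 31148 (.leaf 0x29055) (.leaf 0x29055)))) (.node 31151 (.node 31150 (.leaf 0x29055) (.leaf 0x29055)) (.node 31152 (.leaf 0x29055) (.node 31153 (.leaf 0x29055) (.leaf 0x29055))))) (.node 31159 (.node 31156 (.node 31155 (.leaf 0x29055) (.leaf 0x29055)) (.node 31157 (.leaf 0x29055) (.node 31158 (.leaf 0x29055) (.leaf 0x29055)))) (.node 31161 (.node 31160 (.leaf 0x29055) (.leaf 0x29055)) (.node 31162 (.leaf 0x29055) (.node 31163 (.leaf 0x29055) (.leaf 0x29055))))))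

def candS_1540 : Store := (.node 31174 (.node 31169 (.node 31166 (.node 31165 (.leaf 0x29055) (.leaf 0x29055)) (.node 31167 (.leaf 0x29055) (.node 31168 (.leaf 0x29055) (.leaf 0x29055)))) (.node 31171 (.node 31170 (.leaf 0x29055) (.leaf 0x29055)) (.node 31172 (.leaf 0x29055) (.node 31173 (.leaf 0x29055) (.leaf 0x29055))))) (.node 31179 (.node 31176 (.node 31175 (.leaf 0x29055) (.leaf 0x29055)) (.node 31177 (.leaf 0x29055) (.node 31178 (.leaf 0x29055) (.leaf 0x29055)))) (.node 31182 (.node 31180 (.leaf 0x29055) (.node 31181 (.leaf 0x29055) (.leaf 0x29055))) (.node 31183 (.leaf 0x29055) (.node 31184 (.leaf 0x29055) (.leaf 0x29055))))))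

def candS_1541 : Store := (.node 31195 (.node 31190 (.node 31187 (.node 31186 (.leaf 0x29055) (.leaf 0x29055)) (.node 31188 (.leaf 0x29055) (.node 31189 (.leaf 0x29055) (.leaf 0x29055)))) (.node 31192 (.node 31191 (.leaf 0x29055) (.leaf 0x29055)) (.node 31193 (.leaf 0x29055) (.node 31194 (.leaf 0x29055) (.leaf 0x29055))))) (.node 31200 (.node 31197 (.node 31196 (.leaf 0x29055) (.leaf 0x29055)) (.node 31198 (.leaf 0x29055) (.node 31199 (.leaf 0x29055) (.leaf 0x29055)))) (.node 31202 (.node 31201 (.leaf 0x29055) (.leaf 0x29055)) (.node 31203 (.leaf 0x29055) (.node 31204 (.leaf 0x29055) (.leaf 0x29055))))))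

def candS_1542 : Store := (.node 31215 (.node 31210 (.node 31207 (.node 31206 (.leaf 0x29055) (.leaf 0x29055)) (.node 31208 (.leaf 0x29055) (.node 31209 (.leaf 0x29055) (.leaf 0x29055)))) (.node 31212 (.node 31211 (.leaf 0x29055) (.leaf 0x29055)) (.node 31213 (.leaf 0x29055) (.node 31214 (.leaf 0x29055) (.leaf 0x29055))))) (.node 31220 (.node 31217 (.node 31216 (.leaf 0x29055) (.leaf 0x29055)) (.node 31218 (.leaf 0x29055) (.node 31219 (.leaf 0x29055) (.leaf 0x29055)))) (.node 31222 (.node 31221 (.leaf 0x29055) (.leaf 0x29055)) (.node 31223 (.leaf 0x29055) (.node 31224 (.leaf 0x29055) (.leaf 0x29055))))))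

def candS_1543 : Store := (.node 31235 (.node 31230 (.node 31227 (.node 31226 (.leaf 0x29055) (.leaf 0x29055)) (.node 31228 (.leaf 0x29055) (.node 31229 (.leaf 0x29055) (.leaf 0x29055)))) (.node 31232 (.node 31231 (.leaf 0x29055) (.leaf 0x29055)) (.node 31233 (.leaf 0x29055) (.node 31234 (.leaf 0x29055) (.leaf 0x29055))))) (.node 31240 (.node 31237 (.node 31236 (.leaf 0x29055) (.leaf 0x29055)) (.node 31238 (.leaf 0x29055) (.node 31239 (.leaf 0x29055) (.leaf 0x29055)))) (.node 31242 (.node 31241 (.leaf 0x29055) (.leaf 0x29055)) (.node 31243 (.leaf 0x29055) (.node 31244 (.leaf 0x29055) (.leaf 0x29055))))))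

def candS_1544 : Store := (.node 31255 (.node 31250 (.node 31247 (.node 31246 (.leaf 0x29055) (.leaf 0x29055)) (.node 31248 (.leaf 0x29055) (.node 31249 (.leaf 0x29055) (.leaf 0x29055)))) (.node 31252 (.node 31251 (.leaf 0x29055) (.leaf 0x29055)) (.node 31253 (.leaf 0x29055) (.node 31254 (.leaf 0x29055) (.leaf 0x29055))))) (.node 31260 (.node 31257 (.node 31256 (.leaf 0x29055) (.leaf 0x29055)) (.node 31258 (.leaf 0x29055) (.node 31259 (.leaf 0x29055) (.leaf 0x29055)))) (.node 31263 (.node 31261 (.leaf 0x29055) (.node 31262 (.leaf 0x29055) (.leaf 0x29055))) (.node 31264 (.leaf 0x29055) (.node 31265 (.leaf 0x29055) (.leaf 0x29055))))))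

def candS_1545 : Store := (.node 31276 (.node 31271 (.node 31268 (.node 31267 (.leaf 0x29055) (.leaf 0x29055)) (.node 31269 (.leaf 0x29055) (.node 31270 (.leaf 0x29055) (.leaf 0x29055)))) (.node 31273 (.node 31272 (.leaf 0x29055) (.leaf 0x29055)) (.node 31274 (.leaf 0x29055) (.node 31275 (.leaf 0x29055) (.leaf 0x29055))))) (.node 31281 (.node 31278 (.node 31277 (.leaf 0x29055) (.leaf 0x29055)) (.node 31279 (.leaf 0x29055) (.node 31280 (.leaf 0x29055) (.leaf 0x29055)))) (.node 31283 (.node 31282 (.leaf 0x29055) (.leaf 0x29055)) (.node 31284 (.leaf 0x29055) (.node 31285 (.leaf 0x29055) (.leaf 0x29055))))))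

def candS_1546 : Store := (.node 31296 (.node 31291 (.node 31288 (.node 31287 (.leaf 0x29055) (.leaf 0x29055)) (.node 31289 (.leaf 0x29055) (.node 31290 (.leaf 0x29055) (.leaf 0x29055)))) (.node 31293 (.node 31292 (.leaf 0x29055) (.leaf 0x29055)) (.node 31294 (.leaf 0x29055) (.node 31295 (.leaf 0x29055) (.leaf 0x29055))))) (.node 31301 (.node 31298 (.node 31297 (.leaf 0x29055) (.leaf 0x29055)) (.node 31299 (.leaf 0x29055) (.node 31300 (.leaf 0x29055) (.leaf 0x29055)))) (.node 31303 (.node 31302 (.leaf 0x29055) (.leaf 0x29055)) (.node 31304 (.leaf 0x29055) (.node 31305 (.leaf 0x29055) (.leaf 0x29055))))))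

def candS_1547 : Store := (.node 31316 (.node 31311 (.node 31308 (.node 31307 (.leaf 0x29055) (.leaf 0x29055)) (.node 31309 (.leaf 0x29055) (.node 31310 (.leaf 0x29055) (.leaf 0x29055)))) (.node 31313 (.node 31312 (.leaf 0x29055) (.leaf 0x29055)) (.node 31314 (.leaf 0x29055) (.node 31315 (.leaf 0x29055) (.leaf 0x29055))))) (.node 31321 (.node 31318 (.node 31317 (.leaf 0x29055) (.leaf 0x29055)) (.node 31319 (.leaf 0x29055) (.node 31320 (.leaf 0x29055) (.leaf 0x29055)))) (.node 31323 (.node 31322 (.leaf 0x29055) (.leaf 0x29055)) (.node 31324 (.leaf 0x29055) (.node 31325 (.leaf 0x29055) (.leaf 0x29055))))))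

def candS_1548 : Store := (.node 31336 (.node 31331 (.node 31328 (.node 31327 (.leaf 0x29055) (.leaf 0x29055)) (.node 31329 (.leaf 0x29055) (.node 31330 (.leaf 0x29055) (.leaf 0x29055)))) (.node 31333 (.node 31332 (.leaf 0x29055) (.leaf 0x29055)) (.node 31334 (.leaf 0x29055) (.node 31335 (.leaf 0x29055) (.leaf 0x29055))))) (.node 31341 (.node 31338 (.node 31337 (.leaf 0x29055) (.leaf 0x29055)) (.node 31339 (.leaf 0x29055) (.node 31340 (.leaf 0x29055) (.leaf 0x29055)))) (.node 31344 (.node 31342 (.leaf 0x29055) (.node 31343 (.leaf 0x29055) (.leaf 0x29055))) (.node 31345 (.leaf 0x29055) (.node 31346 (.leaf 0x29055) (.leaf 0x29055))))))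

def candS_1549 : Store := (.node 31357 (.node 31352 (.node 31349 (.node 31348 (.leaf 0x29055) (.leaf 0x29055)) (.node 31350 (.leaf 0x29055) (.node 31351 (.leaf 0x29055) (.leaf 0x29055)))) (.node 31354 (.node 31353 (.leaf 0x29055) (.leaf 0x29055)) (.node 31355 (.leaf 0x29055) (.node 31356 (.leaf 0x29055) (.leaf 0x29055))))) (.node 31362 (.node 31359 (.node 31358 (.leaf 0x29055) (.leaf 0x29055)) (.node 31360 (.leaf 0x29055) (.node 31361 (.leaf 0x29055) (.leaf 0x29055)))) (.node 31364 (.node 31363 (.leaf 0x29055) (.leaf 0x29055)) (.node 31365 (.leaf 0x29055) (.node 31366 (.leaf 0x29055) (.leaf 0x29055))))))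

def candS_1550 : Store := (.node 31377 (.node 31372 (.node 31369 (.node 31368 (.leaf 0x29055) (.leaf 0x29055)) (.node 31370 (.leaf 0x29055) (.node 31371 (.leaf 0x29055) (.leaf 0x29055)))) (.node 31374 (.node 31373 (.leaf 0x29055) (.leaf 0x29055)) (.node 31375 (.leaf 0x29055) (.node 31376 (.leaf 0x29055) (.leaf 0x29055))))) (.node 31382 (.node 31379 (.node 31378 (.leaf 0x29055) (.leaf 0x29055)) (.node 31380 (.leaf 0x29055) (.node 31381 (.leaf 0x29055) (.leaf 0x29055)))) (.node 31384 (.node 31383 (.leaf 0x29055) (.leaf 0x29055)) (.node 31385 (.leaf 0x29055) (.node 31386 (.leaf 0x29055) (.leaf 0x29055))))))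

def candS_1551 : Store := (.node 31397 (.node 31392 (.node 31389 (.node 31388 (.leaf 0x29055) (.leaf 0x29055)) (.node 31390 (.leaf 0x29055) (.node 31391 (.leaf 0x29055) (.leaf 0x29055)))) (.node 31394 (.node 31393 (.leaf 0x29055) (.leaf 0x29055)) (.node 31395 (.leaf 0x29055) (.node 31396 (.leaf 0x29055) (.leaf 0x29055))))) (.node 31402 (.node 31399 (.node 31398 (.leaf 0x29055) (.leaf 0x29055)) (.node 31400 (.leaf 0x29055) (.node 31401 (.leaf 0x29055) (.leaf 0x29055)))) (.node 31404 (.node 31403 (.leaf 0x29055) (.leaf 0x29055)) (.node 31405 (.leaf 0x29055) (.node 31406 (.leaf 0x29055) (.leaf 0x29055))))))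

def candS_1552 : Store := (.node 31417 (.node 31412 (.node 31409 (.node 31408 (.leaf 0x29055) (.leaf 0x29055)) (.node 31410 (.leaf 0x29055) (.node 31411 (.leaf 0x29055) (.leaf 0x29055)))) (.node 31414 (.node 31413 (.leaf 0x29055) (.leaf 0x29055)) (.node 31415 (.leaf 0x29055) (.node 31416 (.leaf 0x29055) (.leaf 0x29055))))) (.node 31422 (.node 31419 (.node 31418 (.leaf 0x29055) (.leaf 0x29055)) (.node 31420 (.leaf 0x29055) (.node 31421 (.leaf 0x29055) (.leaf 0x29055)))) (.node 31425 (.node 31423 (.leaf 0x29055) (.node 31424 (.leaf 0x29055) (.leaf 0x29055))) (.node 31426 (.leaf 0x29055) (.node 31427 (.leaf 0x29055) (.leaf 0x29055))))))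

def candS_1553 : Store := (.node 31438 (.node 31433 (.node 31430 (.node 31429 (.leaf 0x29055) (.leaf 0x29055)) (.node 31431 (.leaf 0x29055) (.node 31432 (.leaf 0x29055) (.leaf 0x29055)))) (.node 31435 (.node 31434 (.leaf 0x29055) (.leaf 0x29055)) (.node 31436 (.leaf 0x29055) (.node 31437 (.leaf 0x29055) (.leaf 0x29055))))) (.node 31443 (.node 31440 (.node 31439 (.leaf 0x29055) (.leaf 0x29055)) (.node 31441 (.leaf 0x29055) (.node 31442 (.leaf 0x29055) (.leaf 0x29055)))) (.node 31445 (.node 31444 (.leaf 0x29055) (.leaf 0x29055)) (.node 31446 (.leaf 0x29055) (.node 31447 (.leaf 0x29055) (.leaf 0x29055))))))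

def candS_1554 : Store := (.node 31458 (.node 31453 (.node 31450 (.node 31449 (.leaf 0x29055) (.leaf 0x29055)) (.node 31451 (.leaf 0x29055) (.node 31452 (.leaf 0x29055) (.leaf 0x29055)))) (.node 31455 (.node 31454 (.leaf 0x29055) (.leaf 0x29055)) (.node 31456 (.leaf 0x29055) (.node 31457 (.leaf 0x29055) (.leaf 0x29055))))) (.node 31463 (.node 31460 (.node 31459 (.leaf 0x29055) (.leaf 0x29055)) (.node 31461 (.leaf 0x29055) (.node 31462 (.leaf 0x29055) (.leaf 0x29055)))) (.node 31465 (.node 31464 (.leaf 0x29055) (.leaf 0x29055)) (.node 31466 (.leaf 0x29055) (.node 31467 (.leaf 0x29055) (.leaf 0x29055))))))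

def candS_1555 : Store := (.node 31478 (.node 31473 (.node 31470 (.node 31469 (.leaf 0x29055) (.leaf 0x29055)) (.node 31471 (.leaf 0x29055) (.node 31472 (.leaf 0x29055) (.leaf 0x29055)))) (.node 31475 (.node 31474 (.leaf 0x29055) (.leaf 0x29055)) (.node 31476 (.leaf 0x29055) (.node 31477 (.leaf 0x29055) (.leaf 0x29055))))) (.node 31483 (.node 31480 (.node 31479 (.leaf 0x29055) (.leaf 0x29055)) (.node 31481 (.leaf 0x29055) (.node 31482 (.leaf 0x29055) (.leaf 0x29055)))) (.node 31485 (.node 31484 (.leaf 0x29055) (.leaf 0x29055)) (.node 31486 (.leaf 0x29055) (.node 31487 (.leaf 0x29055) (.leaf 0x29055))))))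

def candS_1556 : Store := (.node 31498 (.node 31493 (.node 31490 (.node 31489 (.leaf 0x29055) (.leaf 0x29055)) (.node 31491 (.leaf 0x29055) (.node 31492 (.leaf 0x29055) (.leaf 0x29055)))) (.node 31495 (.node 31494 (.leaf 0x29055) (.leaf 0x29055)) (.node 31496 (.leaf 0x29055) (.node 31497 (.leaf 0x29055) (.leaf 0x29055))))) (.node 31503 (.node 31500 (.node 31499 (.leaf 0x29055) (.leaf 0x29055)) (.node 31501 (.leaf 0x29055) (.node 31502 (.leaf 0x29055) (.leaf 0x29055)))) (.node 31506 (.node 31504 (.leaf 0x29055) (.node 31505 (.leaf 0x29055) (.leaf 0x29055))) (.node 31507 (.leaf 0x29055) (.node 31508 (.leaf 0x29055) (.leaf 0x29055))))))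

def candS_1557 : Store := (.node 31519 (.node 31514 (.node 31511 (.node 31510 (.leaf 0x29055) (.leaf 0x29055)) (.node 31512 (.leaf 0x29055) (.node 31513 (.leaf 0x29055) (.leaf 0x29055)))) (.node 31516 (.node 31515 (.leaf 0x29055) (.leaf 0x29055)) (.node 31517 (.leaf 0x29055) (.node 31518 (.leaf 0x29055) (.leaf 0x29055))))) (.node 31524 (.node 31521 (.node 31520 (.leaf 0x29055) (.leaf 0x29055)) (.node 31522 (.leaf 0x29055) (.node 31523 (.leaf 0x29055) (.leaf 0x29055)))) (.node 31526 (.node 31525 (.leaf 0x29055) (.leaf 0x29055)) (.node 31527 (.leaf 0x29055) (.node 31528 (.leaf 0x29055) (.leaf 0x29055))))))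

def candS_1558 : Store := (.node 31539 (.node 31534 (.node 31531 (.node 31530 (.leaf 0x29055) (.leaf 0x29055)) (.node 31532 (.leaf 0x29055) (.node 31533 (.leaf 0x29055) (.leaf 0x29055)))) (.node 31536 (.node 31535 (.leaf 0x29055) (.leaf 0x29055)) (.node 31537 (.leaf 0x29055) (.node 31538 (.leaf 0x29055) (.leaf 0x29055))))) (.node 31544 (.node 31541 (.node 31540 (.leaf 0x29055) (.leaf 0x29055)) (.node 31542 (.leaf 0x29055) (.node 31543 (.leaf 0x29055) (.leaf 0x29055)))) (.node 31546 (.node 31545 (.leaf 0x29055) (.leaf 0x29055)) (.node 31547 (.leaf 0x29055) (.node 31548 (.leaf 0x29055) (.leaf 0x29055))))))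

def candS_1559 : Store := (.node 31559 (.node 31554 (.node 31551 (.node 31550 (.leaf 0x29055) (.leaf 0x29055)) (.node 31552 (.leaf 0x29055) (.node 31553 (.leaf 0x29055) (.leaf 0x29055)))) (.node 31556 (.node 31555 (.leaf 0x29055) (.leaf 0x29055)) (.node 31557 (.leaf 0x29055) (.node 31558 (.leaf 0x29055) (.leaf 0x29055))))) (.node 31564 (.node 31561 (.node 31560 (.leaf 0x29055) (.leaf 0x29055)) (.node 31562 (.leaf 0x29055) (.node 31563 (.leaf 0x29055) (.leaf 0x29055)))) (.node 31566 (.node 31565 (.leaf 0x29055) (.leaf 0x29055)) (.node 31567 (.leaf 0x29055) (.node 31568 (.leaf 0x29055) (.leaf 0x29055))))))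

def candS_1560 : Store := (.node 31579 (.node 31574 (.node 31571 (.node 31570 (.leaf 0x29055) (.leaf 0x29055)) (.node 31572 (.leaf 0x29055) (.node 31573 (.leaf 0x29055) (.leaf 0x29055)))) (.node 31576 (.node 31575 (.leaf 0x29055) (.leaf 0x29055)) (.node 31577 (.leaf 0x29055) (.node 31578 (.leaf 0x29055) (.leaf 0x29055))))) (.node 31584 (.node 31581 (.node 31580 (.leaf 0x29055) (.leaf 0x29055)) (.node 31582 (.leaf 0x29055) (.node 31583 (.leaf 0x29055) (.leaf 0x29055)))) (.node 31587 (.node 31585 (.leaf 0x29055) (.node 31586 (.leaf 0x29055) (.leaf 0x29055))) (.node 31588 (.leaf 0x29055) (.node 31589 (.leaf 0x29055) (.leaf 0x29055))))))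

def candS_1561 : Store := (.node 31600 (.node 31595 (.node 31592 (.node 31591 (.leaf 0x29055) (.leaf 0x29055)) (.node 31593 (.leaf 0x29055) (.node 31594 (.leaf 0x29055) (.leaf 0x29055)))) (.node 31597 (.node 31596 (.leaf 0x29055) (.leaf 0x29055)) (.node 31598 (.leaf 0x29055) (.node 31599 (.leaf 0x29055) (.leaf 0x29055))))) (.node 31605 (.node 31602 (.node 31601 (.leaf 0x29055) (.leaf 0x29055)) (.node 31603 (.leaf 0x29055) (.node 31604 (.leaf 0x29055) (.leaf 0x29055)))) (.node 31607 (.node 31606 (.leaf 0x29055) (.leaf 0x29055)) (.node 31608 (.leaf 0x29055) (.node 31609 (.leaf 0x29055) (.leaf 0x29055))))))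

def candS_1562 : Store := (.node 31620 (.node 31615 (.node 31612 (.node 31611 (.leaf 0x29055) (.leaf 0x29055)) (.node 31613 (.leaf 0x29055) (.node 31614 (.leaf 0x29055) (.leaf 0x29055)))) (.node 31617 (.node 31616 (.leaf 0x29055) (.leaf 0x29055)) (.node 31618 (.leaf 0x29055) (.node 31619 (.leaf 0x29055) (.leaf 0x29055))))) (.node 31625 (.node 31622 (.node 31621 (.leaf 0x29055) (.leaf 0x29055)) (.node 31623 (.leaf 0x29055) (.node 31624 (.leaf 0x29055) (.leaf 0x29055)))) (.node 31627 (.node 31626 (.leaf 0x29055) (.leaf 0x29055)) (.node 31628 (.leaf 0x29055) (.node 31629 (.leaf 0x29055) (.leaf 0x29055))))))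

def candS_1563 : Store := (.node 31640 (.node 31635 (.node 31632 (.node 31631 (.leaf 0x29055) (.leaf 0x29055)) (.node 31633 (.leaf 0x29055) (.node 31634 (.leaf 0x29055) (.leaf 0x29055)))) (.node 31637 (.node 31636 (.leaf 0x29055) (.leaf 0x29055)) (.node 31638 (.leaf 0x29055) (.node 31639 (.leaf 0x29055) (.leaf 0x29055))))) (.node 31645 (.node 31642 (.node 31641 (.leaf 0x29055) (.leaf 0x29055)) (.node 31643 (.leaf 0x29055) (.node 31644 (.leaf 0x29055) (.leaf 0x29055)))) (.node 31647 (.node 31646 (.leaf 0x29055) (.leaf 0x29055)) (.node 31648 (.leaf 0x29055) (.node 31649 (.leaf 0x29055) (.leaf 0x29055))))))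

def candS_1564 : Store := (.node 31660 (.node 31655 (.node 31652 (.node 31651 (.leaf 0x29055) (.leaf 0x29055)) (.node 31653 (.leaf 0x29055) (.node 31654 (.leaf 0x29055) (.leaf 0x29055)))) (.node 31657 (.node 31656 (.leaf 0x29055) (.leaf 0x29055)) (.node 31658 (.leaf 0x29055) (.node 31659 (.leaf 0x29055) (.leaf 0x29055))))) (.node 31665 (.node 31662 (.node 31661 (.leaf 0x29055) (.leaf 0x29055)) (.node 31663 (.leaf 0x29055) (.node 31664 (.leaf 0x29055) (.leaf 0x29055)))) (.node 31668 (.node 31666 (.leaf 0x29055) (.node 31667 (.leaf 0x29055) (.leaf 0x29055))) (.node 31669 (.leaf 0x29055) (.node 31670 (.leaf 0x29055) (.leaf 0x29055))))))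

def candS_1565 : Store := (.node 31681 (.node 31676 (.node 31673 (.node 31672 (.leaf 0x29055) (.leaf 0x29055)) (.node 31674 (.leaf 0x29055) (.node 31675 (.leaf 0x29055) (.leaf 0x29055)))) (.node 31678 (.node 31677 (.leaf 0x29055) (.leaf 0x29055)) (.node 31679 (.leaf 0x29055) (.node 31680 (.leaf 0x29055) (.leaf 0x29055))))) (.node 31686 (.node 31683 (.node 31682 (.leaf 0x29055) (.leaf 0x29055)) (.node 31684 (.leaf 0x29055) (.node 31685 (.leaf 0x29055) (.leaf 0x29055)))) (.node 31688 (.node 31687 (.leaf 0x29055) (.leaf 0x29055)) (.node 31689 (.leaf 0x29055) (.node 31690 (.leaf 0x29055) (.leaf 0x29055))))))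

def candS_1566 : Store := (.node 31701 (.node 31696 (.node 31693 (.node 31692 (.leaf 0x29055) (.leaf 0x29055)) (.node 31694 (.leaf 0x29055) (.node 31695 (.leaf 0x29055) (.leaf 0x29055)))) (.node 31698 (.node 31697 (.leaf 0x29055) (.leaf 0x29055)) (.node 31699 (.leaf 0x29055) (.node 31700 (.leaf 0x29055) (.leaf 0x29055))))) (.node 31706 (.node 31703 (.node 31702 (.leaf 0x29055) (.leaf 0x29055)) (.node 31704 (.leaf 0x29055) (.node 31705 (.leaf 0x29055) (.leaf 0x29055)))) (.node 31708 (.node 31707 (.leaf 0x29055) (.leaf 0x29055)) (.node 31709 (.leaf 0x29055) (.node 31710 (.leaf 0x29055) (.leaf 0x29055))))))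

def candS_1567 : Store := (.node 31721 (.node 31716 (.node 31713 (.node 31712 (.leaf 0x29055) (.leaf 0x29055)) (.node 31714 (.leaf 0x29055) (.node 31715 (.leaf 0x29055) (.leaf 0x29055)))) (.node 31718 (.node 31717 (.leaf 0x29055) (.leaf 0x29055)) (.node 31719 (.leaf 0x29055) (.node 31720 (.leaf 0x29055) (.leaf 0x29055))))) (.node 31726 (.node 31723 (.node 31722 (.leaf 0x29055) (.leaf 0x29055)) (.node 31724 (.leaf 0x29055) (.node 31725 (.leaf 0x29055) (.leaf 0x29055)))) (.node 31728 (.node 31727 (.leaf 0x29055) (.leaf 0x29055)) (.node 31729 (.leaf 0x29055) (.node 31730 (.leaf 0x29055) (.leaf 0x29055))))))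

def candS_1568 : Store := (.node 31741 (.node 31736 (.node 31733 (.node 31732 (.leaf 0x29055) (.leaf 0x29055)) (.node 31734 (.leaf 0x29055) (.node 31735 (.leaf 0x29055) (.leaf 0x29055)))) (.node 31738 (.node 31737 (.leaf 0x29055) (.leaf 0x29055)) (.node 31739 (.leaf 0x29055) (.node 31740 (.leaf 0x29055) (.leaf 0x29055))))) (.node 31746 (.node 31743 (.node 31742 (.leaf 0x29055) (.leaf 0x29055)) (.node 31744 (.leaf 0x29055) (.node 31745 (.leaf 0x29055) (.leaf 0x29055)))) (.node 31749 (.node 31747 (.leaf 0x29055) (.node 31748 (.leaf 0x29055) (.leaf 0x29055))) (.node 31750 (.leaf 0x29055) (.node 31751 (.leaf 0x29055) (.leaf 0x29055))))))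

def candS_1569 : Store := (.node 31762 (.node 31757 (.node 31754 (.node 31753 (.leaf 0x29055) (.leaf 0x29055)) (.node 31755 (.leaf 0x29055) (.node 31756 (.leaf 0x29055) (.leaf 0x29055)))) (.node 31759 (.node 31758 (.leaf 0x29055) (.leaf 0x29055)) (.node 31760 (.leaf 0x29055) (.node 31761 (.leaf 0x29055) (.leaf 0x29055))))) (.node 31767 (.node 31764 (.node 31763 (.leaf 0x29055) (.leaf 0x29055)) (.node 31765 (.leaf 0x29055) (.node 31766 (.leaf 0x29055) (.leaf 0x29055)))) (.node 31769 (.node 31768 (.leaf 0x29055) (.leaf 0x29055)) (.node 31770 (.leaf 0x29055) (.node 31771 (.leaf 0x29055) (.leaf 0x29055))))))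

def candS_1570 : Store := (.node 31782 (.node 31777 (.node 31774 (.node 31773 (.leaf 0x29055) (.leaf 0x29055)) (.node 31775 (.leaf 0x29055) (.node 31776 (.leaf 0x29055) (.leaf 0x29055)))) (.node 31779 (.node 31778 (.leaf 0x29055) (.leaf 0x29055)) (.node 31780 (.leaf 0x29055) (.node 31781 (.leaf 0x29055) (.leaf 0x29055))))) (.node 31787 (.node 31784 (.node 31783 (.leaf 0x29055) (.leaf 0x29055)) (.node 31785 (.leaf 0x29055) (.node 31786 (.leaf 0x29055) (.leaf 0x29055)))) (.node 31789 (.node 31788 (.leaf 0x29055) (.leaf 0x29055)) (.node 31790 (.leaf 0x29055) (.node 31791 (.leaf 0x29055) (.leaf 0x29055))))))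

def candS_1571 : Store := (.node 31802 (.node 31797 (.node 31794 (.node 31793 (.leaf 0x29055) (.leaf 0x29055)) (.node 31795 (.leaf 0x29055) (.node 31796 (.leaf 0x29055) (.leaf 0x29055)))) (.node 31799 (.node 31798 (.leaf 0x29055) (.leaf 0x29055)) (.node 31800 (.leaf 0x29055) (.node 31801 (.leaf 0x29055) (.leaf 0x29055))))) (.node 31807 (.node 31804 (.node 31803 (.leaf 0x29055) (.leaf 0x29055)) (.node 31805 (.leaf 0x29055) (.node 31806 (.leaf 0x29055) (.leaf 0x29055)))) (.node 31809 (.node 31808 (.leaf 0x29055) (.leaf 0x29055)) (.node 31810 (.leaf 0x29055) (.node 31811 (.leaf 0x29055) (.leaf 0x29055))))))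

def candS_1572 : Store := (.node 31822 (.node 31817 (.node 31814 (.node 31813 (.leaf 0x29055) (.leaf 0x29055)) (.node 31815 (.leaf 0x29055) (.node 31816 (.leaf 0x29055) (.leaf 0x29055)))) (.node 31819 (.node 31818 (.leaf 0x29055) (.leaf 0x29055)) (.node 31820 (.leaf 0x29055) (.node 31821 (.leaf 0x29055) (.leaf 0x29055))))) (.node 31827 (.node 31824 (.node 31823 (.leaf 0x29055) (.leaf 0x29055)) (.node 31825 (.leaf 0x29055) (.node 31826 (.leaf 0x29055) (.leaf 0x29055)))) (.node 31830 (.node 31828 (.leaf 0x29055) (.node 31829 (.leaf 0x29055) (.leaf 0x29055))) (.node 31831 (.leaf 0x29055) (.node 31832 (.leaf 0x29055) (.leaf 0x29055))))))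

def candS_1573 : Store := (.node 31843 (.node 31838 (.node 31835 (.node 31834 (.leaf 0x29055) (.leaf 0x29055)) (.node 31836 (.leaf 0x29055) (.node 31837 (.leaf 0x29055) (.leaf 0x29055)))) (.node 31840 (.node 31839 (.leaf 0x29055) (.leaf 0x29055)) (.node 31841 (.leaf 0x29055) (.node 31842 (.leaf 0x29055) (.leaf 0x29055))))) (.node 31848 (.node 31845 (.node 31844 (.leaf 0x29055) (.leaf 0x29055)) (.node 31846 (.leaf 0x29055) (.node 31847 (.leaf 0x29055) (.leaf 0x29055)))) (.node 31850 (.node 31849 (.leaf 0x29055) (.leaf 0x29055)) (.node 31851 (.leaf 0x29055) (.node 31852 (.leaf 0x29055) (.leaf 0x29055))))))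

def candS_1574 : Store := (.node 31863 (.node 31858 (.node 31855 (.node 31854 (.leaf 0x29055) (.leaf 0x29055)) (.node 31856 (.leaf 0x29055) (.node 31857 (.leaf 0x29055) (.leaf 0x29055)))) (.node 31860 (.node 31859 (.leaf 0x29055) (.leaf 0x29055)) (.node 31861 (.leaf 0x29055) (.node 31862 (.leaf 0x29055) (.leaf 0x29055))))) (.node 31868 (.node 31865 (.node 31864 (.leaf 0x29055) (.leaf 0x29055)) (.node 31866 (.leaf 0x29055) (.node 31867 (.leaf 0x29055) (.leaf 0x29055)))) (.node 31870 (.node 31869 (.leaf 0x29055) (.leaf 0x29055)) (.node 31871 (.leaf 0x29055) (.node 31872 (.leaf 0x29055) (.leaf 0x29055))))))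

def candS_1575 : Store := (.node 31883 (.node 31878 (.node 31875 (.node 31874 (.leaf 0x29055) (.leaf 0x29055)) (.node 31876 (.leaf 0x29055) (.node 31877 (.leaf 0x29055) (.leaf 0x29055)))) (.node 31880 (.node 31879 (.leaf 0x29055) (.leaf 0x29055)) (.node 31881 (.leaf 0x29055) (.node 31882 (.leaf 0x29055) (.leaf 0x29055))))) (.node 31888 (.node 31885 (.node 31884 (.leaf 0x29055) (.leaf 0x29055)) (.node 31886 (.leaf 0x29055) (.node 31887 (.leaf 0x29055) (.leaf 0x29055)))) (.node 31890 (.node 31889 (.leaf 0x29055) (.leaf 0x29055)) (.node 31891 (.leaf 0x29055) (.node 31892 (.leaf 0x29055) (.leaf 0x29055))))))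

def candS_1576 : Store := (.node 31903 (.node 31898 (.node 31895 (.node 31894 (.leaf 0x29055) (.leaf 0x29055)) (.node 31896 (.leaf 0x29055) (.node 31897 (.leaf 0x29055) (.leaf 0x29055)))) (.node 31900 (.node 31899 (.leaf 0x29055) (.leaf 0x29055)) (.node 31901 (.leaf 0x29055) (.node 31902 (.leaf 0x29055) (.leaf 0x29055))))) (.node 31908 (.node 31905 (.node 31904 (.leaf 0x29055) (.leaf 0x29055)) (.node 31906 (.leaf 0x29055) (.node 31907 (.leaf 0x29055) (.leaf 0x29055)))) (.node 31911 (.node 31909 (.leaf 0x29055) (.node 31910 (.leaf 0x29055) (.leaf 0x29055))) (.node 31912 (.leaf 0x29055) (.node 31913 (.leaf 0x29055) (.leaf 0x29055))))))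

def candS_1577 : Store := (.node 31924 (.node 31919 (.node 31916 (.node 31915 (.leaf 0x29055) (.leaf 0x29055)) (.node 31917 (.leaf 0x29055) (.node 31918 (.leaf 0x29055) (.leaf 0x29055)))) (.node 31921 (.node 31920 (.leaf 0x29055) (.leaf 0x29055)) (.node 31922 (.leaf 0x29055) (.node 31923 (.leaf 0x29055) (.leaf 0x29055))))) (.node 31929 (.node 31926 (.node 31925 (.leaf 0x29055) (.leaf 0x29055)) (.node 31927 (.leaf 0x29055) (.node 31928 (.leaf 0x29055) (.leaf 0x29055)))) (.node 31931 (.node 31930 (.leaf 0x29055) (.leaf 0x29055)) (.node 31932 (.leaf 0x29055) (.node 31933 (.leaf 0x29055) (.leaf 0x29055))))))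

def candS_1578 : Store := (.node 31944 (.node 31939 (.node 31936 (.node 31935 (.leaf 0x29055) (.leaf 0x29055)) (.node 31937 (.leaf 0x29055) (.node 31938 (.leaf 0x29055) (.leaf 0x29055)))) (.node 31941 (.node 31940 (.leaf 0x29055) (.leaf 0x29055)) (.node 31942 (.leaf 0x29055) (.node 31943 (.leaf 0x29055) (.leaf 0x29055))))) (.node 31949 (.node 31946 (.node 31945 (.leaf 0x29055) (.leaf 0x29055)) (.node 31947 (.leaf 0x29055) (.node 31948 (.leaf 0x29055) (.leaf 0x29055)))) (.node 31951 (.node 31950 (.leaf 0x29055) (.leaf 0x29055)) (.node 31952 (.leaf 0x29055) (.node 31953 (.leaf 0x29055) (.leaf 0x29055))))))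

def candS_1579 : Store := (.node 31964 (.node 31959 (.node 31956 (.node 31955 (.leaf 0x29055) (.leaf 0x29055)) (.node 31957 (.leaf 0x29055) (.node 31958 (.leaf 0x29055) (.leaf 0x29055)))) (.node 31961 (.node 31960 (.leaf 0x29055) (.leaf 0x29055)) (.node 31962 (.leaf 0x29055) (.node 31963 (.leaf 0x29055) (.leaf 0x29055))))) (.node 31969 (.node 31966 (.node 31965 (.leaf 0x29055) (.leaf 0x29055)) (.node 31967 (.leaf 0x29055) (.node 31968 (.leaf 0x29055) (.leaf 0x29055)))) (.node 31971 (.node 31970 (.leaf 0x29055) (.leaf 0x29055)) (.node 31972 (.leaf 0x29055) (.node 31973 (.leaf 0x29055) (.leaf 0x29055))))))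

def candS_1580 : Store := (.node 31984 (.node 31979 (.node 31976 (.node 31975 (.leaf 0x29055) (.leaf 0x29055)) (.node 31977 (.leaf 0x29055) (.node 31978 (.leaf 0x29055) (.leaf 0x29055)))) (.node 31981 (.node 31980 (.leaf 0x29055) (.leaf 0x29055)) (.node 31982 (.leaf 0x29055) (.node 31983 (.leaf 0x29055) (.leaf 0x29055))))) (.node 31989 (.node 31986 (.node 31985 (.leaf 0x29055) (.leaf 0x29055)) (.node 31987 (.leaf 0x29055) (.node 31988 (.leaf 0x29055) (.leaf 0x29055)))) (.node 31992 (.node 31990 (.leaf 0x29055) (.node 31991 (.leaf 0x29055) (.leaf 0x29055))) (.node 31993 (.leaf 0x29055) (.node 31994 (.leaf 0x29055) (.leaf 0x29055))))))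

def candS_1581 : Store := (.node 32005 (.node 32000 (.node 31997 (.node 31996 (.leaf 0x29055) (.leaf 0x29055)) (.node 31998 (.leaf 0x29055) (.node 31999 (.leaf 0x29055) (.leaf 0x29055)))) (.node 32002 (.node 32001 (.leaf 0x29055) (.leaf 0x29055)) (.node 32003 (.leaf 0x29055) (.node 32004 (.leaf 0x29055) (.leaf 0x29055))))) (.node 32010 (.node 32007 (.node 32006 (.leaf 0x29055) (.leaf 0x29055)) (.node 32008 (.leaf 0x29055) (.node 32009 (.leaf 0x29055) (.leaf 0x29055)))) (.node 32012 (.node 32011 (.leaf 0x29055) (.leaf 0x29055)) (.node 32013 (.leaf 0x29055) (.node 32014 (.leaf 0x29055) (.leaf 0x29055))))))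

def candS_1582 : Store := (.node 32025 (.node 32020 (.node 32017 (.node 32016 (.leaf 0x29055) (.leaf 0x29055)) (.node 32018 (.leaf 0x29055) (.node 32019 (.leaf 0x29055) (.leaf 0x29055)))) (.node 32022 (.node 32021 (.leaf 0x29055) (.leaf 0x29055)) (.node 32023 (.leaf 0x29055) (.node 32024 (.leaf 0x29055) (.leaf 0x29055))))) (.node 32030 (.node 32027 (.node 32026 (.leaf 0x29055) (.leaf 0x29055)) (.node 32028 (.leaf 0x29055) (.node 32029 (.leaf 0x29055) (.leaf 0x29055)))) (.node 32032 (.node 32031 (.leaf 0x29055) (.leaf 0x29055)) (.node 32033 (.leaf 0x29055) (.node 32034 (.leaf 0x29055) (.leaf 0x29055))))))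

def candS_1583 : Store := (.node 32045 (.node 32040 (.node 32037 (.node 32036 (.leaf 0x29055) (.leaf 0x29055)) (.node 32038 (.leaf 0x29055) (.node 32039 (.leaf 0x29055) (.leaf 0x29055)))) (.node 32042 (.node 32041 (.leaf 0x29055) (.leaf 0x29055)) (.node 32043 (.leaf 0x29055) (.node 32044 (.leaf 0x29055) (.leaf 0x29055))))) (.node 32050 (.node 32047 (.node 32046 (.leaf 0x29055) (.leaf 0x29055)) (.node 32048 (.leaf 0x29055) (.node 32049 (.leaf 0x29055) (.leaf 0x29055)))) (.node 32052 (.node 32051 (.leaf 0x29055) (.leaf 0x29055)) (.node 32053 (.leaf 0x29055) (.node 32054 (.leaf 0x29055) (.leaf 0x29055))))))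

def candS_1584 : Store := (.node 32065 (.node 32060 (.node 32057 (.node 32056 (.leaf 0x29055) (.leaf 0x29055)) (.node 32058 (.leaf 0x29055) (.node 32059 (.leaf 0x29055) (.leaf 0x29055)))) (.node 32062 (.node 32061 (.leaf 0x29055) (.leaf 0x29055)) (.node 32063 (.leaf 0x29055) (.node 32064 (.leaf 0x29055) (.leaf 0x29055))))) (.node 32070 (.node 32067 (.node 32066 (.leaf 0x29055) (.leaf 0x29055)) (.node 32068 (.leaf 0x29055) (.node 32069 (.leaf 0x29055) (.leaf 0x29055)))) (.node 32073 (.node 32071 (.leaf 0x29055) (.node 32072 (.leaf 0x29055) (.leaf 0x29055))) (.node 32074 (.leaf 0x29055) (.node 32075 (.leaf 0x29055) (.leaf 0x29055))))))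

def candS_1585 : Store := (.node 32086 (.node 32081 (.node 32078 (.node 32077 (.leaf 0x29055) (.leaf 0x29055)) (.node 32079 (.leaf 0x29055) (.node 32080 (.leaf 0x29055) (.leaf 0x29055)))) (.node 32083 (.node 32082 (.leaf 0x29055) (.leaf 0x29055)) (.node 32084 (.leaf 0x29055) (.node 32085 (.leaf 0x29055) (.leaf 0x29055))))) (.node 32091 (.node 32088 (.node 32087 (.leaf 0x29055) (.leaf 0x29055)) (.node 32089 (.leaf 0x29055) (.node 32090 (.leaf 0x29055) (.leaf 0x29055)))) (.node 32093 (.node 32092 (.leaf 0x29055) (.leaf 0x29055)) (.node 32094 (.leaf 0x29055) (.node 32095 (.leaf 0x29055) (.leaf 0x29055))))))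

def candS_1586 : Store := (.node 32106 (.node 32101 (.node 32098 (.node 32097 (.leaf 0x29055) (.leaf 0x29055)) (.node 32099 (.leaf 0x29055) (.node 32100 (.leaf 0x29055) (.leaf 0x29055)))) (.node 32103 (.node 32102 (.leaf 0x29055) (.leaf 0x29055)) (.node 32104 (.leaf 0x29055) (.node 32105 (.leaf 0x29055) (.leaf 0x29055))))) (.node 32111 (.node 32108 (.node 32107 (.leaf 0x29055) (.leaf 0x29055)) (.node 32109 (.leaf 0x29055) (.node 32110 (.leaf 0x29055) (.leaf 0x29055)))) (.node 32113 (.node 32112 (.leaf 0x29055) (.leaf 0x29055)) (.node 32114 (.leaf 0x29055) (.node 32115 (.leaf 0x29055) (.leaf 0x29055))))))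

def candS_1587 : Store := (.node 32126 (.node 32121 (.node 32118 (.node 32117 (.leaf 0x29055) (.leaf 0x29055)) (.node 32119 (.leaf 0x29055) (.node 32120 (.leaf 0x29055) (.leaf 0x29055)))) (.node 32123 (.node 32122 (.leaf 0x29055) (.leaf 0x29055)) (.node 32124 (.leaf 0x29055) (.node 32125 (.leaf 0x29055) (.leaf 0x29055))))) (.node 32131 (.node 32128 (.node 32127 (.leaf 0x29055) (.leaf 0x29055)) (.node 32129 (.leaf 0x29055) (.node 32130 (.leaf 0x29055) (.leaf 0x29055)))) (.node 32133 (.node 32132 (.leaf 0x29055) (.leaf 0x29055)) (.node 32134 (.leaf 0x29055) (.node 32135 (.leaf 0x29055) (.leaf 0x29055))))))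

def candS_1588 : Store := (.node 32146 (.node 32141 (.node 32138 (.node 32137 (.leaf 0x29055) (.leaf 0x29055)) (.node 32139 (.leaf 0x29055) (.node 32140 (.leaf 0x29055) (.leaf 0x29055)))) (.node 32143 (.node 32142 (.leaf 0x29055) (.leaf 0x29055)) (.node 32144 (.leaf 0x29055) (.node 32145 (.leaf 0x29055) (.leaf 0x29055))))) (.node 32151 (.node 32148 (.node 32147 (.leaf 0x29055) (.leaf 0x29055)) (.node 32149 (.leaf 0x29055) (.node 32150 (.leaf 0x29055) (.leaf 0x29055)))) (.node 32154 (.node 32152 (.leaf 0x29055) (.node 32153 (.leaf 0x29055) (.leaf 0x29055))) (.node 32155 (.leaf 0x29055) (.node 32156 (.leaf 0x29055) (.leaf 0x29055))))))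

def candS_1589 : Store := (.node 32167 (.node 32162 (.node 32159 (.node 32158 (.leaf 0x29055) (.leaf 0x29055)) (.node 32160 (.leaf 0x29055) (.node 32161 (.leaf 0x29055) (.leaf 0x29055)))) (.node 32164 (.node 32163 (.leaf 0x29055) (.leaf 0x29055)) (.node 32165 (.leaf 0x29055) (.node 32166 (.leaf 0x29055) (.leaf 0x29055))))) (.node 32172 (.node 32169 (.node 32168 (.leaf 0x29055) (.leaf 0x29055)) (.node 32170 (.leaf 0x29055) (.node 32171 (.leaf 0x29055) (.leaf 0x29055)))) (.node 32174 (.node 32173 (.leaf 0x29055) (.leaf 0x29055)) (.node 32175 (.leaf 0x29055) (.node 32176 (.leaf 0x29055) (.leaf 0x29055))))))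

def candS_1590 : Store := (.node 32187 (.node 32182 (.node 32179 (.node 32178 (.leaf 0x29055) (.leaf 0x29055)) (.node 32180 (.leaf 0x29055) (.node 32181 (.leaf 0x29055) (.leaf 0x29055)))) (.node 32184 (.node 32183 (.leaf 0x29055) (.leaf 0x29055)) (.node 32185 (.leaf 0x29055) (.node 32186 (.leaf 0x29055) (.leaf 0x29055))))) (.node 32192 (.node 32189 (.node 32188 (.leaf 0x29055) (.leaf 0x29055)) (.node 32190 (.leaf 0x29055) (.node 32191 (.leaf 0x29055) (.leaf 0x29055)))) (.node 32194 (.node 32193 (.leaf 0x29055) (.leaf 0x29055)) (.node 32195 (.leaf 0x29055) (.node 32196 (.leaf 0x29055) (.leaf 0x29055))))))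

def candS_1591 : Store := (.node 32207 (.node 32202 (.node 32199 (.node 32198 (.leaf 0x29055) (.leaf 0x29055)) (.node 32200 (.leaf 0x29055) (.node 32201 (.leaf 0x29055) (.leaf 0x29055)))) (.node 32204 (.node 32203 (.leaf 0x29055) (.leaf 0x29055)) (.node 32205 (.leaf 0x29055) (.node 32206 (.leaf 0x29055) (.leaf 0x29055))))) (.node 32212 (.node 32209 (.node 32208 (.leaf 0x29055) (.leaf 0x29055)) (.node 32210 (.leaf 0x29055) (.node 32211 (.leaf 0x29055) (.leaf 0x29055)))) (.node 32214 (.node 32213 (.leaf 0x29055) (.leaf 0x29055)) (.node 32215 (.leaf 0x29055) (.node 32216 (.leaf 0x29055) (.leaf 0x29055))))))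

def candS_1592 : Store := (.node 32227 (.node 32222 (.node 32219 (.node 32218 (.leaf 0x29055) (.leaf 0x29055)) (.node 32220 (.leaf 0x29055) (.node 32221 (.leaf 0x29055) (.leaf 0x29055)))) (.node 32224 (.node 32223 (.leaf 0x29055) (.leaf 0x29055)) (.node 32225 (.leaf 0x29055) (.node 32226 (.leaf 0x29055) (.leaf 0x29055))))) (.node 32232 (.node 32229 (.node 32228 (.leaf 0x29055) (.leaf 0x29055)) (.node 32230 (.leaf 0x29055) (.node 32231 (.leaf 0x29055) (.leaf 0x29055)))) (.node 32235 (.node 32233 (.leaf 0x29055) (.node 32234 (.leaf 0x29055) (.leaf 0x29055))) (.node 32236 (.leaf 0x29055) (.node 32237 (.leaf 0x29055) (.leaf 0x29055))))))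

def candS_1593 : Store := (.node 32248 (.node 32243 (.node 32240 (.node 32239 (.leaf 0x29055) (.leaf 0x29055)) (.node 32241 (.leaf 0x29055) (.node 32242 (.leaf 0x29055) (.leaf 0x29055)))) (.node 32245 (.node 32244 (.leaf 0x29055) (.leaf 0x29055)) (.node 32246 (.leaf 0x29055) (.node 32247 (.leaf 0x29055) (.leaf 0x29055))))) (.node 32253 (.node 32250 (.node 32249 (.leaf 0x29055) (.leaf 0x29055)) (.node 32251 (.leaf 0x29055) (.node 32252 (.leaf 0x29055) (.leaf 0x29055)))) (.node 32255 (.node 32254 (.leaf 0x29055) (.leaf 0x29055)) (.node 32256 (.leaf 0x29055) (.node 32257 (.leaf 0x29055) (.leaf 0x29055))))))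

def candS_1594 : Store := (.node 32268 (.node 32263 (.node 32260 (.node 32259 (.leaf 0x29055) (.leaf 0x29055)) (.node 32261 (.leaf 0x29055) (.node 32262 (.leaf 0x29055) (.leaf 0x29055)))) (.node 32265 (.node 32264 (.leaf 0x29055) (.leaf 0x29055)) (.node 32266 (.leaf 0x29055) (.node 32267 (.leaf 0x29055) (.leaf 0x29055))))) (.node 32273 (.node 32270 (.node 32269 (.leaf 0x29055) (.leaf 0x29055)) (.node 32271 (.leaf 0x29055) (.node 32272 (.leaf 0x29055) (.leaf 0x29055)))) (.node 32275 (.node 32274 (.leaf 0x29055) (.leaf 0x29055)) (.node 32276 (.leaf 0x29055) (.node 32277 (.leaf 0x29055) (.leaf 0x29055))))))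

def candS_1595 : Store := (.node 32288 (.node 32283 (.node 32280 (.node 32279 (.leaf 0x29055) (.leaf 0x29055)) (.node 32281 (.leaf 0x29055) (.node 32282 (.leaf 0x29055) (.leaf 0x29055)))) (.node 32285 (.node 32284 (.leaf 0x29055) (.leaf 0x29055)) (.node 32286 (.leaf 0x29055) (.node 32287 (.leaf 0x29055) (.leaf 0x29055))))) (.node 32293 (.node 32290 (.node 32289 (.leaf 0x29055) (.leaf 0x29055)) (.node 32291 (.leaf 0x29055) (.node 32292 (.leaf 0x29055) (.leaf 0x29055)))) (.node 32295 (.node 32294 (.leaf 0x29055) (.leaf 0x29055)) (.node 32296 (.leaf 0x29055) (.node 32297 (.leaf 0x29055) (.leaf 0x29055))))))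

def candS_1596 : Store := (.node 32308 (.node 32303 (.node 32300 (.node 32299 (.leaf 0x29055) (.leaf 0x29055)) (.node 32301 (.leaf 0x29055) (.node 32302 (.leaf 0x29055) (.leaf 0x29055)))) (.node 32305 (.node 32304 (.leaf 0x29055) (.leaf 0x29055)) (.node 32306 (.leaf 0x29055) (.node 32307 (.leaf 0x29055) (.leaf 0x29055))))) (.node 32313 (.node 32310 (.node 32309 (.leaf 0x29055) (.leaf 0x29055)) (.node 32311 (.leaf 0x29055) (.node 32312 (.leaf 0x29055) (.leaf 0x29055)))) (.node 32316 (.node 32314 (.leaf 0x29055) (.node 32315 (.leaf 0x29055) (.leaf 0x29055))) (.node 32317 (.leaf 0x29055) (.node 32318 (.leaf 0x29055) (.leaf 0x29055))))))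

def candS_1597 : Store := (.node 32329 (.node 32324 (.node 32321 (.node 32320 (.leaf 0x29055) (.leaf 0x29055)) (.node 32322 (.leaf 0x29055) (.node 32323 (.leaf 0x29055) (.leaf 0x29055)))) (.node 32326 (.node 32325 (.leaf 0x29055) (.leaf 0x29055)) (.node 32327 (.leaf 0x29055) (.node 32328 (.leaf 0x29055) (.leaf 0x29055))))) (.node 32334 (.node 32331 (.node 32330 (.leaf 0x29055) (.leaf 0x29055)) (.node 32332 (.leaf 0x29055) (.node 32333 (.leaf 0x29055) (.leaf 0x29055)))) (.node 32336 (.node 32335 (.leaf 0x29055) (.leaf 0x29055)) (.node 32337 (.leaf 0x29055) (.node 32338 (.leaf 0x29055) (.leaf 0x29055))))))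

def candS_1598 : Store := (.node 32349 (.node 32344 (.node 32341 (.node 32340 (.leaf 0x29055) (.leaf 0x29055)) (.node 32342 (.leaf 0x29055) (.node 32343 (.leaf 0x29055) (.leaf 0x29055)))) (.node 32346 (.node 32345 (.leaf 0x29055) (.leaf 0x29055)) (.node 32347 (.leaf 0x29055) (.node 32348 (.leaf 0x29055) (.leaf 0x29055))))) (.node 32354 (.node 32351 (.node 32350 (.leaf 0x29055) (.leaf 0x29055)) (.node 32352 (.leaf 0x29055) (.node 32353 (.leaf 0x29055) (.leaf 0x29055)))) (.node 32356 (.node 32355 (.leaf 0x29055) (.leaf 0x29055)) (.node 32357 (.leaf 0x29055) (.node 32358 (.leaf 0x29055) (.leaf 0x29055))))))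

def candS_1599 : Store := (.node 32369 (.node 32364 (.node 32361 (.node 32360 (.leaf 0x29055) (.leaf 0x29055)) (.node 32362 (.leaf 0x29055) (.node 32363 (.leaf 0x29055) (.leaf 0x29055)))) (.node 32366 (.node 32365 (.leaf 0x29055) (.leaf 0x29055)) (.node 32367 (.leaf 0x29055) (.node 32368 (.leaf 0x29055) (.leaf 0x29055))))) (.node 32374 (.node 32371 (.node 32370 (.leaf 0x29055) (.leaf 0x29055)) (.node 32372 (.leaf 0x29055) (.node 32373 (.leaf 0x29055) (.leaf 0x29055)))) (.node 32376 (.node 32375 (.leaf 0x29055) (.leaf 0x29055)) (.node 32377 (.leaf 0x29055) (.node 32378 (.leaf 0x29055) (.leaf 0x29055))))))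

def candS_1600 : Store := (.node 32389 (.node 32384 (.node 32381 (.node 32380 (.leaf 0x29055) (.leaf 0x29055)) (.node 32382 (.leaf 0x29055) (.node 32383 (.leaf 0x29055) (.leaf 0x29055)))) (.node 32386 (.node 32385 (.leaf 0x29055) (.leaf 0x29055)) (.node 32387 (.leaf 0x29055) (.node 32388 (.leaf 0x29055) (.leaf 0x29055))))) (.node 32394 (.node 32391 (.node 32390 (.leaf 0x29055) (.leaf 0x29055)) (.node 32392 (.leaf 0x29055) (.node 32393 (.leaf 0x29055) (.leaf 0x29055)))) (.node 32397 (.node 32395 (.leaf 0x29055) (.node 32396 (.leaf 0x29055) (.leaf 0x29055))) (.node 32398 (.leaf 0x29055) (.node 32399 (.leaf 0x29055) (.leaf 0x29055))))))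

def candS_1601 : Store := (.node 32410 (.node 32405 (.node 32402 (.node 32401 (.leaf 0x29055) (.leaf 0x29055)) (.node 32403 (.leaf 0x29055) (.node 32404 (.leaf 0x29055) (.leaf 0x29055)))) (.node 32407 (.node 32406 (.leaf 0x29055) (.leaf 0x29055)) (.node 32408 (.leaf 0x29055) (.node 32409 (.leaf 0x29055) (.leaf 0x29055))))) (.node 32415 (.node 32412 (.node 32411 (.leaf 0x29055) (.leaf 0x29055)) (.node 32413 (.leaf 0x29055) (.node 32414 (.leaf 0x29055) (.leaf 0x29055)))) (.node 32417 (.node 32416 (.leaf 0x29055) (.leaf 0x29055)) (.node 32418 (.leaf 0x29055) (.node 32419 (.leaf 0x29055) (.leaf 0x29055))))))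

def candS_1602 : Store := (.node 32430 (.node 32425 (.node 32422 (.node 32421 (.leaf 0x29055) (.leaf 0x29055)) (.node 32423 (.leaf 0x29055) (.node 32424 (.leaf 0x29055) (.leaf 0x29055)))) (.node 32427 (.node 32426 (.leaf 0x29055) (.leaf 0x29055)) (.node 32428 (.leaf 0x29055) (.node 32429 (.leaf 0x29055) (.leaf 0x29055))))) (.node 32435 (.node 32432 (.node 32431 (.leaf 0x29055) (.leaf 0x29055)) (.node 32433 (.leaf 0x29055) (.node 32434 (.leaf 0x29055) (.leaf 0x29055)))) (.node 32437 (.node 32436 (.leaf 0x29055) (.leaf 0x29055)) (.node 32438 (.leaf 0x29055) (.node 32439 (.leaf 0x29055) (.leaf 0x29055))))))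

def candS_1603 : Store := (.node 32450 (.node 32445 (.node 32442 (.node 32441 (.leaf 0x29055) (.leaf 0x29055)) (.node 32443 (.leaf 0x29055) (.node 32444 (.leaf 0x29055) (.leaf 0x29055)))) (.node 32447 (.node 32446 (.leaf 0x29055) (.leaf 0x29055)) (.node 32448 (.leaf 0x29055) (.node 32449 (.leaf 0x29055) (.leaf 0x29055))))) (.node 32455 (.node 32452 (.node 32451 (.leaf 0x29055) (.leaf 0x29055)) (.node 32453 (.leaf 0x29055) (.node 32454 (.leaf 0x29055) (.leaf 0x29055)))) (.node 32457 (.node 32456 (.leaf 0x29055) (.leaf 0x29055)) (.node 32458 (.leaf 0x29055) (.node 32459 (.leaf 0x29055) (.leaf 0x29055))))))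

def candS_1604 : Store := (.node 32470 (.node 32465 (.node 32462 (.node 32461 (.leaf 0x29055) (.leaf 0x29055)) (.node 32463 (.leaf 0x29055) (.node 32464 (.leaf 0x29055) (.leaf 0x29055)))) (.node 32467 (.node 32466 (.leaf 0x29055) (.leaf 0x29055)) (.node 32468 (.leaf 0x29055) (.node 32469 (.leaf 0x29055) (.leaf 0x29055))))) (.node 32475 (.node 32472 (.node 32471 (.leaf 0x29055) (.leaf 0x29055)) (.node 32473 (.leaf 0x29055) (.node 32474 (.leaf 0x29055) (.leaf 0x29055)))) (.node 32478 (.node 32476 (.leaf 0x29055) (.node 32477 (.leaf 0x29055) (.leaf 0x29055))) (.node 32479 (.leaf 0x29055) (.node 32480 (.leaf 0x29055) (.leaf 0x29055))))))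

def candS_1605 : Store := (.node 32491 (.node 32486 (.node 32483 (.node 32482 (.leaf 0x29055) (.leaf 0x29055)) (.node 32484 (.leaf 0x29055) (.node 32485 (.leaf 0x29055) (.leaf 0x29055)))) (.node 32488 (.node 32487 (.leaf 0x29055) (.leaf 0x29055)) (.node 32489 (.leaf 0x29055) (.node 32490 (.leaf 0x29055) (.leaf 0x29055))))) (.node 32496 (.node 32493 (.node 32492 (.leaf 0x29055) (.leaf 0x29055)) (.node 32494 (.leaf 0x29055) (.node 32495 (.leaf 0x29055) (.leaf 0x29055)))) (.node 32498 (.node 32497 (.leaf 0x29055) (.leaf 0x29055)) (.node 32499 (.leaf 0x29055) (.node 32500 (.leaf 0x29055) (.leaf 0x29055))))))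

def candS_1606 : Store := (.node 32511 (.node 32506 (.node 32503 (.node 32502 (.leaf 0x29055) (.leaf 0x29055)) (.node 32504 (.leaf 0x29055) (.node 32505 (.leaf 0x29055) (.leaf 0x29055)))) (.node 32508 (.node 32507 (.leaf 0x29055) (.leaf 0x29055)) (.node 32509 (.leaf 0x29055) (.node 32510 (.leaf 0x29055) (.leaf 0x29055))))) (.node 32516 (.node 32513 (.node 32512 (.leaf 0x29055) (.leaf 0x29055)) (.node 32514 (.leaf 0x29055) (.node 32515 (.leaf 0x29055) (.leaf 0x29055)))) (.node 32518 (.node 32517 (.leaf 0x29055) (.leaf 0x29055)) (.node 32519 (.leaf 0x29055) (.node 32520 (.leaf 0x29055) (.leaf 0x29055))))))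

def candS_1607 : Store := (.node 32531 (.node 32526 (.node 32523 (.node 32522 (.leaf 0x29055) (.leaf 0x29055)) (.node 32524 (.leaf 0x29055) (.node 32525 (.leaf 0x29055) (.leaf 0x29055)))) (.node 32528 (.node 32527 (.leaf 0x29055) (.leaf 0x29055)) (.node 32529 (.leaf 0x29055) (.node 32530 (.leaf 0x29055) (.leaf 0x29055))))) (.node 32536 (.node 32533 (.node 32532 (.leaf 0x29055) (.leaf 0x29055)) (.node 32534 (.leaf 0x29055) (.node 32535 (.leaf 0x29055) (.leaf 0x29055)))) (.node 32538 (.node 32537 (.leaf 0x29055) (.leaf 0x29055)) (.node 32539 (.leaf 0x29055) (.node 32540 (.leaf 0x29055) (.leaf 0x29055))))))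

def candS_1608 : Store := (.node 32551 (.node 32546 (.node 32543 (.node 32542 (.leaf 0x29055) (.leaf 0x29055)) (.node 32544 (.leaf 0x29055) (.node 32545 (.leaf 0x29055) (.leaf 0x29055)))) (.node 32548 (.node 32547 (.leaf 0x29055) (.leaf 0x29055)) (.node 32549 (.leaf 0x29055) (.node 32550 (.leaf 0x29055) (.leaf 0x29055))))) (.node 32556 (.node 32553 (.node 32552 (.leaf 0x29055) (.leaf 0x29055)) (.node 32554 (.leaf 0x29055) (.node 32555 (.leaf 0x29055) (.leaf 0x29055)))) (.node 32559 (.node 32557 (.leaf 0x29055) (.node 32558 (.leaf 0x29055) (.leaf 0x29055))) (.node 32560 (.leaf 0x29055) (.node 32561 (.leaf 0x29055) (.leaf 0x29055))))))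

def candS_1609 : Store := (.node 32572 (.node 32567 (.node 32564 (.node 32563 (.leaf 0x29055) (.leaf 0x29055)) (.node 32565 (.leaf 0x29055) (.node 32566 (.leaf 0x29055) (.leaf 0x29055)))) (.node 32569 (.node 32568 (.leaf 0x29055) (.leaf 0x29055)) (.node 32570 (.leaf 0x29055) (.node 32571 (.leaf 0x29055) (.leaf 0x29055))))) (.node 32577 (.node 32574 (.node 32573 (.leaf 0x29055) (.leaf 0x29055)) (.node 32575 (.leaf 0x29055) (.node 32576 (.leaf 0x29055) (.leaf 0x29055)))) (.node 32579 (.node 32578 (.leaf 0x29055) (.leaf 0x29055)) (.node 32580 (.leaf 0x29055) (.node 32581 (.leaf 0x29055) (.leaf 0x29055))))))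

def candS_1610 : Store := (.node 32592 (.node 32587 (.node 32584 (.node 32583 (.leaf 0x29055) (.leaf 0x29055)) (.node 32585 (.leaf 0x29055) (.node 32586 (.leaf 0x29055) (.leaf 0x29055)))) (.node 32589 (.node 32588 (.leaf 0x29055) (.leaf 0x29055)) (.node 32590 (.leaf 0x29055) (.node 32591 (.leaf 0x29055) (.leaf 0x29055))))) (.node 32597 (.node 32594 (.node 32593 (.leaf 0x29055) (.leaf 0x29055)) (.node 32595 (.leaf 0x29055) (.node 32596 (.leaf 0x29055) (.leaf 0x29055)))) (.node 32599 (.node 32598 (.leaf 0x29055) (.leaf 0x29055)) (.node 32600 (.leaf 0x29055) (.node 32601 (.leaf 0x29055) (.leaf 0x29055))))))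

def candS_1611 : Store := (.node 32612 (.node 32607 (.node 32604 (.node 32603 (.leaf 0x29055) (.leaf 0x29055)) (.node 32605 (.leaf 0x29055) (.node 32606 (.leaf 0x29055) (.leaf 0x29055)))) (.node 32609 (.node 32608 (.leaf 0x29055) (.leaf 0x29055)) (.node 32610 (.leaf 0x29055) (.node 32611 (.leaf 0x29055) (.leaf 0x29055))))) (.node 32617 (.node 32614 (.node 32613 (.leaf 0x29055) (.leaf 0x29055)) (.node 32615 (.leaf 0x29055) (.node 32616 (.leaf 0x29055) (.leaf 0x29055)))) (.node 32619 (.node 32618 (.leaf 0x29055) (.leaf 0x29055)) (.node 32620 (.leaf 0x29055) (.node 32621 (.leaf 0x29055) (.leaf 0x29055))))))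

def candS_1612 : Store := (.node 32632 (.node 32627 (.node 32624 (.node 32623 (.leaf 0x29055) (.leaf 0x29055)) (.node 32625 (.leaf 0x29055) (.node 32626 (.leaf 0x29055) (.leaf 0x29055)))) (.node 32629 (.node 32628 (.leaf 0x29055) (.leaf 0x29055)) (.node 32630 (.leaf 0x29055) (.node 32631 (.leaf 0x29055) (.leaf 0x29055))))) (.node 32637 (.node 32634 (.node 32633 (.leaf 0x29055) (.leaf 0x29055)) (.node 32635 (.leaf 0x29055) (.node 32636 (.leaf 0x29055) (.leaf 0x29055)))) (.node 32640 (.node 32638 (.leaf 0x29055) (.node 32639 (.leaf 0x29055) (.leaf 0x29055))) (.node 32641 (.leaf 0x29055) (.node 32642 (.leaf 0x29055) (.leaf 0x29055))))))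

def candS_1613 : Store := (.node 32653 (.node 32648 (.node 32645 (.node 32644 (.leaf 0x29055) (.leaf 0x29055)) (.node 32646 (.leaf 0x29055) (.node 32647 (.leaf 0x29055) (.leaf 0x29055)))) (.node 32650 (.node 32649 (.leaf 0x29055) (.leaf 0x29055)) (.node 32651 (.leaf 0x29055) (.node 32652 (.leaf 0x29055) (.leaf 0x29055))))) (.node 32658 (.node 32655 (.node 32654 (.leaf 0x29055) (.leaf 0x29055)) (.node 32656 (.leaf 0x29055) (.node 32657 (.leaf 0x29055) (.leaf 0x29055)))) (.node 32660 (.node 32659 (.leaf 0x29055) (.leaf 0x29055)) (.node 32661 (.leaf 0x29055) (.node 32662 (.leaf 0x29055) (.leaf 0x29055))))))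

def candS_1614 : Store := (.node 32673 (.node 32668 (.node 32665 (.node 32664 (.leaf 0x29055) (.leaf 0x29055)) (.node 32666 (.leaf 0x29055) (.node 32667 (.leaf 0x29055) (.leaf 0x29055)))) (.node 32670 (.node 32669 (.leaf 0x29055) (.leaf 0x29055)) (.node 32671 (.leaf 0x29055) (.node 32672 (.leaf 0x29055) (.leaf 0x29055))))) (.node 32678 (.node 32675 (.node 32674 (.leaf 0x29055) (.leaf 0x29055)) (.node 32676 (.leaf 0x29055) (.node 32677 (.leaf 0x29055) (.leaf 0x29055)))) (.node 32680 (.node 32679 (.leaf 0x29055) (.leaf 0x29055)) (.node 32681 (.leaf 0x29055) (.node 32682 (.leaf 0x29055) (.leaf 0x29055))))))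

def candS_1615 : Store := (.node 32693 (.node 32688 (.node 32685 (.node 32684 (.leaf 0x29055) (.leaf 0x29055)) (.node 32686 (.leaf 0x29055) (.node 32687 (.leaf 0x29055) (.leaf 0x29055)))) (.node 32690 (.node 32689 (.leaf 0x29055) (.leaf 0x29055)) (.node 32691 (.leaf 0x29055) (.node 32692 (.leaf 0x29055) (.leaf 0x29055))))) (.node 32698 (.node 32695 (.node 32694 (.leaf 0x29055) (.leaf 0x29055)) (.node 32696 (.leaf 0x29055) (.node 32697 (.leaf 0x29055) (.leaf 0x29055)))) (.node 32700 (.node 32699 (.leaf 0x29055) (.leaf 0x29055)) (.node 32701 (.leaf 0x29055) (.node 32702 (.leaf 0x29055) (.leaf 0x29055))))))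

def candS_1616 : Store := (.node 32713 (.node 32708 (.node 32705 (.node 32704 (.leaf 0x29055) (.leaf 0x29055)) (.node 32706 (.leaf 0x29055) (.node 32707 (.leaf 0x29055) (.leaf 0x29055)))) (.node 32710 (.node 32709 (.leaf 0x29055) (.leaf 0x29055)) (.node 32711 (.leaf 0x29055) (.node 32712 (.leaf 0x29055) (.leaf 0x29055))))) (.node 32718 (.node 32715 (.node 32714 (.leaf 0x29055) (.leaf 0x29055)) (.node 32716 (.leaf 0x29055) (.node 32717 (.leaf 0x29055) (.leaf 0x29055)))) (.node 32721 (.node 32719 (.leaf 0x29055) (.node 32720 (.leaf 0x29055) (.leaf 0x29055))) (.node 32722 (.leaf 0x29055) (.node 32723 (.leaf 0x29055) (.leaf 0x29055))))))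

def candS_1617 : Store := (.node 32734 (.node 32729 (.node 32726 (.node 32725 (.leaf 0x29055) (.leaf 0x29055)) (.node 32727 (.leaf 0x29055) (.node 32728 (.leaf 0x29055) (.leaf 0x29055)))) (.node 32731 (.node 32730 (.leaf 0x29055) (.leaf 0x29055)) (.node 32732 (.leaf 0x29055) (.node 32733 (.leaf 0x29055) (.leaf 0x29055))))) (.node 32739 (.node 32736 (.node 32735 (.leaf 0x29055) (.leaf 0x29055)) (.node 32737 (.leaf 0x29055) (.node 32738 (.leaf 0x29055) (.leaf 0x29055)))) (.node 32741 (.node 32740 (.leaf 0x29055) (.leaf 0x29055)) (.node 32742 (.leaf 0x29055) (.node 32743 (.leaf 0x29055) (.leaf 0x29055))))))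

def candS_1618 : Store := (.node 32754 (.node 32749 (.node 32746 (.node 32745 (.leaf 0x29055) (.leaf 0x29055)) (.node 32747 (.leaf 0x29055) (.node 32748 (.leaf 0x29055) (.leaf 0x29055)))) (.node 32751 (.node 32750 (.leaf 0x29055) (.leaf 0x29055)) (.node 32752 (.leaf 0x29055) (.node 32753 (.leaf 0x29055) (.leaf 0x29055))))) (.node 32759 (.node 32756 (.node 32755 (.leaf 0x29055) (.leaf 0x29055)) (.node 32757 (.leaf 0x29055) (.node 32758 (.leaf 0x29055) (.leaf 0x29055)))) (.node 32761 (.node 32760 (.leaf 0x29055) (.leaf 0x29055)) (.node 32762 (.leaf 0x29055) (.node 32763 (.leaf 0x29055) (.leaf 0x29055))))))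

def candS_1619 : Store := (.node 32774 (.node 32769 (.node 32766 (.node 32765 (.leaf 0x29055) (.leaf 0x29055)) (.node 32767 (.leaf 0x29055) (.node 32768 (.leaf 0x29055) (.leaf 0x29055)))) (.node 32771 (.node 32770 (.leaf 0x29055) (.leaf 0x29055)) (.node 32772 (.leaf 0x29055) (.node 32773 (.leaf 0x29055) (.leaf 0x29055))))) (.node 32779 (.node 32776 (.node 32775 (.leaf 0x29055) (.leaf 0x29055)) (.node 32777 (.leaf 0x29055) (.node 32778 (.leaf 0x29055) (.leaf 0x29055)))) (.node 32781 (.node 32780 (.leaf 0x29055) (.leaf 0x29055)) (.node 32782 (.leaf 0x29055) (.node 32783 (.leaf 0x29055) (.leaf 0x29055))))))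

def candS_1620 : Store := (.node 32794 (.node 32789 (.node 32786 (.node 32785 (.leaf 0x29055) (.leaf 0x29055)) (.node 32787 (.leaf 0x29055) (.node 32788 (.leaf 0x29055) (.leaf 0x29055)))) (.node 32791 (.node 32790 (.leaf 0x29055) (.leaf 0x29055)) (.node 32792 (.leaf 0x29055) (.node 32793 (.leaf 0x29055) (.leaf 0x29055))))) (.node 32799 (.node 32796 (.node 32795 (.leaf 0x29055) (.leaf 0x29055)) (.node 32797 (.leaf 0x29055) (.node 32798 (.leaf 0x29055) (.leaf 0x29055)))) (.node 32802 (.node 32800 (.leaf 0x29055) (.node 32801 (.leaf 0x29055) (.leaf 0x29055))) (.node 32803 (.leaf 0x29055) (.node 32804 (.leaf 0x29055) (.leaf 0x29055))))))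

def candS_1621 : Store := (.node 32815 (.node 32810 (.node 32807 (.node 32806 (.leaf 0x29055) (.leaf 0x29055)) (.node 32808 (.leaf 0x29055) (.node 32809 (.leaf 0x29055) (.leaf 0x29055)))) (.node 32812 (.node 32811 (.leaf 0x29055) (.leaf 0x29055)) (.node 32813 (.leaf 0x29055) (.node 32814 (.leaf 0x29055) (.leaf 0x29055))))) (.node 32820 (.node 32817 (.node 32816 (.leaf 0x29055) (.leaf 0x29055)) (.node 32818 (.leaf 0x29055) (.node 32819 (.leaf 0x29055) (.leaf 0x29055)))) (.node 32822 (.node 32821 (.leaf 0x29055) (.leaf 0x29055)) (.node 32823 (.leaf 0x29055) (.node 32824 (.leaf 0x29055) (.leaf 0x29055))))))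

def candS_1622 : Store := (.node 32835 (.node 32830 (.node 32827 (.node 32826 (.leaf 0x29055) (.leaf 0x29055)) (.node 32828 (.leaf 0x29055) (.node 32829 (.leaf 0x29055) (.leaf 0x29055)))) (.node 32832 (.node 32831 (.leaf 0x29055) (.leaf 0x29055)) (.node 32833 (.leaf 0x3b0e3) (.node 32834 (.leaf 0x3b0e3) (.leaf 0x3b0e3))))) (.node 32840 (.node 32837 (.node 32836 (.leaf 0x3b0e3) (.leaf 0x3b0e3)) (.node 32838 (.leaf 0x3b0e3) (.node 32839 (.leaf 0x3b0e3) (.leaf 0x3b0e3)))) (.node 32842 (.node 32841 (.leaf 0x3b0e3) (.leaf 0x3b0e3)) (.node 32843 (.leaf 0x3b0e3) (.node 32844 (.leaf 0x3b0e3) (.leaf 0x3b0e3))))))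

def candS_1623 : Store := (.node 32855 (.node 32850 (.node 32847 (.node 32846 (.leaf 0x3b0e3) (.leaf 0x3b0e3)) (.node 32848 (.leaf 0x3b0e3) (.node 32849 (.leaf 0x3b0e3) (.leaf 0x3b0e3)))) (.node 32852 (.node 32851 (.leaf 0x3b0e3) (.leaf 0x3b0e3)) (.node 32853 (.leaf 0x3b0e3) (.node 32854 (.leaf 0x3b0e3) (.leaf 0x3b0e3))))) (.node 32860 (.node 32857 (.node 32856 (.leaf 0x3b0e3) (.leaf 0x3b0e3)) (.node 32858 (.leaf 0x3b0e3) (.node 32859 (.leaf 0x3b0e3) (.leaf 0x3b0e3)))) (.node 32862 (.node 32861 (.leaf 0x3b0e3) (.leaf 0x3b0e3)) (.node 32863 (.leaf 0x3b0e3) (.node 32864 (.leaf 0x3b0e3) (.leaf 0x3b0e3))))))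

def candS_1624 : Store := (.node 32875 (.node 32870 (.node 32867 (.node 32866 (.leaf 0x3b0e3) (.leaf 0x3b0e3)) (.node 32868 (.leaf 0x3b0e3) (.node 32869 (.leaf 0x3b0e3) (.leaf 0x3b0e3)))) (.node 32872 (.node 32871 (.leaf 0x3b0e3) (.leaf 0x3b0e3)) (.node 32873 (.leaf 0x3b0e3) (.node 32874 (.leaf 0x3b0e3) (.leaf 0x3b0e3))))) (.node 32880 (.node 32877 (.node 32876 (.leaf 0x3b0e3) (.leaf 0x3b0e3)) (.node 32878 (.leaf 0x3b0e3) (.node 32879 (.leaf 0x3b0e3) (.leaf 0x3b0e3)))) (.node 32883 (.node 32881 (.leaf 0x3b0e3) (.node 32882 (.leaf 0x3b0e3) (.leaf 0x3b0e3))) (.node 32884 (.leaf 0x3b0e3) (.node 32885 (.leaf 0x3b0e3) (.leaf 0x3b0e3))))))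

def candS_1625 : Store := (.node 32896 (.node 32891 (.node 32888 (.node 32887 (.leaf 0x3b0e3) (.leaf 0x3b0e3)) (.node 32889 (.leaf 0x3b0e3) (.node 32890 (.leaf 0x3b0e3) (.leaf 0x3b0e3)))) (.node 32893 (.node 32892 (.leaf 0x3b0e3) (.leaf 0x3b0e3)) (.node 32894 (.leaf 0x3b0e3) (.node 32895 (.leaf 0x3b0e3) (.leaf 0x3b0e3))))) (.node 32901 (.node 32898 (.node 32897 (.leaf 0x3b0e3) (.leaf 0x3b0e3)) (.node 32899 (.leaf 0x3b0e3) (.node 32900 (.leaf 0x3b0e3) (.leaf 0x3b0e3)))) (.node 32903 (.node 32902 (.leaf 0x3b0e3) (.leaf 0x3b0e3)) (.node 32904 (.leaf 0x3b0e3) (.node 32905 (.leaf 0x3b0e3) (.leaf 0x3b0e3))))))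

def candS_1626 : Store := (.node 32916 (.node 32911 (.node 32908 (.node 32907 (.leaf 0x3b0e3) (.leaf 0x3b0e3)) (.node 32909 (.leaf 0x3b0e3) (.node 32910 (.leaf 0x3b0e3) (.leaf 0x3b0e3)))) (.node 32913 (.node 32912 (.leaf 0x3b0e3) (.leaf 0x3b0e3)) (.node 32914 (.leaf 0x3b0e3) (.node 32915 (.leaf 0x3b0e3) (.leaf 0x3b0e3))))) (.node 32921 (.node 32918 (.node 32917 (.leaf 0x3b0e3) (.leaf 0x3b0e3)) (.node 32919 (.leaf 0x3b0e3) (.node 32920 (.leaf 0x3b0e3) (.leaf 0x3b0e3)))) (.node 32923 (.node 32922 (.leaf 0x3b0e3) (.leaf 0x3b0e3)) (.node 32924 (.leaf 0x3b0e3) (.node 32925 (.leaf 0x3b0e3) (.leaf 0x3b0e3))))))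

def candS_1627 : Store := (.node 32936 (.node 32931 (.node 32928 (.node 32927 (.leaf 0x3b0e3) (.leaf 0x3b0e3)) (.node 32929 (.leaf 0x3b0e3) (.node 32930 (.leaf 0x3b0e3) (.leaf 0x3b0e3)))) (.node 32933 (.node 32932 (.leaf 0x3b0e3) (.leaf 0x3b0e3)) (.node 32934 (.leaf 0x3b0e3) (.node 32935 (.leaf 0x3b0e3) (.leaf 0x3b0e3))))) (.node 32941 (.node 32938 (.node 32937 (.leaf 0x3b0e3) (.leaf 0x3b0e3)) (.node 32939 (.leaf 0x3b0e3) (.node 32940 (.leaf 0x3b0e3) (.leaf 0x3b0e3)))) (.node 32943 (.node 32942 (.leaf 0x3b0e3) (.leaf 0x3b0e3)) (.node 32944 (.leaf 0x3b0e3) (.node 32945 (.leaf 0x3b0e3) (.leaf 0x3b0e3))))))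

def candS_1628 : Store := (.node 32956 (.node 32951 (.node 32948 (.node 32947 (.leaf 0x3b0e3) (.leaf 0x3b0e3)) (.node 32949 (.leaf 0x3b0e3) (.node 32950 (.leaf 0x3b0e3) (.leaf 0x3b0e3)))) (.node 32953 (.node 32952 (.leaf 0x3b0e3) (.leaf 0x3b0e3)) (.node 32954 (.leaf 0x3b0e3) (.node 32955 (.leaf 0x3b0e3) (.leaf 0x3b0e3))))) (.node 32961 (.node 32958 (.node 32957 (.leaf 0x3b0e3) (.leaf 0x3b0e3)) (.node 32959 (.leaf 0x3b0e3) (.node 32960 (.leaf 0x3b0e3) (.leaf 0x3b0e3)))) (.node 32964 (.node 32962 (.leaf 0x3b0e3) (.node 32963 (.leaf 0x3b0e3) (.leaf 0x3b0e3))) (.node 32965 (.leaf 0x3b0e3) (.node 32966 (.leaf 0x3b0e3) (.leaf 0x3b0e3))))))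

def candS_1629 : Store := (.node 32977 (.node 32972 (.node 32969 (.node 32968 (.leaf 0x3b0e3) (.leaf 0x3b0e3)) (.node 32970 (.leaf 0x3b0e3) (.node 32971 (.leaf 0x3b0e3) (.leaf 0x3b0e3)))) (.node 32974 (.node 32973 (.leaf 0x3b0e3) (.leaf 0x3b0e3)) (.node 32975 (.leaf 0x3b0e3) (.node 32976 (.leaf 0x3b0e3) (.leaf 0x3b0e3))))) (.node 32982 (.node 32979 (.node 32978 (.leaf 0x3b0e3) (.leaf 0x3b0e3)) (.node 32980 (.leaf 0x3b0e3) (.node 32981 (.leaf 0x3b0e3) (.leaf 0x3b0e3)))) (.node 32984 (.node 32983 (.leaf 0x3b0e3) (.leaf 0x3b0e3)) (.node 32985 (.leaf 0x3b0e3) (.node 32986 (.leaf 0x3b0e3) (.leaf 0x3b0e3))))))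

def candS_1630 : Store := (.node 32997 (.node 32992 (.node 32989 (.node 32988 (.leaf 0x3b0e3) (.leaf 0x3b0e3)) (.node 32990 (.leaf 0x3b0e3) (.node 32991 (.leaf 0x3b0e3) (.leaf 0x3b0e3)))) (.node 32994 (.node 32993 (.leaf 0x3b0e3) (.leaf 0x3b0e3)) (.node 32995 (.leaf 0x3b0e3) (.node 32996 (.leaf 0x3b0e3) (.leaf 0x3b0e3))))) (.node 33002 (.node 32999 (.node 32998 (.leaf 0x3b0e3) (.leaf 0x3b0e3)) (.node 33000 (.leaf 0x3b0e3) (.node 33001 (.leaf 0x3b0e3) (.leaf 0x3b0e3)))) (.node 33004 (.node 33003 (.leaf 0x3b0e3) (.leaf 0x3b0e3)) (.node 33005 (.leaf 0x3b0e3) (.node 33006 (.leaf 0x3b0e3) (.leaf 0x3b0e3))))))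

def candS_1631 : Store := (.node 33017 (.node 33012 (.node 33009 (.node 33008 (.leaf 0x3b0e3) (.leaf 0x3b0e3)) (.node 33010 (.leaf 0x3b0e3) (.node 33011 (.leaf 0x3b0e3) (.leaf 0x3b0e3)))) (.node 33014 (.node 33013 (.leaf 0x3b0e3) (.leaf 0x3b0e3)) (.node 33015 (.leaf 0x3b0e3) (.node 33016 (.leaf 0x3b0e3) (.leaf 0x3b0e3))))) (.node 33022 (.node 33019 (.node 33018 (.leaf 0x3b0e3) (.leaf 0x3b0e3)) (.node 33020 (.leaf 0x3b0e3) (.node 33021 (.leaf 0x3b0e3) (.leaf 0x3b0e3)))) (.node 33024 (.node 33023 (.leaf 0x3b0e3) (.leaf 0x3b0e3)) (.node 33025 (.leaf 0x3b0e3) (.node 33026 (.leaf 0x3b0e3) (.leaf 0x3b0e3))))))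

def candS_1632 : Store := (.node 33037 (.node 33032 (.node 33029 (.node 33028 (.leaf 0x3b0e3) (.leaf 0x3b0e3)) (.node 33030 (.leaf 0x3b0e3) (.node 33031 (.leaf 0x3b0e3) (.leaf 0x3b0e3)))) (.node 33034 (.node 33033 (.leaf 0x3b0e3) (.leaf 0x3b0e3)) (.node 33035 (.leaf 0x3b0e3) (.node 33036 (.leaf 0x3b0e3) (.leaf 0x3b0e3))))) (.node 33042 (.node 33039 (.node 33038 (.leaf 0x3b0e3) (.leaf 0x3b0e3)) (.node 33040 (.leaf 0x3b0e3) (.node 33041 (.leaf 0x3b0e3) (.leaf 0x3b0e3)))) (.node 33045 (.node 33043 (.leaf 0x3b0e3) (.node 33044 (.leaf 0x3b0e3) (.leaf 0x3b0e3))) (.node 33046 (.leaf 0x3b0e3) (.node 33047 (.leaf 0x3b0e3) (.leaf 0x3b0e3))))))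

def candS_1633 : Store := (.node 33058 (.node 33053 (.node 33050 (.node 33049 (.leaf 0x3b0e3) (.leaf 0x3b0e3)) (.node 33051 (.leaf 0x3b0e3) (.node 33052 (.leaf 0x3b0e3) (.leaf 0x3b0e3)))) (.node 33055 (.node 33054 (.leaf 0x3b0e3) (.leaf 0x3b0e3)) (.node 33056 (.leaf 0x3b0e3) (.node 33057 (.leaf 0x3b0e3) (.leaf 0x3b0e3))))) (.node 33063 (.node 33060 (.node 33059 (.leaf 0x3b0e3) (.leaf 0x3b0e3)) (.node 33061 (.leaf 0x3b0e3) (.node 33062 (.leaf 0x3b0e3) (.leaf 0x3b0e3)))) (.node 33065 (.node 33064 (.leaf 0x3b0e3) (.leaf 0x3b0e3)) (.node 33066 (.leaf 0x3b0e3) (.node 33067 (.leaf 0x3b0e3) (.leaf 0x3b0e3))))))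

def candS_1634 : Store := (.node 33078 (.node 33073 (.node 33070 (.node 33069 (.leaf 0x3b0e3) (.leaf 0x3b0e3)) (.node 33071 (.leaf 0x3b0e3) (.node 33072 (.leaf 0x3b0e3) (.leaf 0x3b0e3)))) (.node 33075 (.node 33074 (.leaf 0x3b0e3) (.leaf 0x3b0e3)) (.node 33076 (.leaf 0x3b0e3) (.node 33077 (.leaf 0x3b0e3) (.leaf 0x3b0e3))))) (.node 33083 (.node 33080 (.node 33079 (.leaf 0x3b0e3) (.leaf 0x3b0e3)) (.node 33081 (.leaf 0x3b0e3) (.node 33082 (.leaf 0x3b0e3) (.leaf 0x3b0e3)))) (.node 33085 (.node 33084 (.leaf 0x3b0e3) (.leaf 0x3b0e3)) (.node 33086 (.leaf 0x3b0e3) (.node 33087 (.leaf 0x3b0e3) (.leaf 0x3b0e3))))))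

def candS_1635 : Store := (.node 33098 (.node 33093 (.node 33090 (.node 33089 (.leaf 0x3b0e3) (.leaf 0x3b0e3)) (.node 33091 (.leaf 0x3b0e3) (.node 33092 (.leaf 0x3b0e3) (.leaf 0x3b0e3)))) (.node 33095 (.node 33094 (.leaf 0x3b0e3) (.leaf 0x3b0e3)) (.node 33096 (.leaf 0x3b0e3) (.node 33097 (.leaf 0x3b0e3) (.leaf 0x3b0e3))))) (.node 33103 (.node 33100 (.node 33099 (.leaf 0x3b0e3) (.leaf 0x3b0e3)) (.node 33101 (.leaf 0x3b0e3) (.node 33102 (.leaf 0x3b0e3) (.leaf 0x3b0e3)))) (.node 33105 (.node 33104 (.leaf 0x3b0e3) (.leaf 0x3b0e3)) (.node 33106 (.leaf 0x3b0e3) (.node 33107 (.leaf 0x3b0e3) (.leaf 0x3b0e3))))))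

def candS_1636 : Store := (.node 33118 (.node 33113 (.node 33110 (.node 33109 (.leaf 0x3b0e3) (.leaf 0x3b0e3)) (.node 33111 (.leaf 0x3b0e3) (.node 33112 (.leaf 0x3b0e3) (.leaf 0x3b0e3)))) (.node 33115 (.node 33114 (.leaf 0x3b0e3) (.leaf 0x3b0e3)) (.node 33116 (.leaf 0x3b0e3) (.node 33117 (.leaf 0x3b0e3) (.leaf 0x3b0e3))))) (.node 33123 (.node 33120 (.node 33119 (.leaf 0x3b0e3) (.leaf 0x3b0e3)) (.node 33121 (.leaf 0x3b0e3) (.node 33122 (.leaf 0x3b0e3) (.leaf 0x3b0e3)))) (.node 33126 (.node 33124 (.leaf 0x3b0e3) (.node 33125 (.leaf 0x3b0e3) (.leaf 0x3b0e3))) (.node 33127 (.leaf 0x3b0e3) (.node 33128 (.leaf 0x3b0e3) (.leaf 0x3b0e3))))))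

def candS_1637 : Store := (.node 33139 (.node 33134 (.node 33131 (.node 33130 (.leaf 0x3b0e3) (.leaf 0x3b0e3)) (.node 33132 (.leaf 0x3b0e3) (.node 33133 (.leaf 0x3b0e3) (.leaf 0x3b0e3)))) (.node 33136 (.node 33135 (.leaf 0x3b0e3) (.leaf 0x3b0e3)) (.node 33137 (.leaf 0x3b0e3) (.node 33138 (.leaf 0x3b0e3) (.leaf 0x3b0e3))))) (.node 33144 (.node 33141 (.node 33140 (.leaf 0x3b0e3) (.leaf 0x3b0e3)) (.node 33142 (.leaf 0x3b0e3) (.node 33143 (.leaf 0x3b0e3) (.leaf 0x3b0e3)))) (.node 33146 (.node 33145 (.leaf 0x3b0e3) (.leaf 0x3b0e3)) (.node 33147 (.leaf 0x3b0e3) (.node 33148 (.leaf 0x3b0e3) (.leaf 0x3b0e3))))))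

def candS_1638 : Store := (.node 33159 (.node 33154 (.node 33151 (.node 33150 (.leaf 0x3b0e3) (.leaf 0x3b0e3)) (.node 33152 (.leaf 0x3b0e3) (.node 33153 (.leaf 0x3b0e3) (.leaf 0x3b0e3)))) (.node 33156 (.node 33155 (.leaf 0x3b0e3) (.leaf 0x3b0e3)) (.node 33157 (.leaf 0x3b0e3) (.node 33158 (.leaf 0x3b0e3) (.leaf 0x3b0e3))))) (.node 33164 (.node 33161 (.node 33160 (.leaf 0x3b0e3) (.leaf 0x3b0e3)) (.node 33162 (.leaf 0x3b0e3) (.node 33163 (.leaf 0x3b0e3) (.leaf 0x3b0e3)))) (.node 33166 (.node 33165 (.leaf 0x3b0e3) (.leaf 0x3b0e3)) (.node 33167 (.leaf 0x3b0e3) (.node 33168 (.leaf 0x3b0e3) (.leaf 0x3b0e3))))))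

def candS_1639 : Store := (.node 33179 (.node 33174 (.node 33171 (.node 33170 (.leaf 0x3b0e3) (.leaf 0x3b0e3)) (.node 33172 (.leaf 0x3b0e3) (.node 33173 (.leaf 0x3b0e3) (.leaf 0x3b0e3)))) (.node 33176 (.node 33175 (.leaf 0x3b0e3) (.leaf 0x3b0e3)) (.node 33177 (.leaf 0x3b0e3) (.node 33178 (.leaf 0x3b0e3) (.leaf 0x3b0e3))))) (.node 33184 (.node 33181 (.node 33180 (.leaf 0x3b0e3) (.leaf 0x3b0e3)) (.node 33182 (.leaf 0x3b0e3) (.node 33183 (.leaf 0x3b0e3) (.leaf 0x3b0e3)))) (.node 33186 (.node 33185 (.leaf 0x3b0e3) (.leaf 0x3b0e3)) (.node 33187 (.leaf 0x3b0e3) (.node 33188 (.leaf 0x3b0e3) (.leaf 0x3b0e3))))))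

def candS_1640 : Store := (.node 33199 (.node 33194 (.node 33191 (.node 33190 (.leaf 0x3b0e3) (.leaf 0x3b0e3)) (.node 33192 (.leaf 0x3b0e3) (.node 33193 (.leaf 0x3b0e3) (.leaf 0x3b0e3)))) (.node 33196 (.node 33195 (.leaf 0x3b0e3) (.leaf 0x3b0e3)) (.node 33197 (.leaf 0x3b0e3) (.node 33198 (.leaf 0x3b0e3) (.leaf 0x3b0e3))))) (.node 33204 (.node 33201 (.node 33200 (.leaf 0x3b0e3) (.leaf 0x3b0e3)) (.node 33202 (.leaf 0x3b0e3) (.node 33203 (.leaf 0x3b0e3) (.leaf 0x3b0e3)))) (.node 33207 (.node 33205 (.leaf 0x3b0e3) (.node 33206 (.leaf 0x3b0e3) (.leaf 0x3b0e3))) (.node 33208 (.leaf 0x3b0e3) (.node 33209 (.leaf 0x3b0e3) (.leaf 0x3b0e3))))))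

def candS_1641 : Store := (.node 33220 (.node 33215 (.node 33212 (.node 33211 (.leaf 0x3b0e3) (.leaf 0x3b0e3)) (.node 33213 (.leaf 0x3b0e3) (.node 33214 (.leaf 0x3b0e3) (.leaf 0x3b0e3)))) (.node 33217 (.node 33216 (.leaf 0x3b0e3) (.leaf 0x3b0e3)) (.node 33218 (.leaf 0x3b0e3) (.node 33219 (.leaf 0x3b0e3) (.leaf 0x3b0e3))))) (.node 33225 (.node 33222 (.node 33221 (.leaf 0x3b0e3) (.leaf 0x3b0e3)) (.node 33223 (.leaf 0x3b0e3) (.node 33224 (.leaf 0x3b0e3) (.leaf 0x3b0e3)))) (.node 33227 (.node 33226 (.leaf 0x3b0e3) (.leaf 0x3b0e3)) (.node 33228 (.leaf 0x3b0e3) (.node 33229 (.leaf 0x3b0e3) (.leaf 0x3b0e3))))))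

def candS_1642 : Store := (.node 33240 (.node 33235 (.node 33232 (.node 33231 (.leaf 0x3b0e3) (.leaf 0x3b0e3)) (.node 33233 (.leaf 0x3b0e3) (.node 33234 (.leaf 0x3b0e3) (.leaf 0x3b0e3)))) (.node 33237 (.node 33236 (.leaf 0x3b0e3) (.leaf 0x3b0e3)) (.node 33238 (.leaf 0x3b0e3) (.node 33239 (.leaf 0x3b0e3) (.leaf 0x3b0e3))))) (.node 33245 (.node 33242 (.node 33241 (.leaf 0x3b0e3) (.leaf 0x3b0e3)) (.node 33243 (.leaf 0x3b0e3) (.node 33244 (.leaf 0x3b0e3) (.leaf 0x3b0e3)))) (.node 33247 (.node 33246 (.leaf 0x3b0e3) (.leaf 0x3b0e3)) (.node 33248 (.leaf 0x3b0e3) (.node 33249 (.leaf 0x3b0e3) (.leaf 0x3b0e3))))))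

def candS_1643 : Store := (.node 33260 (.node 33255 (.node 33252 (.node 33251 (.leaf 0x3b0e3) (.leaf 0x3b0e3)) (.node 33253 (.leaf 0x3b0e3) (.node 33254 (.leaf 0x3b0e3) (.leaf 0x3b0e3)))) (.node 33257 (.node 33256 (.leaf 0x3b0e3) (.leaf 0x3b0e3)) (.node 33258 (.leaf 0x3b0e3) (.node 33259 (.leaf 0x3b0e3) (.leaf 0x3b0e3))))) (.node 33265 (.node 33262 (.node 33261 (.leaf 0x3b0e3) (.leaf 0x3b0e3)) (.node 33263 (.leaf 0x3b0e3) (.node 33264 (.leaf 0x3b0e3) (.leaf 0x3b0e3)))) (.node 33267 (.node 33266 (.leaf 0x3b0e3) (.leaf 0x3b0e3)) (.node 33268 (.leaf 0x3b0e3) (.node 33269 (.leaf 0x3b0e3) (.leaf 0x3b0e3))))))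

def candS_1644 : Store := (.node 33280 (.node 33275 (.node 33272 (.node 33271 (.leaf 0x3b0e3) (.leaf 0x3b0e3)) (.node 33273 (.leaf 0x3b0e3) (.node 33274 (.leaf 0x3b0e3) (.leaf 0x3b0e3)))) (.node 33277 (.node 33276 (.leaf 0x3b0e3) (.leaf 0x3b0e3)) (.node 33278 (.leaf 0x3b0e3) (.node 33279 (.leaf 0x3b0e3) (.leaf 0x3b0e3))))) (.node 33285 (.node 33282 (.node 33281 (.leaf 0x3b0e3) (.leaf 0x3b0e3)) (.node 33283 (.leaf 0x3b0e3) (.node 33284 (.leaf 0x3b0e3) (.leaf 0x3b0e3)))) (.node 33288 (.node 33286 (.leaf 0x3b0e3) (.node 33287 (.leaf 0x3b0e3) (.leaf 0x3b0e3))) (.node 33289 (.leaf 0x3b0e3) (.node 33290 (.leaf 0x3b0e3) (.leaf 0x3b0e3))))))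

def candS_1645 : Store := (.node 33301 (.node 33296 (.node 33293 (.node 33292 (.leaf 0x3b0e3) (.leaf 0x3b0e3)) (.node 33294 (.leaf 0x3b0e3) (.node 33295 (.leaf 0x3b0e3) (.leaf 0x3b0e3)))) (.node 33298 (.node 33297 (.leaf 0x3b0e3) (.leaf 0x3b0e3)) (.node 33299 (.leaf 0x3b0e3) (.node 33300 (.leaf 0x3b0e3) (.leaf 0x3b0e3))))) (.node 33306 (.node 33303 (.node 33302 (.leaf 0x3b0e3) (.leaf 0x3b0e3)) (.node 33304 (.leaf 0x3b0e3) (.node 33305 (.leaf 0x3b0e3) (.leaf 0x3b0e3)))) (.node 33308 (.node 33307 (.leaf 0x3b0e3) (.leaf 0x3b0e3)) (.node 33309 (.leaf 0x3b0e3) (.node 33310 (.leaf 0x3b0e3) (.leaf 0x3b0e3))))))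

def candS_1646 : Store := (.node 33321 (.node 33316 (.node 33313 (.node 33312 (.leaf 0x3b0e3) (.leaf 0x3b0e3)) (.node 33314 (.leaf 0x3b0e3) (.node 33315 (.leaf 0x3b0e3) (.leaf 0x3b0e3)))) (.node 33318 (.node 33317 (.leaf 0x3b0e3) (.leaf 0x3b0e3)) (.node 33319 (.leaf 0x3b0e3) (.node 33320 (.leaf 0x3b0e3) (.leaf 0x3b0e3))))) (.node 33326 (.node 33323 (.node 33322 (.leaf 0x3b0e3) (.leaf 0x3b0e3)) (.node 33324 (.leaf 0x3b0e3) (.node 33325 (.leaf 0x3b0e3) (.leaf 0x3b0e3)))) (.node 33328 (.node 33327 (.leaf 0x3b0e3) (.leaf 0x3b0e3)) (.node 33329 (.leaf 0x3b0e3) (.node 33330 (.leaf 0x3b0e3) (.leaf 0x3b0e3))))))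

def candS_1647 : Store := (.node 33341 (.node 33336 (.node 33333 (.node 33332 (.leaf 0x3b0e3) (.leaf 0x3b0e3)) (.node 33334 (.leaf 0x3b0e3) (.node 33335 (.leaf 0x3b0e3) (.leaf 0x3b0e3)))) (.node 33338 (.node 33337 (.leaf 0x3b0e3) (.leaf 0x3b0e3)) (.node 33339 (.leaf 0x3b0e3) (.node 33340 (.leaf 0x3b0e3) (.leaf 0x3b0e3))))) (.node 33346 (.node 33343 (.node 33342 (.leaf 0x3b0e3) (.leaf 0x3b0e3)) (.node 33344 (.leaf 0x3b0e3) (.node 33345 (.leaf 0x3b0e3) (.leaf 0x3b0e3)))) (.node 33348 (.node 33347 (.leaf 0x3b0e3) (.leaf 0x3b0e3)) (.node 33349 (.leaf 0x3b0e3) (.node 33350 (.leaf 0x3b0e3) (.leaf 0x3b0e3))))))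

def candS_1648 : Store := (.node 33361 (.node 33356 (.node 33353 (.node 33352 (.leaf 0x3b0e3) (.leaf 0x3b0e3)) (.node 33354 (.leaf 0x3b0e3) (.node 33355 (.leaf 0x3b0e3) (.leaf 0x3b0e3)))) (.node 33358 (.node 33357 (.leaf 0x3b0e3) (.leaf 0x3b0e3)) (.node 33359 (.leaf 0x3b0e3) (.node 33360 (.leaf 0x3b0e3) (.leaf 0x3b0e3))))) (.node 33366 (.node 33363 (.node 33362 (.leaf 0x3b0e3) (.leaf 0x3b0e3)) (.node 33364 (.leaf 0x3b0e3) (.node 33365 (.leaf 0x3b0e3) (.leaf 0x3b0e3)))) (.node 33369 (.node 33367 (.leaf 0x3b0e3) (.node 33368 (.leaf 0x3b0e3) (.leaf 0x3b0e3))) (.node 33370 (.leaf 0x3b0e3) (.node 33371 (.leaf 0x3b0e3) (.leaf 0x3b0e3))))))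

def candS_1649 : Store := (.node 33382 (.node 33377 (.node 33374 (.node 33373 (.leaf 0x3b0e3) (.leaf 0x3b0e3)) (.node 33375 (.leaf 0x3b0e3) (.node 33376 (.leaf 0x3b0e3) (.leaf 0x3b0e3)))) (.node 33379 (.node 33378 (.leaf 0x3b0e3) (.leaf 0x3b0e3)) (.node 33380 (.leaf 0x3b0e3) (.node 33381 (.leaf 0x3b0e3) (.leaf 0x3b0e3))))) (.node 33387 (.node 33384 (.node 33383 (.leaf 0x3b0e3) (.leaf 0x3b0e3)) (.node 33385 (.leaf 0x3b0e3) (.node 33386 (.leaf 0x3b0e3) (.leaf 0x3b0e3)))) (.node 33389 (.node 33388 (.leaf 0x3b0e3) (.leaf 0x3b0e3)) (.node 33390 (.leaf 0x3b0e3) (.node 33391 (.leaf 0x3b0e3) (.leaf 0x3b0e3))))))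

def candS_1650 : Store := (.node 33402 (.node 33397 (.node 33394 (.node 33393 (.leaf 0x3b0e3) (.leaf 0x3b0e3)) (.node 33395 (.leaf 0x3b0e3) (.node 33396 (.leaf 0x3b0e3) (.leaf 0x3b0e3)))) (.node 33399 (.node 33398 (.leaf 0x3b0e3) (.leaf 0x3b0e3)) (.node 33400 (.leaf 0x3b0e3) (.node 33401 (.leaf 0x3b0e3) (.leaf 0x3b0e3))))) (.node 33407 (.node 33404 (.node 33403 (.leaf 0x3b0e3) (.leaf 0x3b0e3)) (.node 33405 (.leaf 0x3b0e3) (.node 33406 (.leaf 0x3b0e3) (.leaf 0x3b0e3)))) (.node 33409 (.node 33408 (.leaf 0x3b0e3) (.leaf 0x3b0e3)) (.node 33410 (.leaf 0x3b0e3) (.node 33411 (.leaf 0x3b0e3) (.leaf 0x3b0e3))))))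

def candS_1651 : Store := (.node 33422 (.node 33417 (.node 33414 (.node 33413 (.leaf 0x3b0e3) (.leaf 0x3b0e3)) (.node 33415 (.leaf 0x3b0e3) (.node 33416 (.leaf 0x3b0e3) (.leaf 0x3b0e3)))) (.node 33419 (.node 33418 (.leaf 0x3b0e3) (.leaf 0x3b0e3)) (.node 33420 (.leaf 0x3b0e3) (.node 33421 (.leaf 0x3b0e3) (.leaf 0x3b0e3))))) (.node 33427 (.node 33424 (.node 33423 (.leaf 0x3b0e3) (.leaf 0x3b0e3)) (.node 33425 (.leaf 0x3b0e3) (.node 33426 (.leaf 0x3b0e3) (.leaf 0x3b0e3)))) (.node 33429 (.node 33428 (.leaf 0x3b0e3) (.leaf 0x3b0e3)) (.node 33430 (.leaf 0x3b0e3) (.node 33431 (.leaf 0x3b0e3) (.leaf 0x3b0e3))))))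

def candS_1652 : Store := (.node 33442 (.node 33437 (.node 33434 (.node 33433 (.leaf 0x3b0e3) (.leaf 0x3b0e3)) (.node 33435 (.leaf 0x3b0e3) (.node 33436 (.leaf 0x3b0e3) (.leaf 0x3b0e3)))) (.node 33439 (.node 33438 (.leaf 0x3b0e3) (.leaf 0x3b0e3)) (.node 33440 (.leaf 0x3b0e3) (.node 33441 (.leaf 0x3b0e3) (.leaf 0x3b0e3))))) (.node 33447 (.node 33444 (.node 33443 (.leaf 0x3b0e3) (.leaf 0x3b0e3)) (.node 33445 (.leaf 0x3b0e3) (.node 33446 (.leaf 0x3b0e3) (.leaf 0x3b0e3)))) (.node 33450 (.node 33448 (.leaf 0x3b0e3) (.node 33449 (.leaf 0x3b0e3) (.leaf 0x3b0e3))) (.node 33451 (.leaf 0x3b0e3) (.node 33452 (.leaf 0x3b0e3) (.leaf 0x3b0e3))))))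

def candS_1653 : Store := (.node 33463 (.node 33458 (.node 33455 (.node 33454 (.leaf 0x3b0e3) (.leaf 0x3b0e3)) (.node 33456 (.leaf 0x3b0e3) (.node 33457 (.leaf 0x3b0e3) (.leaf 0x3b0e3)))) (.node 33460 (.node 33459 (.leaf 0x3b0e3) (.leaf 0x3b0e3)) (.node 33461 (.leaf 0x3b0e3) (.node 33462 (.leaf 0x3b0e3) (.leaf 0x3b0e3))))) (.node 33468 (.node 33465 (.node 33464 (.leaf 0x3b0e3) (.leaf 0x3b0e3)) (.node 33466 (.leaf 0x3b0e3) (.node 33467 (.leaf 0x3b0e3) (.leaf 0x3b0e3)))) (.node 33470 (.node 33469 (.leaf 0x3b0e3) (.leaf 0x3b0e3)) (.node 33471 (.leaf 0x3b0e3) (.node 33472 (.leaf 0x3b0e3) (.leaf 0x3b0e3))))))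

def candS_1654 : Store := (.node 33483 (.node 33478 (.node 33475 (.node 33474 (.leaf 0x3b0e3) (.leaf 0x3b0e3)) (.node 33476 (.leaf 0x3b0e3) (.node 33477 (.leaf 0x3b0e3) (.leaf 0x3b0e3)))) (.node 33480 (.node 33479 (.leaf 0x3b0e3) (.leaf 0x3b0e3)) (.node 33481 (.leaf 0x3b0e3) (.node 33482 (.leaf 0x3b0e3) (.leaf 0x3b0e3))))) (.node 33488 (.node 33485 (.node 33484 (.leaf 0x3b0e3) (.leaf 0x3b0e3)) (.node 33486 (.leaf 0x3b0e3) (.node 33487 (.leaf 0x3b0e3) (.leaf 0x3b0e3)))) (.node 33490 (.node 33489 (.leaf 0x3b0e3) (.leaf 0x3b0e3)) (.node 33491 (.leaf 0x3b0e3) (.node 33492 (.leaf 0x3b0e3) (.leaf 0x3b0e3))))))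

def candS_1655 : Store := (.node 33503 (.node 33498 (.node 33495 (.node 33494 (.leaf 0x3b0e3) (.leaf 0x3b0e3)) (.node 33496 (.leaf 0x3b0e3) (.node 33497 (.leaf 0x3b0e3) (.leaf 0x3b0e3)))) (.node 33500 (.node 33499 (.leaf 0x3b0e3) (.leaf 0x3b0e3)) (.node 33501 (.leaf 0x3b0e3) (.node 33502 (.leaf 0x3b0e3) (.leaf 0x3b0e3))))) (.node 33508 (.node 33505 (.node 33504 (.leaf 0x3b0e3) (.leaf 0x3b0e3)) (.node 33506 (.leaf 0x3b0e3) (.node 33507 (.leaf 0x3b0e3) (.leaf 0x3b0e3)))) (.node 33510 (.node 33509 (.leaf 0x3b0e3) (.leaf 0x3b0e3)) (.node 33511 (.leaf 0x3b0e3) (.node 33512 (.leaf 0x3b0e3) (.leaf 0x3b0e3))))))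

def candS_1656 : Store := (.node 33523 (.node 33518 (.node 33515 (.node 33514 (.leaf 0x3b0e3) (.leaf 0x3b0e3)) (.node 33516 (.leaf 0x3b0e3) (.node 33517 (.leaf 0x3b0e3) (.leaf 0x3b0e3)))) (.node 33520 (.node 33519 (.leaf 0x3b0e3) (.leaf 0x3b0e3)) (.node 33521 (.leaf 0x3b0e3) (.node 33522 (.leaf 0x3b0e3) (.leaf 0x3b0e3))))) (.node 33528 (.node 33525 (.node 33524 (.leaf 0x3b0e3) (.leaf 0x3b0e3)) (.node 33526 (.leaf 0x3b0e3) (.node 33527 (.leaf 0x3b0e3) (.leaf 0x3b0e3)))) (.node 33531 (.node 33529 (.leaf 0x3b0e3) (.node 33530 (.leaf 0x3b0e3) (.leaf 0x3b0e3))) (.node 33532 (.leaf 0x3b0e3) (.node 33533 (.leaf 0x3b0e3) (.leaf 0x3b0e3))))))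

def candS_1657 : Store := (.node 33544 (.node 33539 (.node 33536 (.node 33535 (.leaf 0x3b0e3) (.leaf 0x3b0e3)) (.node 33537 (.leaf 0x3b0e3) (.node 33538 (.leaf 0x3b0e3) (.leaf 0x3b0e3)))) (.node 33541 (.node 33540 (.leaf 0x3b0e3) (.leaf 0x3b0e3)) (.node 33542 (.leaf 0x3b0e3) (.node 33543 (.leaf 0x3b0e3) (.leaf 0x3b0e3))))) (.node 33549 (.node 33546 (.node 33545 (.leaf 0x3b0e3) (.leaf 0x3b0e3)) (.node 33547 (.leaf 0x3b0e3) (.node 33548 (.leaf 0x3b0e3) (.leaf 0x3b0e3)))) (.node 33551 (.node 33550 (.leaf 0x3b0e3) (.leaf 0x3b0e3)) (.node 33552 (.leaf 0x3b0e3) (.node 33553 (.leaf 0x3b0e3) (.leaf 0x3b0e3))))))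

def candS_1658 : Store := (.node 33564 (.node 33559 (.node 33556 (.node 33555 (.leaf 0x3b0e3) (.leaf 0x3b0e3)) (.node 33557 (.leaf 0x3b0e3) (.node 33558 (.leaf 0x3b0e3) (.leaf 0x3b0e3)))) (.node 33561 (.node 33560 (.leaf 0x3b0e3) (.leaf 0x3b0e3)) (.node 33562 (.leaf 0x3b0e3) (.node 33563 (.leaf 0x3b0e3) (.leaf 0x3b0e3))))) (.node 33569 (.node 33566 (.node 33565 (.leaf 0x3b0e3) (.leaf 0x3b0e3)) (.node 33567 (.leaf 0x3b0e3) (.node 33568 (.leaf 0x3b0e3) (.leaf 0x3b0e3)))) (.node 33571 (.node 33570 (.leaf 0x3b0e3) (.leaf 0x3b0e3)) (.node 33572 (.leaf 0x3b0e3) (.node 33573 (.leaf 0x3b0e3) (.leaf 0x3b0e3))))))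

def candS_1659 : Store := (.node 33584 (.node 33579 (.node 33576 (.node 33575 (.leaf 0x3b0e3) (.leaf 0x3b0e3)) (.node 33577 (.leaf 0x3b0e3) (.node 33578 (.leaf 0x3b0e3) (.leaf 0x3b0e3)))) (.node 33581 (.node 33580 (.leaf 0x3b0e3) (.leaf 0x3b0e3)) (.node 33582 (.leaf 0x3b0e3) (.node 33583 (.leaf 0x3b0e3) (.leaf 0x3b0e3))))) (.node 33589 (.node 33586 (.node 33585 (.leaf 0x3b0e3) (.leaf 0x3b0e3)) (.node 33587 (.leaf 0x3b0e3) (.node 33588 (.leaf 0x3b0e3) (.leaf 0x3b0e3)))) (.node 33591 (.node 33590 (.leaf 0x3b0e3) (.leaf 0x3b0e3)) (.node 33592 (.leaf 0x3b0e3) (.node 33593 (.leaf 0x3b0e3) (.leaf 0x3b0e3))))))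

def candS_1660 : Store := (.node 33604 (.node 33599 (.node 33596 (.node 33595 (.leaf 0x3b0e3) (.leaf 0x3b0e3)) (.node 33597 (.leaf 0x3b0e3) (.node 33598 (.leaf 0x3b0e3) (.leaf 0x3b0e3)))) (.node 33601 (.node 33600 (.leaf 0x3b0e3) (.leaf 0x3b0e3)) (.node 33602 (.leaf 0x3b0e3) (.node 33603 (.leaf 0x3b0e3) (.leaf 0x3b0e3))))) (.node 33609 (.node 33606 (.node 33605 (.leaf 0x3b0e3) (.leaf 0x3b0e3)) (.node 33607 (.leaf 0x3b0e3) (.node 33608 (.leaf 0x3b0e3) (.leaf 0x3b0e3)))) (.node 33612 (.node 33610 (.leaf 0x3b0e3) (.node 33611 (.leaf 0x3b0e3) (.leaf 0x3b0e3))) (.node 33613 (.leaf 0x3b0e3) (.node 33614 (.leaf 0x3b0e3) (.leaf 0x3b0e3))))))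

def candS_1661 : Store := (.node 33625 (.node 33620 (.node 33617 (.node 33616 (.leaf 0x3b0e3) (.leaf 0x3b0e3)) (.node 33618 (.leaf 0x3b0e3) (.node 33619 (.leaf 0x3b0e3) (.leaf 0x3b0e3)))) (.node 33622 (.node 33621 (.leaf 0x3b0e3) (.leaf 0x3b0e3)) (.node 33623 (.leaf 0x3b0e3) (.node 33624 (.leaf 0x3b0e3) (.leaf 0x3b0e3))))) (.node 33630 (.node 33627 (.node 33626 (.leaf 0x3b0e3) (.leaf 0x3b0e3)) (.node 33628 (.leaf 0x3b0e3) (.node 33629 (.leaf 0x3b0e3) (.leaf 0x3b0e3)))) (.node 33632 (.node 33631 (.leaf 0x3b0e3) (.leaf 0x3b0e3)) (.node 33633 (.leaf 0x3b0e3) (.node 33634 (.leaf 0x3b0e3) (.leaf 0x3b0e3))))))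

def candS_1662 : Store := (.node 33645 (.node 33640 (.node 33637 (.node 33636 (.leaf 0x3b0e3) (.leaf 0x3b0e3)) (.node 33638 (.leaf 0x3b0e3) (.node 33639 (.leaf 0x3b0e3) (.leaf 0x3b0e3)))) (.node 33642 (.node 33641 (.leaf 0x3b0e3) (.leaf 0x3b0e3)) (.node 33643 (.leaf 0x3b0e3) (.node 33644 (.leaf 0x3b0e3) (.leaf 0x3b0e3))))) (.node 33650 (.node 33647 (.node 33646 (.leaf 0x3b0e3) (.leaf 0x3b0e3)) (.node 33648 (.leaf 0x3b0e3) (.node 33649 (.leaf 0x3b0e3) (.leaf 0x3b0e3)))) (.node 33652 (.node 33651 (.leaf 0x3b0e3) (.leaf 0x3b0e3)) (.node 33653 (.leaf 0x3b0e3) (.node 33654 (.leaf 0x3b0e3) (.leaf 0x3b0e3))))))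

def candS_1663 : Store := (.node 33665 (.node 33660 (.node 33657 (.node 33656 (.leaf 0x3b0e3) (.leaf 0x3b0e3)) (.node 33658 (.leaf 0x3b0e3) (.node 33659 (.leaf 0x3b0e3) (.leaf 0x3b0e3)))) (.node 33662 (.node 33661 (.leaf 0x3b0e3) (.leaf 0x3b0e3)) (.node 33663 (.leaf 0x3b0e3) (.node 33664 (.leaf 0x3b0e3) (.leaf 0x3b0e3))))) (.node 33670 (.node 33667 (.node 33666 (.leaf 0x3b0e3) (.leaf 0x3b0e3)) (.node 33668 (.leaf 0x3b0e3) (.node 33669 (.leaf 0x3b0e3) (.leaf 0x3b0e3)))) (.node 33672 (.node 33671 (.leaf 0x3b0e3) (.leaf 0x3b0e3)) (.node 33673 (.leaf 0x3b0e3) (.node 33674 (.leaf 0x3b0e3) (.leaf 0x3b0e3))))))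

def candS_1664 : Store := (.node 33685 (.node 33680 (.node 33677 (.node 33676 (.leaf 0x3b0e3) (.leaf 0x3b0e3)) (.node 33678 (.leaf 0x3b0e3) (.node 33679 (.leaf 0x3b0e3) (.leaf 0x3b0e3)))) (.node 33682 (.node 33681 (.leaf 0x3b0e3) (.leaf 0x3b0e3)) (.node 33683 (.leaf 0x3b0e3) (.node 33684 (.leaf 0x3b0e3) (.leaf 0x3b0e3))))) (.node 33690 (.node 33687 (.node 33686 (.leaf 0x3b0e3) (.leaf 0x3b0e3)) (.node 33688 (.leaf 0x3b0e3) (.node 33689 (.leaf 0x3b0e3) (.leaf 0x3b0e3)))) (.node 33693 (.node 33691 (.leaf 0x3b0e3) (.node 33692 (.leaf 0x3b0e3) (.leaf 0x3b0e3))) (.node 33694 (.leaf 0x3b0e3) (.node 33695 (.leaf 0x3b0e3) (.leaf 0x3b0e3))))))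

def candS_1665 : Store := (.node 33706 (.node 33701 (.node 33698 (.node 33697 (.leaf 0x3b0e3) (.leaf 0x3b0e3)) (.node 33699 (.leaf 0x3b0e3) (.node 33700 (.leaf 0x3b0e3) (.leaf 0x3b0e3)))) (.node 33703 (.node 33702 (.leaf 0x3b0e3) (.leaf 0x3b0e3)) (.node 33704 (.leaf 0x3b0e3) (.node 33705 (.leaf 0x3b0e3) (.leaf 0x3b0e3))))) (.node 33711 (.node 33708 (.node 33707 (.leaf 0x3b0e3) (.leaf 0x3b0e3)) (.node 33709 (.leaf 0x3b0e3) (.node 33710 (.leaf 0x3b0e3) (.leaf 0x3b0e3)))) (.node 33713 (.node 33712 (.leaf 0x3b0e3) (.leaf 0x3b0e3)) (.node 33714 (.leaf 0x3b0e3) (.node 33715 (.leaf 0x3b0e3) (.leaf 0x3b0e3))))))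

def candS_1666 : Store := (.node 33726 (.node 33721 (.node 33718 (.node 33717 (.leaf 0x3b0e3) (.leaf 0x3b0e3)) (.node 33719 (.leaf 0x3b0e3) (.node 33720 (.leaf 0x3b0e3) (.leaf 0x3b0e3)))) (.node 33723 (.node 33722 (.leaf 0x3b0e3) (.leaf 0x3b0e3)) (.node 33724 (.leaf 0x3b0e3) (.node 33725 (.leaf 0x3b0e3) (.leaf 0x3b0e3))))) (.node 33731 (.node 33728 (.node 33727 (.leaf 0x3b0e3) (.leaf 0x3b0e3)) (.node 33729 (.leaf 0x3b0e3) (.node 33730 (.leaf 0x3b0e3) (.leaf 0x3b0e3)))) (.node 33733 (.node 33732 (.leaf 0x3b0e3) (.leaf 0x3b0e3)) (.node 33734 (.leaf 0x3b0e3) (.node 33735 (.leaf 0x3b0e3) (.leaf 0x3b0e3))))))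

def candS_1667 : Store := (.node 33746 (.node 33741 (.node 33738 (.node 33737 (.leaf 0x3b0e3) (.leaf 0x3b0e3)) (.node 33739 (.leaf 0x3b0e3) (.node 33740 (.leaf 0x3b0e3) (.leaf 0x3b0e3)))) (.node 33743 (.node 33742 (.leaf 0x3b0e3) (.leaf 0x3b0e3)) (.node 33744 (.leaf 0x3b0e3) (.node 33745 (.leaf 0x3b0e3) (.leaf 0x3b0e3))))) (.node 33751 (.node 33748 (.node 33747 (.leaf 0x3b0e3) (.leaf 0x3b0e3)) (.node 33749 (.leaf 0x3b0e3) (.node 33750 (.leaf 0x3b0e3) (.leaf 0x3b0e3)))) (.node 33753 (.node 33752 (.leaf 0x3b0e3) (.leaf 0x3b0e3)) (.node 33754 (.leaf 0x3b0e3) (.node 33755 (.leaf 0x3b0e3) (.leaf 0x3b0e3))))))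

def candS_1668 : Store := (.node 33766 (.node 33761 (.node 33758 (.node 33757 (.leaf 0x3b0e3) (.leaf 0x3b0e3)) (.node 33759 (.leaf 0x3b0e3) (.node 33760 (.leaf 0x3b0e3) (.leaf 0x3b0e3)))) (.node 33763 (.node 33762 (.leaf 0x3b0e3) (.leaf 0x3b0e3)) (.node 33764 (.leaf 0x3b0e3) (.node 33765 (.leaf 0x3b0e3) (.leaf 0x3b0e3))))) (.node 33771 (.node 33768 (.node 33767 (.leaf 0x3b0e3) (.leaf 0x3b0e3)) (.node 33769 (.leaf 0x3b0e3) (.node 33770 (.leaf 0x3b0e3) (.leaf 0x3b0e3)))) (.node 33774 (.node 33772 (.leaf 0x3b0e3) (.node 33773 (.leaf 0x3b0e3) (.leaf 0x3b0e3))) (.node 33775 (.leaf 0x3b0e3) (.node 33776 (.leaf 0x3b0e3) (.leaf 0x3b0e3))))))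

def candS_1669 : Store := (.node 33787 (.node 33782 (.node 33779 (.node 33778 (.leaf 0x3b0e3) (.leaf 0x3b0e3)) (.node 33780 (.leaf 0x3b0e3) (.node 33781 (.leaf 0x3b0e3) (.leaf 0x3b0e3)))) (.node 33784 (.node 33783 (.leaf 0x3b0e3) (.leaf 0x3b0e3)) (.node 33785 (.leaf 0x3b0e3) (.node 33786 (.leaf 0x3b0e3) (.leaf 0x3b0e3))))) (.node 33792 (.node 33789 (.node 33788 (.leaf 0x3b0e3) (.leaf 0x3b0e3)) (.node 33790 (.leaf 0x3b0e3) (.node 33791 (.leaf 0x3b0e3) (.leaf 0x3b0e3)))) (.node 33794 (.node 33793 (.leaf 0x3b0e3) (.leaf 0x3b0e3)) (.node 33795 (.leaf 0x3b0e3) (.node 33796 (.leaf 0x3b0e3) (.leaf 0x3b0e3))))))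

def candS_1670 : Store := (.node 33807 (.node 33802 (.node 33799 (.node 33798 (.leaf 0x3b0e3) (.leaf 0x3b0e3)) (.node 33800 (.leaf 0x3b0e3) (.node 33801 (.leaf 0x3b0e3) (.leaf 0x3b0e3)))) (.node 33804 (.node 33803 (.leaf 0x3b0e3) (.leaf 0x3b0e3)) (.node 33805 (.leaf 0x3b0e3) (.node 33806 (.leaf 0x3b0e3) (.leaf 0x3b0e3))))) (.node 33812 (.node 33809 (.node 33808 (.leaf 0x3b0e3) (.leaf 0x3b0e3)) (.node 33810 (.leaf 0x3b0e3) (.node 33811 (.leaf 0x3b0e3) (.leaf 0x3b0e3)))) (.node 33814 (.node 33813 (.leaf 0x3b0e3) (.leaf 0x3b0e3)) (.node 33815 (.leaf 0x3b0e3) (.node 33816 (.leaf 0x3b0e3) (.leaf 0x3b0e3))))))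

def candS_1671 : Store := (.node 33827 (.node 33822 (.node 33819 (.node 33818 (.leaf 0x3b0e3) (.leaf 0x3b0e3)) (.node 33820 (.leaf 0x3b0e3) (.node 33821 (.leaf 0x3b0e3) (.leaf 0x3b0e3)))) (.node 33824 (.node 33823 (.leaf 0x3b0e3) (.leaf 0x3b0e3)) (.node 33825 (.leaf 0x3b0e3) (.node 33826 (.leaf 0x3b0e3) (.leaf 0x3b0e3))))) (.node 33832 (.node 33829 (.node 33828 (.leaf 0x3b0e3) (.leaf 0x3b0e3)) (.node 33830 (.leaf 0x3b0e3) (.node 33831 (.leaf 0x3b0e3) (.leaf 0x3b0e3)))) (.node 33834 (.node 33833 (.leaf 0x3b0e3) (.leaf 0x3b0e3)) (.node 33835 (.leaf 0x3b0e3) (.node 33836 (.leaf 0x3b0e3) (.leaf 0x3b0e3))))))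

def candS_1672 : Store := (.node 33847 (.node 33842 (.node 33839 (.node 33838 (.leaf 0x3b0e3) (.leaf 0x3b0e3)) (.node 33840 (.leaf 0x3b0e3) (.node 33841 (.leaf 0x3b0e3) (.leaf 0x3b0e3)))) (.node 33844 (.node 33843 (.leaf 0x3b0e3) (.leaf 0x3b0e3)) (.node 33845 (.leaf 0x3b0e3) (.node 33846 (.leaf 0x3b0e3) (.leaf 0x3b0e3))))) (.node 33852 (.node 33849 (.node 33848 (.leaf 0x3b0e3) (.leaf 0x3b0e3)) (.node 33850 (.leaf 0x3b0e3) (.node 33851 (.leaf 0x3b0e3) (.leaf 0x3b0e3)))) (.node 33855 (.node 33853 (.leaf 0x3b0e3) (.node 33854 (.leaf 0x3b0e3) (.leaf 0x3b0e3))) (.node 33856 (.leaf 0x3b0e3) (.node 33857 (.leaf 0x3b0e3) (.leaf 0x3b0e3))))))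

def candS_1673 : Store := (.node 33868 (.node 33863 (.node 33860 (.node 33859 (.leaf 0x3b0e3) (.leaf 0x3b0e3)) (.node 33861 (.leaf 0x3b0e3) (.node 33862 (.leaf 0x3b0e3) (.leaf 0x3b0e3)))) (.node 33865 (.node 33864 (.leaf 0x3b0e3) (.leaf 0x3b0e3)) (.node 33866 (.leaf 0x3b0e3) (.node 33867 (.leaf 0x3b0e3) (.leaf 0x3b0e3))))) (.node 33873 (.node 33870 (.node 33869 (.leaf 0x3b0e3) (.leaf 0x3b0e3)) (.node 33871 (.leaf 0x3b0e3) (.node 33872 (.leaf 0x3b0e3) (.leaf 0x3b0e3)))) (.node 33875 (.node 33874 (.leaf 0x3b0e3) (.leaf 0x3b0e3)) (.node 33876 (.leaf 0x3b0e3) (.node 33877 (.leaf 0x3b0e3) (.leaf 0x3b0e3))))))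

def candS_1674 : Store := (.node 33888 (.node 33883 (.node 33880 (.node 33879 (.leaf 0x3b0e3) (.leaf 0x3b0e3)) (.node 33881 (.leaf 0x3b0e3) (.node 33882 (.leaf 0x3b0e3) (.leaf 0x3b0e3)))) (.node 33885 (.node 33884 (.leaf 0x3b0e3) (.leaf 0x3b0e3)) (.node 33886 (.leaf 0x3b0e3) (.node 33887 (.leaf 0x3b0e3) (.leaf 0x3b0e3))))) (.node 33893 (.node 33890 (.node 33889 (.leaf 0x3b0e3) (.leaf 0x3b0e3)) (.node 33891 (.leaf 0x3b0e3) (.node 33892 (.leaf 0x3b0e3) (.leaf 0x3b0e3)))) (.node 33895 (.node 33894 (.leaf 0x3b0e3) (.leaf 0x3b0e3)) (.node 33896 (.leaf 0x3b0e3) (.node 33897 (.leaf 0x3b0e3) (.leaf 0x3b0e3))))))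

def candS_1675 : Store := (.node 33908 (.node 33903 (.node 33900 (.node 33899 (.leaf 0x3b0e3) (.leaf 0x3b0e3)) (.node 33901 (.leaf 0x3b0e3) (.node 33902 (.leaf 0x3b0e3) (.leaf 0x3b0e3)))) (.node 33905 (.node 33904 (.leaf 0x3b0e3) (.leaf 0x3b0e3)) (.node 33906 (.leaf 0x3b0e3) (.node 33907 (.leaf 0x3b0e3) (.leaf 0x3b0e3))))) (.node 33913 (.node 33910 (.node 33909 (.leaf 0x3b0e3) (.leaf 0x3b0e3)) (.node 33911 (.leaf 0x3b0e3) (.node 33912 (.leaf 0x3b0e3) (.leaf 0x3b0e3)))) (.node 33915 (.node 33914 (.leaf 0x3b0e3) (.leaf 0x3b0e3)) (.node 33916 (.leaf 0x3b0e3) (.node 33917 (.leaf 0x3b0e3) (.leaf 0x3b0e3))))))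

def candS_1676 : Store := (.node 33928 (.node 33923 (.node 33920 (.node 33919 (.leaf 0x3b0e3) (.leaf 0x3b0e3)) (.node 33921 (.leaf 0x3b0e3) (.node 33922 (.leaf 0x3b0e3) (.leaf 0x3b0e3)))) (.node 33925 (.node 33924 (.leaf 0x3b0e3) (.leaf 0x3b0e3)) (.node 33926 (.leaf 0x3b0e3) (.node 33927 (.leaf 0x3b0e3) (.leaf 0x3b0e3))))) (.node 33933 (.node 33930 (.node 33929 (.leaf 0x3b0e3) (.leaf 0x3b0e3)) (.node 33931 (.leaf 0x3b0e3) (.node 33932 (.leaf 0x3b0e3) (.leaf 0x3b0e3)))) (.node 33936 (.node 33934 (.leaf 0x3b0e3) (.node 33935 (.leaf 0x3b0e3) (.leaf 0x3b0e3))) (.node 33937 (.leaf 0x3b0e3) (.node 33938 (.leaf 0x3b0e3) (.leaf 0x3b0e3))))))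

def candS_1677 : Store := (.node 33949 (.node 33944 (.node 33941 (.node 33940 (.leaf 0x3b0e3) (.leaf 0x3b0e3)) (.node 33942 (.leaf 0x3b0e3) (.node 33943 (.leaf 0x3b0e3) (.leaf 0x3b0e3)))) (.node 33946 (.node 33945 (.leaf 0x3b0e3) (.leaf 0x3b0e3)) (.node 33947 (.leaf 0x3b0e3) (.node 33948 (.leaf 0x3b0e3) (.leaf 0x3b0e3))))) (.node 33954 (.node 33951 (.node 33950 (.leaf 0x3b0e3) (.leaf 0x3b0e3)) (.node 33952 (.leaf 0x3b0e3) (.node 33953 (.leaf 0x3b0e3) (.leaf 0x3b0e3)))) (.node 33956 (.node 33955 (.leaf 0x3b0e3) (.leaf 0x3b0e3)) (.node 33957 (.leaf 0x3b0e3) (.node 33958 (.leaf 0x3b0e3) (.leaf 0x3b0e3))))))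

def candS_1678 : Store := (.node 33969 (.node 33964 (.node 33961 (.node 33960 (.leaf 0x3b0e3) (.leaf 0x3b0e3)) (.node 33962 (.leaf 0x3b0e3) (.node 33963 (.leaf 0x3b0e3) (.leaf 0x3b0e3)))) (.node 33966 (.node 33965 (.leaf 0x3b0e3) (.leaf 0x3b0e3)) (.node 33967 (.leaf 0x3b0e3) (.node 33968 (.leaf 0x3b0e3) (.leaf 0x3b0e3))))) (.node 33974 (.node 33971 (.node 33970 (.leaf 0x3b0e3) (.leaf 0x3b0e3)) (.node 33972 (.leaf 0x3b0e3) (.node 33973 (.leaf 0x3b0e3) (.leaf 0x3b0e3)))) (.node 33976 (.node 33975 (.leaf 0x3b0e3) (.leaf 0x3b0e3)) (.node 33977 (.leaf 0x3b0e3) (.node 33978 (.leaf 0x3b0e3) (.leaf 0x3b0e3))))))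

def candS_1679 : Store := (.node 33989 (.node 33984 (.node 33981 (.node 33980 (.leaf 0x3b0e3) (.leaf 0x3b0e3)) (.node 33982 (.leaf 0x3b0e3) (.node 33983 (.leaf 0x3b0e3) (.leaf 0x3b0e3)))) (.node 33986 (.node 33985 (.leaf 0x3b0e3) (.leaf 0x3b0e3)) (.node 33987 (.leaf 0x3b0e3) (.node 33988 (.leaf 0x3b0e3) (.leaf 0x3b0e3))))) (.node 33994 (.node 33991 (.node 33990 (.leaf 0x3b0e3) (.leaf 0x3b0e3)) (.node 33992 (.leaf 0x3b0e3) (.node 33993 (.leaf 0x3b0e3) (.leaf 0x3b0e3)))) (.node 33996 (.node 33995 (.leaf 0x3b0e3) (.leaf 0x3b0e3)) (.node 33997 (.leaf 0x3b0e3) (.node 33998 (.leaf 0x3b0e3) (.leaf 0x3b0e3))))))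

def candS_1680 : Store := (.node 34009 (.node 34004 (.node 34001 (.node 34000 (.leaf 0x3b0e3) (.leaf 0x3b0e3)) (.node 34002 (.leaf 0x3b0e3) (.node 34003 (.leaf 0x3b0e3) (.leaf 0x3b0e3)))) (.node 34006 (.node 34005 (.leaf 0x3b0e3) (.leaf 0x3b0e3)) (.node 34007 (.leaf 0x3b0e3) (.node 34008 (.leaf 0x3b0e3) (.leaf 0x3b0e3))))) (.node 34014 (.node 34011 (.node 34010 (.leaf 0x3b0e3) (.leaf 0x3b0e3)) (.node 34012 (.leaf 0x3b0e3) (.node 34013 (.leaf 0x3b0e3) (.leaf 0x3b0e3)))) (.node 34017 (.node 34015 (.leaf 0x3b0e3) (.node 34016 (.leaf 0x3b0e3) (.leaf 0x3b0e3))) (.node 34018 (.leaf 0x3b0e3) (.node 34019 (.leaf 0x3b0e3) (.leaf 0x3b0e3))))))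

def candS_1681 : Store := (.node 34030 (.node 34025 (.node 34022 (.node 34021 (.leaf 0x3b0e3) (.leaf 0x3b0e3)) (.node 34023 (.leaf 0x3b0e3) (.node 34024 (.leaf 0x3b0e3) (.leaf 0x3b0e3)))) (.node 34027 (.node 34026 (.leaf 0x3b0e3) (.leaf 0x3b0e3)) (.node 34028 (.leaf 0x3b0e3) (.node 34029 (.leaf 0x3b0e3) (.leaf 0x3b0e3))))) (.node 34035 (.node 34032 (.node 34031 (.leaf 0x3b0e3) (.leaf 0x3b0e3)) (.node 34033 (.leaf 0x3b0e3) (.node 34034 (.leaf 0x3b0e3) (.leaf 0x3b0e3)))) (.node 34037 (.node 34036 (.leaf 0x3b0e3) (.leaf 0x3b0e3)) (.node 34038 (.leaf 0x3b0e3) (.node 34039 (.leaf 0x3b0e3) (.leaf 0x3b0e3))))))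

def candS_1682 : Store := (.node 34050 (.node 34045 (.node 34042 (.node 34041 (.leaf 0x3b0e3) (.leaf 0x3b0e3)) (.node 34043 (.leaf 0x3b0e3) (.node 34044 (.leaf 0x3b0e3) (.leaf 0x3b0e3)))) (.node 34047 (.node 34046 (.leaf 0x3b0e3) (.leaf 0x3b0e3)) (.node 34048 (.leaf 0x3b0e3) (.node 34049 (.leaf 0x3b0e3) (.leaf 0x3b0e3))))) (.node 34055 (.node 34052 (.node 34051 (.leaf 0x3b0e3) (.leaf 0x3b0e3)) (.node 34053 (.leaf 0x3b0e3) (.node 34054 (.leaf 0x3b0e3) (.leaf 0x3b0e3)))) (.node 34057 (.node 34056 (.leaf 0x3b0e3) (.leaf 0x3b0e3)) (.node 34058 (.leaf 0x3b0e3) (.node 34059 (.leaf 0x3b0e3) (.leaf 0x3b0e3))))))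

def candS_1683 : Store := (.node 34070 (.node 34065 (.node 34062 (.node 34061 (.leaf 0x3b0e3) (.leaf 0x3b0e3)) (.node 34063 (.leaf 0x3b0e3) (.node 34064 (.leaf 0x3b0e3) (.leaf 0x3b0e3)))) (.node 34067 (.node 34066 (.leaf 0x3b0e3) (.leaf 0x3b0e3)) (.node 34068 (.leaf 0x3b0e3) (.node 34069 (.leaf 0x3b0e3) (.leaf 0x3b0e3))))) (.node 34075 (.node 34072 (.node 34071 (.leaf 0x3b0e3) (.leaf 0x3b0e3)) (.node 34073 (.leaf 0x3b0e3) (.node 34074 (.leaf 0x3b0e3) (.leaf 0x3b0e3)))) (.node 34077 (.node 34076 (.leaf 0x3b0e3) (.leaf 0x3b0e3)) (.node 34078 (.leaf 0x3b0e3) (.node 34079 (.leaf 0x3b0e3) (.leaf 0x3b0e3))))))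

def candS_1684 : Store := (.node 34090 (.node 34085 (.node 34082 (.node 34081 (.leaf 0x3b0e3) (.leaf 0x3b0e3)) (.node 34083 (.leaf 0x3b0e3) (.node 34084 (.leaf 0x3b0e3) (.leaf 0x3b0e3)))) (.node 34087 (.node 34086 (.leaf 0x3b0e3) (.leaf 0x3b0e3)) (.node 34088 (.leaf 0x3b0e3) (.node 34089 (.leaf 0x3b0e3) (.leaf 0x3b0e3))))) (.node 34095 (.node 34092 (.node 34091 (.leaf 0x3b0e3) (.leaf 0x3b0e3)) (.node 34093 (.leaf 0x3b0e3) (.node 34094 (.leaf 0x3b0e3) (.leaf 0x3b0e3)))) (.node 34098 (.node 34096 (.leaf 0x3b0e3) (.node 34097 (.leaf 0x3b0e3) (.leaf 0x3b0e3))) (.node 34099 (.leaf 0x3b0e3) (.node 34100 (.leaf 0x3b0e3) (.leaf 0x3b0e3))))))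

def candS_1685 : Store := (.node 34111 (.node 34106 (.node 34103 (.node 34102 (.leaf 0x3b0e3) (.leaf 0x3b0e3)) (.node 34104 (.leaf 0x3b0e3) (.node 34105 (.leaf 0x3b0e3) (.leaf 0x3b0e3)))) (.node 34108 (.node 34107 (.leaf 0x3b0e3) (.leaf 0x3b0e3)) (.node 34109 (.leaf 0x3b0e3) (.node 34110 (.leaf 0x3b0e3) (.leaf 0x3b0e3))))) (.node 34116 (.node 34113 (.node 34112 (.leaf 0x3b0e3) (.leaf 0x3b0e3)) (.node 34114 (.leaf 0x3b0e3) (.node 34115 (.leaf 0x3b0e3) (.leaf 0x3b0e3)))) (.node 34118 (.node 34117 (.leaf 0x3b0e3) (.leaf 0x3b0e3)) (.node 34119 (.leaf 0x3b0e3) (.node 34120 (.leaf 0x3b0e3) (.leaf 0x3b0e3))))))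

def candS_1686 : Store := (.node 34131 (.node 34126 (.node 34123 (.node 34122 (.leaf 0x3b0e3) (.leaf 0x3b0e3)) (.node 34124 (.leaf 0x3b0e3) (.node 34125 (.leaf 0x3b0e3) (.leaf 0x3b0e3)))) (.node 34128 (.node 34127 (.leaf 0x3b0e3) (.leaf 0x3b0e3)) (.node 34129 (.leaf 0x3b0e3) (.node 34130 (.leaf 0x3b0e3) (.leaf 0x3b0e3))))) (.node 34136 (.node 34133 (.node 34132 (.leaf 0x3b0e3) (.leaf 0x3b0e3)) (.node 34134 (.leaf 0x3b0e3) (.node 34135 (.leaf 0x3b0e3) (.leaf 0x3b0e3)))) (.node 34138 (.node 34137 (.leaf 0x3b0e3) (.leaf 0x3b0e3)) (.node 34139 (.leaf 0x3b0e3) (.node 34140 (.leaf 0x3b0e3) (.leaf 0x3b0e3))))))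

def candS_1687 : Store := (.node 34151 (.node 34146 (.node 34143 (.node 34142 (.leaf 0x3b0e3) (.leaf 0x3b0e3)) (.node 34144 (.leaf 0x3b0e3) (.node 34145 (.leaf 0x3b0e3) (.leaf 0x3b0e3)))) (.node 34148 (.node 34147 (.leaf 0x3b0e3) (.leaf 0x3b0e3)) (.node 34149 (.leaf 0x3b0e3) (.node 34150 (.leaf 0x3b0e3) (.leaf 0x3b0e3))))) (.node 34156 (.node 34153 (.node 34152 (.leaf 0x3b0e3) (.leaf 0x3b0e3)) (.node 34154 (.leaf 0x3b0e3) (.node 34155 (.leaf 0x3b0e3) (.leaf 0x3b0e3)))) (.node 34158 (.node 34157 (.leaf 0x3b0e3) (.leaf 0x3b0e3)) (.node 34159 (.leaf 0x3b0e3) (.node 34160 (.leaf 0x3b0e3) (.leaf 0x3b0e3))))))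

def candS_1688 : Store := (.node 34171 (.node 34166 (.node 34163 (.node 34162 (.leaf 0x3b0e3) (.leaf 0x3b0e3)) (.node 34164 (.leaf 0x3b0e3) (.node 34165 (.leaf 0x3b0e3) (.leaf 0x3b0e3)))) (.node 34168 (.node 34167 (.leaf 0x3b0e3) (.leaf 0x3b0e3)) (.node 34169 (.leaf 0x3b0e3) (.node 34170 (.leaf 0x3b0e3) (.leaf 0x3b0e3))))) (.node 34176 (.node 34173 (.node 34172 (.leaf 0x3b0e3) (.leaf 0x3b0e3)) (.node 34174 (.leaf 0x3b0e3) (.node 34175 (.leaf 0x3b0e3) (.leaf 0x3b0e3)))) (.node 34179 (.node 34177 (.leaf 0x3b0e3) (.node 34178 (.leaf 0x3b0e3) (.leaf 0x3b0e3))) (.node 34180 (.leaf 0x3b0e3) (.node 34181 (.leaf 0x3b0e3) (.leaf 0x3b0e3))))))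

def candS_1689 : Store := (.node 34192 (.node 34187 (.node 34184 (.node 34183 (.leaf 0x3b0e3) (.leaf 0x3b0e3)) (.node 34185 (.leaf 0x3b0e3) (.node 34186 (.leaf 0x3b0e3) (.leaf 0x3b0e3)))) (.node 34189 (.node 34188 (.leaf 0x3b0e3) (.leaf 0x3b0e3)) (.node 34190 (.leaf 0x3b0e3) (.node 34191 (.leaf 0x3b0e3) (.leaf 0x3b0e3))))) (.node 34197 (.node 34194 (.node 34193 (.leaf 0x3b0e3) (.leaf 0x3b0e3)) (.node 34195 (.leaf 0x3b0e3) (.node 34196 (.leaf 0x3b0e3) (.leaf 0x3b0e3)))) (.node 34199 (.node 34198 (.leaf 0x3b0e3) (.leaf 0x3b0e3)) (.node 34200 (.leaf 0x3b0e3) (.node 34201 (.leaf 0x3b0e3) (.leaf 0x3b0e3))))))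

def candS_1690 : Store := (.node 34212 (.node 34207 (.node 34204 (.node 34203 (.leaf 0x3b0e3) (.leaf 0x3b0e3)) (.node 34205 (.leaf 0x3b0e3) (.node 34206 (.leaf 0x3b0e3) (.leaf 0x3b0e3)))) (.node 34209 (.node 34208 (.leaf 0x3b0e3) (.leaf 0x3b0e3)) (.node 34210 (.leaf 0x3b0e3) (.node 34211 (.leaf 0x3b0e3) (.leaf 0x3b0e3))))) (.node 34217 (.node 34214 (.node 34213 (.leaf 0x3b0e3) (.leaf 0x3b0e3)) (.node 34215 (.leaf 0x3b0e3) (.node 34216 (.leaf 0x3b0e3) (.leaf 0x3b0e3)))) (.node 34219 (.node 34218 (.leaf 0x3b0e3) (.leaf 0x3b0e3)) (.node 34220 (.leaf 0x3b0e3) (.node 34221 (.leaf 0x3b0e3) (.leaf 0x3b0e3))))))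

def candS_1691 : Store := (.node 34232 (.node 34227 (.node 34224 (.node 34223 (.leaf 0x3b0e3) (.leaf 0x3b0e3)) (.node 34225 (.leaf 0x3b0e3) (.node 34226 (.leaf 0x3b0e3) (.leaf 0x3b0e3)))) (.node 34229 (.node 34228 (.leaf 0x3b0e3) (.leaf 0x3b0e3)) (.node 34230 (.leaf 0x3b0e3) (.node 34231 (.leaf 0x3b0e3) (.leaf 0x3b0e3))))) (.node 34237 (.node 34234 (.node 34233 (.leaf 0x3b0e3) (.leaf 0x3b0e3)) (.node 34235 (.leaf 0x3b0e3) (.node 34236 (.leaf 0x3b0e3) (.leaf 0x3b0e3)))) (.node 34239 (.node 34238 (.leaf 0x3b0e3) (.leaf 0x3b0e3)) (.node 34240 (.leaf 0x3b0e3) (.node 34241 (.leaf 0x3b0e3) (.leaf 0x3b0e3))))))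

def candS_1692 : Store := (.node 34252 (.node 34247 (.node 34244 (.node 34243 (.leaf 0x3b0e3) (.leaf 0x3b0e3)) (.node 34245 (.leaf 0x3b0e3) (.node 34246 (.leaf 0x3b0e3) (.leaf 0x3b0e3)))) (.node 34249 (.node 34248 (.leaf 0x3b0e3) (.leaf 0x3b0e3)) (.node 34250 (.leaf 0x3b0e3) (.node 34251 (.leaf 0x3b0e3) (.leaf 0x3b0e3))))) (.node 34257 (.node 34254 (.node 34253 (.leaf 0x3b0e3) (.leaf 0x3b0e3)) (.node 34255 (.leaf 0x3b0e3) (.node 34256 (.leaf 0x3b0e3) (.leaf 0x3b0e3)))) (.node 34260 (.node 34258 (.leaf 0x3b0e3) (.node 34259 (.leaf 0x3b0e3) (.leaf 0x3b0e3))) (.node 34261 (.leaf 0x3b0e3) (.node 34262 (.leaf 0x3b0e3) (.leaf 0x3b0e3))))))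

def candS_1693 : Store := (.node 34273 (.node 34268 (.node 34265 (.node 34264 (.leaf 0x3b0e3) (.leaf 0x3b0e3)) (.node 34266 (.leaf 0x3b0e3) (.node 34267 (.leaf 0x3b0e3) (.leaf 0x3b0e3)))) (.node 34270 (.node 34269 (.leaf 0x3b0e3) (.leaf 0x3b0e3)) (.node 34271 (.leaf 0x3b0e3) (.node 34272 (.leaf 0x3b0e3) (.leaf 0x3b0e3))))) (.node 34278 (.node 34275 (.node 34274 (.leaf 0x3b0e3) (.leaf 0x3b0e3)) (.node 34276 (.leaf 0x3b0e3) (.node 34277 (.leaf 0x3b0e3) (.leaf 0x3b0e3)))) (.node 34280 (.node 34279 (.leaf 0x3b0e3) (.leaf 0x3b0e3)) (.node 34281 (.leaf 0x3b0e3) (.node 34282 (.leaf 0x3b0e3) (.leaf 0x3b0e3))))))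

def candS_1694 : Store := (.node 34293 (.node 34288 (.node 34285 (.node 34284 (.leaf 0x3b0e3) (.leaf 0x3b0e3)) (.node 34286 (.leaf 0x3b0e3) (.node 34287 (.leaf 0x3b0e3) (.leaf 0x3b0e3)))) (.node 34290 (.node 34289 (.leaf 0x3b0e3) (.leaf 0x3b0e3)) (.node 34291 (.leaf 0x3b0e3) (.node 34292 (.leaf 0x3b0e3) (.leaf 0x3b0e3))))) (.node 34298 (.node 34295 (.node 34294 (.leaf 0x3b0e3) (.leaf 0x3b0e3)) (.node 34296 (.leaf 0x3b0e3) (.node 34297 (.leaf 0x3b0e3) (.leaf 0x3b0e3)))) (.node 34300 (.node 34299 (.leaf 0x3b0e3) (.leaf 0x3b0e3)) (.node 34301 (.leaf 0x3b0e3) (.node 34302 (.leaf 0x3b0e3) (.leaf 0x3b0e3))))))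

def candS_1695 : Store := (.node 34313 (.node 34308 (.node 34305 (.node 34304 (.leaf 0x3b0e3) (.leaf 0x3b0e3)) (.node 34306 (.leaf 0x3b0e3) (.node 34307 (.leaf 0x3b0e3) (.leaf 0x3b0e3)))) (.node 34310 (.node 34309 (.leaf 0x3b0e3) (.leaf 0x3b0e3)) (.node 34311 (.leaf 0x3b0e3) (.node 34312 (.leaf 0x3b0e3) (.leaf 0x3b0e3))))) (.node 34318 (.node 34315 (.node 34314 (.leaf 0x3b0e3) (.leaf 0x3b0e3)) (.node 34316 (.leaf 0x3b0e3) (.node 34317 (.leaf 0x3b0e3) (.leaf 0x3b0e3)))) (.node 34320 (.node 34319 (.leaf 0x3b0e3) (.leaf 0x3b0e3)) (.node 34321 (.leaf 0x3b0e3) (.node 34322 (.leaf 0x3b0e3) (.leaf 0x3b0e3))))))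

def candS_1696 : Store := (.node 34333 (.node 34328 (.node 34325 (.node 34324 (.leaf 0x3b0e3) (.leaf 0x3b0e3)) (.node 34326 (.leaf 0x3b0e3) (.node 34327 (.leaf 0x3b0e3) (.leaf 0x3b0e3)))) (.node 34330 (.node 34329 (.leaf 0x3b0e3) (.leaf 0x3b0e3)) (.node 34331 (.leaf 0x3b0e3) (.node 34332 (.leaf 0x3b0e3) (.leaf 0x3b0e3))))) (.node 34338 (.node 34335 (.node 34334 (.leaf 0x3b0e3) (.leaf 0x3b0e3)) (.node 34336 (.leaf 0x3b0e3) (.node 34337 (.leaf 0x3b0e3) (.leaf 0x3b0e3)))) (.node 34341 (.node 34339 (.leaf 0x3b0e3) (.node 34340 (.leaf 0x3b0e3) (.leaf 0x3b0e3))) (.node 34342 (.leaf 0x3b0e3) (.node 34343 (.leaf 0x3b0e3) (.leaf 0x3b0e3))))))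

def candS_1697 : Store := (.node 34354 (.node 34349 (.node 34346 (.node 34345 (.leaf 0x3b0e3) (.leaf 0x3b0e3)) (.node 34347 (.leaf 0x3b0e3) (.node 34348 (.leaf 0x3b0e3) (.leaf 0x3b0e3)))) (.node 34351 (.node 34350 (.leaf 0x3b0e3) (.leaf 0x3b0e3)) (.node 34352 (.leaf 0x3b0e3) (.node 34353 (.leaf 0x3b0e3) (.leaf 0x3b0e3))))) (.node 34359 (.node 34356 (.node 34355 (.leaf 0x3b0e3) (.leaf 0x3b0e3)) (.node 34357 (.leaf 0x3b0e3) (.node 34358 (.leaf 0x3b0e3) (.leaf 0x3b0e3)))) (.node 34361 (.node 34360 (.leaf 0x3b0e3) (.leaf 0x3b0e3)) (.node 34362 (.leaf 0x3b0e3) (.node 34363 (.leaf 0x3b0e3) (.leaf 0x3b0e3))))))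

def candS_1698 : Store := (.node 34374 (.node 34369 (.node 34366 (.node 34365 (.leaf 0x3b0e3) (.leaf 0x3b0e3)) (.node 34367 (.leaf 0x3b0e3) (.node 34368 (.leaf 0x3b0e3) (.leaf 0x3b0e3)))) (.node 34371 (.node 34370 (.leaf 0x3b0e3) (.leaf 0x3b0e3)) (.node 34372 (.leaf 0x3b0e3) (.node 34373 (.leaf 0x3b0e3) (.leaf 0x3b0e3))))) (.node 34379 (.node 34376 (.node 34375 (.leaf 0x3b0e3) (.leaf 0x3b0e3)) (.node 34377 (.leaf 0x3b0e3) (.node 34378 (.leaf 0x3b0e3) (.leaf 0x3b0e3)))) (.node 34381 (.node 34380 (.leaf 0x3b0e3) (.leaf 0x3b0e3)) (.node 34382 (.leaf 0x3b0e3) (.node 34383 (.leaf 0x3b0e3) (.leaf 0x3b0e3))))))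

def candS_1699 : Store := (.node 34394 (.node 34389 (.node 34386 (.node 34385 (.leaf 0x3b0e3) (.leaf 0x3b0e3)) (.node 34387 (.leaf 0x3b0e3) (.node 34388 (.leaf 0x3b0e3) (.leaf 0x3b0e3)))) (.node 34391 (.node 34390 (.leaf 0x3b0e3) (.leaf 0x3b0e3)) (.node 34392 (.leaf 0x3b0e3) (.node 34393 (.leaf 0x3b0e3) (.leaf 0x3b0e3))))) (.node 34399 (.node 34396 (.node 34395 (.leaf 0x3b0e3) (.leaf 0x3b0e3)) (.node 34397 (.leaf 0x3b0e3) (.node 34398 (.leaf 0x3b0e3) (.leaf 0x3b0e3)))) (.node 34401 (.node 34400 (.leaf 0x3b0e3) (.leaf 0x3b0e3)) (.node 34402 (.leaf 0x3b0e3) (.node 34403 (.leaf 0x3b0e3) (.leaf 0x3b0e3))))))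

def candS_1700 : Store := (.node 34414 (.node 34409 (.node 34406 (.node 34405 (.leaf 0x3b0e3) (.leaf 0x3b0e3)) (.node 34407 (.leaf 0x3b0e3) (.node 34408 (.leaf 0x3b0e3) (.leaf 0x3b0e3)))) (.node 34411 (.node 34410 (.leaf 0x3b0e3) (.leaf 0x3b0e3)) (.node 34412 (.leaf 0x3b0e3) (.node 34413 (.leaf 0x3b0e3) (.leaf 0x3b0e3))))) (.node 34419 (.node 34416 (.node 34415 (.leaf 0x3b0e3) (.leaf 0x3b0e3)) (.node 34417 (.leaf 0x3b0e3) (.node 34418 (.leaf 0x3b0e3) (.leaf 0x3b0e3)))) (.node 34422 (.node 34420 (.leaf 0x3b0e3) (.node 34421 (.leaf 0x3b0e3) (.leaf 0x3b0e3))) (.node 34423 (.leaf 0x3b0e3) (.node 34424 (.leaf 0x3b0e3) (.leaf 0x3b0e3))))))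

def candS_1701 : Store := (.node 34435 (.node 34430 (.node 34427 (.node 34426 (.leaf 0x3b0e3) (.leaf 0x3b0e3)) (.node 34428 (.leaf 0x3b0e3) (.node 34429 (.leaf 0x3b0e3) (.leaf 0x3b0e3)))) (.node 34432 (.node 34431 (.leaf 0x3b0e3) (.leaf 0x3b0e3)) (.node 34433 (.leaf 0x3b0e3) (.node 34434 (.leaf 0x3b0e3) (.leaf 0x3b0e3))))) (.node 34440 (.node 34437 (.node 34436 (.leaf 0x3b0e3) (.leaf 0x3b0e3)) (.node 34438 (.leaf 0x3b0e3) (.node 34439 (.leaf 0x3b0e3) (.leaf 0x3b0e3)))) (.node 34442 (.node 34441 (.leaf 0x3b0e3) (.leaf 0x3b0e3)) (.node 34443 (.leaf 0x3b0e3) (.node 34444 (.leaf 0x3b0e3) (.leaf 0x3b0e3))))))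

def candS_1702 : Store := (.node 34455 (.node 34450 (.node 34447 (.node 34446 (.leaf 0x3b0e3) (.leaf 0x3b0e3)) (.node 34448 (.leaf 0x3b0e3) (.node 34449 (.leaf 0x3b0e3) (.leaf 0x3b0e3)))) (.node 34452 (.node 34451 (.leaf 0x3b0e3) (.leaf 0x3b0e3)) (.node 34453 (.leaf 0x3b0e3) (.node 34454 (.leaf 0x3b0e3) (.leaf 0x3b0e3))))) (.node 34460 (.node 34457 (.node 34456 (.leaf 0x3b0e3) (.leaf 0x3b0e3)) (.node 34458 (.leaf 0x3b0e3) (.node 34459 (.leaf 0x3b0e3) (.leaf 0x3b0e3)))) (.node 34462 (.node 34461 (.leaf 0x3b0e3) (.leaf 0x3b0e3)) (.node 34463 (.leaf 0x3b0e3) (.node 34464 (.leaf 0x3b0e3) (.leaf 0x3b0e3))))))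

def candS_1703 : Store := (.node 34475 (.node 34470 (.node 34467 (.node 34466 (.leaf 0x3b0e3) (.leaf 0x3b0e3)) (.node 34468 (.leaf 0x3b0e3) (.node 34469 (.leaf 0x3b0e3) (.leaf 0x3b0e3)))) (.node 34472 (.node 34471 (.leaf 0x3b0e3) (.leaf 0x3b0e3)) (.node 34473 (.leaf 0x3b0e3) (.node 34474 (.leaf 0x3b0e3) (.leaf 0x3b0e3))))) (.node 34480 (.node 34477 (.node 34476 (.leaf 0x3b0e3) (.leaf 0x3b0e3)) (.node 34478 (.leaf 0x3b0e3) (.node 34479 (.leaf 0x3b0e3) (.leaf 0x3b0e3)))) (.node 34482 (.node 34481 (.leaf 0x3b0e3) (.leaf 0x3b0e3)) (.node 34483 (.leaf 0x3b0e3) (.node 34484 (.leaf 0x3b0e3) (.leaf 0x3b0e3))))))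

def candS_1704 : Store := (.node 34495 (.node 34490 (.node 34487 (.node 34486 (.leaf 0x3b0e3) (.leaf 0x3b0e3)) (.node 34488 (.leaf 0x3b0e3) (.node 34489 (.leaf 0x3b0e3) (.leaf 0x3b0e3)))) (.node 34492 (.node 34491 (.leaf 0x3b0e3) (.leaf 0x3b0e3)) (.node 34493 (.leaf 0x3b0e3) (.node 34494 (.leaf 0x3b0e3) (.leaf 0x3b0e3))))) (.node 34500 (.node 34497 (.node 34496 (.leaf 0x3b0e3) (.leaf 0x3b0e3)) (.node 34498 (.leaf 0x3b0e3) (.node 34499 (.leaf 0x3b0e3) (.leaf 0x3b0e3)))) (.node 34503 (.node 34501 (.leaf 0x3b0e3) (.node 34502 (.leaf 0x3b0e3) (.leaf 0x3b0e3))) (.node 34504 (.leaf 0x3b0e3) (.node 34505 (.leaf 0x3b0e3) (.leaf 0x3b0e3))))))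

def candS_1705 : Store := (.node 34516 (.node 34511 (.node 34508 (.node 34507 (.leaf 0x3b0e3) (.leaf 0x3b0e3)) (.node 34509 (.leaf 0x3b0e3) (.node 34510 (.leaf 0x3b0e3) (.leaf 0x3b0e3)))) (.node 34513 (.node 34512 (.leaf 0x3b0e3) (.leaf 0x3b0e3)) (.node 34514 (.leaf 0x3b0e3) (.node 34515 (.leaf 0x3b0e3) (.leaf 0x3b0e3))))) (.node 34521 (.node 34518 (.node 34517 (.leaf 0x3b0e3) (.leaf 0x3b0e3)) (.node 34519 (.leaf 0x3b0e3) (.node 34520 (.leaf 0x3b0e3) (.leaf 0x3b0e3)))) (.node 34523 (.node 34522 (.leaf 0x3b0e3) (.leaf 0x3b0e3)) (.node 34524 (.leaf 0x3b0e3) (.node 34525 (.leaf 0x3b0e3) (.leaf 0x3b0e3))))))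

def candS_1706 : Store := (.node 34536 (.node 34531 (.node 34528 (.node 34527 (.leaf 0x3b0e3) (.leaf 0x3b0e3)) (.node 34529 (.leaf 0x3b0e3) (.node 34530 (.leaf 0x3b0e3) (.leaf 0x3b0e3)))) (.node 34533 (.node 34532 (.leaf 0x3b0e3) (.leaf 0x3b0e3)) (.node 34534 (.leaf 0x3b0e3) (.node 34535 (.leaf 0x3b0e3) (.leaf 0x3b0e3))))) (.node 34541 (.node 34538 (.node 34537 (.leaf 0x3b0e3) (.leaf 0x3b0e3)) (.node 34539 (.leaf 0x3b0e3) (.node 34540 (.leaf 0x3b0e3) (.leaf 0x3b0e3)))) (.node 34543 (.node 34542 (.leaf 0x3b0e3) (.leaf 0x3b0e3)) (.node 34544 (.leaf 0x3b0e3) (.node 34545 (.leaf 0x3b0e3) (.leaf 0x3b0e3))))))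

def candS_1707 : Store := (.node 34556 (.node 34551 (.node 34548 (.node 34547 (.leaf 0x3b0e3) (.leaf 0x3b0e3)) (.node 34549 (.leaf 0x3b0e3) (.node 34550 (.leaf 0x3b0e3) (.leaf 0x3b0e3)))) (.node 34553 (.node 34552 (.leaf 0x3b0e3) (.leaf 0x3b0e3)) (.node 34554 (.leaf 0x3b0e3) (.node 34555 (.leaf 0x3b0e3) (.leaf 0x3b0e3))))) (.node 34561 (.node 34558 (.node 34557 (.leaf 0x3b0e3) (.leaf 0x3b0e3)) (.node 34559 (.leaf 0x3b0e3) (.node 34560 (.leaf 0x3b0e3) (.leaf 0x43837)))) (.node 34563 (.node 34562 (.leaf 0x43837) (.leaf 0x43837)) (.node 34564 (.leaf 0x43837) (.node 34565 (.leaf 0x43837) (.leaf 0x43837))))))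

def candS_1708 : Store := (.node 34576 (.node 34571 (.node 34568 (.node 34567 (.leaf 0x43837) (.leaf 0x43837)) (.node 34569 (.leaf 0x43837) (.node 34570 (.leaf 0x43837) (.leaf 0x43837)))) (.node 34573 (.node 34572 (.leaf 0x43837) (.leaf 0x43837)) (.node 34574 (.leaf 0x43837) (.node 34575 (.leaf 0x43837) (.leaf 0x43837))))) (.node 34581 (.node 34578 (.node 34577 (.leaf 0x43837) (.leaf 0x43837)) (.node 34579 (.leaf 0x43837) (.node 34580 (.leaf 0x43837) (.leaf 0x43837)))) (.node 34584 (.node 34582 (.leaf 0x43837) (.node 34583 (.leaf 0x43837) (.leaf 0x43837))) (.node 34585 (.leaf 0x43837) (.node 34586 (.leaf 0x43837) (.leaf 0x43837))))))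

def candS_1709 : Store := (.node 34597 (.node 34592 (.node 34589 (.node 34588 (.leaf 0x43837) (.leaf 0x43837)) (.node 34590 (.leaf 0x43837) (.node 34591 (.leaf 0x43837) (.leaf 0x43837)))) (.node 34594 (.node 34593 (.leaf 0x43837) (.leaf 0x43837)) (.node 34595 (.leaf 0x43837) (.node 34596 (.leaf 0x43837) (.leaf 0x43837))))) (.node 34602 (.node 34599 (.node 34598 (.leaf 0x43837) (.leaf 0x43837)) (.node 34600 (.leaf 0x43837) (.node 34601 (.leaf 0x43837) (.leaf 0x43837)))) (.node 34604 (.node 34603 (.leaf 0x43837) (.leaf 0x43837)) (.node 34605 (.leaf 0x43837) (.node 34606 (.leaf 0x43837) (.leaf 0x43837))))))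

def candS_1710 : Store := (.node 34617 (.node 34612 (.node 34609 (.node 34608 (.leaf 0x43837) (.leaf 0x43837)) (.node 34610 (.leaf 0x43837) (.node 34611 (.leaf 0x43837) (.leaf 0x43837)))) (.node 34614 (.node 34613 (.leaf 0x43837) (.leaf 0x43837)) (.node 34615 (.leaf 0x43837) (.node 34616 (.leaf 0x43837) (.leaf 0x43837))))) (.node 34622 (.node 34619 (.node 34618 (.leaf 0x43837) (.leaf 0x43837)) (.node 34620 (.leaf 0x43837) (.node 34621 (.leaf 0x43837) (.leaf 0x43837)))) (.node 34624 (.node 34623 (.leaf 0x43837) (.leaf 0x43837)) (.node 34625 (.leaf 0x43837) (.node 34626 (.leaf 0x43837) (.leaf 0x43837))))))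

def candS_1711 : Store := (.node 34637 (.node 34632 (.node 34629 (.node 34628 (.leaf 0x43837) (.leaf 0x43837)) (.node 34630 (.leaf 0x43837) (.node 34631 (.leaf 0x43837) (.leaf 0x43837)))) (.node 34634 (.node 34633 (.leaf 0x43837) (.leaf 0x43837)) (.node 34635 (.leaf 0x43837) (.node 34636 (.leaf 0x43837) (.leaf 0x43837))))) (.node 34642 (.node 34639 (.node 34638 (.leaf 0x43837) (.leaf 0x43837)) (.node 34640 (.leaf 0x43837) (.node 34641 (.leaf 0x43837) (.leaf 0x43837)))) (.node 34644 (.node 34643 (.leaf 0x43837) (.leaf 0x43837)) (.node 34645 (.leaf 0x43837) (.node 34646 (.leaf 0x43837) (.leaf 0x43837))))))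

def candS_1712 : Store := (.node 34657 (.node 34652 (.node 34649 (.node 34648 (.leaf 0x43837) (.leaf 0x43837)) (.node 34650 (.leaf 0x43837) (.node 34651 (.leaf 0x43837) (.leaf 0x43837)))) (.node 34654 (.node 34653 (.leaf 0x43837) (.leaf 0x43837)) (.node 34655 (.leaf 0x43837) (.node 34656 (.leaf 0x43837) (.leaf 0x43837))))) (.node 34662 (.node 34659 (.node 34658 (.leaf 0x43837) (.leaf 0x43837)) (.node 34660 (.leaf 0x43837) (.node 34661 (.leaf 0x43837) (.leaf 0x43837)))) (.node 34665 (.node 34663 (.leaf 0x43837) (.node 34664 (.leaf 0x43837) (.leaf 0x43837))) (.node 34666 (.leaf 0x43837) (.node 34667 (.leaf 0x43837) (.leaf 0x43837))))))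

def candS_1713 : Store := (.node 34678 (.node 34673 (.node 34670 (.node 34669 (.leaf 0x43837) (.leaf 0x43837)) (.node 34671 (.leaf 0x43837) (.node 34672 (.leaf 0x43837) (.leaf 0x43837)))) (.node 34675 (.node 34674 (.leaf 0x43837) (.leaf 0x43837)) (.node 34676 (.leaf 0x43837) (.node 34677 (.leaf 0x43837) (.leaf 0x43837))))) (.node 34683 (.node 34680 (.node 34679 (.leaf 0x43837) (.leaf 0x43837)) (.node 34681 (.leaf 0x43837) (.node 34682 (.leaf 0x43837) (.leaf 0x43837)))) (.node 34685 (.node 34684 (.leaf 0x43837) (.leaf 0x43837)) (.node 34686 (.leaf 0x43837) (.node 34687 (.leaf 0x43837) (.leaf 0x43837))))))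

def candS_1714 : Store := (.node 34698 (.node 34693 (.node 34690 (.node 34689 (.leaf 0x43837) (.leaf 0x43837)) (.node 34691 (.leaf 0x43837) (.node 34692 (.leaf 0x43837) (.leaf 0x43837)))) (.node 34695 (.node 34694 (.leaf 0x43837) (.leaf 0x43837)) (.node 34696 (.leaf 0x43837) (.node 34697 (.leaf 0x43837) (.leaf 0x43837))))) (.node 34703 (.node 34700 (.node 34699 (.leaf 0x43837) (.leaf 0x43837)) (.node 34701 (.leaf 0x43837) (.node 34702 (.leaf 0x43837) (.leaf 0x43837)))) (.node 34705 (.node 34704 (.leaf 0x43837) (.leaf 0x43837)) (.node 34706 (.leaf 0x43837) (.node 34707 (.leaf 0x43837) (.leaf 0x43837))))))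

def candS_1715 : Store := (.node 34718 (.node 34713 (.node 34710 (.node 34709 (.leaf 0x43837) (.leaf 0x43837)) (.node 34711 (.leaf 0x43837) (.node 34712 (.leaf 0x43837) (.leaf 0x43837)))) (.node 34715 (.node 34714 (.leaf 0x43837) (.leaf 0x43837)) (.node 34716 (.leaf 0x43837) (.node 34717 (.leaf 0x43837) (.leaf 0x43837))))) (.node 34723 (.node 34720 (.node 34719 (.leaf 0x43837) (.leaf 0x43837)) (.node 34721 (.leaf 0x43837) (.node 34722 (.leaf 0x43837) (.leaf 0x43837)))) (.node 34725 (.node 34724 (.leaf 0x43837) (.leaf 0x43837)) (.node 34726 (.leaf 0x43837) (.node 34727 (.leaf 0x43837) (.leaf 0x43837))))))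

def candS_1716 : Store := (.node 34738 (.node 34733 (.node 34730 (.node 34729 (.leaf 0x43837) (.leaf 0x43837)) (.node 34731 (.leaf 0x43837) (.node 34732 (.leaf 0x43837) (.leaf 0x43837)))) (.node 34735 (.node 34734 (.leaf 0x43837) (.leaf 0x43837)) (.node 34736 (.leaf 0x43837) (.node 34737 (.leaf 0x43837) (.leaf 0x43837))))) (.node 34743 (.node 34740 (.node 34739 (.leaf 0x43837) (.leaf 0x43837)) (.node 34741 (.leaf 0x43837) (.node 34742 (.leaf 0x43837) (.leaf 0x43837)))) (.node 34746 (.node 34744 (.leaf 0x43837) (.node 34745 (.leaf 0x43837) (.leaf 0x43837))) (.node 34747 (.leaf 0x43837) (.node 34748 (.leaf 0x43837) (.leaf 0x43837))))))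

def candS_1717 : Store := (.node 34759 (.node 34754 (.node 34751 (.node 34750 (.leaf 0x43837) (.leaf 0x43837)) (.node 34752 (.leaf 0x43837) (.node 34753 (.leaf 0x43837) (.leaf 0x43837)))) (.node 34756 (.node 34755 (.leaf 0x43837) (.leaf 0x43837)) (.node 34757 (.leaf 0x43837) (.node 34758 (.leaf 0x43837) (.leaf 0x43837))))) (.node 34764 (.node 34761 (.node 34760 (.leaf 0x43837) (.leaf 0x43837)) (.node 34762 (.leaf 0x43837) (.node 34763 (.leaf 0x43837) (.leaf 0x43837)))) (.node 34766 (.node 34765 (.leaf 0x43837) (.leaf 0x43837)) (.node 34767 (.leaf 0x43837) (.node 34768 (.leaf 0x43837) (.leaf 0x43837))))))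

def candS_1718 : Store := (.node 34779 (.node 34774 (.node 34771 (.node 34770 (.leaf 0x43837) (.leaf 0x43837)) (.node 34772 (.leaf 0x43837) (.node 34773 (.leaf 0x43837) (.leaf 0x43837)))) (.node 34776 (.node 34775 (.leaf 0x43837) (.leaf 0x43837)) (.node 34777 (.leaf 0x43837) (.node 34778 (.leaf 0x43837) (.leaf 0x43837))))) (.node 34784 (.node 34781 (.node 34780 (.leaf 0x43837) (.leaf 0x43837)) (.node 34782 (.leaf 0x43837) (.node 34783 (.leaf 0x43837) (.leaf 0x43837)))) (.node 34786 (.node 34785 (.leaf 0x43837) (.leaf 0x43837)) (.node 34787 (.leaf 0x43837) (.node 34788 (.leaf 0x43837) (.leaf 0x43837))))))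

def candS_1719 : Store := (.node 34799 (.node 34794 (.node 34791 (.node 34790 (.leaf 0x43837) (.leaf 0x43837)) (.node 34792 (.leaf 0x43837) (.node 34793 (.leaf 0x43837) (.leaf 0x43837)))) (.node 34796 (.node 34795 (.leaf 0x43837) (.leaf 0x43837)) (.node 34797 (.leaf 0x43837) (.node 34798 (.leaf 0x43837) (.leaf 0x43837))))) (.node 34804 (.node 34801 (.node 34800 (.leaf 0x43837) (.leaf 0x43837)) (.node 34802 (.leaf 0x43837) (.node 34803 (.leaf 0x43837) (.leaf 0x43837)))) (.node 34806 (.node 34805 (.leaf 0x43837) (.leaf 0x43837)) (.node 34807 (.leaf 0x43837) (.node 34808 (.leaf 0x43837) (.leaf 0x43837))))))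

def candS_1720 : Store := (.node 34819 (.node 34814 (.node 34811 (.node 34810 (.leaf 0x43837) (.leaf 0x43837)) (.node 34812 (.leaf 0x43837) (.node 34813 (.leaf 0x43837) (.leaf 0x43837)))) (.node 34816 (.node 34815 (.leaf 0x43837) (.leaf 0x43837)) (.node 34817 (.leaf 0x43837) (.node 34818 (.leaf 0x43837) (.leaf 0x43837))))) (.node 34824 (.node 34821 (.node 34820 (.leaf 0x43837) (.leaf 0x43837)) (.node 34822 (.leaf 0x43837) (.node 34823 (.leaf 0x43837) (.leaf 0x43837)))) (.node 34827 (.node 34825 (.leaf 0x43837) (.node 34826 (.leaf 0x43837) (.leaf 0x43837))) (.node 34828 (.leaf 0x43837) (.node 34829 (.leaf 0x43837) (.leaf 0x43837))))))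

def candS_1721 : Store := (.node 34840 (.node 34835 (.node 34832 (.node 34831 (.leaf 0x43837) (.leaf 0x43837)) (.node 34833 (.leaf 0x43837) (.node 34834 (.leaf 0x43837) (.leaf 0x43837)))) (.node 34837 (.node 34836 (.leaf 0x43837) (.leaf 0x43837)) (.node 34838 (.leaf 0x43837) (.node 34839 (.leaf 0x43837) (.leaf 0x43837))))) (.node 34845 (.node 34842 (.node 34841 (.leaf 0x43837) (.leaf 0x43837)) (.node 34843 (.leaf 0x43837) (.node 34844 (.leaf 0x43837) (.leaf 0x43837)))) (.node 34847 (.node 34846 (.leaf 0x43837) (.leaf 0x43837)) (.node 34848 (.leaf 0x43837) (.node 34849 (.leaf 0x43837) (.leaf 0x43837))))))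

def candS_1722 : Store := (.node 34860 (.node 34855 (.node 34852 (.node 34851 (.leaf 0x43837) (.leaf 0x43837)) (.node 34853 (.leaf 0x43837) (.node 34854 (.leaf 0x43837) (.leaf 0x43837)))) (.node 34857 (.node 34856 (.leaf 0x43837) (.leaf 0x43837)) (.node 34858 (.leaf 0x43837) (.node 34859 (.leaf 0x43837) (.leaf 0x43837))))) (.node 34865 (.node 34862 (.node 34861 (.leaf 0x43837) (.leaf 0x43837)) (.node 34863 (.leaf 0x43837) (.node 34864 (.leaf 0x43837) (.leaf 0x43837)))) (.node 34867 (.node 34866 (.leaf 0x43837) (.leaf 0x43837)) (.node 34868 (.leaf 0x43837) (.node 34869 (.leaf 0x43837) (.leaf 0x43837))))))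

def candS_1723 : Store := (.node 34880 (.node 34875 (.node 34872 (.node 34871 (.leaf 0x43837) (.leaf 0x43837)) (.node 34873 (.leaf 0x43837) (.node 34874 (.leaf 0x43837) (.leaf 0x43837)))) (.node 34877 (.node 34876 (.leaf 0x43837) (.leaf 0x43837)) (.node 34878 (.leaf 0x43837) (.node 34879 (.leaf 0x43837) (.leaf 0x43837))))) (.node 34885 (.node 34882 (.node 34881 (.leaf 0x43837) (.leaf 0x43837)) (.node 34883 (.leaf 0x43837) (.node 34884 (.leaf 0x43837) (.leaf 0x43837)))) (.node 34887 (.node 34886 (.leaf 0x43837) (.leaf 0x43837)) (.node 34888 (.leaf 0x43837) (.node 34889 (.leaf 0x43837) (.leaf 0x43837))))))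

def candS_1724 : Store := (.node 34900 (.node 34895 (.node 34892 (.node 34891 (.leaf 0x43837) (.leaf 0x43837)) (.node 34893 (.leaf 0x43837) (.node 34894 (.leaf 0x43837) (.leaf 0x43837)))) (.node 34897 (.node 34896 (.leaf 0x43837) (.leaf 0x43837)) (.node 34898 (.leaf 0x43837) (.node 34899 (.leaf 0x43837) (.leaf 0x43837))))) (.node 34905 (.node 34902 (.node 34901 (.leaf 0x43837) (.leaf 0x43837)) (.node 34903 (.leaf 0x43837) (.node 34904 (.leaf 0x43837) (.leaf 0x43837)))) (.node 34908 (.node 34906 (.leaf 0x43837) (.node 34907 (.leaf 0x43837) (.leaf 0x43837))) (.node 34909 (.leaf 0x43837) (.node 34910 (.leaf 0x43837) (.leaf 0x43837))))))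

def candS_1725 : Store := (.node 34921 (.node 34916 (.node 34913 (.node 34912 (.leaf 0x43837) (.leaf 0x43837)) (.node 34914 (.leaf 0x43837) (.node 34915 (.leaf 0x43837) (.leaf 0x43837)))) (.node 34918 (.node 34917 (.leaf 0x43837) (.leaf 0x43837)) (.node 34919 (.leaf 0x43837) (.node 34920 (.leaf 0x43837) (.leaf 0x43837))))) (.node 34926 (.node 34923 (.node 34922 (.leaf 0x43837) (.leaf 0x43837)) (.node 34924 (.leaf 0x43837) (.node 34925 (.leaf 0x43837) (.leaf 0x43837)))) (.node 34928 (.node 34927 (.leaf 0x43837) (.leaf 0x43837)) (.node 34929 (.leaf 0x43837) (.node 34930 (.leaf 0x43837) (.leaf 0x43837))))))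

def candS_1726 : Store := (.node 34941 (.node 34936 (.node 34933 (.node 34932 (.leaf 0x43837) (.leaf 0x43837)) (.node 34934 (.leaf 0x43837) (.node 34935 (.leaf 0x43837) (.leaf 0x43837)))) (.node 34938 (.node 34937 (.leaf 0x43837) (.leaf 0x43837)) (.node 34939 (.leaf 0x43837) (.node 34940 (.leaf 0x43837) (.leaf 0x43837))))) (.node 34946 (.node 34943 (.node 34942 (.leaf 0x43837) (.leaf 0x43837)) (.node 34944 (.leaf 0x43837) (.node 34945 (.leaf 0x43837) (.leaf 0x43837)))) (.node 34948 (.node 34947 (.leaf 0x43837) (.leaf 0x43837)) (.node 34949 (.leaf 0x43837) (.node 34950 (.leaf 0x43837) (.leaf 0x43837))))))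

def candS_1727 : Store := (.node 34961 (.node 34956 (.node 34953 (.node 34952 (.leaf 0x43837) (.leaf 0x43837)) (.node 34954 (.leaf 0x43837) (.node 34955 (.leaf 0x43837) (.leaf 0x43837)))) (.node 34958 (.node 34957 (.leaf 0x43837) (.leaf 0x43837)) (.node 34959 (.leaf 0x43837) (.node 34960 (.leaf 0x43837) (.leaf 0x43837))))) (.node 34966 (.node 34963 (.node 34962 (.leaf 0x43837) (.leaf 0x43837)) (.node 34964 (.leaf 0x43837) (.node 34965 (.leaf 0x43837) (.leaf 0x43837)))) (.node 34968 (.node 34967 (.leaf 0x43837) (.leaf 0x43837)) (.node 34969 (.leaf 0x43837) (.node 34970 (.leaf 0x43837) (.leaf 0x43837))))))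

def candS_1728 : Store := (.node 34981 (.node 34976 (.node 34973 (.node 34972 (.leaf 0x43837) (.leaf 0x43837)) (.node 34974 (.leaf 0x43837) (.node 34975 (.leaf 0x43837) (.leaf 0x43837)))) (.node 34978 (.node 34977 (.leaf 0x43837) (.leaf 0x43837)) (.node 34979 (.leaf 0x43837) (.node 34980 (.leaf 0x43837) (.leaf 0x43837))))) (.node 34986 (.node 34983 (.node 34982 (.leaf 0x43837) (.leaf 0x43837)) (.node 34984 (.leaf 0x43837) (.node 34985 (.leaf 0x43837) (.leaf 0x43837)))) (.node 34989 (.node 34987 (.leaf 0x43837) (.node 34988 (.leaf 0x43837) (.leaf 0x43837))) (.node 34990 (.leaf 0x43837) (.node 34991 (.leaf 0x43837) (.leaf 0x43837))))))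

def candS_1729 : Store := (.node 35002 (.node 34997 (.node 34994 (.node 34993 (.leaf 0x43837) (.leaf 0x43837)) (.node 34995 (.leaf 0x43837) (.node 34996 (.leaf 0x43837) (.leaf 0x43837)))) (.node 34999 (.node 34998 (.leaf 0x43837) (.leaf 0x43837)) (.node 35000 (.leaf 0x43837) (.node 35001 (.leaf 0x43837) (.leaf 0x43837))))) (.node 35007 (.node 35004 (.node 35003 (.leaf 0x43837) (.leaf 0x43837)) (.node 35005 (.leaf 0x43837) (.node 35006 (.leaf 0x43837) (.leaf 0x43837)))) (.node 35009 (.node 35008 (.leaf 0x43837) (.leaf 0x43837)) (.node 35010 (.leaf 0x43837) (.node 35011 (.leaf 0x43837) (.leaf 0x43837))))))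

def candS_1730 : Store := (.node 35022 (.node 35017 (.node 35014 (.node 35013 (.leaf 0x43837) (.leaf 0x43837)) (.node 35015 (.leaf 0x43837) (.node 35016 (.leaf 0x43837) (.leaf 0x43837)))) (.node 35019 (.node 35018 (.leaf 0x43837) (.leaf 0x43837)) (.node 35020 (.leaf 0x43837) (.node 35021 (.leaf 0x43837) (.leaf 0x43837))))) (.node 35027 (.node 35024 (.node 35023 (.leaf 0x43837) (.leaf 0x43837)) (.node 35025 (.leaf 0x43837) (.node 35026 (.leaf 0x43837) (.leaf 0x43837)))) (.node 35029 (.node 35028 (.leaf 0x43837) (.leaf 0x43837)) (.node 35030 (.leaf 0x43837) (.node 35031 (.leaf 0x43837) (.leaf 0x43837))))))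

def candS_1731 : Store := (.node 35042 (.node 35037 (.node 35034 (.node 35033 (.leaf 0x43837) (.leaf 0x43837)) (.node 35035 (.leaf 0x43837) (.node 35036 (.leaf 0x43837) (.leaf 0x43837)))) (.node 35039 (.node 35038 (.leaf 0x43837) (.leaf 0x43837)) (.node 35040 (.leaf 0x43837) (.node 35041 (.leaf 0x43837) (.leaf 0x43837))))) (.node 35047 (.node 35044 (.node 35043 (.leaf 0x43837) (.leaf 0x43837)) (.node 35045 (.leaf 0x43837) (.node 35046 (.leaf 0x43837) (.leaf 0x43837)))) (.node 35049 (.node 35048 (.leaf 0x43837) (.leaf 0x43837)) (.node 35050 (.leaf 0x43837) (.node 35051 (.leaf 0x43837) (.leaf 0x43837))))))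

def candS_1732 : Store := (.node 35062 (.node 35057 (.node 35054 (.node 35053 (.leaf 0x43837) (.leaf 0x43837)) (.node 35055 (.leaf 0x43837) (.node 35056 (.leaf 0x43837) (.leaf 0x43837)))) (.node 35059 (.node 35058 (.leaf 0x43837) (.leaf 0x43837)) (.node 35060 (.leaf 0x43837) (.node 35061 (.leaf 0x43837) (.leaf 0x43837))))) (.node 35067 (.node 35064 (.node 35063 (.leaf 0x43837) (.leaf 0x43837)) (.node 35065 (.leaf 0x43837) (.node 35066 (.leaf 0x43837) (.leaf 0x43837)))) (.node 35070 (.node 35068 (.leaf 0x43837) (.node 35069 (.leaf 0x43837) (.leaf 0x43837))) (.node 35071 (.leaf 0x43837) (.node 35072 (.leaf 0x43837) (.leaf 0x43837))))))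

def candS_1733 : Store := (.node 35083 (.node 35078 (.node 35075 (.node 35074 (.leaf 0x43837) (.leaf 0x43837)) (.node 35076 (.leaf 0x43837) (.node 35077 (.leaf 0x43837) (.leaf 0x43837)))) (.node 35080 (.node 35079 (.leaf 0x43837) (.leaf 0x43837)) (.node 35081 (.leaf 0x43837) (.node 35082 (.leaf 0x43837) (.leaf 0x43837))))) (.node 35088 (.node 35085 (.node 35084 (.leaf 0x43837) (.leaf 0x43837)) (.node 35086 (.leaf 0x43837) (.node 35087 (.leaf 0x43837) (.leaf 0x43837)))) (.node 35090 (.node 35089 (.leaf 0x43837) (.leaf 0x43837)) (.node 35091 (.leaf 0x43837) (.node 35092 (.leaf 0x43837) (.leaf 0x43837))))))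

def candS_1734 : Store := (.node 35103 (.node 35098 (.node 35095 (.node 35094 (.leaf 0x43837) (.leaf 0x43837)) (.node 35096 (.leaf 0x43837) (.node 35097 (.leaf 0x43837) (.leaf 0x43837)))) (.node 35100 (.node 35099 (.leaf 0x43837) (.leaf 0x43837)) (.node 35101 (.leaf 0x43837) (.node 35102 (.leaf 0x43837) (.leaf 0x43837))))) (.node 35108 (.node 35105 (.node 35104 (.leaf 0x43837) (.leaf 0x43837)) (.node 35106 (.leaf 0x43837) (.node 35107 (.leaf 0x43837) (.leaf 0x43837)))) (.node 35110 (.node 35109 (.leaf 0x43837) (.leaf 0x43837)) (.node 35111 (.leaf 0x43837) (.node 35112 (.leaf 0x43837) (.leaf 0x43837))))))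

def candS_1735 : Store := (.node 35123 (.node 35118 (.node 35115 (.node 35114 (.leaf 0x43837) (.leaf 0x43837)) (.node 35116 (.leaf 0x43837) (.node 35117 (.leaf 0x43837) (.leaf 0x43837)))) (.node 35120 (.node 35119 (.leaf 0x43837) (.leaf 0x43837)) (.node 35121 (.leaf 0x43837) (.node 35122 (.leaf 0x43837) (.leaf 0x43837))))) (.node 35128 (.node 35125 (.node 35124 (.leaf 0x43837) (.leaf 0x43837)) (.node 35126 (.leaf 0x43837) (.node 35127 (.leaf 0x43837) (.leaf 0x43837)))) (.node 35130 (.node 35129 (.leaf 0x43837) (.leaf 0x43837)) (.node 35131 (.leaf 0x43837) (.node 35132 (.leaf 0x43837) (.leaf 0x43837))))))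

def candS_1736 : Store := (.node 35143 (.node 35138 (.node 35135 (.node 35134 (.leaf 0x43837) (.leaf 0x43837)) (.node 35136 (.leaf 0x43837) (.node 35137 (.leaf 0x43837) (.leaf 0x43837)))) (.node 35140 (.node 35139 (.leaf 0x43837) (.leaf 0x43837)) (.node 35141 (.leaf 0x43837) (.node 35142 (.leaf 0x43837) (.leaf 0x43837))))) (.node 35148 (.node 35145 (.node 35144 (.leaf 0x43837) (.leaf 0x43837)) (.node 35146 (.leaf 0x43837) (.node 35147 (.leaf 0x43837) (.leaf 0x43837)))) (.node 35151 (.node 35149 (.leaf 0x43837) (.node 35150 (.leaf 0x43837) (.leaf 0x43837))) (.node 35152 (.leaf 0x43837) (.node 35153 (.leaf 0x43837) (.leaf 0x43837))))))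

def candS_1737 : Store := (.node 35164 (.node 35159 (.node 35156 (.node 35155 (.leaf 0x43837) (.leaf 0x43837)) (.node 35157 (.leaf 0x43837) (.node 35158 (.leaf 0x43837) (.leaf 0x43837)))) (.node 35161 (.node 35160 (.leaf 0x43837) (.leaf 0x43837)) (.node 35162 (.leaf 0x43837) (.node 35163 (.leaf 0x43837) (.leaf 0x43837))))) (.node 35169 (.node 35166 (.node 35165 (.leaf 0x43837) (.leaf 0x43837)) (.node 35167 (.leaf 0x43837) (.node 35168 (.leaf 0x43837) (.leaf 0x43837)))) (.node 35171 (.node 35170 (.leaf 0x43837) (.leaf 0x43837)) (.node 35172 (.leaf 0x43837) (.node 35173 (.leaf 0x43837) (.leaf 0x43837))))))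

def candS_1738 : Store := (.node 35184 (.node 35179 (.node 35176 (.node 35175 (.leaf 0x43837) (.leaf 0x43837)) (.node 35177 (.leaf 0x43837) (.node 35178 (.leaf 0x43837) (.leaf 0x43837)))) (.node 35181 (.node 35180 (.leaf 0x43837) (.leaf 0x43837)) (.node 35182 (.leaf 0x43837) (.node 35183 (.leaf 0x43837) (.leaf 0x43837))))) (.node 35189 (.node 35186 (.node 35185 (.leaf 0x43837) (.leaf 0x43837)) (.node 35187 (.leaf 0x43837) (.node 35188 (.leaf 0x43837) (.leaf 0x43837)))) (.node 35191 (.node 35190 (.leaf 0x43837) (.leaf 0x43837)) (.node 35192 (.leaf 0x43837) (.node 35193 (.leaf 0x43837) (.leaf 0x43837))))))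

def candS_1739 : Store := (.node 35204 (.node 35199 (.node 35196 (.node 35195 (.leaf 0x43837) (.leaf 0x43837)) (.node 35197 (.leaf 0x43837) (.node 35198 (.leaf 0x43837) (.leaf 0x43837)))) (.node 35201 (.node 35200 (.leaf 0x43837) (.leaf 0x43837)) (.node 35202 (.leaf 0x43837) (.node 35203 (.leaf 0x43837) (.leaf 0x43837))))) (.node 35209 (.node 35206 (.node 35205 (.leaf 0x43837) (.leaf 0x43837)) (.node 35207 (.leaf 0x43837) (.node 35208 (.leaf 0x43837) (.leaf 0x43837)))) (.node 35211 (.node 35210 (.leaf 0x43837) (.leaf 0x43837)) (.node 35212 (.leaf 0x43837) (.node 35213 (.leaf 0x43837) (.leaf 0x43837))))))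

def candS_1740 : Store := (.node 35224 (.node 35219 (.node 35216 (.node 35215 (.leaf 0x43837) (.leaf 0x43837)) (.node 35217 (.leaf 0x43837) (.node 35218 (.leaf 0x43837) (.leaf 0x43837)))) (.node 35221 (.node 35220 (.leaf 0x43837) (.leaf 0x43837)) (.node 35222 (.leaf 0x43837) (.node 35223 (.leaf 0x43837) (.leaf 0x43837))))) (.node 35229 (.node 35226 (.node 35225 (.leaf 0x43837) (.leaf 0x43837)) (.node 35227 (.leaf 0x43837) (.node 35228 (.leaf 0x43837) (.leaf 0x43837)))) (.node 35232 (.node 35230 (.leaf 0x43837) (.node 35231 (.leaf 0x43837) (.leaf 0x43837))) (.node 35233 (.leaf 0x43837) (.node 35234 (.leaf 0x43837) (.leaf 0x43837))))))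

def candS_1741 : Store := (.node 35245 (.node 35240 (.node 35237 (.node 35236 (.leaf 0x43837) (.leaf 0x43837)) (.node 35238 (.leaf 0x43837) (.node 35239 (.leaf 0x43837) (.leaf 0x43837)))) (.node 35242 (.node 35241 (.leaf 0x43837) (.leaf 0x43837)) (.node 35243 (.leaf 0x43837) (.node 35244 (.leaf 0x43837) (.leaf 0x43837))))) (.node 35250 (.node 35247 (.node 35246 (.leaf 0x43837) (.leaf 0x43837)) (.node 35248 (.leaf 0x43837) (.node 35249 (.leaf 0x43837) (.leaf 0x43837)))) (.node 35252 (.node 35251 (.leaf 0x43837) (.leaf 0x43837)) (.node 35253 (.leaf 0x43837) (.node 35254 (.leaf 0x43837) (.leaf 0x43837))))))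

def candS_1742 : Store := (.node 35265 (.node 35260 (.node 35257 (.node 35256 (.leaf 0x43837) (.leaf 0x43837)) (.node 35258 (.leaf 0x43837) (.node 35259 (.leaf 0x43837) (.leaf 0x43837)))) (.node 35262 (.node 35261 (.leaf 0x43837) (.leaf 0x43837)) (.node 35263 (.leaf 0x43837) (.node 35264 (.leaf 0x43837) (.leaf 0x43837))))) (.node 35270 (.node 35267 (.node 35266 (.leaf 0x43837) (.leaf 0x43837)) (.node 35268 (.leaf 0x43837) (.node 35269 (.leaf 0x43837) (.leaf 0x43837)))) (.node 35272 (.node 35271 (.leaf 0x43837) (.leaf 0x43837)) (.node 35273 (.leaf 0x43837) (.node 35274 (.leaf 0x43837) (.leaf 0x43837))))))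

def candS_1743 : Store := (.node 35285 (.node 35280 (.node 35277 (.node 35276 (.leaf 0x43837) (.leaf 0x43837)) (.node 35278 (.leaf 0x43837) (.node 35279 (.leaf 0x43837) (.leaf 0x43837)))) (.node 35282 (.node 35281 (.leaf 0x43837) (.leaf 0x43837)) (.node 35283 (.leaf 0x43837) (.node 35284 (.leaf 0x43837) (.leaf 0x43837))))) (.node 35290 (.node 35287 (.node 35286 (.leaf 0x43837) (.leaf 0x43837)) (.node 35288 (.leaf 0x43837) (.node 35289 (.leaf 0x43837) (.leaf 0x43837)))) (.node 35292 (.node 35291 (.leaf 0x43837) (.leaf 0x43837)) (.node 35293 (.leaf 0x43837) (.node 35294 (.leaf 0x43837) (.leaf 0x43837))))))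

def candS_1744 : Store := (.node 35305 (.node 35300 (.node 35297 (.node 35296 (.leaf 0x43837) (.leaf 0x43837)) (.node 35298 (.leaf 0x43837) (.node 35299 (.leaf 0x43837) (.leaf 0x43837)))) (.node 35302 (.node 35301 (.leaf 0x43837) (.leaf 0x43837)) (.node 35303 (.leaf 0x43837) (.node 35304 (.leaf 0x43837) (.leaf 0x43837))))) (.node 35310 (.node 35307 (.node 35306 (.leaf 0x43837) (.leaf 0x43837)) (.node 35308 (.leaf 0x43837) (.node 35309 (.leaf 0x43837) (.leaf 0x43837)))) (.node 35313 (.node 35311 (.leaf 0x43837) (.node 35312 (.leaf 0x43837) (.leaf 0x43837))) (.node 35314 (.leaf 0x43837) (.node 35315 (.leaf 0x43837) (.leaf 0x43837))))))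

def candS_1745 : Store := (.node 35326 (.node 35321 (.node 35318 (.node 35317 (.leaf 0x43837) (.leaf 0x43837)) (.node 35319 (.leaf 0x43837) (.node 35320 (.leaf 0x43837) (.leaf 0x43837)))) (.node 35323 (.node 35322 (.leaf 0x43837) (.leaf 0x43837)) (.node 35324 (.leaf 0x43837) (.node 35325 (.leaf 0x43837) (.leaf 0x43837))))) (.node 35331 (.node 35328 (.node 35327 (.leaf 0x43837) (.leaf 0x43837)) (.node 35329 (.leaf 0x43837) (.node 35330 (.leaf 0x43837) (.leaf 0x43837)))) (.node 35333 (.node 35332 (.leaf 0x43837) (.leaf 0x43837)) (.node 35334 (.leaf 0x43837) (.node 35335 (.leaf 0x43837) (.leaf 0x43837))))))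

def candS_1746 : Store := (.node 35346 (.node 35341 (.node 35338 (.node 35337 (.leaf 0x43837) (.leaf 0x43837)) (.node 35339 (.leaf 0x43837) (.node 35340 (.leaf 0x43837) (.leaf 0x43837)))) (.node 35343 (.node 35342 (.leaf 0x43837) (.leaf 0x43837)) (.node 35344 (.leaf 0x43837) (.node 35345 (.leaf 0x43837) (.leaf 0x43837))))) (.node 35351 (.node 35348 (.node 35347 (.leaf 0x43837) (.leaf 0x43837)) (.node 35349 (.leaf 0x43837) (.node 35350 (.leaf 0x43837) (.leaf 0x43837)))) (.node 35353 (.node 35352 (.leaf 0x43837) (.leaf 0x43837)) (.node 35354 (.leaf 0x43837) (.node 35355 (.leaf 0x43837) (.leaf 0x43837))))))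

def candS_1747 : Store := (.node 35366 (.node 35361 (.node 35358 (.node 35357 (.leaf 0x43837) (.leaf 0x43837)) (.node 35359 (.leaf 0x43837) (.node 35360 (.leaf 0x43837) (.leaf 0x43837)))) (.node 35363 (.node 35362 (.leaf 0x43837) (.leaf 0x43837)) (.node 35364 (.leaf 0x43837) (.node 35365 (.leaf 0x43837) (.leaf 0x43837))))) (.node 35371 (.node 35368 (.node 35367 (.leaf 0x43837) (.leaf 0x43837)) (.node 35369 (.leaf 0x43837) (.node 35370 (.leaf 0x43837) (.leaf 0x43837)))) (.node 35373 (.node 35372 (.leaf 0x43837) (.leaf 0x43837)) (.node 35374 (.leaf 0x43837) (.node 35375 (.leaf 0x43837) (.leaf 0x43837))))))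

def candS_1748 : Store := (.node 35386 (.node 35381 (.node 35378 (.node 35377 (.leaf 0x43837) (.leaf 0x43837)) (.node 35379 (.leaf 0x43837) (.node 35380 (.leaf 0x43837) (.leaf 0x43837)))) (.node 35383 (.node 35382 (.leaf 0x43837) (.leaf 0x43837)) (.node 35384 (.leaf 0x43837) (.node 35385 (.leaf 0x43837) (.leaf 0x43837))))) (.node 35391 (.node 35388 (.node 35387 (.leaf 0x43837) (.leaf 0x43837)) (.node 35389 (.leaf 0x43837) (.node 35390 (.leaf 0x43837) (.leaf 0x43837)))) (.node 35394 (.node 35392 (.leaf 0x43837) (.node 35393 (.leaf 0x43837) (.leaf 0x43837))) (.node 35395 (.leaf 0x43837) (.node 35396 (.leaf 0x43837) (.leaf 0x43837))))))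

def candS_1749 : Store := (.node 35407 (.node 35402 (.node 35399 (.node 35398 (.leaf 0x43837) (.leaf 0x43837)) (.node 35400 (.leaf 0x43837) (.node 35401 (.leaf 0x43837) (.leaf 0x43837)))) (.node 35404 (.node 35403 (.leaf 0x43837) (.leaf 0x43837)) (.node 35405 (.leaf 0x43837) (.node 35406 (.leaf 0x43837) (.leaf 0x43837))))) (.node 35412 (.node 35409 (.node 35408 (.leaf 0x43837) (.leaf 0x43837)) (.node 35410 (.leaf 0x43837) (.node 35411 (.leaf 0x43837) (.leaf 0x43837)))) (.node 35414 (.node 35413 (.leaf 0x43837) (.leaf 0x43837)) (.node 35415 (.leaf 0x43837) (.node 35416 (.leaf 0x43837) (.leaf 0x43837))))))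

def candS_1750 : Store := (.node 35427 (.node 35422 (.node 35419 (.node 35418 (.leaf 0x43837) (.leaf 0x43837)) (.node 35420 (.leaf 0x43837) (.node 35421 (.leaf 0x43837) (.leaf 0x43837)))) (.node 35424 (.node 35423 (.leaf 0x43837) (.leaf 0x43837)) (.node 35425 (.leaf 0x43837) (.node 35426 (.leaf 0x43837) (.leaf 0x43837))))) (.node 35432 (.node 35429 (.node 35428 (.leaf 0x43837) (.leaf 0x43837)) (.node 35430 (.leaf 0x43837) (.node 35431 (.leaf 0x43837) (.leaf 0x43837)))) (.node 35434 (.node 35433 (.leaf 0x43837) (.leaf 0x43837)) (.node 35435 (.leaf 0x43837) (.node 35436 (.leaf 0x43837) (.leaf 0x43837))))))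

def candS_1751 : Store := (.node 35447 (.node 35442 (.node 35439 (.node 35438 (.leaf 0x43837) (.leaf 0x43837)) (.node 35440 (.leaf 0x43837) (.node 35441 (.leaf 0x43837) (.leaf 0x43837)))) (.node 35444 (.node 35443 (.leaf 0x43837) (.leaf 0x43837)) (.node 35445 (.leaf 0x43837) (.node 35446 (.leaf 0x43837) (.leaf 0x43837))))) (.node 35452 (.node 35449 (.node 35448 (.leaf 0x43837) (.leaf 0x43837)) (.node 35450 (.leaf 0x43837) (.node 35451 (.leaf 0x43837) (.leaf 0x43837)))) (.node 35454 (.node 35453 (.leaf 0x43837) (.leaf 0x43837)) (.node 35455 (.leaf 0x43837) (.node 35456 (.leaf 0x43837) (.leaf 0x43837))))))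

def candS_1752 : Store := (.node 35467 (.node 35462 (.node 35459 (.node 35458 (.leaf 0x43837) (.leaf 0x43837)) (.node 35460 (.leaf 0x43837) (.node 35461 (.leaf 0x43837) (.leaf 0x43837)))) (.node 35464 (.node 35463 (.leaf 0x43837) (.leaf 0x43837)) (.node 35465 (.leaf 0x43837) (.node 35466 (.leaf 0x43837) (.leaf 0x43837))))) (.node 35472 (.node 35469 (.node 35468 (.leaf 0x43837) (.leaf 0x43837)) (.node 35470 (.leaf 0x43837) (.node 35471 (.leaf 0x43837) (.leaf 0x43837)))) (.node 35475 (.node 35473 (.leaf 0x43837) (.node 35474 (.leaf 0x43837) (.leaf 0x43837))) (.node 35476 (.leaf 0x43837) (.node 35477 (.leaf 0x43837) (.leaf 0x43837))))))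

def candS_1753 : Store := (.node 35488 (.node 35483 (.node 35480 (.node 35479 (.leaf 0x43837) (.leaf 0x43837)) (.node 35481 (.leaf 0x43837) (.node 35482 (.leaf 0x43837) (.leaf 0x43837)))) (.node 35485 (.node 35484 (.leaf 0x43837) (.leaf 0x43837)) (.node 35486 (.leaf 0x43837) (.node 35487 (.leaf 0x43837) (.leaf 0x43837))))) (.node 35493 (.node 35490 (.node 35489 (.leaf 0x43837) (.leaf 0x43837)) (.node 35491 (.leaf 0x43837) (.node 35492 (.leaf 0x43837) (.leaf 0x43837)))) (.node 35495 (.node 35494 (.leaf 0x43837) (.leaf 0x43837)) (.node 35496 (.leaf 0x43837) (.node 35497 (.leaf 0x43837) (.leaf 0x43837))))))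

def candS_1754 : Store := (.node 35508 (.node 35503 (.node 35500 (.node 35499 (.leaf 0x43837) (.leaf 0x43837)) (.node 35501 (.leaf 0x43837) (.node 35502 (.leaf 0x43837) (.leaf 0x43837)))) (.node 35505 (.node 35504 (.leaf 0x43837) (.leaf 0x43837)) (.node 35506 (.leaf 0x43837) (.node 35507 (.leaf 0x43837) (.leaf 0x43837))))) (.node 35513 (.node 35510 (.node 35509 (.leaf 0x43837) (.leaf 0x43837)) (.node 35511 (.leaf 0x43837) (.node 35512 (.leaf 0x43837) (.leaf 0x43837)))) (.node 35515 (.node 35514 (.leaf 0x43837) (.leaf 0x43837)) (.node 35516 (.leaf 0x43837) (.node 35517 (.leaf 0x43837) (.leaf 0x43837))))))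

def candS_1755 : Store := (.node 35528 (.node 35523 (.node 35520 (.node 35519 (.leaf 0x43837) (.leaf 0x43837)) (.node 35521 (.leaf 0x43837) (.node 35522 (.leaf 0x43837) (.leaf 0x43837)))) (.node 35525 (.node 35524 (.leaf 0x43837) (.leaf 0x43837)) (.node 35526 (.leaf 0x43837) (.node 35527 (.leaf 0x43837) (.leaf 0x43837))))) (.node 35533 (.node 35530 (.node 35529 (.leaf 0x43837) (.leaf 0x43837)) (.node 35531 (.leaf 0x43837) (.node 35532 (.leaf 0x43837) (.leaf 0x43837)))) (.node 35535 (.node 35534 (.leaf 0x43837) (.leaf 0x43837)) (.node 35536 (.leaf 0x43837) (.node 35537 (.leaf 0x43837) (.leaf 0x43837))))))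

def candS_1756 : Store := (.node 35548 (.node 35543 (.node 35540 (.node 35539 (.leaf 0x43837) (.leaf 0x43837)) (.node 35541 (.leaf 0x43837) (.node 35542 (.leaf 0x43837) (.leaf 0x43837)))) (.node 35545 (.node 35544 (.leaf 0x43837) (.leaf 0x43837)) (.node 35546 (.leaf 0x43837) (.node 35547 (.leaf 0x43837) (.leaf 0x43837))))) (.node 35553 (.node 35550 (.node 35549 (.leaf 0x43837) (.leaf 0x43837)) (.node 35551 (.leaf 0x43837) (.node 35552 (.leaf 0x43837) (.leaf 0x43837)))) (.node 35556 (.node 35554 (.leaf 0x43837) (.node 35555 (.leaf 0x43837) (.leaf 0x43837))) (.node 35557 (.leaf 0x43837) (.node 35558 (.leaf 0x43837) (.leaf 0x43837))))))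

def candS_1757 : Store := (.node 35569 (.node 35564 (.node 35561 (.node 35560 (.leaf 0x43837) (.leaf 0x43837)) (.node 35562 (.leaf 0x43837) (.node 35563 (.leaf 0x43837) (.leaf 0x43837)))) (.node 35566 (.node 35565 (.leaf 0x43837) (.leaf 0x43837)) (.node 35567 (.leaf 0x43837) (.node 35568 (.leaf 0x43837) (.leaf 0x43837))))) (.node 35574 (.node 35571 (.node 35570 (.leaf 0x43837) (.leaf 0x43837)) (.node 35572 (.leaf 0x43837) (.node 35573 (.leaf 0x43837) (.leaf 0x43837)))) (.node 35576 (.node 35575 (.leaf 0x43837) (.leaf 0x43837)) (.node 35577 (.leaf 0x43837) (.node 35578 (.leaf 0x43837) (.leaf 0x43837))))))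

def candS_1758 : Store := (.node 35589 (.node 35584 (.node 35581 (.node 35580 (.leaf 0x43837) (.leaf 0x43837)) (.node 35582 (.leaf 0x43837) (.node 35583 (.leaf 0x43837) (.leaf 0x43837)))) (.node 35586 (.node 35585 (.leaf 0x43837) (.leaf 0x43837)) (.node 35587 (.leaf 0x43837) (.node 35588 (.leaf 0x43837) (.leaf 0x43837))))) (.node 35594 (.node 35591 (.node 35590 (.leaf 0x43837) (.leaf 0x43837)) (.node 35592 (.leaf 0x43837) (.node 35593 (.leaf 0x43837) (.leaf 0x43837)))) (.node 35596 (.node 35595 (.leaf 0x43837) (.leaf 0x43837)) (.node 35597 (.leaf 0x43837) (.node 35598 (.leaf 0x43837) (.leaf 0x43837))))))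

def candS_1759 : Store := (.node 35609 (.node 35604 (.node 35601 (.node 35600 (.leaf 0x43837) (.leaf 0x43837)) (.node 35602 (.leaf 0x43837) (.node 35603 (.leaf 0x43837) (.leaf 0x43837)))) (.node 35606 (.node 35605 (.leaf 0x43837) (.leaf 0x43837)) (.node 35607 (.leaf 0x43837) (.node 35608 (.leaf 0x43837) (.leaf 0x43837))))) (.node 35614 (.node 35611 (.node 35610 (.leaf 0x43837) (.leaf 0x43837)) (.node 35612 (.leaf 0x43837) (.node 35613 (.leaf 0x43837) (.leaf 0x43837)))) (.node 35616 (.node 35615 (.leaf 0x43837) (.leaf 0x43837)) (.node 35617 (.leaf 0x43837) (.node 35618 (.leaf 0x43837) (.leaf 0x43837))))))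

def candS_1760 : Store := (.node 35629 (.node 35624 (.node 35621 (.node 35620 (.leaf 0x43837) (.leaf 0x43837)) (.node 35622 (.leaf 0x43837) (.node 35623 (.leaf 0x43837) (.leaf 0x43837)))) (.node 35626 (.node 35625 (.leaf 0x43837) (.leaf 0x43837)) (.node 35627 (.leaf 0x43837) (.node 35628 (.leaf 0x43837) (.leaf 0x43837))))) (.node 35634 (.node 35631 (.node 35630 (.leaf 0x43837) (.leaf 0x43837)) (.node 35632 (.leaf 0x43837) (.node 35633 (.leaf 0x43837) (.leaf 0x43837)))) (.node 35637 (.node 35635 (.leaf 0x43837) (.node 35636 (.leaf 0x43837) (.leaf 0x43837))) (.node 35638 (.leaf 0x43837) (.node 35639 (.leaf 0x43837) (.leaf 0x43837))))))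

def candS_1761 : Store := (.node 35650 (.node 35645 (.node 35642 (.node 35641 (.leaf 0x43837) (.leaf 0x43837)) (.node 35643 (.leaf 0x43837) (.node 35644 (.leaf 0x43837) (.leaf 0x43837)))) (.node 35647 (.node 35646 (.leaf 0x43837) (.leaf 0x43837)) (.node 35648 (.leaf 0x43837) (.node 35649 (.leaf 0x43837) (.leaf 0x43837))))) (.node 35655 (.node 35652 (.node 35651 (.leaf 0x43837) (.leaf 0x43837)) (.node 35653 (.leaf 0x43837) (.node 35654 (.leaf 0x43837) (.leaf 0x43837)))) (.node 35657 (.node 35656 (.leaf 0x43837) (.leaf 0x43837)) (.node 35658 (.leaf 0x43837) (.node 35659 (.leaf 0x43837) (.leaf 0x43837))))))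

def candS_1762 : Store := (.node 35670 (.node 35665 (.node 35662 (.node 35661 (.leaf 0x43837) (.leaf 0x43837)) (.node 35663 (.leaf 0x43837) (.node 35664 (.leaf 0x43837) (.leaf 0x43837)))) (.node 35667 (.node 35666 (.leaf 0x43837) (.leaf 0x43837)) (.node 35668 (.leaf 0x43837) (.node 35669 (.leaf 0x43837) (.leaf 0x43837))))) (.node 35675 (.node 35672 (.node 35671 (.leaf 0x43837) (.leaf 0x43837)) (.node 35673 (.leaf 0x43837) (.node 35674 (.leaf 0x43837) (.leaf 0x43837)))) (.node 35677 (.node 35676 (.leaf 0x43837) (.leaf 0x43837)) (.node 35678 (.leaf 0x43837) (.node 35679 (.leaf 0x43837) (.leaf 0x43837))))))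

def candS_1763 : Store := (.node 35690 (.node 35685 (.node 35682 (.node 35681 (.leaf 0x43837) (.leaf 0x43837)) (.node 35683 (.leaf 0x43837) (.node 35684 (.leaf 0x43837) (.leaf 0x43837)))) (.node 35687 (.node 35686 (.leaf 0x43837) (.leaf 0x43837)) (.node 35688 (.leaf 0x43837) (.node 35689 (.leaf 0x43837) (.leaf 0x43837))))) (.node 35695 (.node 35692 (.node 35691 (.leaf 0x43837) (.leaf 0x43837)) (.node 35693 (.leaf 0x43837) (.node 35694 (.leaf 0x43837) (.leaf 0x43837)))) (.node 35697 (.node 35696 (.leaf 0x43837) (.leaf 0x43837)) (.node 35698 (.leaf 0x43837) (.node 35699 (.leaf 0x43837) (.leaf 0x43837))))))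

def candS_1764 : Store := (.node 35710 (.node 35705 (.node 35702 (.node 35701 (.leaf 0x43837) (.leaf 0x43837)) (.node 35703 (.leaf 0x43837) (.node 35704 (.leaf 0x43837) (.leaf 0x43837)))) (.node 35707 (.node 35706 (.leaf 0x43837) (.leaf 0x43837)) (.node 35708 (.leaf 0x43837) (.node 35709 (.leaf 0x43837) (.leaf 0x43837))))) (.node 35715 (.node 35712 (.node 35711 (.leaf 0x43837) (.leaf 0x43837)) (.node 35713 (.leaf 0x43837) (.node 35714 (.leaf 0x43837) (.leaf 0x43837)))) (.node 35718 (.node 35716 (.leaf 0x43837) (.node 35717 (.leaf 0x43837) (.leaf 0x43837))) (.node 35719 (.leaf 0x43837) (.node 35720 (.leaf 0x43837) (.leaf 0x43837))))))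

def candS_1765 : Store := (.node 35731 (.node 35726 (.node 35723 (.node 35722 (.leaf 0x43837) (.leaf 0x43837)) (.node 35724 (.leaf 0x43837) (.node 35725 (.leaf 0x43837) (.leaf 0x43837)))) (.node 35728 (.node 35727 (.leaf 0x43837) (.leaf 0x43837)) (.node 35729 (.leaf 0x43837) (.node 35730 (.leaf 0x43837) (.leaf 0x43837))))) (.node 35736 (.node 35733 (.node 35732 (.leaf 0x43837) (.leaf 0x43837)) (.node 35734 (.leaf 0x43837) (.node 35735 (.leaf 0x43837) (.leaf 0x43837)))) (.node 35738 (.node 35737 (.leaf 0x43837) (.leaf 0x43837)) (.node 35739 (.leaf 0x43837) (.node 35740 (.leaf 0x43837) (.leaf 0x43837))))))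

def candS_1766 : Store := (.node 35751 (.node 35746 (.node 35743 (.node 35742 (.leaf 0x43837) (.leaf 0x43837)) (.node 35744 (.leaf 0x43837) (.node 35745 (.leaf 0x43837) (.leaf 0x43837)))) (.node 35748 (.node 35747 (.leaf 0x43837) (.leaf 0x43837)) (.node 35749 (.leaf 0x43837) (.node 35750 (.leaf 0x43837) (.leaf 0x43837))))) (.node 35756 (.node 35753 (.node 35752 (.leaf 0x43837) (.leaf 0x43837)) (.node 35754 (.leaf 0x43837) (.node 35755 (.leaf 0x43837) (.leaf 0x43837)))) (.node 35758 (.node 35757 (.leaf 0x43837) (.leaf 0x43837)) (.node 35759 (.leaf 0x43837) (.node 35760 (.leaf 0x43837) (.leaf 0x43837))))))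

def candS_1767 : Store := (.node 35771 (.node 35766 (.node 35763 (.node 35762 (.leaf 0x43837) (.leaf 0x43837)) (.node 35764 (.leaf 0x43837) (.node 35765 (.leaf 0x43837) (.leaf 0x43837)))) (.node 35768 (.node 35767 (.leaf 0x43837) (.leaf 0x43837)) (.node 35769 (.leaf 0x43837) (.node 35770 (.leaf 0x43837) (.leaf 0x43837))))) (.node 35776 (.node 35773 (.node 35772 (.leaf 0x43837) (.leaf 0x43837)) (.node 35774 (.leaf 0x43837) (.node 35775 (.leaf 0x43837) (.leaf 0x43837)))) (.node 35778 (.node 35777 (.leaf 0x43837) (.leaf 0x43837)) (.node 35779 (.leaf 0x43837) (.node 35780 (.leaf 0x43837) (.leaf 0x43837))))))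

def candS_1768 : Store := (.node 35791 (.node 35786 (.node 35783 (.node 35782 (.leaf 0x43837) (.leaf 0x43837)) (.node 35784 (.leaf 0x43837) (.node 35785 (.leaf 0x43837) (.leaf 0x43837)))) (.node 35788 (.node 35787 (.leaf 0x43837) (.leaf 0x43837)) (.node 35789 (.leaf 0x43837) (.node 35790 (.leaf 0x43837) (.leaf 0x43837))))) (.node 35796 (.node 35793 (.node 35792 (.leaf 0x43837) (.leaf 0x43837)) (.node 35794 (.leaf 0x43837) (.node 35795 (.leaf 0x43837) (.leaf 0x43837)))) (.node 35799 (.node 35797 (.leaf 0x43837) (.node 35798 (.leaf 0x43837) (.leaf 0x43837))) (.node 35800 (.leaf 0x43837) (.node 35801 (.leaf 0x43837) (.leaf 0x43837))))))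

def candS_1769 : Store := (.node 35812 (.node 35807 (.node 35804 (.node 35803 (.leaf 0x43837) (.leaf 0x43837)) (.node 35805 (.leaf 0x43837) (.node 35806 (.leaf 0x43837) (.leaf 0x43837)))) (.node 35809 (.node 35808 (.leaf 0x43837) (.leaf 0x43837)) (.node 35810 (.leaf 0x43837) (.node 35811 (.leaf 0x43837) (.leaf 0x43837))))) (.node 35817 (.node 35814 (.node 35813 (.leaf 0x43837) (.leaf 0x43837)) (.node 35815 (.leaf 0x43837) (.node 35816 (.leaf 0x43837) (.leaf 0x43837)))) (.node 35819 (.node 35818 (.leaf 0x43837) (.leaf 0x43837)) (.node 35820 (.leaf 0x43837) (.node 35821 (.leaf 0x43837) (.leaf 0x43837))))))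

def candS_1770 : Store := (.node 35832 (.node 35827 (.node 35824 (.node 35823 (.leaf 0x43837) (.leaf 0x43837)) (.node 35825 (.leaf 0x43837) (.node 35826 (.leaf 0x43837) (.leaf 0x43837)))) (.node 35829 (.node 35828 (.leaf 0x43837) (.leaf 0x43837)) (.node 35830 (.leaf 0x43837) (.node 35831 (.leaf 0x43837) (.leaf 0x43837))))) (.node 35837 (.node 35834 (.node 35833 (.leaf 0x43837) (.leaf 0x43837)) (.node 35835 (.leaf 0x43837) (.node 35836 (.leaf 0x43837) (.leaf 0x43837)))) (.node 35839 (.node 35838 (.leaf 0x43837) (.leaf 0x43837)) (.node 35840 (.leaf 0x43837) (.node 35841 (.leaf 0x43837) (.leaf 0x43837))))))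

def candS_1771 : Store := (.node 35852 (.node 35847 (.node 35844 (.node 35843 (.leaf 0x43837) (.leaf 0x43837)) (.node 35845 (.leaf 0x43837) (.node 35846 (.leaf 0x43837) (.leaf 0x43837)))) (.node 35849 (.node 35848 (.leaf 0x43837) (.leaf 0x43837)) (.node 35850 (.leaf 0x43837) (.node 35851 (.leaf 0x43837) (.leaf 0x43837))))) (.node 35857 (.node 35854 (.node 35853 (.leaf 0x43837) (.leaf 0x43837)) (.node 35855 (.leaf 0x43837) (.node 35856 (.leaf 0x43837) (.leaf 0x43837)))) (.node 35859 (.node 35858 (.leaf 0x43837) (.leaf 0x43837)) (.node 35860 (.leaf 0x43837) (.node 35861 (.leaf 0x43837) (.leaf 0x43837))))))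

def candS_1772 : Store := (.node 35872 (.node 35867 (.node 35864 (.node 35863 (.leaf 0x43837) (.leaf 0x43837)) (.node 35865 (.leaf 0x43837) (.node 35866 (.leaf 0x43837) (.leaf 0x43837)))) (.node 35869 (.node 35868 (.leaf 0x43837) (.leaf 0x43837)) (.node 35870 (.leaf 0x43837) (.node 35871 (.leaf 0x43837) (.leaf 0x43837))))) (.node 35877 (.node 35874 (.node 35873 (.leaf 0x43837) (.leaf 0x43837)) (.node 35875 (.leaf 0x43837) (.node 35876 (.leaf 0x43837) (.leaf 0x43837)))) (.node 35880 (.node 35878 (.leaf 0x43837) (.node 35879 (.leaf 0x43837) (.leaf 0x43837))) (.node 35881 (.leaf 0x43837) (.node 35882 (.leaf 0x43837) (.leaf 0x43837))))))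

def candS_1773 : Store := (.node 35893 (.node 35888 (.node 35885 (.node 35884 (.leaf 0x43837) (.leaf 0x43837)) (.node 35886 (.leaf 0x43837) (.node 35887 (.leaf 0x43837) (.leaf 0x43837)))) (.node 35890 (.node 35889 (.leaf 0x43837) (.leaf 0x43837)) (.node 35891 (.leaf 0x43837) (.node 35892 (.leaf 0x43837) (.leaf 0x43837))))) (.node 35898 (.node 35895 (.node 35894 (.leaf 0x43837) (.leaf 0x43837)) (.node 35896 (.leaf 0x43837) (.node 35897 (.leaf 0x43837) (.leaf 0x43837)))) (.node 35900 (.node 35899 (.leaf 0x43837) (.leaf 0x43837)) (.node 35901 (.leaf 0x43837) (.node 35902 (.leaf 0x43837) (.leaf 0x43837))))))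

def candS_1774 : Store := (.node 35913 (.node 35908 (.node 35905 (.node 35904 (.leaf 0x43837) (.leaf 0x43837)) (.node 35906 (.leaf 0x43837) (.node 35907 (.leaf 0x43837) (.leaf 0x43837)))) (.node 35910 (.node 35909 (.leaf 0x43837) (.leaf 0x43837)) (.node 35911 (.leaf 0x43837) (.node 35912 (.leaf 0x43837) (.leaf 0x43837))))) (.node 35918 (.node 35915 (.node 35914 (.leaf 0x43837) (.leaf 0x43837)) (.node 35916 (.leaf 0x43837) (.node 35917 (.leaf 0x43837) (.leaf 0x43837)))) (.node 35920 (.node 35919 (.leaf 0x43837) (.leaf 0x43837)) (.node 35921 (.leaf 0x43837) (.node 35922 (.leaf 0x43837) (.leaf 0x43837))))))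

def candS_1775 : Store := (.node 35933 (.node 35928 (.node 35925 (.node 35924 (.leaf 0x43837) (.leaf 0x43837)) (.node 35926 (.leaf 0x43837) (.node 35927 (.leaf 0x43837) (.leaf 0x43837)))) (.node 35930 (.node 35929 (.leaf 0x43837) (.leaf 0x43837)) (.node 35931 (.leaf 0x43837) (.node 35932 (.leaf 0x43837) (.leaf 0x43837))))) (.node 35938 (.node 35935 (.node 35934 (.leaf 0x43837) (.leaf 0x43837)) (.node 35936 (.leaf 0x43837) (.node 35937 (.leaf 0x43837) (.leaf 0x43837)))) (.node 35940 (.node 35939 (.leaf 0x43837) (.leaf 0x43837)) (.node 35941 (.leaf 0x43837) (.node 35942 (.leaf 0x43837) (.leaf 0x43837))))))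

def candS_1776 : Store := (.node 35953 (.node 35948 (.node 35945 (.node 35944 (.leaf 0x43837) (.leaf 0x43837)) (.node 35946 (.leaf 0x43837) (.node 35947 (.leaf 0x43837) (.leaf 0x43837)))) (.node 35950 (.node 35949 (.leaf 0x43837) (.leaf 0x43837)) (.node 35951 (.leaf 0x43837) (.node 35952 (.leaf 0x43837) (.leaf 0x43837))))) (.node 35958 (.node 35955 (.node 35954 (.leaf 0x43837) (.leaf 0x43837)) (.node 35956 (.leaf 0x43837) (.node 35957 (.leaf 0x43837) (.leaf 0x43837)))) (.node 35961 (.node 35959 (.leaf 0x43837) (.node 35960 (.leaf 0x43837) (.leaf 0x43837))) (.node 35962 (.leaf 0x43837) (.node 35963 (.leaf 0x43837) (.leaf 0x43837))))))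

def candS_1777 : Store := (.node 35974 (.node 35969 (.node 35966 (.node 35965 (.leaf 0x43837) (.leaf 0x43837)) (.node 35967 (.leaf 0x43837) (.node 35968 (.leaf 0x43837) (.leaf 0x43837)))) (.node 35971 (.node 35970 (.leaf 0x43837) (.leaf 0x43837)) (.node 35972 (.leaf 0x43837) (.node 35973 (.leaf 0x43837) (.leaf 0x43837))))) (.node 35979 (.node 35976 (.node 35975 (.leaf 0x43837) (.leaf 0x43837)) (.node 35977 (.leaf 0x43837) (.node 35978 (.leaf 0x43837) (.leaf 0x43837)))) (.node 35981 (.node 35980 (.leaf 0x43837) (.leaf 0x43837)) (.node 35982 (.leaf 0x43837) (.node 35983 (.leaf 0x43837) (.leaf 0x43837))))))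

def candS_1778 : Store := (.node 35994 (.node 35989 (.node 35986 (.node 35985 (.leaf 0x43837) (.leaf 0x43837)) (.node 35987 (.leaf 0x43837) (.node 35988 (.leaf 0x43837) (.leaf 0x43837)))) (.node 35991 (.node 35990 (.leaf 0x43837) (.leaf 0x43837)) (.node 35992 (.leaf 0x43837) (.node 35993 (.leaf 0x43837) (.leaf 0x43837))))) (.node 35999 (.node 35996 (.node 35995 (.leaf 0x43837) (.leaf 0x43837)) (.node 35997 (.leaf 0x43837) (.node 35998 (.leaf 0x43837) (.leaf 0x43837)))) (.node 36001 (.node 36000 (.leaf 0x43837) (.leaf 0x43837)) (.node 36002 (.leaf 0x43837) (.node 36003 (.leaf 0x43837) (.leaf 0x43837))))))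

def candS_1779 : Store := (.node 36014 (.node 36009 (.node 36006 (.node 36005 (.leaf 0x43837) (.leaf 0x43837)) (.node 36007 (.leaf 0x43837) (.node 36008 (.leaf 0x43837) (.leaf 0x43837)))) (.node 36011 (.node 36010 (.leaf 0x43837) (.leaf 0x43837)) (.node 36012 (.leaf 0x43837) (.node 36013 (.leaf 0x43837) (.leaf 0x43837))))) (.node 36019 (.node 36016 (.node 36015 (.leaf 0x43837) (.leaf 0x43837)) (.node 36017 (.leaf 0x43837) (.node 36018 (.leaf 0x43837) (.leaf 0x43837)))) (.node 36021 (.node 36020 (.leaf 0x43837) (.leaf 0x43837)) (.node 36022 (.leaf 0x43837) (.node 36023 (.leaf 0x43837) (.leaf 0x43837))))))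

def candS_1780 : Store := (.node 36034 (.node 36029 (.node 36026 (.node 36025 (.leaf 0x43837) (.leaf 0x43837)) (.node 36027 (.leaf 0x43837) (.node 36028 (.leaf 0x43837) (.leaf 0x43837)))) (.node 36031 (.node 36030 (.leaf 0x43837) (.leaf 0x43837)) (.node 36032 (.leaf 0x43837) (.node 36033 (.leaf 0x43837) (.leaf 0x43837))))) (.node 36039 (.node 36036 (.node 36035 (.leaf 0x43837) (.leaf 0x43837)) (.node 36037 (.leaf 0x43837) (.node 36038 (.leaf 0x43837) (.leaf 0x43837)))) (.node 36042 (.node 36040 (.leaf 0x43837) (.node 36041 (.leaf 0x43837) (.leaf 0x43837))) (.node 36043 (.leaf 0x43837) (.node 36044 (.leaf 0x43837) (.leaf 0x43837))))))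

def candS_1781 : Store := (.node 36055 (.node 36050 (.node 36047 (.node 36046 (.leaf 0x43837) (.leaf 0x43837)) (.node 36048 (.leaf 0x43837) (.node 36049 (.leaf 0x43837) (.leaf 0x43837)))) (.node 36052 (.node 36051 (.leaf 0x43837) (.leaf 0x43837)) (.node 36053 (.leaf 0x43837) (.node 36054 (.leaf 0x43837) (.leaf 0x43837))))) (.node 36060 (.node 36057 (.node 36056 (.leaf 0x43837) (.leaf 0x43837)) (.node 36058 (.leaf 0x43837) (.node 36059 (.leaf 0x43837) (.leaf 0x43837)))) (.node 36062 (.node 36061 (.leaf 0x43837) (.leaf 0x43837)) (.node 36063 (.leaf 0x43837) (.node 36064 (.leaf 0x43837) (.leaf 0x43837))))))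

def candS_1782 : Store := (.node 36075 (.node 36070 (.node 36067 (.node 36066 (.leaf 0x43837) (.leaf 0x43837)) (.node 36068 (.leaf 0x43837) (.node 36069 (.leaf 0x43837) (.leaf 0x43837)))) (.node 36072 (.node 36071 (.leaf 0x43837) (.leaf 0x43837)) (.node 36073 (.leaf 0x43837) (.node 36074 (.leaf 0x43837) (.leaf 0x43837))))) (.node 36080 (.node 36077 (.node 36076 (.leaf 0x43837) (.leaf 0x43837)) (.node 36078 (.leaf 0x43837) (.node 36079 (.leaf 0x43837) (.leaf 0x43837)))) (.node 36082 (.node 36081 (.leaf 0x43837) (.leaf 0x43837)) (.node 36083 (.leaf 0x43837) (.node 36084 (.leaf 0x43837) (.leaf 0x43837))))))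

def candS_1783 : Store := (.node 36095 (.node 36090 (.node 36087 (.node 36086 (.leaf 0x43837) (.leaf 0x43837)) (.node 36088 (.leaf 0x43837) (.node 36089 (.leaf 0x43837) (.leaf 0x43837)))) (.node 36092 (.node 36091 (.leaf 0x43837) (.leaf 0x43837)) (.node 36093 (.leaf 0x43837) (.node 36094 (.leaf 0x43837) (.leaf 0x43837))))) (.node 36100 (.node 36097 (.node 36096 (.leaf 0x43837) (.leaf 0x43837)) (.node 36098 (.leaf 0x43837) (.node 36099 (.leaf 0x43837) (.leaf 0x43837)))) (.node 36102 (.node 36101 (.leaf 0x43837) (.leaf 0x43837)) (.node 36103 (.leaf 0x43837) (.node 36104 (.leaf 0x43837) (.leaf 0x43837))))))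

def candS_1784 : Store := (.node 36115 (.node 36110 (.node 36107 (.node 36106 (.leaf 0x43837) (.leaf 0x43837)) (.node 36108 (.leaf 0x43837) (.node 36109 (.leaf 0x43837) (.leaf 0x43837)))) (.node 36112 (.node 36111 (.leaf 0x43837) (.leaf 0x43837)) (.node 36113 (.leaf 0x43837) (.node 36114 (.leaf 0x43837) (.leaf 0x43837))))) (.node 36120 (.node 36117 (.node 36116 (.leaf 0x43837) (.leaf 0x43837)) (.node 36118 (.leaf 0x43837) (.node 36119 (.leaf 0x43837) (.leaf 0x43837)))) (.node 36123 (.node 36121 (.leaf 0x43837) (.node 36122 (.leaf 0x43837) (.leaf 0x43837))) (.node 36124 (.leaf 0x43837) (.node 36125 (.leaf 0x43837) (.leaf 0x43837))))))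

def candS_1785 : Store := (.node 36136 (.node 36131 (.node 36128 (.node 36127 (.leaf 0x43837) (.leaf 0x43837)) (.node 36129 (.leaf 0x43837) (.node 36130 (.leaf 0x43837) (.leaf 0x43837)))) (.node 36133 (.node 36132 (.leaf 0x43837) (.leaf 0x43837)) (.node 36134 (.leaf 0x43837) (.node 36135 (.leaf 0x43837) (.leaf 0x43837))))) (.node 36141 (.node 36138 (.node 36137 (.leaf 0x43837) (.leaf 0x43837)) (.node 36139 (.leaf 0x43837) (.node 36140 (.leaf 0x43837) (.leaf 0x43837)))) (.node 36143 (.node 36142 (.leaf 0x43837) (.leaf 0x43837)) (.node 36144 (.leaf 0x43837) (.node 36145 (.leaf 0x43837) (.leaf 0x43837))))))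

def candS_1786 : Store := (.node 36156 (.node 36151 (.node 36148 (.node 36147 (.leaf 0x43837) (.leaf 0x43837)) (.node 36149 (.leaf 0x43837) (.node 36150 (.leaf 0x43837) (.leaf 0x43837)))) (.node 36153 (.node 36152 (.leaf 0x43837) (.leaf 0x43837)) (.node 36154 (.leaf 0x43837) (.node 36155 (.leaf 0x43837) (.leaf 0x43837))))) (.node 36161 (.node 36158 (.node 36157 (.leaf 0x43837) (.leaf 0x43837)) (.node 36159 (.leaf 0x43837) (.node 36160 (.leaf 0x43837) (.leaf 0x43837)))) (.node 36163 (.node 36162 (.leaf 0x43837) (.leaf 0x43837)) (.node 36164 (.leaf 0x43837) (.node 36165 (.leaf 0x43837) (.leaf 0x43837))))))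

def candS_1787 : Store := (.node 36176 (.node 36171 (.node 36168 (.node 36167 (.leaf 0x43837) (.leaf 0x43837)) (.node 36169 (.leaf 0x43837) (.node 36170 (.leaf 0x43837) (.leaf 0x43837)))) (.node 36173 (.node 36172 (.leaf 0x43837) (.leaf 0x43837)) (.node 36174 (.leaf 0x43837) (.node 36175 (.leaf 0x43837) (.leaf 0x43837))))) (.node 36181 (.node 36178 (.node 36177 (.leaf 0x43837) (.leaf 0x43837)) (.node 36179 (.leaf 0x43837) (.node 36180 (.leaf 0x43837) (.leaf 0x43837)))) (.node 36183 (.node 36182 (.leaf 0x43837) (.leaf 0x43837)) (.node 36184 (.leaf 0x43837) (.node 36185 (.leaf 0x43837) (.leaf 0x43837))))))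

def candS_1788 : Store := (.node 36196 (.node 36191 (.node 36188 (.node 36187 (.leaf 0x43837) (.leaf 0x43837)) (.node 36189 (.leaf 0x43837) (.node 36190 (.leaf 0x43837) (.leaf 0x43837)))) (.node 36193 (.node 36192 (.leaf 0x43837) (.leaf 0x43837)) (.node 36194 (.leaf 0x43837) (.node 36195 (.leaf 0x43837) (.leaf 0x43837))))) (.node 36201 (.node 36198 (.node 36197 (.leaf 0x43837) (.leaf 0x43837)) (.node 36199 (.leaf 0x43837) (.node 36200 (.leaf 0x43837) (.leaf 0x43837)))) (.node 36204 (.node 36202 (.leaf 0x43837) (.node 36203 (.leaf 0x43837) (.leaf 0x43837))) (.node 36205 (.leaf 0x43837) (.node 36206 (.leaf 0x43837) (.leaf 0x43837))))))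

def candS_1789 : Store := (.node 36217 (.node 36212 (.node 36209 (.node 36208 (.leaf 0x43837) (.leaf 0x43837)) (.node 36210 (.leaf 0x43837) (.node 36211 (.leaf 0x43837) (.leaf 0x43837)))) (.node 36214 (.node 36213 (.leaf 0x43837) (.leaf 0x43837)) (.node 36215 (.leaf 0x43837) (.node 36216 (.leaf 0x43837) (.leaf 0x43837))))) (.node 36222 (.node 36219 (.node 36218 (.leaf 0x43837) (.leaf 0x43837)) (.node 36220 (.leaf 0x43837) (.node 36221 (.leaf 0x43837) (.leaf 0x43837)))) (.node 36224 (.node 36223 (.leaf 0x43837) (.leaf 0x43837)) (.node 36225 (.leaf 0x43837) (.node 36226 (.leaf 0x43837) (.leaf 0x43837))))))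

def candS_1790 : Store := (.node 36237 (.node 36232 (.node 36229 (.node 36228 (.leaf 0x43837) (.leaf 0x43837)) (.node 36230 (.leaf 0x43837) (.node 36231 (.leaf 0x43837) (.leaf 0x43837)))) (.node 36234 (.node 36233 (.leaf 0x43837) (.leaf 0x43837)) (.node 36235 (.leaf 0x43837) (.node 36236 (.leaf 0x43837) (.leaf 0x43837))))) (.node 36242 (.node 36239 (.node 36238 (.leaf 0x43837) (.leaf 0x43837)) (.node 36240 (.leaf 0x43837) (.node 36241 (.leaf 0x43837) (.leaf 0x43837)))) (.node 36244 (.node 36243 (.leaf 0x43837) (.leaf 0x43837)) (.node 36245 (.leaf 0x43837) (.node 36246 (.leaf 0x43837) (.leaf 0x43837))))))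

def candS_1791 : Store := (.node 36257 (.node 36252 (.node 36249 (.node 36248 (.leaf 0x43837) (.leaf 0x43837)) (.node 36250 (.leaf 0x43837) (.node 36251 (.leaf 0x43837) (.leaf 0x43837)))) (.node 36254 (.node 36253 (.leaf 0x43837) (.leaf 0x43837)) (.node 36255 (.leaf 0x43837) (.node 36256 (.leaf 0x43837) (.leaf 0x43837))))) (.node 36262 (.node 36259 (.node 36258 (.leaf 0x43837) (.leaf 0x43837)) (.node 36260 (.leaf 0x43837) (.node 36261 (.leaf 0x43837) (.leaf 0x43837)))) (.node 36264 (.node 36263 (.leaf 0x43837) (.leaf 0x43837)) (.node 36265 (.leaf 0x43837) (.node 36266 (.leaf 0x43837) (.leaf 0x43837))))))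

def candS_1792 : Store := (.node 36277 (.node 36272 (.node 36269 (.node 36268 (.leaf 0x43837) (.leaf 0x43837)) (.node 36270 (.leaf 0x43837) (.node 36271 (.leaf 0x43837) (.leaf 0x43837)))) (.node 36274 (.node 36273 (.leaf 0x43837) (.leaf 0x43837)) (.node 36275 (.leaf 0x43837) (.node 36276 (.leaf 0x43837) (.leaf 0x43837))))) (.node 36282 (.node 36279 (.node 36278 (.leaf 0x43837) (.leaf 0x43837)) (.node 36280 (.leaf 0x43837) (.node 36281 (.leaf 0x43837) (.leaf 0x43837)))) (.node 36285 (.node 36283 (.leaf 0x43837) (.node 36284 (.leaf 0x43837) (.leaf 0x43837))) (.node 36286 (.leaf 0x43837) (.node 36287 (.leaf 0x43837) (.leaf 0x43837))))))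

def candS_1793 : Store := (.node 36298 (.node 36293 (.node 36290 (.node 36289 (.leaf 0x2d939) (.leaf 0x2d939)) (.node 36291 (.leaf 0x2d939) (.node 36292 (.leaf 0x2d939) (.leaf 0x2d939)))) (.node 36295 (.node 36294 (.leaf 0x2d939) (.leaf 0x2d939)) (.node 36296 (.leaf 0x2d939) (.node 36297 (.leaf 0x2d939) (.leaf 0x2d939))))) (.node 36303 (.node 36300 (.node 36299 (.leaf 0x2d939) (.leaf 0x2d939)) (.node 36301 (.leaf 0x2d939) (.node 36302 (.leaf 0x2d939) (.leaf 0x2d939)))) (.node 36305 (.node 36304 (.leaf 0x2d939) (.leaf 0x2d939)) (.node 36306 (.leaf 0x2d939) (.node 36307 (.leaf 0x2d939) (.leaf 0x2d939))))))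

def candS_1794 : Store := (.node 36318 (.node 36313 (.node 36310 (.node 36309 (.leaf 0x2d939) (.leaf 0x2d939)) (.node 36311 (.leaf 0x2d939) (.node 36312 (.leaf 0x2d939) (.leaf 0x2d939)))) (.node 36315 (.node 36314 (.leaf 0x2d939) (.leaf 0x2d939)) (.node 36316 (.leaf 0x2d939) (.node 36317 (.leaf 0x2d939) (.leaf 0x2d939))))) (.node 36323 (.node 36320 (.node 36319 (.leaf 0x2d939) (.leaf 0x2d939)) (.node 36321 (.leaf 0x2d939) (.node 36322 (.leaf 0x2d939) (.leaf 0x2d939)))) (.node 36325 (.node 36324 (.leaf 0x2d939) (.leaf 0x2d939)) (.node 36326 (.leaf 0x2d939) (.node 36327 (.leaf 0x2d939) (.leaf 0x2d939))))))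

def candS_1795 : Store := (.node 36338 (.node 36333 (.node 36330 (.node 36329 (.leaf 0x2d939) (.leaf 0x2d939)) (.node 36331 (.leaf 0x2d939) (.node 36332 (.leaf 0x2d939) (.leaf 0x2d939)))) (.node 36335 (.node 36334 (.leaf 0x2d939) (.leaf 0x2d939)) (.node 36336 (.leaf 0x2d939) (.node 36337 (.leaf 0x2d939) (.leaf 0x2d939))))) (.node 36343 (.node 36340 (.node 36339 (.leaf 0x2d939) (.leaf 0x2d939)) (.node 36341 (.leaf 0x2d939) (.node 36342 (.leaf 0x2d939) (.leaf 0x2d939)))) (.node 36345 (.node 36344 (.leaf 0x2d939) (.leaf 0x2d939)) (.node 36346 (.leaf 0x2d939) (.node 36347 (.leaf 0x2d939) (.leaf 0x2d939))))))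

def candS_1796 : Store := (.node 36358 (.node 36353 (.node 36350 (.node 36349 (.leaf 0x2d939) (.leaf 0x2d939)) (.node 36351 (.leaf 0x2d939) (.node 36352 (.leaf 0x2d939) (.leaf 0x2d939)))) (.node 36355 (.node 36354 (.leaf 0x2d939) (.leaf 0x2d939)) (.node 36356 (.leaf 0x2d939) (.node 36357 (.leaf 0x2d939) (.leaf 0x2d939))))) (.node 36363 (.node 36360 (.node 36359 (.leaf 0x2d939) (.leaf 0x2d939)) (.node 36361 (.leaf 0x2d939) (.node 36362 (.leaf 0x2d939) (.leaf 0x2d939)))) (.node 36366 (.node 36364 (.leaf 0x2d939) (.node 36365 (.leaf 0x2d939) (.leaf 0x2d939))) (.node 36367 (.leaf 0x2d939) (.node 36368 (.leaf 0x2d939) (.leaf 0x2d939))))))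

def candS_1797 : Store := (.node 36379 (.node 36374 (.node 36371 (.node 36370 (.leaf 0x2d939) (.leaf 0x2d939)) (.node 36372 (.leaf 0x2d939) (.node 36373 (.leaf 0x2d939) (.leaf 0x2d939)))) (.node 36376 (.node 36375 (.leaf 0x2d939) (.leaf 0x2d939)) (.node 36377 (.leaf 0x2d939) (.node 36378 (.leaf 0x2d939) (.leaf 0x2d939))))) (.node 36384 (.node 36381 (.node 36380 (.leaf 0x2d939) (.leaf 0x2d939)) (.node 36382 (.leaf 0x2d939) (.node 36383 (.leaf 0x2d939) (.leaf 0x2d939)))) (.node 36386 (.node 36385 (.leaf 0x2d939) (.leaf 0x2d939)) (.node 36387 (.leaf 0x2d939) (.node 36388 (.leaf 0x2d939) (.leaf 0x2d939))))))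

def candS_1798 : Store := (.node 36399 (.node 36394 (.node 36391 (.node 36390 (.leaf 0x2d939) (.leaf 0x2d939)) (.node 36392 (.leaf 0x2d939) (.node 36393 (.leaf 0x2d939) (.leaf 0x2d939)))) (.node 36396 (.node 36395 (.leaf 0x2d939) (.leaf 0x2d939)) (.node 36397 (.leaf 0x2d939) (.node 36398 (.leaf 0x2d939) (.leaf 0x2d939))))) (.node 36404 (.node 36401 (.node 36400 (.leaf 0x2d939) (.leaf 0x2d939)) (.node 36402 (.leaf 0x2d939) (.node 36403 (.leaf 0x2d939) (.leaf 0x2d939)))) (.node 36406 (.node 36405 (.leaf 0x2d939) (.leaf 0x2d939)) (.node 36407 (.leaf 0x2d939) (.node 36408 (.leaf 0x2d939) (.leaf 0x2d939))))))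

def candS_1799 : Store := (.node 36419 (.node 36414 (.node 36411 (.node 36410 (.leaf 0x2d939) (.leaf 0x2d939)) (.node 36412 (.leaf 0x2d939) (.node 36413 (.leaf 0x2d939) (.leaf 0x2d939)))) (.node 36416 (.node 36415 (.leaf 0x2d939) (.leaf 0x2d939)) (.node 36417 (.leaf 0x2d939) (.node 36418 (.leaf 0x2d939) (.leaf 0x2d939))))) (.node 36424 (.node 36421 (.node 36420 (.leaf 0x2d939) (.leaf 0x2d939)) (.node 36422 (.leaf 0x2d939) (.node 36423 (.leaf 0x2d939) (.leaf 0x2d939)))) (.node 36426 (.node 36425 (.leaf 0x2d939) (.leaf 0x2d939)) (.node 36427 (.leaf 0x2d939) (.node 36428 (.leaf 0x2d939) (.leaf 0x2d939))))))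

def candS_1800 : Store := (.node 36439 (.node 36434 (.node 36431 (.node 36430 (.leaf 0x2d939) (.leaf 0x2d939)) (.node 36432 (.leaf 0x2d939) (.node 36433 (.leaf 0x2d939) (.leaf 0x2d939)))) (.node 36436 (.node 36435 (.leaf 0x2d939) (.leaf 0x2d939)) (.node 36437 (.leaf 0x2d939) (.node 36438 (.leaf 0x2d939) (.leaf 0x2d939))))) (.node 36444 (.node 36441 (.node 36440 (.leaf 0x2d939) (.leaf 0x2d939)) (.node 36442 (.leaf 0x2d939) (.node 36443 (.leaf 0x2d939) (.leaf 0x2d939)))) (.node 36447 (.node 36445 (.leaf 0x2d939) (.node 36446 (.leaf 0x2d939) (.leaf 0x2d939))) (.node 36448 (.leaf 0x2d939) (.node 36449 (.leaf 0x2d939) (.leaf 0x2d939))))))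

def candS_1801 : Store := (.node 36460 (.node 36455 (.node 36452 (.node 36451 (.leaf 0x2d939) (.leaf 0x2d939)) (.node 36453 (.leaf 0x2d939) (.node 36454 (.leaf 0x2d939) (.leaf 0x2d939)))) (.node 36457 (.node 36456 (.leaf 0x2d939) (.leaf 0x2d939)) (.node 36458 (.leaf 0x2d939) (.node 36459 (.leaf 0x2d939) (.leaf 0x2d939))))) (.node 36465 (.node 36462 (.node 36461 (.leaf 0x2d939) (.leaf 0x2d939)) (.node 36463 (.leaf 0x2d939) (.node 36464 (.leaf 0x2d939) (.leaf 0x2d939)))) (.node 36467 (.node 36466 (.leaf 0x2d939) (.leaf 0x2d939)) (.node 36468 (.leaf 0x2d939) (.node 36469 (.leaf 0x2d939) (.leaf 0x2d939))))))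

def candS_1802 : Store := (.node 36480 (.node 36475 (.node 36472 (.node 36471 (.leaf 0x2d939) (.leaf 0x2d939)) (.node 36473 (.leaf 0x2d939) (.node 36474 (.leaf 0x2d939) (.leaf 0x2d939)))) (.node 36477 (.node 36476 (.leaf 0x2d939) (.leaf 0x2d939)) (.node 36478 (.leaf 0x2d939) (.node 36479 (.leaf 0x2d939) (.leaf 0x2d939))))) (.node 36485 (.node 36482 (.node 36481 (.leaf 0x2d939) (.leaf 0x2d939)) (.node 36483 (.leaf 0x2d939) (.node 36484 (.leaf 0x2d939) (.leaf 0x2d939)))) (.node 36487 (.node 36486 (.leaf 0x2d939) (.leaf 0x2d939)) (.node 36488 (.leaf 0x2d939) (.node 36489 (.leaf 0x2d939) (.leaf 0x2d939))))))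

def candS_1803 : Store := (.node 36500 (.node 36495 (.node 36492 (.node 36491 (.leaf 0x2d939) (.leaf 0x2d939)) (.node 36493 (.leaf 0x2d939) (.node 36494 (.leaf 0x2d939) (.leaf 0x2d939)))) (.node 36497 (.node 36496 (.leaf 0x2d939) (.leaf 0x2d939)) (.node 36498 (.leaf 0x2d939) (.node 36499 (.leaf 0x2d939) (.leaf 0x2d939))))) (.node 36505 (.node 36502 (.node 36501 (.leaf 0x2d939) (.leaf 0x2d939)) (.node 36503 (.leaf 0x2d939) (.node 36504 (.leaf 0x2d939) (.leaf 0x2d939)))) (.node 36507 (.node 36506 (.leaf 0x2d939) (.leaf 0x2d939)) (.node 36508 (.leaf 0x2d939) (.node 36509 (.leaf 0x2d939) (.leaf 0x2d939))))))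

def candS_1804 : Store := (.node 36520 (.node 36515 (.node 36512 (.node 36511 (.leaf 0x2d939) (.leaf 0x2d939)) (.node 36513 (.leaf 0x2d939) (.node 36514 (.leaf 0x2d939) (.leaf 0x2d939)))) (.node 36517 (.node 36516 (.leaf 0x2d939) (.leaf 0x2d939)) (.node 36518 (.leaf 0x2d939) (.node 36519 (.leaf 0x2d939) (.leaf 0x2d939))))) (.node 36525 (.node 36522 (.node 36521 (.leaf 0x2d939) (.leaf 0x2d939)) (.node 36523 (.leaf 0x2d939) (.node 36524 (.leaf 0x2d939) (.leaf 0x2d939)))) (.node 36528 (.node 36526 (.leaf 0x2d939) (.node 36527 (.leaf 0x2d939) (.leaf 0x2d939))) (.node 36529 (.leaf 0x2d939) (.node 36530 (.leaf 0x2d939) (.leaf 0x2d939))))))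

def candS_1805 : Store := (.node 36541 (.node 36536 (.node 36533 (.node 36532 (.leaf 0x2d939) (.leaf 0x2d939)) (.node 36534 (.leaf 0x2d939) (.node 36535 (.leaf 0x2d939) (.leaf 0x2d939)))) (.node 36538 (.node 36537 (.leaf 0x2d939) (.leaf 0x2d939)) (.node 36539 (.leaf 0x2d939) (.node 36540 (.leaf 0x2d939) (.leaf 0x2d939))))) (.node 36546 (.node 36543 (.node 36542 (.leaf 0x2d939) (.leaf 0x2d939)) (.node 36544 (.leaf 0x2d939) (.node 36545 (.leaf 0x2d939) (.leaf 0x2d939)))) (.node 36548 (.node 36547 (.leaf 0x2d939) (.leaf 0x2d939)) (.node 36549 (.leaf 0x2d939) (.node 36550 (.leaf 0x2d939) (.leaf 0x2d939))))))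

def candS_1806 : Store := (.node 36561 (.node 36556 (.node 36553 (.node 36552 (.leaf 0x2d939) (.leaf 0x2d939)) (.node 36554 (.leaf 0x2d939) (.node 36555 (.leaf 0x2d939) (.leaf 0x2d939)))) (.node 36558 (.node 36557 (.leaf 0x2d939) (.leaf 0x2d939)) (.node 36559 (.leaf 0x2d939) (.node 36560 (.leaf 0x2d939) (.leaf 0x2d939))))) (.node 36566 (.node 36563 (.node 36562 (.leaf 0x2d939) (.leaf 0x2d939)) (.node 36564 (.leaf 0x2d939) (.node 36565 (.leaf 0x2d939) (.leaf 0x2d939)))) (.node 36568 (.node 36567 (.leaf 0x2d939) (.leaf 0x2d939)) (.node 36569 (.leaf 0x2d939) (.node 36570 (.leaf 0x2d939) (.leaf 0x2d939))))))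

def candS_1807 : Store := (.node 36581 (.node 36576 (.node 36573 (.node 36572 (.leaf 0x2d939) (.leaf 0x2d939)) (.node 36574 (.leaf 0x2d939) (.node 36575 (.leaf 0x2d939) (.leaf 0x2d939)))) (.node 36578 (.node 36577 (.leaf 0x2d939) (.leaf 0x2d939)) (.node 36579 (.leaf 0x2d939) (.node 36580 (.leaf 0x2d939) (.leaf 0x2d939))))) (.node 36586 (.node 36583 (.node 36582 (.leaf 0x2d939) (.leaf 0x2d939)) (.node 36584 (.leaf 0x2d939) (.node 36585 (.leaf 0x2d939) (.leaf 0x2d939)))) (.node 36588 (.node 36587 (.leaf 0x2d939) (.leaf 0x2d939)) (.node 36589 (.leaf 0x2d939) (.node 36590 (.leaf 0x2d939) (.leaf 0x2d939))))))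

def candS_1808 : Store := (.node 36601 (.node 36596 (.node 36593 (.node 36592 (.leaf 0x2d939) (.leaf 0x2d939)) (.node 36594 (.leaf 0x2d939) (.node 36595 (.leaf 0x2d939) (.leaf 0x2d939)))) (.node 36598 (.node 36597 (.leaf 0x2d939) (.leaf 0x2d939)) (.node 36599 (.leaf 0x2d939) (.node 36600 (.leaf 0x2d939) (.leaf 0x2d939))))) (.node 36606 (.node 36603 (.node 36602 (.leaf 0x2d939) (.leaf 0x2d939)) (.node 36604 (.leaf 0x2d939) (.node 36605 (.leaf 0x2d939) (.leaf 0x2d939)))) (.node 36609 (.node 36607 (.leaf 0x2d939) (.node 36608 (.leaf 0x2d939) (.leaf 0x2d939))) (.node 36610 (.leaf 0x2d939) (.node 36611 (.leaf 0x2d939) (.leaf 0x2d939))))))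

def candS_1809 : Store := (.node 36622 (.node 36617 (.node 36614 (.node 36613 (.leaf 0x2d939) (.leaf 0x2d939)) (.node 36615 (.leaf 0x2d939) (.node 36616 (.leaf 0x2d939) (.leaf 0x2d939)))) (.node 36619 (.node 36618 (.leaf 0x2d939) (.leaf 0x2d939)) (.node 36620 (.leaf 0x2d939) (.node 36621 (.leaf 0x2d939) (.leaf 0x2d939))))) (.node 36627 (.node 36624 (.node 36623 (.leaf 0x2d939) (.leaf 0x2d939)) (.node 36625 (.leaf 0x2d939) (.node 36626 (.leaf 0x2d939) (.leaf 0x2d939)))) (.node 36629 (.node 36628 (.leaf 0x2d939) (.leaf 0x2d939)) (.node 36630 (.leaf 0x2d939) (.node 36631 (.leaf 0x2d939) (.leaf 0x2d939))))))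

def candS_1810 : Store := (.node 36642 (.node 36637 (.node 36634 (.node 36633 (.leaf 0x2d939) (.leaf 0x2d939)) (.node 36635 (.leaf 0x2d939) (.node 36636 (.leaf 0x2d939) (.leaf 0x2d939)))) (.node 36639 (.node 36638 (.leaf 0x2d939) (.leaf 0x2d939)) (.node 36640 (.leaf 0x2d939) (.node 36641 (.leaf 0x2d939) (.leaf 0x2d939))))) (.node 36647 (.node 36644 (.node 36643 (.leaf 0x2d939) (.leaf 0x2d939)) (.node 36645 (.leaf 0x2d939) (.node 36646 (.leaf 0x2d939) (.leaf 0x2d939)))) (.node 36649 (.node 36648 (.leaf 0x2d939) (.leaf 0x2d939)) (.node 36650 (.leaf 0x2d939) (.node 36651 (.leaf 0x2d939) (.leaf 0x2d939))))))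

def candS_1811 : Store := (.node 36662 (.node 36657 (.node 36654 (.node 36653 (.leaf 0x2d939) (.leaf 0x2d939)) (.node 36655 (.leaf 0x2d939) (.node 36656 (.leaf 0x2d939) (.leaf 0x2d939)))) (.node 36659 (.node 36658 (.leaf 0x2d939) (.leaf 0x2d939)) (.node 36660 (.leaf 0x2d939) (.node 36661 (.leaf 0x2d939) (.leaf 0x2d939))))) (.node 36667 (.node 36664 (.node 36663 (.leaf 0x2d939) (.leaf 0x2d939)) (.node 36665 (.leaf 0x2d939) (.node 36666 (.leaf 0x2d939) (.leaf 0x2d939)))) (.node 36669 (.node 36668 (.leaf 0x2d939) (.leaf 0x2d939)) (.node 36670 (.leaf 0x2d939) (.node 36671 (.leaf 0x2d939) (.leaf 0x2d939))))))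

def candS_1812 : Store := (.node 36682 (.node 36677 (.node 36674 (.node 36673 (.leaf 0x2d939) (.leaf 0x2d939)) (.node 36675 (.leaf 0x2d939) (.node 36676 (.leaf 0x2d939) (.leaf 0x2d939)))) (.node 36679 (.node 36678 (.leaf 0x2d939) (.leaf 0x2d939)) (.node 36680 (.leaf 0x2d939) (.node 36681 (.leaf 0x2d939) (.leaf 0x2d939))))) (.node 36687 (.node 36684 (.node 36683 (.leaf 0x2d939) (.leaf 0x2d939)) (.node 36685 (.leaf 0x2d939) (.node 36686 (.leaf 0x2d939) (.leaf 0x2d939)))) (.node 36690 (.node 36688 (.leaf 0x2d939) (.node 36689 (.leaf 0x2d939) (.leaf 0x2d939))) (.node 36691 (.leaf 0x2d939) (.node 36692 (.leaf 0x2d939) (.leaf 0x2d939))))))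

def candS_1813 : Store := (.node 36703 (.node 36698 (.node 36695 (.node 36694 (.leaf 0x2d939) (.leaf 0x2d939)) (.node 36696 (.leaf 0x2d939) (.node 36697 (.leaf 0x2d939) (.leaf 0x2d939)))) (.node 36700 (.node 36699 (.leaf 0x2d939) (.leaf 0x2d939)) (.node 36701 (.leaf 0x2d939) (.node 36702 (.leaf 0x2d939) (.leaf 0x2d939))))) (.node 36708 (.node 36705 (.node 36704 (.leaf 0x2d939) (.leaf 0x2d939)) (.node 36706 (.leaf 0x2d939) (.node 36707 (.leaf 0x2d939) (.leaf 0x2d939)))) (.node 36710 (.node 36709 (.leaf 0x2d939) (.leaf 0x2d939)) (.node 36711 (.leaf 0x2d939) (.node 36712 (.leaf 0x2d939) (.leaf 0x2d939))))))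

def candS_1814 : Store := (.node 36723 (.node 36718 (.node 36715 (.node 36714 (.leaf 0x2d939) (.leaf 0x2d939)) (.node 36716 (.leaf 0x2d939) (.node 36717 (.leaf 0x2d939) (.leaf 0x2d939)))) (.node 36720 (.node 36719 (.leaf 0x2d939) (.leaf 0x2d939)) (.node 36721 (.leaf 0x2d939) (.node 36722 (.leaf 0x2d939) (.leaf 0x2d939))))) (.node 36728 (.node 36725 (.node 36724 (.leaf 0x2d939) (.leaf 0x2d939)) (.node 36726 (.leaf 0x2d939) (.node 36727 (.leaf 0x2d939) (.leaf 0x2d939)))) (.node 36730 (.node 36729 (.leaf 0x2d939) (.leaf 0x2d939)) (.node 36731 (.leaf 0x2d939) (.node 36732 (.leaf 0x2d939) (.leaf 0x2d939))))))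

def candS_1815 : Store := (.node 36743 (.node 36738 (.node 36735 (.node 36734 (.leaf 0x2d939) (.leaf 0x2d939)) (.node 36736 (.leaf 0x2d939) (.node 36737 (.leaf 0x2d939) (.leaf 0x2d939)))) (.node 36740 (.node 36739 (.leaf 0x2d939) (.leaf 0x2d939)) (.node 36741 (.leaf 0x2d939) (.node 36742 (.leaf 0x2d939) (.leaf 0x2d939))))) (.node 36748 (.node 36745 (.node 36744 (.leaf 0x2d939) (.leaf 0x2d939)) (.node 36746 (.leaf 0x2d939) (.node 36747 (.leaf 0x2d939) (.leaf 0x2d939)))) (.node 36750 (.node 36749 (.leaf 0x2d939) (.leaf 0x2d939)) (.node 36751 (.leaf 0x2d939) (.node 36752 (.leaf 0x2d939) (.leaf 0x2d939))))))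

def candS_1816 : Store := (.node 36763 (.node 36758 (.node 36755 (.node 36754 (.leaf 0x2d939) (.leaf 0x2d939)) (.node 36756 (.leaf 0x2d939) (.node 36757 (.leaf 0x2d939) (.leaf 0x2d939)))) (.node 36760 (.node 36759 (.leaf 0x2d939) (.leaf 0x2d939)) (.node 36761 (.leaf 0x2d939) (.node 36762 (.leaf 0x2d939) (.leaf 0x2d939))))) (.node 36768 (.node 36765 (.node 36764 (.leaf 0x2d939) (.leaf 0x2d939)) (.node 36766 (.leaf 0x2d939) (.node 36767 (.leaf 0x2d939) (.leaf 0x2d939)))) (.node 36771 (.node 36769 (.leaf 0x2d939) (.node 36770 (.leaf 0x2d939) (.leaf 0x2d939))) (.node 36772 (.leaf 0x2d939) (.node 36773 (.leaf 0x2d939) (.leaf 0x2d939))))))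

def candS_1817 : Store := (.node 36784 (.node 36779 (.node 36776 (.node 36775 (.leaf 0x2d939) (.leaf 0x2d939)) (.node 36777 (.leaf 0x2d939) (.node 36778 (.leaf 0x2d939) (.leaf 0x2d939)))) (.node 36781 (.node 36780 (.leaf 0x2d939) (.leaf 0x2d939)) (.node 36782 (.leaf 0x2d939) (.node 36783 (.leaf 0x2d939) (.leaf 0x2d939))))) (.node 36789 (.node 36786 (.node 36785 (.leaf 0x2d939) (.leaf 0x2d939)) (.node 36787 (.leaf 0x2d939) (.node 36788 (.leaf 0x2d939) (.leaf 0x2d939)))) (.node 36791 (.node 36790 (.leaf 0x2d939) (.leaf 0x2d939)) (.node 36792 (.leaf 0x2d939) (.node 36793 (.leaf 0x2d939) (.leaf 0x2d939))))))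

def candS_1818 : Store := (.node 36804 (.node 36799 (.node 36796 (.node 36795 (.leaf 0x2d939) (.leaf 0x2d939)) (.node 36797 (.leaf 0x2d939) (.node 36798 (.leaf 0x2d939) (.leaf 0x2d939)))) (.node 36801 (.node 36800 (.leaf 0x2d939) (.leaf 0x2d939)) (.node 36802 (.leaf 0x2d939) (.node 36803 (.leaf 0x2d939) (.leaf 0x2d939))))) (.node 36809 (.node 36806 (.node 36805 (.leaf 0x2d939) (.leaf 0x2d939)) (.node 36807 (.leaf 0x2d939) (.node 36808 (.leaf 0x2d939) (.leaf 0x2d939)))) (.node 36811 (.node 36810 (.leaf 0x2d939) (.leaf 0x2d939)) (.node 36812 (.leaf 0x2d939) (.node 36813 (.leaf 0x2d939) (.leaf 0x2d939))))))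

def candS_1819 : Store := (.node 36824 (.node 36819 (.node 36816 (.node 36815 (.leaf 0x2d939) (.leaf 0x2d939)) (.node 36817 (.leaf 0x2d939) (.node 36818 (.leaf 0x2d939) (.leaf 0x2d939)))) (.node 36821 (.node 36820 (.leaf 0x2d939) (.leaf 0x2d939)) (.node 36822 (.leaf 0x2d939) (.node 36823 (.leaf 0x2d939) (.leaf 0x2d939))))) (.node 36829 (.node 36826 (.node 36825 (.leaf 0x2d939) (.leaf 0x2d939)) (.node 36827 (.leaf 0x2d939) (.node 36828 (.leaf 0x2d939) (.leaf 0x2d939)))) (.node 36831 (.node 36830 (.leaf 0x2d939) (.leaf 0x2d939)) (.node 36832 (.leaf 0x2d939) (.node 36833 (.leaf 0x2d939) (.leaf 0x2d939))))))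

def candS_1820 : Store := (.node 36844 (.node 36839 (.node 36836 (.node 36835 (.leaf 0x2d939) (.leaf 0x2d939)) (.node 36837 (.leaf 0x2d939) (.node 36838 (.leaf 0x2d939) (.leaf 0x2d939)))) (.node 36841 (.node 36840 (.leaf 0x2d939) (.leaf 0x2d939)) (.node 36842 (.leaf 0x2d939) (.node 36843 (.leaf 0x2d939) (.leaf 0x2d939))))) (.node 36849 (.node 36846 (.node 36845 (.leaf 0x2d939) (.leaf 0x2d939)) (.node 36847 (.leaf 0x2d939) (.node 36848 (.leaf 0x2d939) (.leaf 0x2d939)))) (.node 36852 (.node 36850 (.leaf 0x2d939) (.node 36851 (.leaf 0x2d939) (.leaf 0x2d939))) (.node 36853 (.leaf 0x2d939) (.node 36854 (.leaf 0x2d939) (.leaf 0x2d939))))))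

def candS_1821 : Store := (.node 36865 (.node 36860 (.node 36857 (.node 36856 (.leaf 0x2d939) (.leaf 0x2d939)) (.node 36858 (.leaf 0x2d939) (.node 36859 (.leaf 0x2d939) (.leaf 0x2d939)))) (.node 36862 (.node 36861 (.leaf 0x2d939) (.leaf 0x2d939)) (.node 36863 (.leaf 0x2d939) (.node 36864 (.leaf 0x2d939) (.leaf 0x2d939))))) (.node 36870 (.node 36867 (.node 36866 (.leaf 0x2d939) (.leaf 0x2d939)) (.node 36868 (.leaf 0x2d939) (.node 36869 (.leaf 0x2d939) (.leaf 0x2d939)))) (.node 36872 (.node 36871 (.leaf 0x2d939) (.leaf 0x2d939)) (.node 36873 (.leaf 0x2d939) (.node 36874 (.leaf 0x2d939) (.leaf 0x2d939))))))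

def candS_1822 : Store := (.node 36885 (.node 36880 (.node 36877 (.node 36876 (.leaf 0x2d939) (.leaf 0x2d939)) (.node 36878 (.leaf 0x2d939) (.node 36879 (.leaf 0x2d939) (.leaf 0x2d939)))) (.node 36882 (.node 36881 (.leaf 0x2d939) (.leaf 0x2d939)) (.node 36883 (.leaf 0x2d939) (.node 36884 (.leaf 0x2d939) (.leaf 0x2d939))))) (.node 36890 (.node 36887 (.node 36886 (.leaf 0x2d939) (.leaf 0x2d939)) (.node 36888 (.leaf 0x2d939) (.node 36889 (.leaf 0x2d939) (.leaf 0x2d939)))) (.node 36892 (.node 36891 (.leaf 0x2d939) (.leaf 0x2d939)) (.node 36893 (.leaf 0x2d939) (.node 36894 (.leaf 0x2d939) (.leaf 0x2d939))))))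

def candS_1823 : Store := (.node 36905 (.node 36900 (.node 36897 (.node 36896 (.leaf 0x2d939) (.leaf 0x2d939)) (.node 36898 (.leaf 0x2d939) (.node 36899 (.leaf 0x2d939) (.leaf 0x2d939)))) (.node 36902 (.node 36901 (.leaf 0x2d939) (.leaf 0x2d939)) (.node 36903 (.leaf 0x2d939) (.node 36904 (.leaf 0x2d939) (.leaf 0x2d939))))) (.node 36910 (.node 36907 (.node 36906 (.leaf 0x2d939) (.leaf 0x2d939)) (.node 36908 (.leaf 0x2d939) (.node 36909 (.leaf 0x2d939) (.leaf 0x2d939)))) (.node 36912 (.node 36911 (.leaf 0x2d939) (.leaf 0x2d939)) (.node 36913 (.leaf 0x2d939) (.node 36914 (.leaf 0x2d939) (.leaf 0x2d939))))))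

def candS_1824 : Store := (.node 36925 (.node 36920 (.node 36917 (.node 36916 (.leaf 0x2d939) (.leaf 0x2d939)) (.node 36918 (.leaf 0x2d939) (.node 36919 (.leaf 0x2d939) (.leaf 0x2d939)))) (.node 36922 (.node 36921 (.leaf 0x2d939) (.leaf 0x2d939)) (.node 36923 (.leaf 0x2d939) (.node 36924 (.leaf 0x2d939) (.leaf 0x2d939))))) (.node 36930 (.node 36927 (.node 36926 (.leaf 0x2d939) (.leaf 0x2d939)) (.node 36928 (.leaf 0x2d939) (.node 36929 (.leaf 0x2d939) (.leaf 0x2d939)))) (.node 36933 (.node 36931 (.leaf 0x2d939) (.node 36932 (.leaf 0x2d939) (.leaf 0x2d939))) (.node 36934 (.leaf 0x2d939) (.node 36935 (.leaf 0x2d939) (.leaf 0x2d939))))))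

def candS_1825 : Store := (.node 36946 (.node 36941 (.node 36938 (.node 36937 (.leaf 0x2d939) (.leaf 0x2d939)) (.node 36939 (.leaf 0x2d939) (.node 36940 (.leaf 0x2d939) (.leaf 0x2d939)))) (.node 36943 (.node 36942 (.leaf 0x2d939) (.leaf 0x2d939)) (.node 36944 (.leaf 0x2d939) (.node 36945 (.leaf 0x2d939) (.leaf 0x2d939))))) (.node 36951 (.node 36948 (.node 36947 (.leaf 0x2d939) (.leaf 0x2d939)) (.node 36949 (.leaf 0x2d939) (.node 36950 (.leaf 0x2d939) (.leaf 0x2d939)))) (.node 36953 (.node 36952 (.leaf 0x2d939) (.leaf 0x2d939)) (.node 36954 (.leaf 0x2d939) (.node 36955 (.leaf 0x2d939) (.leaf 0x2d939))))))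

def candS_1826 : Store := (.node 36966 (.node 36961 (.node 36958 (.node 36957 (.leaf 0x2d939) (.leaf 0x2d939)) (.node 36959 (.leaf 0x2d939) (.node 36960 (.leaf 0x2d939) (.leaf 0x2d939)))) (.node 36963 (.node 36962 (.leaf 0x2d939) (.leaf 0x2d939)) (.node 36964 (.leaf 0x2d939) (.node 36965 (.leaf 0x2d939) (.leaf 0x2d939))))) (.node 36971 (.node 36968 (.node 36967 (.leaf 0x2d939) (.leaf 0x2d939)) (.node 36969 (.leaf 0x2d939) (.node 36970 (.leaf 0x2d939) (.leaf 0x2d939)))) (.node 36973 (.node 36972 (.leaf 0x2d939) (.leaf 0x2d939)) (.node 36974 (.leaf 0x2d939) (.node 36975 (.leaf 0x2d939) (.leaf 0x2d939))))))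

def candS_1827 : Store := (.node 36986 (.node 36981 (.node 36978 (.node 36977 (.leaf 0x2d939) (.leaf 0x2d939)) (.node 36979 (.leaf 0x2d939) (.node 36980 (.leaf 0x2d939) (.leaf 0x2d939)))) (.node 36983 (.node 36982 (.leaf 0x2d939) (.leaf 0x2d939)) (.node 36984 (.leaf 0x2d939) (.node 36985 (.leaf 0x2d939) (.leaf 0x2d939))))) (.node 36991 (.node 36988 (.node 36987 (.leaf 0x2d939) (.leaf 0x2d939)) (.node 36989 (.leaf 0x2d939) (.node 36990 (.leaf 0x2d939) (.leaf 0x2d939)))) (.node 36993 (.node 36992 (.leaf 0x2d939) (.leaf 0x2d939)) (.node 36994 (.leaf 0x2d939) (.node 36995 (.leaf 0x2d939) (.leaf 0x2d939))))))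

def candS_1828 : Store := (.node 37006 (.node 37001 (.node 36998 (.node 36997 (.leaf 0x2d939) (.leaf 0x2d939)) (.node 36999 (.leaf 0x2d939) (.node 37000 (.leaf 0x2d939) (.leaf 0x2d939)))) (.node 37003 (.node 37002 (.leaf 0x2d939) (.leaf 0x2d939)) (.node 37004 (.leaf 0x2d939) (.node 37005 (.leaf 0x2d939) (.leaf 0x2d939))))) (.node 37011 (.node 37008 (.node 37007 (.leaf 0x2d939) (.leaf 0x2d939)) (.node 37009 (.leaf 0x2d939) (.node 37010 (.leaf 0x2d939) (.leaf 0x2d939)))) (.node 37014 (.node 37012 (.leaf 0x2d939) (.node 37013 (.leaf 0x2d939) (.leaf 0x2d939))) (.node 37015 (.leaf 0x2d939) (.node 37016 (.leaf 0x2d939) (.leaf 0x2d939))))))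

def candS_1829 : Store := (.node 37027 (.node 37022 (.node 37019 (.node 37018 (.leaf 0x2d939) (.leaf 0x2d939)) (.node 37020 (.leaf 0x2d939) (.node 37021 (.leaf 0x2d939) (.leaf 0x2d939)))) (.node 37024 (.node 37023 (.leaf 0x2d939) (.leaf 0x2d939)) (.node 37025 (.leaf 0x2d939) (.node 37026 (.leaf 0x2d939) (.leaf 0x2d939))))) (.node 37032 (.node 37029 (.node 37028 (.leaf 0x2d939) (.leaf 0x2d939)) (.node 37030 (.leaf 0x2d939) (.node 37031 (.leaf 0x2d939) (.leaf 0x2d939)))) (.node 37034 (.node 37033 (.leaf 0x2d939) (.leaf 0x2d939)) (.node 37035 (.leaf 0x2d939) (.node 37036 (.leaf 0x2d939) (.leaf 0x2d939))))))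

def candS_1830 : Store := (.node 37047 (.node 37042 (.node 37039 (.node 37038 (.leaf 0x2d939) (.leaf 0x2d939)) (.node 37040 (.leaf 0x2d939) (.node 37041 (.leaf 0x2d939) (.leaf 0x2d939)))) (.node 37044 (.node 37043 (.leaf 0x2d939) (.leaf 0x2d939)) (.node 37045 (.leaf 0x2d939) (.node 37046 (.leaf 0x2d939) (.leaf 0x2d939))))) (.node 37052 (.node 37049 (.node 37048 (.leaf 0x2d939) (.leaf 0x2d939)) (.node 37050 (.leaf 0x2d939) (.node 37051 (.leaf 0x2d939) (.leaf 0x2d939)))) (.node 37054 (.node 37053 (.leaf 0x2d939) (.leaf 0x2d939)) (.node 37055 (.leaf 0x2d939) (.node 37056 (.leaf 0x2d939) (.leaf 0x2d939))))))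

def candS_1831 : Store := (.node 37067 (.node 37062 (.node 37059 (.node 37058 (.leaf 0x2d939) (.leaf 0x2d939)) (.node 37060 (.leaf 0x2d939) (.node 37061 (.leaf 0x2d939) (.leaf 0x2d939)))) (.node 37064 (.node 37063 (.leaf 0x2d939) (.leaf 0x2d939)) (.node 37065 (.leaf 0x2d939) (.node 37066 (.leaf 0x2d939) (.leaf 0x2d939))))) (.node 37072 (.node 37069 (.node 37068 (.leaf 0x2d939) (.leaf 0x2d939)) (.node 37070 (.leaf 0x2d939) (.node 37071 (.leaf 0x2d939) (.leaf 0x2d939)))) (.node 37074 (.node 37073 (.leaf 0x2d939) (.leaf 0x2d939)) (.node 37075 (.leaf 0x2d939) (.node 37076 (.leaf 0x2d939) (.leaf 0x2d939))))))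

def candS_1832 : Store := (.node 37087 (.node 37082 (.node 37079 (.node 37078 (.leaf 0x2d939) (.leaf 0x2d939)) (.node 37080 (.leaf 0x2d939) (.node 37081 (.leaf 0x2d939) (.leaf 0x2d939)))) (.node 37084 (.node 37083 (.leaf 0x2d939) (.leaf 0x2d939)) (.node 37085 (.leaf 0x2d939) (.node 37086 (.leaf 0x2d939) (.leaf 0x2d939))))) (.node 37092 (.node 37089 (.node 37088 (.leaf 0x2d939) (.leaf 0x2d939)) (.node 37090 (.leaf 0x2d939) (.node 37091 (.leaf 0x2d939) (.leaf 0x2d939)))) (.node 37095 (.node 37093 (.leaf 0x2d939) (.node 37094 (.leaf 0x2d939) (.leaf 0x2d939))) (.node 37096 (.leaf 0x2d939) (.node 37097 (.leaf 0x2d939) (.leaf 0x2d939))))))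

def candS_1833 : Store := (.node 37108 (.node 37103 (.node 37100 (.node 37099 (.leaf 0x2d939) (.leaf 0x2d939)) (.node 37101 (.leaf 0x2d939) (.node 37102 (.leaf 0x2d939) (.leaf 0x2d939)))) (.node 37105 (.node 37104 (.leaf 0x2d939) (.leaf 0x2d939)) (.node 37106 (.leaf 0x2d939) (.node 37107 (.leaf 0x2d939) (.leaf 0x2d939))))) (.node 37113 (.node 37110 (.node 37109 (.leaf 0x2d939) (.leaf 0x2d939)) (.node 37111 (.leaf 0x2d939) (.node 37112 (.leaf 0x2d939) (.leaf 0x2d939)))) (.node 37115 (.node 37114 (.leaf 0x2d939) (.leaf 0x2d939)) (.node 37116 (.leaf 0x2d939) (.node 37117 (.leaf 0x2d939) (.leaf 0x2d939))))))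

def candS_1834 : Store := (.node 37128 (.node 37123 (.node 37120 (.node 37119 (.leaf 0x2d939) (.leaf 0x2d939)) (.node 37121 (.leaf 0x2d939) (.node 37122 (.leaf 0x2d939) (.leaf 0x2d939)))) (.node 37125 (.node 37124 (.leaf 0x2d939) (.leaf 0x2d939)) (.node 37126 (.leaf 0x2d939) (.node 37127 (.leaf 0x2d939) (.leaf 0x2d939))))) (.node 37133 (.node 37130 (.node 37129 (.leaf 0x2d939) (.leaf 0x2d939)) (.node 37131 (.leaf 0x2d939) (.node 37132 (.leaf 0x2d939) (.leaf 0x2d939)))) (.node 37135 (.node 37134 (.leaf 0x2d939) (.leaf 0x2d939)) (.node 37136 (.leaf 0x2d939) (.node 37137 (.leaf 0x2d939) (.leaf 0x2d939))))))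

def candS_1835 : Store := (.node 37148 (.node 37143 (.node 37140 (.node 37139 (.leaf 0x2d939) (.leaf 0x2d939)) (.node 37141 (.leaf 0x2d939) (.node 37142 (.leaf 0x2d939) (.leaf 0x2d939)))) (.node 37145 (.node 37144 (.leaf 0x2d939) (.leaf 0x2d939)) (.node 37146 (.leaf 0x2d939) (.node 37147 (.leaf 0x2d939) (.leaf 0x2d939))))) (.node 37153 (.node 37150 (.node 37149 (.leaf 0x2d939) (.leaf 0x2d939)) (.node 37151 (.leaf 0x2d939) (.node 37152 (.leaf 0x2d939) (.leaf 0x2d939)))) (.node 37155 (.node 37154 (.leaf 0x2d939) (.leaf 0x2d939)) (.node 37156 (.leaf 0x2d939) (.node 37157 (.leaf 0x2d939) (.leaf 0x2d939))))))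

def candS_1836 : Store := (.node 37168 (.node 37163 (.node 37160 (.node 37159 (.leaf 0x2d939) (.leaf 0x2d939)) (.node 37161 (.leaf 0x2d939) (.node 37162 (.leaf 0x2d939) (.leaf 0x2d939)))) (.node 37165 (.node 37164 (.leaf 0x2d939) (.leaf 0x2d939)) (.node 37166 (.leaf 0x2d939) (.node 37167 (.leaf 0x2d939) (.leaf 0x2d939))))) (.node 37173 (.node 37170 (.node 37169 (.leaf 0x2d939) (.leaf 0x2d939)) (.node 37171 (.leaf 0x2d939) (.node 37172 (.leaf 0x2d939) (.leaf 0x2d939)))) (.node 37176 (.node 37174 (.leaf 0x2d939) (.node 37175 (.leaf 0x2d939) (.leaf 0x2d939))) (.node 37177 (.leaf 0x2d939) (.node 37178 (.leaf 0x2d939) (.leaf 0x2d939))))))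

def candS_1837 : Store := (.node 37189 (.node 37184 (.node 37181 (.node 37180 (.leaf 0x2d939) (.leaf 0x2d939)) (.node 37182 (.leaf 0x2d939) (.node 37183 (.leaf 0x2d939) (.leaf 0x2d939)))) (.node 37186 (.node 37185 (.leaf 0x2d939) (.leaf 0x2d939)) (.node 37187 (.leaf 0x2d939) (.node 37188 (.leaf 0x2d939) (.leaf 0x2d939))))) (.node 37194 (.node 37191 (.node 37190 (.leaf 0x2d939) (.leaf 0x2d939)) (.node 37192 (.leaf 0x2d939) (.node 37193 (.leaf 0x2d939) (.leaf 0x2d939)))) (.node 37196 (.node 37195 (.leaf 0x2d939) (.leaf 0x2d939)) (.node 37197 (.leaf 0x2d939) (.node 37198 (.leaf 0x2d939) (.leaf 0x2d939))))))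

def candS_1838 : Store := (.node 37209 (.node 37204 (.node 37201 (.node 37200 (.leaf 0x2d939) (.leaf 0x2d939)) (.node 37202 (.leaf 0x2d939) (.node 37203 (.leaf 0x2d939) (.leaf 0x2d939)))) (.node 37206 (.node 37205 (.leaf 0x2d939) (.leaf 0x2d939)) (.node 37207 (.leaf 0x2d939) (.node 37208 (.leaf 0x2d939) (.leaf 0x2d939))))) (.node 37214 (.node 37211 (.node 37210 (.leaf 0x2d939) (.leaf 0x2d939)) (.node 37212 (.leaf 0x2d939) (.node 37213 (.leaf 0x2d939) (.leaf 0x2d939)))) (.node 37216 (.node 37215 (.leaf 0x2d939) (.leaf 0x2d939)) (.node 37217 (.leaf 0x2d939) (.node 37218 (.leaf 0x2d939) (.leaf 0x2d939))))))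

def candS_1839 : Store := (.node 37229 (.node 37224 (.node 37221 (.node 37220 (.leaf 0x2d939) (.leaf 0x2d939)) (.node 37222 (.leaf 0x2d939) (.node 37223 (.leaf 0x2d939) (.leaf 0x2d939)))) (.node 37226 (.node 37225 (.leaf 0x2d939) (.leaf 0x2d939)) (.node 37227 (.leaf 0x2d939) (.node 37228 (.leaf 0x2d939) (.leaf 0x2d939))))) (.node 37234 (.node 37231 (.node 37230 (.leaf 0x2d939) (.leaf 0x2d939)) (.node 37232 (.leaf 0x2d939) (.node 37233 (.leaf 0x2d939) (.leaf 0x2d939)))) (.node 37236 (.node 37235 (.leaf 0x2d939) (.leaf 0x2d939)) (.node 37237 (.leaf 0x2d939) (.node 37238 (.leaf 0x2d939) (.leaf 0x2d939))))))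

def candS_1840 : Store := (.node 37249 (.node 37244 (.node 37241 (.node 37240 (.leaf 0x2d939) (.leaf 0x2d939)) (.node 37242 (.leaf 0x2d939) (.node 37243 (.leaf 0x2d939) (.leaf 0x2d939)))) (.node 37246 (.node 37245 (.leaf 0x2d939) (.leaf 0x2d939)) (.node 37247 (.leaf 0x2d939) (.node 37248 (.leaf 0x2d939) (.leaf 0x2d939))))) (.node 37254 (.node 37251 (.node 37250 (.leaf 0x2d939) (.leaf 0x2d939)) (.node 37252 (.leaf 0x2d939) (.node 37253 (.leaf 0x2d939) (.leaf 0x2d939)))) (.node 37257 (.node 37255 (.leaf 0x2d939) (.node 37256 (.leaf 0x2d939) (.leaf 0x2d939))) (.node 37258 (.leaf 0x2d939) (.node 37259 (.leaf 0x2d939) (.leaf 0x2d939))))))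

def candS_1841 : Store := (.node 37270 (.node 37265 (.node 37262 (.node 37261 (.leaf 0x2d939) (.leaf 0x2d939)) (.node 37263 (.leaf 0x2d939) (.node 37264 (.leaf 0x2d939) (.leaf 0x2d939)))) (.node 37267 (.node 37266 (.leaf 0x2d939) (.leaf 0x2d939)) (.node 37268 (.leaf 0x2d939) (.node 37269 (.leaf 0x2d939) (.leaf 0x2d939))))) (.node 37275 (.node 37272 (.node 37271 (.leaf 0x2d939) (.leaf 0x2d939)) (.node 37273 (.leaf 0x2d939) (.node 37274 (.leaf 0x2d939) (.leaf 0x2d939)))) (.node 37277 (.node 37276 (.leaf 0x2d939) (.leaf 0x2d939)) (.node 37278 (.leaf 0x2d939) (.node 37279 (.leaf 0x2d939) (.leaf 0x2d939))))))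

def candS_1842 : Store := (.node 37290 (.node 37285 (.node 37282 (.node 37281 (.leaf 0x2d939) (.leaf 0x2d939)) (.node 37283 (.leaf 0x2d939) (.node 37284 (.leaf 0x2d939) (.leaf 0x2d939)))) (.node 37287 (.node 37286 (.leaf 0x2d939) (.leaf 0x2d939)) (.node 37288 (.leaf 0x2d939) (.node 37289 (.leaf 0x2d939) (.leaf 0x2d939))))) (.node 37295 (.node 37292 (.node 37291 (.leaf 0x2d939) (.leaf 0x2d939)) (.node 37293 (.leaf 0x2d939) (.node 37294 (.leaf 0x2d939) (.leaf 0x2d939)))) (.node 37297 (.node 37296 (.leaf 0x2d939) (.leaf 0x2d939)) (.node 37298 (.leaf 0x2d939) (.node 37299 (.leaf 0x2d939) (.leaf 0x2d939))))))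

def candS_1843 : Store := (.node 37310 (.node 37305 (.node 37302 (.node 37301 (.leaf 0x2d939) (.leaf 0x2d939)) (.node 37303 (.leaf 0x2d939) (.node 37304 (.leaf 0x2d939) (.leaf 0x2d939)))) (.node 37307 (.node 37306 (.leaf 0x2d939) (.leaf 0x2d939)) (.node 37308 (.leaf 0x2d939) (.node 37309 (.leaf 0x2d939) (.leaf 0x2d939))))) (.node 37315 (.node 37312 (.node 37311 (.leaf 0x2d939) (.leaf 0x2d939)) (.node 37313 (.leaf 0x2d939) (.node 37314 (.leaf 0x2d939) (.leaf 0x2d939)))) (.node 37317 (.node 37316 (.leaf 0x2d939) (.leaf 0x2d939)) (.node 37318 (.leaf 0x2d939) (.node 37319 (.leaf 0x2d939) (.leaf 0x2d939))))))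

def candS_1844 : Store := (.node 37330 (.node 37325 (.node 37322 (.node 37321 (.leaf 0x2d939) (.leaf 0x2d939)) (.node 37323 (.leaf 0x2d939) (.node 37324 (.leaf 0x2d939) (.leaf 0x2d939)))) (.node 37327 (.node 37326 (.leaf 0x2d939) (.leaf 0x2d939)) (.node 37328 (.leaf 0x2d939) (.node 37329 (.leaf 0x2d939) (.leaf 0x2d939))))) (.node 37335 (.node 37332 (.node 37331 (.leaf 0x2d939) (.leaf 0x2d939)) (.node 37333 (.leaf 0x2d939) (.node 37334 (.leaf 0x2d939) (.leaf 0x2d939)))) (.node 37338 (.node 37336 (.leaf 0x2d939) (.node 37337 (.leaf 0x2d939) (.leaf 0x2d939))) (.node 37339 (.leaf 0x2d939) (.node 37340 (.leaf 0x2d939) (.leaf 0x2d939))))))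

def candS_1845 : Store := (.node 37351 (.node 37346 (.node 37343 (.node 37342 (.leaf 0x2d939) (.leaf 0x2d939)) (.node 37344 (.leaf 0x2d939) (.node 37345 (.leaf 0x2d939) (.leaf 0x2d939)))) (.node 37348 (.node 37347 (.leaf 0x2d939) (.leaf 0x2d939)) (.node 37349 (.leaf 0x2d939) (.node 37350 (.leaf 0x2d939) (.leaf 0x2d939))))) (.node 37356 (.node 37353 (.node 37352 (.leaf 0x2d939) (.leaf 0x2d939)) (.node 37354 (.leaf 0x2d939) (.node 37355 (.leaf 0x2d939) (.leaf 0x2d939)))) (.node 37358 (.node 37357 (.leaf 0x2d939) (.leaf 0x2d939)) (.node 37359 (.leaf 0x2d939) (.node 37360 (.leaf 0x2d939) (.leaf 0x2d939))))))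

def candS_1846 : Store := (.node 37371 (.node 37366 (.node 37363 (.node 37362 (.leaf 0x2d939) (.leaf 0x2d939)) (.node 37364 (.leaf 0x2d939) (.node 37365 (.leaf 0x2d939) (.leaf 0x2d939)))) (.node 37368 (.node 37367 (.leaf 0x2d939) (.leaf 0x2d939)) (.node 37369 (.leaf 0x2d939) (.node 37370 (.leaf 0x2d939) (.leaf 0x2d939))))) (.node 37376 (.node 37373 (.node 37372 (.leaf 0x2d939) (.leaf 0x2d939)) (.node 37374 (.leaf 0x2d939) (.node 37375 (.leaf 0x2d939) (.leaf 0x2d939)))) (.node 37378 (.node 37377 (.leaf 0x2d939) (.leaf 0x2d939)) (.node 37379 (.leaf 0x2d939) (.node 37380 (.leaf 0x2d939) (.leaf 0x2d939))))))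

def candS_1847 : Store := (.node 37391 (.node 37386 (.node 37383 (.node 37382 (.leaf 0x2d939) (.leaf 0x2d939)) (.node 37384 (.leaf 0x2d939) (.node 37385 (.leaf 0x2d939) (.leaf 0x2d939)))) (.node 37388 (.node 37387 (.leaf 0x2d939) (.leaf 0x2d939)) (.node 37389 (.leaf 0x2d939) (.node 37390 (.leaf 0x2d939) (.leaf 0x2d939))))) (.node 37396 (.node 37393 (.node 37392 (.leaf 0x2d939) (.leaf 0x2d939)) (.node 37394 (.leaf 0x2d939) (.node 37395 (.leaf 0x2d939) (.leaf 0x2d939)))) (.node 37398 (.node 37397 (.leaf 0x2d939) (.leaf 0x2d939)) (.node 37399 (.leaf 0x2d939) (.node 37400 (.leaf 0x2d939) (.leaf 0x2d939))))))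

def candS_1848 : Store := (.node 37411 (.node 37406 (.node 37403 (.node 37402 (.leaf 0x2d939) (.leaf 0x2d939)) (.node 37404 (.leaf 0x2d939) (.node 37405 (.leaf 0x2d939) (.leaf 0x2d939)))) (.node 37408 (.node 37407 (.leaf 0x2d939) (.leaf 0x2d939)) (.node 37409 (.leaf 0x2d939) (.node 37410 (.leaf 0x2d939) (.leaf 0x2d939))))) (.node 37416 (.node 37413 (.node 37412 (.leaf 0x2d939) (.leaf 0x2d939)) (.node 37414 (.leaf 0x2d939) (.node 37415 (.leaf 0x2d939) (.leaf 0x2d939)))) (.node 37419 (.node 37417 (.leaf 0x2d939) (.node 37418 (.leaf 0x2d939) (.leaf 0x2d939))) (.node 37420 (.leaf 0x2d939) (.node 37421 (.leaf 0x2d939) (.leaf 0x2d939))))))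

def candS_1849 : Store := (.node 37432 (.node 37427 (.node 37424 (.node 37423 (.leaf 0x2d939) (.leaf 0x2d939)) (.node 37425 (.leaf 0x2d939) (.node 37426 (.leaf 0x2d939) (.leaf 0x2d939)))) (.node 37429 (.node 37428 (.leaf 0x2d939) (.leaf 0x2d939)) (.node 37430 (.leaf 0x2d939) (.node 37431 (.leaf 0x2d939) (.leaf 0x2d939))))) (.node 37437 (.node 37434 (.node 37433 (.leaf 0x2d939) (.leaf 0x2d939)) (.node 37435 (.leaf 0x2d939) (.node 37436 (.leaf 0x2d939) (.leaf 0x2d939)))) (.node 37439 (.node 37438 (.leaf 0x2d939) (.leaf 0x2d939)) (.node 37440 (.leaf 0x2d939) (.node 37441 (.leaf 0x2d939) (.leaf 0x2d939))))))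

def candS_1850 : Store := (.node 37452 (.node 37447 (.node 37444 (.node 37443 (.leaf 0x2d939) (.leaf 0x2d939)) (.node 37445 (.leaf 0x2d939) (.node 37446 (.leaf 0x2d939) (.leaf 0x2d939)))) (.node 37449 (.node 37448 (.leaf 0x2d939) (.leaf 0x2d939)) (.node 37450 (.leaf 0x2d939) (.node 37451 (.leaf 0x2d939) (.leaf 0x2d939))))) (.node 37457 (.node 37454 (.node 37453 (.leaf 0x2d939) (.leaf 0x2d939)) (.node 37455 (.leaf 0x2d939) (.node 37456 (.leaf 0x2d939) (.leaf 0x2d939)))) (.node 37459 (.node 37458 (.leaf 0x2d939) (.leaf 0x2d939)) (.node 37460 (.leaf 0x2d939) (.node 37461 (.leaf 0x2d939) (.leaf 0x2d939))))))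

def candS_1851 : Store := (.node 37472 (.node 37467 (.node 37464 (.node 37463 (.leaf 0x2d939) (.leaf 0x2d939)) (.node 37465 (.leaf 0x2d939) (.node 37466 (.leaf 0x2d939) (.leaf 0x2d939)))) (.node 37469 (.node 37468 (.leaf 0x2d939) (.leaf 0x2d939)) (.node 37470 (.leaf 0x2d939) (.node 37471 (.leaf 0x2d939) (.leaf 0x2d939))))) (.node 37477 (.node 37474 (.node 37473 (.leaf 0x2d939) (.leaf 0x2d939)) (.node 37475 (.leaf 0x2d939) (.node 37476 (.leaf 0x2d939) (.leaf 0x2d939)))) (.node 37479 (.node 37478 (.leaf 0x2d939) (.leaf 0x2d939)) (.node 37480 (.leaf 0x2d939) (.node 37481 (.leaf 0x2d939) (.leaf 0x2d939))))))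

def candS_1852 : Store := (.node 37492 (.node 37487 (.node 37484 (.node 37483 (.leaf 0x2d939) (.leaf 0x2d939)) (.node 37485 (.leaf 0x2d939) (.node 37486 (.leaf 0x2d939) (.leaf 0x2d939)))) (.node 37489 (.node 37488 (.leaf 0x2d939) (.leaf 0x2d939)) (.node 37490 (.leaf 0x2d939) (.node 37491 (.leaf 0x2d939) (.leaf 0x2d939))))) (.node 37497 (.node 37494 (.node 37493 (.leaf 0x2d939) (.leaf 0x2d939)) (.node 37495 (.leaf 0x2d939) (.node 37496 (.leaf 0x2d939) (.leaf 0x2d939)))) (.node 37500 (.node 37498 (.leaf 0x2d939) (.node 37499 (.leaf 0x2d939) (.leaf 0x2d939))) (.node 37501 (.leaf 0x2d939) (.node 37502 (.leaf 0x2d939) (.leaf 0x2d939))))))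

def candS_1853 : Store := (.node 37513 (.node 37508 (.node 37505 (.node 37504 (.leaf 0x2d939) (.leaf 0x2d939)) (.node 37506 (.leaf 0x2d939) (.node 37507 (.leaf 0x2d939) (.leaf 0x2d939)))) (.node 37510 (.node 37509 (.leaf 0x2d939) (.leaf 0x2d939)) (.node 37511 (.leaf 0x2d939) (.node 37512 (.leaf 0x2d939) (.leaf 0x2d939))))) (.node 37518 (.node 37515 (.node 37514 (.leaf 0x2d939) (.leaf 0x2d939)) (.node 37516 (.leaf 0x2d939) (.node 37517 (.leaf 0x2d939) (.leaf 0x2d939)))) (.node 37520 (.node 37519 (.leaf 0x2d939) (.leaf 0x2d939)) (.node 37521 (.leaf 0x2d939) (.node 37522 (.leaf 0x2d939) (.leaf 0x2d939))))))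

def candS_1854 : Store := (.node 37533 (.node 37528 (.node 37525 (.node 37524 (.leaf 0x2d939) (.leaf 0x2d939)) (.node 37526 (.leaf 0x2d939) (.node 37527 (.leaf 0x2d939) (.leaf 0x2d939)))) (.node 37530 (.node 37529 (.leaf 0x2d939) (.leaf 0x2d939)) (.node 37531 (.leaf 0x2d939) (.node 37532 (.leaf 0x2d939) (.leaf 0x2d939))))) (.node 37538 (.node 37535 (.node 37534 (.leaf 0x2d939) (.leaf 0x2d939)) (.node 37536 (.leaf 0x2d939) (.node 37537 (.leaf 0x2d939) (.leaf 0x2d939)))) (.node 37540 (.node 37539 (.leaf 0x2d939) (.leaf 0x2d939)) (.node 37541 (.leaf 0x2d939) (.node 37542 (.leaf 0x2d939) (.leaf 0x2d939))))))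

def candS_1855 : Store := (.node 37553 (.node 37548 (.node 37545 (.node 37544 (.leaf 0x2d939) (.leaf 0x2d939)) (.node 37546 (.leaf 0x2d939) (.node 37547 (.leaf 0x2d939) (.leaf 0x2d939)))) (.node 37550 (.node 37549 (.leaf 0x2d939) (.leaf 0x2d939)) (.node 37551 (.leaf 0x2d939) (.node 37552 (.leaf 0x2d939) (.leaf 0x2d939))))) (.node 37558 (.node 37555 (.node 37554 (.leaf 0x2d939) (.leaf 0x2d939)) (.node 37556 (.leaf 0x2d939) (.node 37557 (.leaf 0x2d939) (.leaf 0x2d939)))) (.node 37560 (.node 37559 (.leaf 0x2d939) (.leaf 0x2d939)) (.node 37561 (.leaf 0x2d939) (.node 37562 (.leaf 0x2d939) (.leaf 0x2d939))))))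

def candS_1856 : Store := (.node 37573 (.node 37568 (.node 37565 (.node 37564 (.leaf 0x2d939) (.leaf 0x2d939)) (.node 37566 (.leaf 0x2d939) (.node 37567 (.leaf 0x2d939) (.leaf 0x2d939)))) (.node 37570 (.node 37569 (.leaf 0x2d939) (.leaf 0x2d939)) (.node 37571 (.leaf 0x2d939) (.node 37572 (.leaf 0x2d939) (.leaf 0x2d939))))) (.node 37578 (.node 37575 (.node 37574 (.leaf 0x2d939) (.leaf 0x2d939)) (.node 37576 (.leaf 0x2d939) (.node 37577 (.leaf 0x2d939) (.leaf 0x2d939)))) (.node 37581 (.node 37579 (.leaf 0x2d939) (.node 37580 (.leaf 0x2d939) (.leaf 0x2d939))) (.node 37582 (.leaf 0x2d939) (.node 37583 (.leaf 0x2d939) (.leaf 0x2d939))))))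

def candS_1857 : Store := (.node 37594 (.node 37589 (.node 37586 (.node 37585 (.leaf 0x2d939) (.leaf 0x2d939)) (.node 37587 (.leaf 0x2d939) (.node 37588 (.leaf 0x2d939) (.leaf 0x2d939)))) (.node 37591 (.node 37590 (.leaf 0x2d939) (.leaf 0x2d939)) (.node 37592 (.leaf 0x2d939) (.node 37593 (.leaf 0x2d939) (.leaf 0x2d939))))) (.node 37599 (.node 37596 (.node 37595 (.leaf 0x2d939) (.leaf 0x2d939)) (.node 37597 (.leaf 0x2d939) (.node 37598 (.leaf 0x2d939) (.leaf 0x2d939)))) (.node 37601 (.node 37600 (.leaf 0x2d939) (.leaf 0x2d939)) (.node 37602 (.leaf 0x2d939) (.node 37603 (.leaf 0x2d939) (.leaf 0x2d939))))))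

def candS_1858 : Store := (.node 37614 (.node 37609 (.node 37606 (.node 37605 (.leaf 0x2d939) (.leaf 0x2d939)) (.node 37607 (.leaf 0x2d939) (.node 37608 (.leaf 0x2d939) (.leaf 0x2d939)))) (.node 37611 (.node 37610 (.leaf 0x2d939) (.leaf 0x2d939)) (.node 37612 (.leaf 0x2d939) (.node 37613 (.leaf 0x2d939) (.leaf 0x2d939))))) (.node 37619 (.node 37616 (.node 37615 (.leaf 0x2d939) (.leaf 0x2d939)) (.node 37617 (.leaf 0x2d939) (.node 37618 (.leaf 0x2d939) (.leaf 0x2d939)))) (.node 37621 (.node 37620 (.leaf 0x2d939) (.leaf 0x2d939)) (.node 37622 (.leaf 0x2d939) (.node 37623 (.leaf 0x2d939) (.leaf 0x2d939))))))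

def candS_1859 : Store := (.node 37634 (.node 37629 (.node 37626 (.node 37625 (.leaf 0x2d939) (.leaf 0x2d939)) (.node 37627 (.leaf 0x2d939) (.node 37628 (.leaf 0x2d939) (.leaf 0x2d939)))) (.node 37631 (.node 37630 (.leaf 0x2d939) (.leaf 0x2d939)) (.node 37632 (.leaf 0x2d939) (.node 37633 (.leaf 0x2d939) (.leaf 0x2d939))))) (.node 37639 (.node 37636 (.node 37635 (.leaf 0x2d939) (.leaf 0x2d939)) (.node 37637 (.leaf 0x2d939) (.node 37638 (.leaf 0x2d939) (.leaf 0x2d939)))) (.node 37641 (.node 37640 (.leaf 0x2d939) (.leaf 0x2d939)) (.node 37642 (.leaf 0x2d939) (.node 37643 (.leaf 0x2d939) (.leaf 0x2d939))))))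

def candS_1860 : Store := (.node 37654 (.node 37649 (.node 37646 (.node 37645 (.leaf 0x2d939) (.leaf 0x2d939)) (.node 37647 (.leaf 0x2d939) (.node 37648 (.leaf 0x2d939) (.leaf 0x2d939)))) (.node 37651 (.node 37650 (.leaf 0x2d939) (.leaf 0x2d939)) (.node 37652 (.leaf 0x2d939) (.node 37653 (.leaf 0x2d939) (.leaf 0x2d939))))) (.node 37659 (.node 37656 (.node 37655 (.leaf 0x2d939) (.leaf 0x2d939)) (.node 37657 (.leaf 0x2d939) (.node 37658 (.leaf 0x2d939) (.leaf 0x2d939)))) (.node 37662 (.node 37660 (.leaf 0x2d939) (.node 37661 (.leaf 0x2d939) (.leaf 0x2d939))) (.node 37663 (.leaf 0x2d939) (.node 37664 (.leaf 0x2d939) (.leaf 0x2d939))))))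

def candS_1861 : Store := (.node 37675 (.node 37670 (.node 37667 (.node 37666 (.leaf 0x2d939) (.leaf 0x2d939)) (.node 37668 (.leaf 0x2d939) (.node 37669 (.leaf 0x2d939) (.leaf 0x2d939)))) (.node 37672 (.node 37671 (.leaf 0x2d939) (.leaf 0x2d939)) (.node 37673 (.leaf 0x2d939) (.node 37674 (.leaf 0x2d939) (.leaf 0x2d939))))) (.node 37680 (.node 37677 (.node 37676 (.leaf 0x2d939) (.leaf 0x2d939)) (.node 37678 (.leaf 0x2d939) (.node 37679 (.leaf 0x2d939) (.leaf 0x2d939)))) (.node 37682 (.node 37681 (.leaf 0x2d939) (.leaf 0x2d939)) (.node 37683 (.leaf 0x2d939) (.node 37684 (.leaf 0x2d939) (.leaf 0x2d939))))))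

def candS_1862 : Store := (.node 37695 (.node 37690 (.node 37687 (.node 37686 (.leaf 0x2d939) (.leaf 0x2d939)) (.node 37688 (.leaf 0x2d939) (.node 37689 (.leaf 0x2d939) (.leaf 0x2d939)))) (.node 37692 (.node 37691 (.leaf 0x2d939) (.leaf 0x2d939)) (.node 37693 (.leaf 0x2d939) (.node 37694 (.leaf 0x2d939) (.leaf 0x2d939))))) (.node 37700 (.node 37697 (.node 37696 (.leaf 0x2d939) (.leaf 0x2d939)) (.node 37698 (.leaf 0x2d939) (.node 37699 (.leaf 0x2d939) (.leaf 0x2d939)))) (.node 37702 (.node 37701 (.leaf 0x2d939) (.leaf 0x2d939)) (.node 37703 (.leaf 0x2d939) (.node 37704 (.leaf 0x2d939) (.leaf 0x2d939))))))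

def candS_1863 : Store := (.node 37715 (.node 37710 (.node 37707 (.node 37706 (.leaf 0x2d939) (.leaf 0x2d939)) (.node 37708 (.leaf 0x2d939) (.node 37709 (.leaf 0x2d939) (.leaf 0x2d939)))) (.node 37712 (.node 37711 (.leaf 0x2d939) (.leaf 0x2d939)) (.node 37713 (.leaf 0x2d939) (.node 37714 (.leaf 0x2d939) (.leaf 0x2d939))))) (.node 37720 (.node 37717 (.node 37716 (.leaf 0x2d939) (.leaf 0x2d939)) (.node 37718 (.leaf 0x2d939) (.node 37719 (.leaf 0x2d939) (.leaf 0x2d939)))) (.node 37722 (.node 37721 (.leaf 0x2d939) (.leaf 0x2d939)) (.node 37723 (.leaf 0x2d939) (.node 37724 (.leaf 0x2d939) (.leaf 0x2d939))))))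

def candS_1864 : Store := (.node 37735 (.node 37730 (.node 37727 (.node 37726 (.leaf 0x2d939) (.leaf 0x2d939)) (.node 37728 (.leaf 0x2d939) (.node 37729 (.leaf 0x2d939) (.leaf 0x2d939)))) (.node 37732 (.node 37731 (.leaf 0x2d939) (.leaf 0x2d939)) (.node 37733 (.leaf 0x2d939) (.node 37734 (.leaf 0x2d939) (.leaf 0x2d939))))) (.node 37740 (.node 37737 (.node 37736 (.leaf 0x2d939) (.leaf 0x2d939)) (.node 37738 (.leaf 0x2d939) (.node 37739 (.leaf 0x2d939) (.leaf 0x2d939)))) (.node 37743 (.node 37741 (.leaf 0x2d939) (.node 37742 (.leaf 0x2d939) (.leaf 0x2d939))) (.node 37744 (.leaf 0x2d939) (.node 37745 (.leaf 0x2d939) (.leaf 0x2d939))))))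

def candS_1865 : Store := (.node 37756 (.node 37751 (.node 37748 (.node 37747 (.leaf 0x2d939) (.leaf 0x2d939)) (.node 37749 (.leaf 0x2d939) (.node 37750 (.leaf 0x2d939) (.leaf 0x2d939)))) (.node 37753 (.node 37752 (.leaf 0x2d939) (.leaf 0x2d939)) (.node 37754 (.leaf 0x2d939) (.node 37755 (.leaf 0x2d939) (.leaf 0x2d939))))) (.node 37761 (.node 37758 (.node 37757 (.leaf 0x2d939) (.leaf 0x2d939)) (.node 37759 (.leaf 0x2d939) (.node 37760 (.leaf 0x2d939) (.leaf 0x2d939)))) (.node 37763 (.node 37762 (.leaf 0x2d939) (.leaf 0x2d939)) (.node 37764 (.leaf 0x2d939) (.node 37765 (.leaf 0x2d939) (.leaf 0x2d939))))))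

def candS_1866 : Store := (.node 37776 (.node 37771 (.node 37768 (.node 37767 (.leaf 0x2d939) (.leaf 0x2d939)) (.node 37769 (.leaf 0x2d939) (.node 37770 (.leaf 0x2d939) (.leaf 0x2d939)))) (.node 37773 (.node 37772 (.leaf 0x2d939) (.leaf 0x2d939)) (.node 37774 (.leaf 0x2d939) (.node 37775 (.leaf 0x2d939) (.leaf 0x2d939))))) (.node 37781 (.node 37778 (.node 37777 (.leaf 0x2d939) (.leaf 0x2d939)) (.node 37779 (.leaf 0x2d939) (.node 37780 (.leaf 0x2d939) (.leaf 0x2d939)))) (.node 37783 (.node 37782 (.leaf 0x2d939) (.leaf 0x2d939)) (.node 37784 (.leaf 0x2d939) (.node 37785 (.leaf 0x2d939) (.leaf 0x2d939))))))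

def candS_1867 : Store := (.node 37796 (.node 37791 (.node 37788 (.node 37787 (.leaf 0x2d939) (.leaf 0x2d939)) (.node 37789 (.leaf 0x2d939) (.node 37790 (.leaf 0x2d939) (.leaf 0x2d939)))) (.node 37793 (.node 37792 (.leaf 0x2d939) (.leaf 0x2d939)) (.node 37794 (.leaf 0x2d939) (.node 37795 (.leaf 0x2d939) (.leaf 0x2d939))))) (.node 37801 (.node 37798 (.node 37797 (.leaf 0x2d939) (.leaf 0x2d939)) (.node 37799 (.leaf 0x2d939) (.node 37800 (.leaf 0x2d939) (.leaf 0x2d939)))) (.node 37803 (.node 37802 (.leaf 0x2d939) (.leaf 0x2d939)) (.node 37804 (.leaf 0x2d939) (.node 37805 (.leaf 0x2d939) (.leaf 0x2d939))))))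

def candS_1868 : Store := (.node 37816 (.node 37811 (.node 37808 (.node 37807 (.leaf 0x2d939) (.leaf 0x2d939)) (.node 37809 (.leaf 0x2d939) (.node 37810 (.leaf 0x2d939) (.leaf 0x2d939)))) (.node 37813 (.node 37812 (.leaf 0x2d939) (.leaf 0x2d939)) (.node 37814 (.leaf 0x2d939) (.node 37815 (.leaf 0x2d939) (.leaf 0x2d939))))) (.node 37821 (.node 37818 (.node 37817 (.leaf 0x2d939) (.leaf 0x2d939)) (.node 37819 (.leaf 0x2d939) (.node 37820 (.leaf 0x2d939) (.leaf 0x2d939)))) (.node 37824 (.node 37822 (.leaf 0x2d939) (.node 37823 (.leaf 0x2d939) (.leaf 0x2d939))) (.node 37825 (.leaf 0x2d939) (.node 37826 (.leaf 0x2d939) (.leaf 0x2d939))))))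

def candS_1869 : Store := (.node 37837 (.node 37832 (.node 37829 (.node 37828 (.leaf 0x2d939) (.leaf 0x2d939)) (.node 37830 (.leaf 0x2d939) (.node 37831 (.leaf 0x2d939) (.leaf 0x2d939)))) (.node 37834 (.node 37833 (.leaf 0x2d939) (.leaf 0x2d939)) (.node 37835 (.leaf 0x2d939) (.node 37836 (.leaf 0x2d939) (.leaf 0x2d939))))) (.node 37842 (.node 37839 (.node 37838 (.leaf 0x2d939) (.leaf 0x2d939)) (.node 37840 (.leaf 0x2d939) (.node 37841 (.leaf 0x2d939) (.leaf 0x2d939)))) (.node 37844 (.node 37843 (.leaf 0x2d939) (.leaf 0x2d939)) (.node 37845 (.leaf 0x2d939) (.node 37846 (.leaf 0x2d939) (.leaf 0x2d939))))))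

def candS_1870 : Store := (.node 37857 (.node 37852 (.node 37849 (.node 37848 (.leaf 0x2d939) (.leaf 0x2d939)) (.node 37850 (.leaf 0x2d939) (.node 37851 (.leaf 0x2d939) (.leaf 0x2d939)))) (.node 37854 (.node 37853 (.leaf 0x2d939) (.leaf 0x2d939)) (.node 37855 (.leaf 0x2d939) (.node 37856 (.leaf 0x2d939) (.leaf 0x2d939))))) (.node 37862 (.node 37859 (.node 37858 (.leaf 0x2d939) (.leaf 0x2d939)) (.node 37860 (.leaf 0x2d939) (.node 37861 (.leaf 0x2d939) (.leaf 0x2d939)))) (.node 37864 (.node 37863 (.leaf 0x2d939) (.leaf 0x2d939)) (.node 37865 (.leaf 0x2d939) (.node 37866 (.leaf 0x2d939) (.leaf 0x2d939))))))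

def candS_1871 : Store := (.node 37877 (.node 37872 (.node 37869 (.node 37868 (.leaf 0x2d939) (.leaf 0x2d939)) (.node 37870 (.leaf 0x2d939) (.node 37871 (.leaf 0x2d939) (.leaf 0x2d939)))) (.node 37874 (.node 37873 (.leaf 0x2d939) (.leaf 0x2d939)) (.node 37875 (.leaf 0x2d939) (.node 37876 (.leaf 0x2d939) (.leaf 0x2d939))))) (.node 37882 (.node 37879 (.node 37878 (.leaf 0x2d939) (.leaf 0x2d939)) (.node 37880 (.leaf 0x2d939) (.node 37881 (.leaf 0x2d939) (.leaf 0x2d939)))) (.node 37884 (.node 37883 (.leaf 0x2d939) (.leaf 0x2d939)) (.node 37885 (.leaf 0x2d939) (.node 37886 (.leaf 0x2d939) (.leaf 0x2d939))))))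

def candS_1872 : Store := (.node 37897 (.node 37892 (.node 37889 (.node 37888 (.leaf 0x2d939) (.leaf 0x2d939)) (.node 37890 (.leaf 0x2d939) (.node 37891 (.leaf 0x2d939) (.leaf 0x2d939)))) (.node 37894 (.node 37893 (.leaf 0x2d939) (.leaf 0x2d939)) (.node 37895 (.leaf 0x2d939) (.node 37896 (.leaf 0x2d939) (.leaf 0x2d939))))) (.node 37902 (.node 37899 (.node 37898 (.leaf 0x2d939) (.leaf 0x2d939)) (.node 37900 (.leaf 0x2d939) (.node 37901 (.leaf 0x2d939) (.leaf 0x2d939)))) (.node 37905 (.node 37903 (.leaf 0x2d939) (.node 37904 (.leaf 0x2d939) (.leaf 0x2d939))) (.node 37906 (.leaf 0x2d939) (.node 37907 (.leaf 0x2d939) (.leaf 0x2d939))))))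

def candS_1873 : Store := (.node 37918 (.node 37913 (.node 37910 (.node 37909 (.leaf 0x2d939) (.leaf 0x2d939)) (.node 37911 (.leaf 0x2d939) (.node 37912 (.leaf 0x2d939) (.leaf 0x2d939)))) (.node 37915 (.node 37914 (.leaf 0x2d939) (.leaf 0x2d939)) (.node 37916 (.leaf 0x2d939) (.node 37917 (.leaf 0x2d939) (.leaf 0x2d939))))) (.node 37923 (.node 37920 (.node 37919 (.leaf 0x2d939) (.leaf 0x2d939)) (.node 37921 (.leaf 0x2d939) (.node 37922 (.leaf 0x2d939) (.leaf 0x2d939)))) (.node 37925 (.node 37924 (.leaf 0x2d939) (.leaf 0x2d939)) (.node 37926 (.leaf 0x2d939) (.node 37927 (.leaf 0x2d939) (.leaf 0x2d939))))))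

def candS_1874 : Store := (.node 37938 (.node 37933 (.node 37930 (.node 37929 (.leaf 0x2d939) (.leaf 0x2d939)) (.node 37931 (.leaf 0x2d939) (.node 37932 (.leaf 0x2d939) (.leaf 0x2d939)))) (.node 37935 (.node 37934 (.leaf 0x2d939) (.leaf 0x2d939)) (.node 37936 (.leaf 0x2d939) (.node 37937 (.leaf 0x2d939) (.leaf 0x2d939))))) (.node 37943 (.node 37940 (.node 37939 (.leaf 0x2d939) (.leaf 0x2d939)) (.node 37941 (.leaf 0x2d939) (.node 37942 (.leaf 0x2d939) (.leaf 0x2d939)))) (.node 37945 (.node 37944 (.leaf 0x2d939) (.leaf 0x2d939)) (.node 37946 (.leaf 0x2d939) (.node 37947 (.leaf 0x2d939) (.leaf 0x2d939))))))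

def candS_1875 : Store := (.node 37958 (.node 37953 (.node 37950 (.node 37949 (.leaf 0x2d939) (.leaf 0x2d939)) (.node 37951 (.leaf 0x2d939) (.node 37952 (.leaf 0x2d939) (.leaf 0x2d939)))) (.node 37955 (.node 37954 (.leaf 0x2d939) (.leaf 0x2d939)) (.node 37956 (.leaf 0x2d939) (.node 37957 (.leaf 0x2d939) (.leaf 0x2d939))))) (.node 37963 (.node 37960 (.node 37959 (.leaf 0x2d939) (.leaf 0x2d939)) (.node 37961 (.leaf 0x2d939) (.node 37962 (.leaf 0x2d939) (.leaf 0x2d939)))) (.node 37965 (.node 37964 (.leaf 0x2d939) (.leaf 0x2d939)) (.node 37966 (.leaf 0x2d939) (.node 37967 (.leaf 0x2d939) (.leaf 0x2d939))))))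

def candS_1876 : Store := (.node 37978 (.node 37973 (.node 37970 (.node 37969 (.leaf 0x2d939) (.leaf 0x2d939)) (.node 37971 (.leaf 0x2d939) (.node 37972 (.leaf 0x2d939) (.leaf 0x2d939)))) (.node 37975 (.node 37974 (.leaf 0x2d939) (.leaf 0x2d939)) (.node 37976 (.leaf 0x2d939) (.node 37977 (.leaf 0x2d939) (.leaf 0x2d939))))) (.node 37983 (.node 37980 (.node 37979 (.leaf 0x2d939) (.leaf 0x2d939)) (.node 37981 (.leaf 0x2d939) (.node 37982 (.leaf 0x2d939) (.leaf 0x2d939)))) (.node 37986 (.node 37984 (.leaf 0x2d939) (.node 37985 (.leaf 0x2d939) (.leaf 0x2d939))) (.node 37987 (.leaf 0x2d939) (.node 37988 (.leaf 0x2d939) (.leaf 0x2d939))))))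

def candS_1877 : Store := (.node 37999 (.node 37994 (.node 37991 (.node 37990 (.leaf 0x2d939) (.leaf 0x2d939)) (.node 37992 (.leaf 0x2d939) (.node 37993 (.leaf 0x2d939) (.leaf 0x2d939)))) (.node 37996 (.node 37995 (.leaf 0x2d939) (.leaf 0x2d939)) (.node 37997 (.leaf 0x2d939) (.node 37998 (.leaf 0x2d939) (.leaf 0x2d939))))) (.node 38004 (.node 38001 (.node 38000 (.leaf 0x2d939) (.leaf 0x2d939)) (.node 38002 (.leaf 0x2d939) (.node 38003 (.leaf 0x2d939) (.leaf 0x2d939)))) (.node 38006 (.node 38005 (.leaf 0x2d939) (.leaf 0x2d939)) (.node 38007 (.leaf 0x2d939) (.node 38008 (.leaf 0x2d939) (.leaf 0x2d939))))))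

def candS_1878 : Store := (.node 38019 (.node 38014 (.node 38011 (.node 38010 (.leaf 0x2d939) (.leaf 0x2d939)) (.node 38012 (.leaf 0x2d939) (.node 38013 (.leaf 0x2d939) (.leaf 0x2d939)))) (.node 38016 (.node 38015 (.leaf 0x2d939) (.leaf 0x2d939)) (.node 38017 (.leaf 0x18195) (.node 38018 (.leaf 0x18195) (.leaf 0x18195))))) (.node 38024 (.node 38021 (.node 38020 (.leaf 0x18195) (.leaf 0x18195)) (.node 38022 (.leaf 0x18195) (.node 38023 (.leaf 0x18195) (.leaf 0x18195)))) (.node 38026 (.node 38025 (.leaf 0x18195) (.leaf 0x18195)) (.node 38027 (.leaf 0x18195) (.node 38028 (.leaf 0x18195) (.leaf 0x18195))))))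

def candS_1879 : Store := (.node 38039 (.node 38034 (.node 38031 (.node 38030 (.leaf 0x18195) (.leaf 0x18195)) (.node 38032 (.leaf 0x18195) (.node 38033 (.leaf 0x18195) (.leaf 0x18195)))) (.node 38036 (.node 38035 (.leaf 0x18195) (.leaf 0x18195)) (.node 38037 (.leaf 0x18195) (.node 38038 (.leaf 0x18195) (.leaf 0x18195))))) (.node 38044 (.node 38041 (.node 38040 (.leaf 0x18195) (.leaf 0x18195)) (.node 38042 (.leaf 0x18195) (.node 38043 (.leaf 0x18195) (.leaf 0x18195)))) (.node 38046 (.node 38045 (.leaf 0x18195) (.leaf 0x18195)) (.node 38047 (.leaf 0x18195) (.node 38048 (.leaf 0x18195) (.leaf 0x18195))))))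

def candS_1880 : Store := (.node 38059 (.node 38054 (.node 38051 (.node 38050 (.leaf 0x18195) (.leaf 0x18195)) (.node 38052 (.leaf 0x18195) (.node 38053 (.leaf 0x18195) (.leaf 0x18195)))) (.node 38056 (.node 38055 (.leaf 0x18195) (.leaf 0x18195)) (.node 38057 (.leaf 0x18195) (.node 38058 (.leaf 0x18195) (.leaf 0x18195))))) (.node 38064 (.node 38061 (.node 38060 (.leaf 0x18195) (.leaf 0x18195)) (.node 38062 (.leaf 0x18195) (.node 38063 (.leaf 0x18195) (.leaf 0x18195)))) (.node 38067 (.node 38065 (.leaf 0x18195) (.node 38066 (.leaf 0x18195) (.leaf 0x18195))) (.node 38068 (.leaf 0x18195) (.node 38069 (.leaf 0x18195) (.leaf 0x18195))))))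

def candS_1881 : Store := (.node 38080 (.node 38075 (.node 38072 (.node 38071 (.leaf 0x18195) (.leaf 0x18195)) (.node 38073 (.leaf 0x18195) (.node 38074 (.leaf 0x18195) (.leaf 0x18195)))) (.node 38077 (.node 38076 (.leaf 0x18195) (.leaf 0x18195)) (.node 38078 (.leaf 0x18195) (.node 38079 (.leaf 0x18195) (.leaf 0x18195))))) (.node 38085 (.node 38082 (.node 38081 (.leaf 0x18195) (.leaf 0x18195)) (.node 38083 (.leaf 0x18195) (.node 38084 (.leaf 0x18195) (.leaf 0x18195)))) (.node 38087 (.node 38086 (.leaf 0x18195) (.leaf 0x18195)) (.node 38088 (.leaf 0x18195) (.node 38089 (.leaf 0x18195) (.leaf 0x18195))))))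

def candS_1882 : Store := (.node 38100 (.node 38095 (.node 38092 (.node 38091 (.leaf 0x18195) (.leaf 0x18195)) (.node 38093 (.leaf 0x18195) (.node 38094 (.leaf 0x18195) (.leaf 0x18195)))) (.node 38097 (.node 38096 (.leaf 0x18195) (.leaf 0x18195)) (.node 38098 (.leaf 0x18195) (.node 38099 (.leaf 0x18195) (.leaf 0x18195))))) (.node 38105 (.node 38102 (.node 38101 (.leaf 0x18195) (.leaf 0x18195)) (.node 38103 (.leaf 0x18195) (.node 38104 (.leaf 0x18195) (.leaf 0x18195)))) (.node 38107 (.node 38106 (.leaf 0x18195) (.leaf 0x18195)) (.node 38108 (.leaf 0x18195) (.node 38109 (.leaf 0x18195) (.leaf 0x18195))))))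

def candS_1883 : Store := (.node 38120 (.node 38115 (.node 38112 (.node 38111 (.leaf 0x18195) (.leaf 0x18195)) (.node 38113 (.leaf 0x18195) (.node 38114 (.leaf 0x18195) (.leaf 0x18195)))) (.node 38117 (.node 38116 (.leaf 0x18195) (.leaf 0x18195)) (.node 38118 (.leaf 0x18195) (.node 38119 (.leaf 0x18195) (.leaf 0x18195))))) (.node 38125 (.node 38122 (.node 38121 (.leaf 0x18195) (.leaf 0x18195)) (.node 38123 (.leaf 0x18195) (.node 38124 (.leaf 0x18195) (.leaf 0x18195)))) (.node 38127 (.node 38126 (.leaf 0x18195) (.leaf 0x18195)) (.node 38128 (.leaf 0x18195) (.node 38129 (.leaf 0x18195) (.leaf 0x18195))))))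

def candS_1884 : Store := (.node 38140 (.node 38135 (.node 38132 (.node 38131 (.leaf 0x18195) (.leaf 0x18195)) (.node 38133 (.leaf 0x18195) (.node 38134 (.leaf 0x18195) (.leaf 0x18195)))) (.node 38137 (.node 38136 (.leaf 0x18195) (.leaf 0x18195)) (.node 38138 (.leaf 0x18195) (.node 38139 (.leaf 0x18195) (.leaf 0x18195))))) (.node 38145 (.node 38142 (.node 38141 (.leaf 0x18195) (.leaf 0x18195)) (.node 38143 (.leaf 0x18195) (.node 38144 (.leaf 0x18195) (.leaf 0x18195)))) (.node 38148 (.node 38146 (.leaf 0x18195) (.node 38147 (.leaf 0x18195) (.leaf 0x18195))) (.node 38149 (.leaf 0x18195) (.node 38150 (.leaf 0x18195) (.leaf 0x18195))))))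

def candS_1885 : Store := (.node 38161 (.node 38156 (.node 38153 (.node 38152 (.leaf 0x18195) (.leaf 0x18195)) (.node 38154 (.leaf 0x18195) (.node 38155 (.leaf 0x18195) (.leaf 0x18195)))) (.node 38158 (.node 38157 (.leaf 0x18195) (.leaf 0x18195)) (.node 38159 (.leaf 0x18195) (.node 38160 (.leaf 0x18195) (.leaf 0x18195))))) (.node 38166 (.node 38163 (.node 38162 (.leaf 0x18195) (.leaf 0x18195)) (.node 38164 (.leaf 0x18195) (.node 38165 (.leaf 0x18195) (.leaf 0x18195)))) (.node 38168 (.node 38167 (.leaf 0x18195) (.leaf 0x18195)) (.node 38169 (.leaf 0x18195) (.node 38170 (.leaf 0x18195) (.leaf 0x18195))))))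

def candS_1886 : Store := (.node 38181 (.node 38176 (.node 38173 (.node 38172 (.leaf 0x18195) (.leaf 0x18195)) (.node 38174 (.leaf 0x18195) (.node 38175 (.leaf 0x18195) (.leaf 0x18195)))) (.node 38178 (.node 38177 (.leaf 0x18195) (.leaf 0x18195)) (.node 38179 (.leaf 0x18195) (.node 38180 (.leaf 0x18195) (.leaf 0x18195))))) (.node 38186 (.node 38183 (.node 38182 (.leaf 0x18195) (.leaf 0x18195)) (.node 38184 (.leaf 0x18195) (.node 38185 (.leaf 0x18195) (.leaf 0x18195)))) (.node 38188 (.node 38187 (.leaf 0x18195) (.leaf 0x18195)) (.node 38189 (.leaf 0x18195) (.node 38190 (.leaf 0x18195) (.leaf 0x18195))))))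

def candS_1887 : Store := (.node 38201 (.node 38196 (.node 38193 (.node 38192 (.leaf 0x18195) (.leaf 0x18195)) (.node 38194 (.leaf 0x18195) (.node 38195 (.leaf 0x18195) (.leaf 0x18195)))) (.node 38198 (.node 38197 (.leaf 0x18195) (.leaf 0x18195)) (.node 38199 (.leaf 0x18195) (.node 38200 (.leaf 0x18195) (.leaf 0x18195))))) (.node 38206 (.node 38203 (.node 38202 (.leaf 0x18195) (.leaf 0x18195)) (.node 38204 (.leaf 0x18195) (.node 38205 (.leaf 0x18195) (.leaf 0x18195)))) (.node 38208 (.node 38207 (.leaf 0x18195) (.leaf 0x18195)) (.node 38209 (.leaf 0x18195) (.node 38210 (.leaf 0x18195) (.leaf 0x18195))))))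

def candS_1888 : Store := (.node 38221 (.node 38216 (.node 38213 (.node 38212 (.leaf 0x18195) (.leaf 0x18195)) (.node 38214 (.leaf 0x18195) (.node 38215 (.leaf 0x18195) (.leaf 0x18195)))) (.node 38218 (.node 38217 (.leaf 0x18195) (.leaf 0x18195)) (.node 38219 (.leaf 0x18195) (.node 38220 (.leaf 0x18195) (.leaf 0x18195))))) (.node 38226 (.node 38223 (.node 38222 (.leaf 0x18195) (.leaf 0x18195)) (.node 38224 (.leaf 0x18195) (.node 38225 (.leaf 0x18195) (.leaf 0x18195)))) (.node 38229 (.node 38227 (.leaf 0x18195) (.node 38228 (.leaf 0x18195) (.leaf 0x18195))) (.node 38230 (.leaf 0x18195) (.node 38231 (.leaf 0x18195) (.leaf 0x18195))))))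

def candS_1889 : Store := (.node 38242 (.node 38237 (.node 38234 (.node 38233 (.leaf 0x18195) (.leaf 0x18195)) (.node 38235 (.leaf 0x18195) (.node 38236 (.leaf 0x18195) (.leaf 0x18195)))) (.node 38239 (.node 38238 (.leaf 0x18195) (.leaf 0x18195)) (.node 38240 (.leaf 0x18195) (.node 38241 (.leaf 0x18195) (.leaf 0x18195))))) (.node 38247 (.node 38244 (.node 38243 (.leaf 0x18195) (.leaf 0x18195)) (.node 38245 (.leaf 0x18195) (.node 38246 (.leaf 0x18195) (.leaf 0x18195)))) (.node 38249 (.node 38248 (.leaf 0x18195) (.leaf 0x18195)) (.node 38250 (.leaf 0x18195) (.node 38251 (.leaf 0x18195) (.leaf 0x18195))))))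

def candS_1890 : Store := (.node 38262 (.node 38257 (.node 38254 (.node 38253 (.leaf 0x18195) (.leaf 0x18195)) (.node 38255 (.leaf 0x18195) (.node 38256 (.leaf 0x18195) (.leaf 0x18195)))) (.node 38259 (.node 38258 (.leaf 0x18195) (.leaf 0x18195)) (.node 38260 (.leaf 0x18195) (.node 38261 (.leaf 0x18195) (.leaf 0x18195))))) (.node 38267 (.node 38264 (.node 38263 (.leaf 0x18195) (.leaf 0x18195)) (.node 38265 (.leaf 0x18195) (.node 38266 (.leaf 0x18195) (.leaf 0x18195)))) (.node 38269 (.node 38268 (.leaf 0x18195) (.leaf 0x18195)) (.node 38270 (.leaf 0x18195) (.node 38271 (.leaf 0x18195) (.leaf 0x18195))))))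

def candS_1891 : Store := (.node 38282 (.node 38277 (.node 38274 (.node 38273 (.leaf 0x18195) (.leaf 0x18195)) (.node 38275 (.leaf 0x18195) (.node 38276 (.leaf 0x18195) (.leaf 0x18195)))) (.node 38279 (.node 38278 (.leaf 0x18195) (.leaf 0x18195)) (.node 38280 (.leaf 0x18195) (.node 38281 (.leaf 0x18195) (.leaf 0x18195))))) (.node 38287 (.node 38284 (.node 38283 (.leaf 0x18195) (.leaf 0x18195)) (.node 38285 (.leaf 0x18195) (.node 38286 (.leaf 0x18195) (.leaf 0x18195)))) (.node 38289 (.node 38288 (.leaf 0x18195) (.leaf 0x18195)) (.node 38290 (.leaf 0x18195) (.node 38291 (.leaf 0x18195) (.leaf 0x18195))))))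

def candS_1892 : Store := (.node 38302 (.node 38297 (.node 38294 (.node 38293 (.leaf 0x18195) (.leaf 0x18195)) (.node 38295 (.leaf 0x18195) (.node 38296 (.leaf 0x18195) (.leaf 0x18195)))) (.node 38299 (.node 38298 (.leaf 0x18195) (.leaf 0x18195)) (.node 38300 (.leaf 0x18195) (.node 38301 (.leaf 0x18195) (.leaf 0x18195))))) (.node 38307 (.node 38304 (.node 38303 (.leaf 0x18195) (.leaf 0x18195)) (.node 38305 (.leaf 0x18195) (.node 38306 (.leaf 0x18195) (.leaf 0x18195)))) (.node 38310 (.node 38308 (.leaf 0x18195) (.node 38309 (.leaf 0x18195) (.leaf 0x18195))) (.node 38311 (.leaf 0x18195) (.node 38312 (.leaf 0x18195) (.leaf 0x18195))))))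

def candS_1893 : Store := (.node 38323 (.node 38318 (.node 38315 (.node 38314 (.leaf 0x18195) (.leaf 0x18195)) (.node 38316 (.leaf 0x18195) (.node 38317 (.leaf 0x18195) (.leaf 0x18195)))) (.node 38320 (.node 38319 (.leaf 0x18195) (.leaf 0x18195)) (.node 38321 (.leaf 0x18195) (.node 38322 (.leaf 0x18195) (.leaf 0x18195))))) (.node 38328 (.node 38325 (.node 38324 (.leaf 0x18195) (.leaf 0x18195)) (.node 38326 (.leaf 0x18195) (.node 38327 (.leaf 0x18195) (.leaf 0x18195)))) (.node 38330 (.node 38329 (.leaf 0x18195) (.leaf 0x18195)) (.node 38331 (.leaf 0x18195) (.node 38332 (.leaf 0x18195) (.leaf 0x18195))))))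

def candS_1894 : Store := (.node 38343 (.node 38338 (.node 38335 (.node 38334 (.leaf 0x18195) (.leaf 0x18195)) (.node 38336 (.leaf 0x18195) (.node 38337 (.leaf 0x18195) (.leaf 0x18195)))) (.node 38340 (.node 38339 (.leaf 0x18195) (.leaf 0x18195)) (.node 38341 (.leaf 0x18195) (.node 38342 (.leaf 0x18195) (.leaf 0x18195))))) (.node 38348 (.node 38345 (.node 38344 (.leaf 0x18195) (.leaf 0x18195)) (.node 38346 (.leaf 0x18195) (.node 38347 (.leaf 0x18195) (.leaf 0x18195)))) (.node 38350 (.node 38349 (.leaf 0x18195) (.leaf 0x18195)) (.node 38351 (.leaf 0x18195) (.node 38352 (.leaf 0x18195) (.leaf 0x18195))))))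

def candS_1895 : Store := (.node 38363 (.node 38358 (.node 38355 (.node 38354 (.leaf 0x18195) (.leaf 0x18195)) (.node 38356 (.leaf 0x18195) (.node 38357 (.leaf 0x18195) (.leaf 0x18195)))) (.node 38360 (.node 38359 (.leaf 0x18195) (.leaf 0x18195)) (.node 38361 (.leaf 0x18195) (.node 38362 (.leaf 0x18195) (.leaf 0x18195))))) (.node 38368 (.node 38365 (.node 38364 (.leaf 0x18195) (.leaf 0x18195)) (.node 38366 (.leaf 0x18195) (.node 38367 (.leaf 0x18195) (.leaf 0x18195)))) (.node 38370 (.node 38369 (.leaf 0x18195) (.leaf 0x18195)) (.node 38371 (.leaf 0x18195) (.node 38372 (.leaf 0x18195) (.leaf 0x18195))))))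

def candS_1896 : Store := (.node 38383 (.node 38378 (.node 38375 (.node 38374 (.leaf 0x18195) (.leaf 0x18195)) (.node 38376 (.leaf 0x18195) (.node 38377 (.leaf 0x18195) (.leaf 0x18195)))) (.node 38380 (.node 38379 (.leaf 0x18195) (.leaf 0x18195)) (.node 38381 (.leaf 0x18195) (.node 38382 (.leaf 0x18195) (.leaf 0x18195))))) (.node 38388 (.node 38385 (.node 38384 (.leaf 0x18195) (.leaf 0x18195)) (.node 38386 (.leaf 0x18195) (.node 38387 (.leaf 0x18195) (.leaf 0x18195)))) (.node 38391 (.node 38389 (.leaf 0x18195) (.node 38390 (.leaf 0x18195) (.leaf 0x18195))) (.node 38392 (.leaf 0x18195) (.node 38393 (.leaf 0x18195) (.leaf 0x18195))))))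

def candS_1897 : Store := (.node 38404 (.node 38399 (.node 38396 (.node 38395 (.leaf 0x18195) (.leaf 0x18195)) (.node 38397 (.leaf 0x18195) (.node 38398 (.leaf 0x18195) (.leaf 0x18195)))) (.node 38401 (.node 38400 (.leaf 0x18195) (.leaf 0x18195)) (.node 38402 (.leaf 0x18195) (.node 38403 (.leaf 0x18195) (.leaf 0x18195))))) (.node 38409 (.node 38406 (.node 38405 (.leaf 0x18195) (.leaf 0x18195)) (.node 38407 (.leaf 0x18195) (.node 38408 (.leaf 0x18195) (.leaf 0x18195)))) (.node 38411 (.node 38410 (.leaf 0x18195) (.leaf 0x18195)) (.node 38412 (.leaf 0x18195) (.node 38413 (.leaf 0x18195) (.leaf 0x18195))))))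

def candS_1898 : Store := (.node 38424 (.node 38419 (.node 38416 (.node 38415 (.leaf 0x18195) (.leaf 0x18195)) (.node 38417 (.leaf 0x18195) (.node 38418 (.leaf 0x18195) (.leaf 0x18195)))) (.node 38421 (.node 38420 (.leaf 0x18195) (.leaf 0x18195)) (.node 38422 (.leaf 0x18195) (.node 38423 (.leaf 0x18195) (.leaf 0x18195))))) (.node 38429 (.node 38426 (.node 38425 (.leaf 0x18195) (.leaf 0x18195)) (.node 38427 (.leaf 0x18195) (.node 38428 (.leaf 0x18195) (.leaf 0x18195)))) (.node 38431 (.node 38430 (.leaf 0x18195) (.leaf 0x18195)) (.node 38432 (.leaf 0x18195) (.node 38433 (.leaf 0x18195) (.leaf 0x18195))))))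

def candS_1899 : Store := (.node 38444 (.node 38439 (.node 38436 (.node 38435 (.leaf 0x18195) (.leaf 0x18195)) (.node 38437 (.leaf 0x18195) (.node 38438 (.leaf 0x18195) (.leaf 0x18195)))) (.node 38441 (.node 38440 (.leaf 0x18195) (.leaf 0x18195)) (.node 38442 (.leaf 0x18195) (.node 38443 (.leaf 0x18195) (.leaf 0x18195))))) (.node 38449 (.node 38446 (.node 38445 (.leaf 0x18195) (.leaf 0x18195)) (.node 38447 (.leaf 0x18195) (.node 38448 (.leaf 0x18195) (.leaf 0x18195)))) (.node 38451 (.node 38450 (.leaf 0x18195) (.leaf 0x18195)) (.node 38452 (.leaf 0x18195) (.node 38453 (.leaf 0x18195) (.leaf 0x18195))))))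

def candS_1900 : Store := (.node 38464 (.node 38459 (.node 38456 (.node 38455 (.leaf 0x18195) (.leaf 0x18195)) (.node 38457 (.leaf 0x18195) (.node 38458 (.leaf 0x18195) (.leaf 0x18195)))) (.node 38461 (.node 38460 (.leaf 0x18195) (.leaf 0x18195)) (.node 38462 (.leaf 0x18195) (.node 38463 (.leaf 0x18195) (.leaf 0x18195))))) (.node 38469 (.node 38466 (.node 38465 (.leaf 0x18195) (.leaf 0x18195)) (.node 38467 (.leaf 0x18195) (.node 38468 (.leaf 0x18195) (.leaf 0x18195)))) (.node 38472 (.node 38470 (.leaf 0x18195) (.node 38471 (.leaf 0x18195) (.leaf 0x18195))) (.node 38473 (.leaf 0x18195) (.node 38474 (.leaf 0x18195) (.leaf 0x18195))))))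

def candS_1901 : Store := (.node 38485 (.node 38480 (.node 38477 (.node 38476 (.leaf 0x18195) (.leaf 0x18195)) (.node 38478 (.leaf 0x18195) (.node 38479 (.leaf 0x18195) (.leaf 0x18195)))) (.node 38482 (.node 38481 (.leaf 0x18195) (.leaf 0x18195)) (.node 38483 (.leaf 0x18195) (.node 38484 (.leaf 0x18195) (.leaf 0x18195))))) (.node 38490 (.node 38487 (.node 38486 (.leaf 0x18195) (.leaf 0x18195)) (.node 38488 (.leaf 0x18195) (.node 38489 (.leaf 0x18195) (.leaf 0x18195)))) (.node 38492 (.node 38491 (.leaf 0x18195) (.leaf 0x18195)) (.node 38493 (.leaf 0x18195) (.node 38494 (.leaf 0x18195) (.leaf 0x18195))))))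

def candS_1902 : Store := (.node 38505 (.node 38500 (.node 38497 (.node 38496 (.leaf 0x18195) (.leaf 0x18195)) (.node 38498 (.leaf 0x18195) (.node 38499 (.leaf 0x18195) (.leaf 0x18195)))) (.node 38502 (.node 38501 (.leaf 0x18195) (.leaf 0x18195)) (.node 38503 (.leaf 0x18195) (.node 38504 (.leaf 0x18195) (.leaf 0x18195))))) (.node 38510 (.node 38507 (.node 38506 (.leaf 0x18195) (.leaf 0x18195)) (.node 38508 (.leaf 0x18195) (.node 38509 (.leaf 0x18195) (.leaf 0x18195)))) (.node 38512 (.node 38511 (.leaf 0x18195) (.leaf 0x18195)) (.node 38513 (.leaf 0x18195) (.node 38514 (.leaf 0x18195) (.leaf 0x18195))))))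

def candS_1903 : Store := (.node 38525 (.node 38520 (.node 38517 (.node 38516 (.leaf 0x18195) (.leaf 0x18195)) (.node 38518 (.leaf 0x18195) (.node 38519 (.leaf 0x18195) (.leaf 0x18195)))) (.node 38522 (.node 38521 (.leaf 0x18195) (.leaf 0x18195)) (.node 38523 (.leaf 0x18195) (.node 38524 (.leaf 0x18195) (.leaf 0x18195))))) (.node 38530 (.node 38527 (.node 38526 (.leaf 0x18195) (.leaf 0x18195)) (.node 38528 (.leaf 0x18195) (.node 38529 (.leaf 0x18195) (.leaf 0x18195)))) (.node 38532 (.node 38531 (.leaf 0x18195) (.leaf 0x18195)) (.node 38533 (.leaf 0x18195) (.node 38534 (.leaf 0x18195) (.leaf 0x18195))))))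

def candS_1904 : Store := (.node 38545 (.node 38540 (.node 38537 (.node 38536 (.leaf 0x18195) (.leaf 0x18195)) (.node 38538 (.leaf 0x18195) (.node 38539 (.leaf 0x18195) (.leaf 0x18195)))) (.node 38542 (.node 38541 (.leaf 0x18195) (.leaf 0x18195)) (.node 38543 (.leaf 0x18195) (.node 38544 (.leaf 0x18195) (.leaf 0x18195))))) (.node 38550 (.node 38547 (.node 38546 (.leaf 0x18195) (.leaf 0x18195)) (.node 38548 (.leaf 0x18195) (.node 38549 (.leaf 0x18195) (.leaf 0x18195)))) (.node 38553 (.node 38551 (.leaf 0x18195) (.node 38552 (.leaf 0x18195) (.leaf 0x18195))) (.node 38554 (.leaf 0x18195) (.node 38555 (.leaf 0x18195) (.leaf 0x18195))))))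

def candS_1905 : Store := (.node 38566 (.node 38561 (.node 38558 (.node 38557 (.leaf 0x18195) (.leaf 0x18195)) (.node 38559 (.leaf 0x18195) (.node 38560 (.leaf 0x18195) (.leaf 0x18195)))) (.node 38563 (.node 38562 (.leaf 0x18195) (.leaf 0x18195)) (.node 38564 (.leaf 0x18195) (.node 38565 (.leaf 0x18195) (.leaf 0x18195))))) (.node 38571 (.node 38568 (.node 38567 (.leaf 0x18195) (.leaf 0x18195)) (.node 38569 (.leaf 0x18195) (.node 38570 (.leaf 0x18195) (.leaf 0x18195)))) (.node 38573 (.node 38572 (.leaf 0x18195) (.leaf 0x18195)) (.node 38574 (.leaf 0x18195) (.node 38575 (.leaf 0x18195) (.leaf 0x18195))))))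

def candS_1906 : Store := (.node 38586 (.node 38581 (.node 38578 (.node 38577 (.leaf 0x18195) (.leaf 0x18195)) (.node 38579 (.leaf 0x18195) (.node 38580 (.leaf 0x18195) (.leaf 0x18195)))) (.node 38583 (.node 38582 (.leaf 0x18195) (.leaf 0x18195)) (.node 38584 (.leaf 0x18195) (.node 38585 (.leaf 0x18195) (.leaf 0x18195))))) (.node 38591 (.node 38588 (.node 38587 (.leaf 0x18195) (.leaf 0x18195)) (.node 38589 (.leaf 0x18195) (.node 38590 (.leaf 0x18195) (.leaf 0x18195)))) (.node 38593 (.node 38592 (.leaf 0x18195) (.leaf 0x18195)) (.node 38594 (.leaf 0x18195) (.node 38595 (.leaf 0x18195) (.leaf 0x18195))))))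

def candS_1907 : Store := (.node 38606 (.node 38601 (.node 38598 (.node 38597 (.leaf 0x18195) (.leaf 0x18195)) (.node 38599 (.leaf 0x18195) (.node 38600 (.leaf 0x18195) (.leaf 0x18195)))) (.node 38603 (.node 38602 (.leaf 0x18195) (.leaf 0x18195)) (.node 38604 (.leaf 0x18195) (.node 38605 (.leaf 0x18195) (.leaf 0x18195))))) (.node 38611 (.node 38608 (.node 38607 (.leaf 0x18195) (.leaf 0x18195)) (.node 38609 (.leaf 0x18195) (.node 38610 (.leaf 0x18195) (.leaf 0x18195)))) (.node 38613 (.node 38612 (.leaf 0x18195) (.leaf 0x18195)) (.node 38614 (.leaf 0x18195) (.node 38615 (.leaf 0x18195) (.leaf 0x18195))))))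

def candS_1908 : Store := (.node 38626 (.node 38621 (.node 38618 (.node 38617 (.leaf 0x18195) (.leaf 0x18195)) (.node 38619 (.leaf 0x18195) (.node 38620 (.leaf 0x18195) (.leaf 0x18195)))) (.node 38623 (.node 38622 (.leaf 0x18195) (.leaf 0x18195)) (.node 38624 (.leaf 0x18195) (.node 38625 (.leaf 0x18195) (.leaf 0x18195))))) (.node 38631 (.node 38628 (.node 38627 (.leaf 0x18195) (.leaf 0x18195)) (.node 38629 (.leaf 0x18195) (.node 38630 (.leaf 0x18195) (.leaf 0x18195)))) (.node 38634 (.node 38632 (.leaf 0x18195) (.node 38633 (.leaf 0x18195) (.leaf 0x18195))) (.node 38635 (.leaf 0x18195) (.node 38636 (.leaf 0x18195) (.leaf 0x18195))))))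

def candS_1909 : Store := (.node 38647 (.node 38642 (.node 38639 (.node 38638 (.leaf 0x18195) (.leaf 0x18195)) (.node 38640 (.leaf 0x18195) (.node 38641 (.leaf 0x18195) (.leaf 0x18195)))) (.node 38644 (.node 38643 (.leaf 0x18195) (.leaf 0x18195)) (.node 38645 (.leaf 0x18195) (.node 38646 (.leaf 0x18195) (.leaf 0x18195))))) (.node 38652 (.node 38649 (.node 38648 (.leaf 0x18195) (.leaf 0x18195)) (.node 38650 (.leaf 0x18195) (.node 38651 (.leaf 0x18195) (.leaf 0x18195)))) (.node 38654 (.node 38653 (.leaf 0x18195) (.leaf 0x18195)) (.node 38655 (.leaf 0x18195) (.node 38656 (.leaf 0x18195) (.leaf 0x18195))))))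

def candS_1910 : Store := (.node 38667 (.node 38662 (.node 38659 (.node 38658 (.leaf 0x18195) (.leaf 0x18195)) (.node 38660 (.leaf 0x18195) (.node 38661 (.leaf 0x18195) (.leaf 0x18195)))) (.node 38664 (.node 38663 (.leaf 0x18195) (.leaf 0x18195)) (.node 38665 (.leaf 0x18195) (.node 38666 (.leaf 0x18195) (.leaf 0x18195))))) (.node 38672 (.node 38669 (.node 38668 (.leaf 0x18195) (.leaf 0x18195)) (.node 38670 (.leaf 0x18195) (.node 38671 (.leaf 0x18195) (.leaf 0x18195)))) (.node 38674 (.node 38673 (.leaf 0x18195) (.leaf 0x18195)) (.node 38675 (.leaf 0x18195) (.node 38676 (.leaf 0x18195) (.leaf 0x18195))))))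

def candS_1911 : Store := (.node 38687 (.node 38682 (.node 38679 (.node 38678 (.leaf 0x18195) (.leaf 0x18195)) (.node 38680 (.leaf 0x18195) (.node 38681 (.leaf 0x18195) (.leaf 0x18195)))) (.node 38684 (.node 38683 (.leaf 0x18195) (.leaf 0x18195)) (.node 38685 (.leaf 0x18195) (.node 38686 (.leaf 0x18195) (.leaf 0x18195))))) (.node 38692 (.node 38689 (.node 38688 (.leaf 0x18195) (.leaf 0x18195)) (.node 38690 (.leaf 0x18195) (.node 38691 (.leaf 0x18195) (.leaf 0x18195)))) (.node 38694 (.node 38693 (.leaf 0x18195) (.leaf 0x18195)) (.node 38695 (.leaf 0x18195) (.node 38696 (.leaf 0x18195) (.leaf 0x18195))))))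

def candS_1912 : Store := (.node 38707 (.node 38702 (.node 38699 (.node 38698 (.leaf 0x18195) (.leaf 0x18195)) (.node 38700 (.leaf 0x18195) (.node 38701 (.leaf 0x18195) (.leaf 0x18195)))) (.node 38704 (.node 38703 (.leaf 0x18195) (.leaf 0x18195)) (.node 38705 (.leaf 0x18195) (.node 38706 (.leaf 0x18195) (.leaf 0x18195))))) (.node 38712 (.node 38709 (.node 38708 (.leaf 0x18195) (.leaf 0x18195)) (.node 38710 (.leaf 0x18195) (.node 38711 (.leaf 0x18195) (.leaf 0x18195)))) (.node 38715 (.node 38713 (.leaf 0x18195) (.node 38714 (.leaf 0x18195) (.leaf 0x18195))) (.node 38716 (.leaf 0x18195) (.node 38717 (.leaf 0x18195) (.leaf 0x18195))))))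

def candS_1913 : Store := (.node 38728 (.node 38723 (.node 38720 (.node 38719 (.leaf 0x18195) (.leaf 0x18195)) (.node 38721 (.leaf 0x18195) (.node 38722 (.leaf 0x18195) (.leaf 0x18195)))) (.node 38725 (.node 38724 (.leaf 0x18195) (.leaf 0x18195)) (.node 38726 (.leaf 0x18195) (.node 38727 (.leaf 0x18195) (.leaf 0x18195))))) (.node 38733 (.node 38730 (.node 38729 (.leaf 0x18195) (.leaf 0x18195)) (.node 38731 (.leaf 0x18195) (.node 38732 (.leaf 0x18195) (.leaf 0x18195)))) (.node 38735 (.node 38734 (.leaf 0x18195) (.leaf 0x18195)) (.node 38736 (.leaf 0x18195) (.node 38737 (.leaf 0x18195) (.leaf 0x18195))))))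

def candS_1914 : Store := (.node 38748 (.node 38743 (.node 38740 (.node 38739 (.leaf 0x18195) (.leaf 0x18195)) (.node 38741 (.leaf 0x18195) (.node 38742 (.leaf 0x18195) (.leaf 0x18195)))) (.node 38745 (.node 38744 (.leaf 0x18195) (.leaf 0x18195)) (.node 38746 (.leaf 0x18195) (.node 38747 (.leaf 0x18195) (.leaf 0x18195))))) (.node 38753 (.node 38750 (.node 38749 (.leaf 0x18195) (.leaf 0x18195)) (.node 38751 (.leaf 0x18195) (.node 38752 (.leaf 0x18195) (.leaf 0x18195)))) (.node 38755 (.node 38754 (.leaf 0x18195) (.leaf 0x18195)) (.node 38756 (.leaf 0x18195) (.node 38757 (.leaf 0x18195) (.leaf 0x18195))))))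

def candS_1915 : Store := (.node 38768 (.node 38763 (.node 38760 (.node 38759 (.leaf 0x18195) (.leaf 0x18195)) (.node 38761 (.leaf 0x18195) (.node 38762 (.leaf 0x18195) (.leaf 0x18195)))) (.node 38765 (.node 38764 (.leaf 0x18195) (.leaf 0x18195)) (.node 38766 (.leaf 0x18195) (.node 38767 (.leaf 0x18195) (.leaf 0x18195))))) (.node 38773 (.node 38770 (.node 38769 (.leaf 0x18195) (.leaf 0x18195)) (.node 38771 (.leaf 0x18195) (.node 38772 (.leaf 0x18195) (.leaf 0x18195)))) (.node 38775 (.node 38774 (.leaf 0x18195) (.leaf 0x18195)) (.node 38776 (.leaf 0x18195) (.node 38777 (.leaf 0x18195) (.leaf 0x18195))))))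

def candS_1916 : Store := (.node 38788 (.node 38783 (.node 38780 (.node 38779 (.leaf 0x18195) (.leaf 0x18195)) (.node 38781 (.leaf 0x18195) (.node 38782 (.leaf 0x18195) (.leaf 0x18195)))) (.node 38785 (.node 38784 (.leaf 0x18195) (.leaf 0x18195)) (.node 38786 (.leaf 0x18195) (.node 38787 (.leaf 0x18195) (.leaf 0x18195))))) (.node 38793 (.node 38790 (.node 38789 (.leaf 0x18195) (.leaf 0x18195)) (.node 38791 (.leaf 0x18195) (.node 38792 (.leaf 0x18195) (.leaf 0x18195)))) (.node 38796 (.node 38794 (.leaf 0x18195) (.node 38795 (.leaf 0x18195) (.leaf 0x18195))) (.node 38797 (.leaf 0x18195) (.node 38798 (.leaf 0x18195) (.leaf 0x18195))))))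

def candS_1917 : Store := (.node 38809 (.node 38804 (.node 38801 (.node 38800 (.leaf 0x18195) (.leaf 0x18195)) (.node 38802 (.leaf 0x18195) (.node 38803 (.leaf 0x18195) (.leaf 0x18195)))) (.node 38806 (.node 38805 (.leaf 0x18195) (.leaf 0x18195)) (.node 38807 (.leaf 0x18195) (.node 38808 (.leaf 0x18195) (.leaf 0x18195))))) (.node 38814 (.node 38811 (.node 38810 (.leaf 0x18195) (.leaf 0x18195)) (.node 38812 (.leaf 0x18195) (.node 38813 (.leaf 0x18195) (.leaf 0x18195)))) (.node 38816 (.node 38815 (.leaf 0x18195) (.leaf 0x18195)) (.node 38817 (.leaf 0x18195) (.node 38818 (.leaf 0x18195) (.leaf 0x18195))))))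

def candS_1918 : Store := (.node 38829 (.node 38824 (.node 38821 (.node 38820 (.leaf 0x18195) (.leaf 0x18195)) (.node 38822 (.leaf 0x18195) (.node 38823 (.leaf 0x18195) (.leaf 0x18195)))) (.node 38826 (.node 38825 (.leaf 0x18195) (.leaf 0x18195)) (.node 38827 (.leaf 0x18195) (.node 38828 (.leaf 0x18195) (.leaf 0x18195))))) (.node 38834 (.node 38831 (.node 38830 (.leaf 0x18195) (.leaf 0x18195)) (.node 38832 (.leaf 0x18195) (.node 38833 (.leaf 0x18195) (.leaf 0x18195)))) (.node 38836 (.node 38835 (.leaf 0x18195) (.leaf 0x18195)) (.node 38837 (.leaf 0x18195) (.node 38838 (.leaf 0x18195) (.leaf 0x18195))))))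

def candS_1919 : Store := (.node 38849 (.node 38844 (.node 38841 (.node 38840 (.leaf 0x18195) (.leaf 0x18195)) (.node 38842 (.leaf 0x18195) (.node 38843 (.leaf 0x18195) (.leaf 0x18195)))) (.node 38846 (.node 38845 (.leaf 0x18195) (.leaf 0x18195)) (.node 38847 (.leaf 0x18195) (.node 38848 (.leaf 0x18195) (.leaf 0x18195))))) (.node 38854 (.node 38851 (.node 38850 (.leaf 0x18195) (.leaf 0x18195)) (.node 38852 (.leaf 0x18195) (.node 38853 (.leaf 0x18195) (.leaf 0x18195)))) (.node 38856 (.node 38855 (.leaf 0x18195) (.leaf 0x18195)) (.node 38857 (.leaf 0x18195) (.node 38858 (.leaf 0x18195) (.leaf 0x18195))))))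

def candS_1920 : Store := (.node 38869 (.node 38864 (.node 38861 (.node 38860 (.leaf 0x18195) (.leaf 0x18195)) (.node 38862 (.leaf 0x18195) (.node 38863 (.leaf 0x18195) (.leaf 0x18195)))) (.node 38866 (.node 38865 (.leaf 0x18195) (.leaf 0x18195)) (.node 38867 (.leaf 0x18195) (.node 38868 (.leaf 0x18195) (.leaf 0x18195))))) (.node 38874 (.node 38871 (.node 38870 (.leaf 0x18195) (.leaf 0x18195)) (.node 38872 (.leaf 0x18195) (.node 38873 (.leaf 0x18195) (.leaf 0x18195)))) (.node 38877 (.node 38875 (.leaf 0x18195) (.node 38876 (.leaf 0x18195) (.leaf 0x18195))) (.node 38878 (.leaf 0x18195) (.node 38879 (.leaf 0x18195) (.leaf 0x18195))))))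

def candS_1921 : Store := (.node 38890 (.node 38885 (.node 38882 (.node 38881 (.leaf 0x18195) (.leaf 0x18195)) (.node 38883 (.leaf 0x18195) (.node 38884 (.leaf 0x18195) (.leaf 0x18195)))) (.node 38887 (.node 38886 (.leaf 0x18195) (.leaf 0x18195)) (.node 38888 (.leaf 0x18195) (.node 38889 (.leaf 0x18195) (.leaf 0x18195))))) (.node 38895 (.node 38892 (.node 38891 (.leaf 0x18195) (.leaf 0x18195)) (.node 38893 (.leaf 0x18195) (.node 38894 (.leaf 0x18195) (.leaf 0x18195)))) (.node 38897 (.node 38896 (.leaf 0x18195) (.leaf 0x18195)) (.node 38898 (.leaf 0x18195) (.node 38899 (.leaf 0x18195) (.leaf 0x18195))))))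

def candS_1922 : Store := (.node 38910 (.node 38905 (.node 38902 (.node 38901 (.leaf 0x18195) (.leaf 0x18195)) (.node 38903 (.leaf 0x18195) (.node 38904 (.leaf 0x18195) (.leaf 0x18195)))) (.node 38907 (.node 38906 (.leaf 0x18195) (.leaf 0x18195)) (.node 38908 (.leaf 0x18195) (.node 38909 (.leaf 0x18195) (.leaf 0x18195))))) (.node 38915 (.node 38912 (.node 38911 (.leaf 0x18195) (.leaf 0x18195)) (.node 38913 (.leaf 0x18195) (.node 38914 (.leaf 0x18195) (.leaf 0x18195)))) (.node 38917 (.node 38916 (.leaf 0x18195) (.leaf 0x18195)) (.node 38918 (.leaf 0x18195) (.node 38919 (.leaf 0x18195) (.leaf 0x18195))))))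

def candS_1923 : Store := (.node 38930 (.node 38925 (.node 38922 (.node 38921 (.leaf 0x18195) (.leaf 0x18195)) (.node 38923 (.leaf 0x18195) (.node 38924 (.leaf 0x18195) (.leaf 0x18195)))) (.node 38927 (.node 38926 (.leaf 0x18195) (.leaf 0x18195)) (.node 38928 (.leaf 0x18195) (.node 38929 (.leaf 0x18195) (.leaf 0x18195))))) (.node 38935 (.node 38932 (.node 38931 (.leaf 0x18195) (.leaf 0x18195)) (.node 38933 (.leaf 0x18195) (.node 38934 (.leaf 0x18195) (.leaf 0x18195)))) (.node 38937 (.node 38936 (.leaf 0x18195) (.leaf 0x18195)) (.node 38938 (.leaf 0x18195) (.node 38939 (.leaf 0x18195) (.leaf 0x18195))))))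

def candS_1924 : Store := (.node 38950 (.node 38945 (.node 38942 (.node 38941 (.leaf 0x18195) (.leaf 0x18195)) (.node 38943 (.leaf 0x18195) (.node 38944 (.leaf 0x18195) (.leaf 0x18195)))) (.node 38947 (.node 38946 (.leaf 0x18195) (.leaf 0x18195)) (.node 38948 (.leaf 0x18195) (.node 38949 (.leaf 0x18195) (.leaf 0x18195))))) (.node 38955 (.node 38952 (.node 38951 (.leaf 0x18195) (.leaf 0x18195)) (.node 38953 (.leaf 0x18195) (.node 38954 (.leaf 0x18195) (.leaf 0x18195)))) (.node 38958 (.node 38956 (.leaf 0x18195) (.node 38957 (.leaf 0x18195) (.leaf 0x18195))) (.node 38959 (.leaf 0x18195) (.node 38960 (.leaf 0x18195) (.leaf 0x18195))))))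

def candS_1925 : Store := (.node 38971 (.node 38966 (.node 38963 (.node 38962 (.leaf 0x18195) (.leaf 0x18195)) (.node 38964 (.leaf 0x18195) (.node 38965 (.leaf 0x18195) (.leaf 0x18195)))) (.node 38968 (.node 38967 (.leaf 0x18195) (.leaf 0x18195)) (.node 38969 (.leaf 0x18195) (.node 38970 (.leaf 0x18195) (.leaf 0x18195))))) (.node 38976 (.node 38973 (.node 38972 (.leaf 0x18195) (.leaf 0x18195)) (.node 38974 (.leaf 0x18195) (.node 38975 (.leaf 0x18195) (.leaf 0x18195)))) (.node 38978 (.node 38977 (.leaf 0x18195) (.leaf 0x18195)) (.node 38979 (.leaf 0x18195) (.node 38980 (.leaf 0x18195) (.leaf 0x18195))))))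

def candS_1926 : Store := (.node 38991 (.node 38986 (.node 38983 (.node 38982 (.leaf 0x18195) (.leaf 0x18195)) (.node 38984 (.leaf 0x18195) (.node 38985 (.leaf 0x18195) (.leaf 0x18195)))) (.node 38988 (.node 38987 (.leaf 0x18195) (.leaf 0x18195)) (.node 38989 (.leaf 0x18195) (.node 38990 (.leaf 0x18195) (.leaf 0x18195))))) (.node 38996 (.node 38993 (.node 38992 (.leaf 0x18195) (.leaf 0x18195)) (.node 38994 (.leaf 0x18195) (.node 38995 (.leaf 0x18195) (.leaf 0x18195)))) (.node 38998 (.node 38997 (.leaf 0x18195) (.leaf 0x18195)) (.node 38999 (.leaf 0x18195) (.node 39000 (.leaf 0x18195) (.leaf 0x18195))))))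

def candS_1927 : Store := (.node 39011 (.node 39006 (.node 39003 (.node 39002 (.leaf 0x18195) (.leaf 0x18195)) (.node 39004 (.leaf 0x18195) (.node 39005 (.leaf 0x18195) (.leaf 0x18195)))) (.node 39008 (.node 39007 (.leaf 0x18195) (.leaf 0x18195)) (.node 39009 (.leaf 0x18195) (.node 39010 (.leaf 0x18195) (.leaf 0x18195))))) (.node 39016 (.node 39013 (.node 39012 (.leaf 0x18195) (.leaf 0x18195)) (.node 39014 (.leaf 0x18195) (.node 39015 (.leaf 0x18195) (.leaf 0x18195)))) (.node 39018 (.node 39017 (.leaf 0x18195) (.leaf 0x18195)) (.node 39019 (.leaf 0x18195) (.node 39020 (.leaf 0x18195) (.leaf 0x18195))))))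

def candS_1928 : Store := (.node 39031 (.node 39026 (.node 39023 (.node 39022 (.leaf 0x18195) (.leaf 0x18195)) (.node 39024 (.leaf 0x18195) (.node 39025 (.leaf 0x18195) (.leaf 0x18195)))) (.node 39028 (.node 39027 (.leaf 0x18195) (.leaf 0x18195)) (.node 39029 (.leaf 0x18195) (.node 39030 (.leaf 0x18195) (.leaf 0x18195))))) (.node 39036 (.node 39033 (.node 39032 (.leaf 0x18195) (.leaf 0x18195)) (.node 39034 (.leaf 0x18195) (.node 39035 (.leaf 0x18195) (.leaf 0x18195)))) (.node 39039 (.node 39037 (.leaf 0x18195) (.node 39038 (.leaf 0x18195) (.leaf 0x18195))) (.node 39040 (.leaf 0x18195) (.node 39041 (.leaf 0x18195) (.leaf 0x18195))))))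

def candS_1929 : Store := (.node 39052 (.node 39047 (.node 39044 (.node 39043 (.leaf 0x18195) (.leaf 0x18195)) (.node 39045 (.leaf 0x18195) (.node 39046 (.leaf 0x18195) (.leaf 0x18195)))) (.node 39049 (.node 39048 (.leaf 0x18195) (.leaf 0x18195)) (.node 39050 (.leaf 0x18195) (.node 39051 (.leaf 0x18195) (.leaf 0x18195))))) (.node 39057 (.node 39054 (.node 39053 (.leaf 0x18195) (.leaf 0x18195)) (.node 39055 (.leaf 0x18195) (.node 39056 (.leaf 0x18195) (.leaf 0x18195)))) (.node 39059 (.node 39058 (.leaf 0x18195) (.leaf 0x18195)) (.node 39060 (.leaf 0x18195) (.node 39061 (.leaf 0x18195) (.leaf 0x18195))))))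

def candS_1930 : Store := (.node 39072 (.node 39067 (.node 39064 (.node 39063 (.leaf 0x18195) (.leaf 0x18195)) (.node 39065 (.leaf 0x18195) (.node 39066 (.leaf 0x18195) (.leaf 0x18195)))) (.node 39069 (.node 39068 (.leaf 0x18195) (.leaf 0x18195)) (.node 39070 (.leaf 0x18195) (.node 39071 (.leaf 0x18195) (.leaf 0x18195))))) (.node 39077 (.node 39074 (.node 39073 (.leaf 0x18195) (.leaf 0x18195)) (.node 39075 (.leaf 0x18195) (.node 39076 (.leaf 0x18195) (.leaf 0x18195)))) (.node 39079 (.node 39078 (.leaf 0x18195) (.leaf 0x18195)) (.node 39080 (.leaf 0x18195) (.node 39081 (.leaf 0x18195) (.leaf 0x18195))))))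

def candS_1931 : Store := (.node 39092 (.node 39087 (.node 39084 (.node 39083 (.leaf 0x18195) (.leaf 0x18195)) (.node 39085 (.leaf 0x18195) (.node 39086 (.leaf 0x18195) (.leaf 0x18195)))) (.node 39089 (.node 39088 (.leaf 0x18195) (.leaf 0x18195)) (.node 39090 (.leaf 0x18195) (.node 39091 (.leaf 0x18195) (.leaf 0x18195))))) (.node 39097 (.node 39094 (.node 39093 (.leaf 0x18195) (.leaf 0x18195)) (.node 39095 (.leaf 0x18195) (.node 39096 (.leaf 0x18195) (.leaf 0x18195)))) (.node 39099 (.node 39098 (.leaf 0x18195) (.leaf 0x18195)) (.node 39100 (.leaf 0x18195) (.node 39101 (.leaf 0x18195) (.leaf 0x18195))))))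

def candS_1932 : Store := (.node 39112 (.node 39107 (.node 39104 (.node 39103 (.leaf 0x18195) (.leaf 0x18195)) (.node 39105 (.leaf 0x18195) (.node 39106 (.leaf 0x18195) (.leaf 0x18195)))) (.node 39109 (.node 39108 (.leaf 0x18195) (.leaf 0x18195)) (.node 39110 (.leaf 0x18195) (.node 39111 (.leaf 0x18195) (.leaf 0x18195))))) (.node 39117 (.node 39114 (.node 39113 (.leaf 0x18195) (.leaf 0x18195)) (.node 39115 (.leaf 0x18195) (.node 39116 (.leaf 0x18195) (.leaf 0x18195)))) (.node 39120 (.node 39118 (.leaf 0x18195) (.node 39119 (.leaf 0x18195) (.leaf 0x18195))) (.node 39121 (.leaf 0x18195) (.node 39122 (.leaf 0x18195) (.leaf 0x18195))))))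

def candS_1933 : Store := (.node 39133 (.node 39128 (.node 39125 (.node 39124 (.leaf 0x18195) (.leaf 0x18195)) (.node 39126 (.leaf 0x18195) (.node 39127 (.leaf 0x18195) (.leaf 0x18195)))) (.node 39130 (.node 39129 (.leaf 0x18195) (.leaf 0x18195)) (.node 39131 (.leaf 0x18195) (.node 39132 (.leaf 0x18195) (.leaf 0x18195))))) (.node 39138 (.node 39135 (.node 39134 (.leaf 0x18195) (.leaf 0x18195)) (.node 39136 (.leaf 0x18195) (.node 39137 (.leaf 0x18195) (.leaf 0x18195)))) (.node 39140 (.node 39139 (.leaf 0x18195) (.leaf 0x18195)) (.node 39141 (.leaf 0x18195) (.node 39142 (.leaf 0x18195) (.leaf 0x18195))))))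

def candS_1934 : Store := (.node 39153 (.node 39148 (.node 39145 (.node 39144 (.leaf 0x18195) (.leaf 0x18195)) (.node 39146 (.leaf 0x18195) (.node 39147 (.leaf 0x18195) (.leaf 0x18195)))) (.node 39150 (.node 39149 (.leaf 0x18195) (.leaf 0x18195)) (.node 39151 (.leaf 0x18195) (.node 39152 (.leaf 0x18195) (.leaf 0x18195))))) (.node 39158 (.node 39155 (.node 39154 (.leaf 0x18195) (.leaf 0x18195)) (.node 39156 (.leaf 0x18195) (.node 39157 (.leaf 0x18195) (.leaf 0x18195)))) (.node 39160 (.node 39159 (.leaf 0x18195) (.leaf 0x18195)) (.node 39161 (.leaf 0x18195) (.node 39162 (.leaf 0x18195) (.leaf 0x18195))))))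

def candS_1935 : Store := (.node 39173 (.node 39168 (.node 39165 (.node 39164 (.leaf 0x18195) (.leaf 0x18195)) (.node 39166 (.leaf 0x18195) (.node 39167 (.leaf 0x18195) (.leaf 0x18195)))) (.node 39170 (.node 39169 (.leaf 0x18195) (.leaf 0x18195)) (.node 39171 (.leaf 0x18195) (.node 39172 (.leaf 0x18195) (.leaf 0x18195))))) (.node 39178 (.node 39175 (.node 39174 (.leaf 0x18195) (.leaf 0x18195)) (.node 39176 (.leaf 0x18195) (.node 39177 (.leaf 0x18195) (.leaf 0x18195)))) (.node 39180 (.node 39179 (.leaf 0x18195) (.leaf 0x18195)) (.node 39181 (.leaf 0x18195) (.node 39182 (.leaf 0x18195) (.leaf 0x18195))))))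

def candS_1936 : Store := (.node 39193 (.node 39188 (.node 39185 (.node 39184 (.leaf 0x18195) (.leaf 0x18195)) (.node 39186 (.leaf 0x18195) (.node 39187 (.leaf 0x18195) (.leaf 0x18195)))) (.node 39190 (.node 39189 (.leaf 0x18195) (.leaf 0x18195)) (.node 39191 (.leaf 0x18195) (.node 39192 (.leaf 0x18195) (.leaf 0x18195))))) (.node 39198 (.node 39195 (.node 39194 (.leaf 0x18195) (.leaf 0x18195)) (.node 39196 (.leaf 0x18195) (.node 39197 (.leaf 0x18195) (.leaf 0x18195)))) (.node 39201 (.node 39199 (.leaf 0x18195) (.node 39200 (.leaf 0x18195) (.leaf 0x18195))) (.node 39202 (.leaf 0x18195) (.node 39203 (.leaf 0x18195) (.leaf 0x18195))))))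

def candS_1937 : Store := (.node 39214 (.node 39209 (.node 39206 (.node 39205 (.leaf 0x18195) (.leaf 0x18195)) (.node 39207 (.leaf 0x18195) (.node 39208 (.leaf 0x18195) (.leaf 0x18195)))) (.node 39211 (.node 39210 (.leaf 0x18195) (.leaf 0x18195)) (.node 39212 (.leaf 0x18195) (.node 39213 (.leaf 0x18195) (.leaf 0x18195))))) (.node 39219 (.node 39216 (.node 39215 (.leaf 0x18195) (.leaf 0x18195)) (.node 39217 (.leaf 0x18195) (.node 39218 (.leaf 0x18195) (.leaf 0x18195)))) (.node 39221 (.node 39220 (.leaf 0x18195) (.leaf 0x18195)) (.node 39222 (.leaf 0x18195) (.node 39223 (.leaf 0x18195) (.leaf 0x18195))))))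

def candS_1938 : Store := (.node 39234 (.node 39229 (.node 39226 (.node 39225 (.leaf 0x18195) (.leaf 0x18195)) (.node 39227 (.leaf 0x18195) (.node 39228 (.leaf 0x18195) (.leaf 0x18195)))) (.node 39231 (.node 39230 (.leaf 0x18195) (.leaf 0x18195)) (.node 39232 (.leaf 0x18195) (.node 39233 (.leaf 0x18195) (.leaf 0x18195))))) (.node 39239 (.node 39236 (.node 39235 (.leaf 0x18195) (.leaf 0x18195)) (.node 39237 (.leaf 0x18195) (.node 39238 (.leaf 0x18195) (.leaf 0x18195)))) (.node 39241 (.node 39240 (.leaf 0x18195) (.leaf 0x18195)) (.node 39242 (.leaf 0x18195) (.node 39243 (.leaf 0x18195) (.leaf 0x18195))))))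

def candS_1939 : Store := (.node 39254 (.node 39249 (.node 39246 (.node 39245 (.leaf 0x18195) (.leaf 0x18195)) (.node 39247 (.leaf 0x18195) (.node 39248 (.leaf 0x18195) (.leaf 0x18195)))) (.node 39251 (.node 39250 (.leaf 0x18195) (.leaf 0x18195)) (.node 39252 (.leaf 0x18195) (.node 39253 (.leaf 0x18195) (.leaf 0x18195))))) (.node 39259 (.node 39256 (.node 39255 (.leaf 0x18195) (.leaf 0x18195)) (.node 39257 (.leaf 0x18195) (.node 39258 (.leaf 0x18195) (.leaf 0x18195)))) (.node 39261 (.node 39260 (.leaf 0x18195) (.leaf 0x18195)) (.node 39262 (.leaf 0x18195) (.node 39263 (.leaf 0x18195) (.leaf 0x18195))))))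

def candS_1940 : Store := (.node 39274 (.node 39269 (.node 39266 (.node 39265 (.leaf 0x18195) (.leaf 0x18195)) (.node 39267 (.leaf 0x18195) (.node 39268 (.leaf 0x18195) (.leaf 0x18195)))) (.node 39271 (.node 39270 (.leaf 0x18195) (.leaf 0x18195)) (.node 39272 (.leaf 0x18195) (.node 39273 (.leaf 0x18195) (.leaf 0x18195))))) (.node 39279 (.node 39276 (.node 39275 (.leaf 0x18195) (.leaf 0x18195)) (.node 39277 (.leaf 0x18195) (.node 39278 (.leaf 0x18195) (.leaf 0x18195)))) (.node 39282 (.node 39280 (.leaf 0x18195) (.node 39281 (.leaf 0x18195) (.leaf 0x18195))) (.node 39283 (.leaf 0x18195) (.node 39284 (.leaf 0x18195) (.leaf 0x18195))))))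

def candS_1941 : Store := (.node 39295 (.node 39290 (.node 39287 (.node 39286 (.leaf 0x18195) (.leaf 0x18195)) (.node 39288 (.leaf 0x18195) (.node 39289 (.leaf 0x18195) (.leaf 0x18195)))) (.node 39292 (.node 39291 (.leaf 0x18195) (.leaf 0x18195)) (.node 39293 (.leaf 0x18195) (.node 39294 (.leaf 0x18195) (.leaf 0x18195))))) (.node 39300 (.node 39297 (.node 39296 (.leaf 0x18195) (.leaf 0x18195)) (.node 39298 (.leaf 0x18195) (.node 39299 (.leaf 0x18195) (.leaf 0x18195)))) (.node 39302 (.node 39301 (.leaf 0x18195) (.leaf 0x18195)) (.node 39303 (.leaf 0x18195) (.node 39304 (.leaf 0x18195) (.leaf 0x18195))))))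

def candS_1942 : Store := (.node 39315 (.node 39310 (.node 39307 (.node 39306 (.leaf 0x18195) (.leaf 0x18195)) (.node 39308 (.leaf 0x18195) (.node 39309 (.leaf 0x18195) (.leaf 0x18195)))) (.node 39312 (.node 39311 (.leaf 0x18195) (.leaf 0x18195)) (.node 39313 (.leaf 0x18195) (.node 39314 (.leaf 0x18195) (.leaf 0x18195))))) (.node 39320 (.node 39317 (.node 39316 (.leaf 0x18195) (.leaf 0x18195)) (.node 39318 (.leaf 0x18195) (.node 39319 (.leaf 0x18195) (.leaf 0x18195)))) (.node 39322 (.node 39321 (.leaf 0x18195) (.leaf 0x18195)) (.node 39323 (.leaf 0x18195) (.node 39324 (.leaf 0x18195) (.leaf 0x18195))))))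

def candS_1943 : Store := (.node 39335 (.node 39330 (.node 39327 (.node 39326 (.leaf 0x18195) (.leaf 0x18195)) (.node 39328 (.leaf 0x18195) (.node 39329 (.leaf 0x18195) (.leaf 0x18195)))) (.node 39332 (.node 39331 (.leaf 0x18195) (.leaf 0x18195)) (.node 39333 (.leaf 0x18195) (.node 39334 (.leaf 0x18195) (.leaf 0x18195))))) (.node 39340 (.node 39337 (.node 39336 (.leaf 0x18195) (.leaf 0x18195)) (.node 39338 (.leaf 0x18195) (.node 39339 (.leaf 0x18195) (.leaf 0x18195)))) (.node 39342 (.node 39341 (.leaf 0x18195) (.leaf 0x18195)) (.node 39343 (.leaf 0x18195) (.node 39344 (.leaf 0x18195) (.leaf 0x18195))))))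

def candS_1944 : Store := (.node 39355 (.node 39350 (.node 39347 (.node 39346 (.leaf 0x18195) (.leaf 0x18195)) (.node 39348 (.leaf 0x18195) (.node 39349 (.leaf 0x18195) (.leaf 0x18195)))) (.node 39352 (.node 39351 (.leaf 0x18195) (.leaf 0x18195)) (.node 39353 (.leaf 0x18195) (.node 39354 (.leaf 0x18195) (.leaf 0x18195))))) (.node 39360 (.node 39357 (.node 39356 (.leaf 0x18195) (.leaf 0x18195)) (.node 39358 (.leaf 0x18195) (.node 39359 (.leaf 0x18195) (.leaf 0x18195)))) (.node 39363 (.node 39361 (.leaf 0x18195) (.node 39362 (.leaf 0x18195) (.leaf 0x18195))) (.node 39364 (.leaf 0x18195) (.node 39365 (.leaf 0x18195) (.leaf 0x18195))))))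

def candS_1945 : Store := (.node 39376 (.node 39371 (.node 39368 (.node 39367 (.leaf 0x18195) (.leaf 0x18195)) (.node 39369 (.leaf 0x18195) (.node 39370 (.leaf 0x18195) (.leaf 0x18195)))) (.node 39373 (.node 39372 (.leaf 0x18195) (.leaf 0x18195)) (.node 39374 (.leaf 0x18195) (.node 39375 (.leaf 0x18195) (.leaf 0x18195))))) (.node 39381 (.node 39378 (.node 39377 (.leaf 0x18195) (.leaf 0x18195)) (.node 39379 (.leaf 0x18195) (.node 39380 (.leaf 0x18195) (.leaf 0x18195)))) (.node 39383 (.node 39382 (.leaf 0x18195) (.leaf 0x18195)) (.node 39384 (.leaf 0x18195) (.node 39385 (.leaf 0x18195) (.leaf 0x18195))))))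

def candS_1946 : Store := (.node 39396 (.node 39391 (.node 39388 (.node 39387 (.leaf 0x18195) (.leaf 0x18195)) (.node 39389 (.leaf 0x18195) (.node 39390 (.leaf 0x18195) (.leaf 0x18195)))) (.node 39393 (.node 39392 (.leaf 0x18195) (.leaf 0x18195)) (.node 39394 (.leaf 0x18195) (.node 39395 (.leaf 0x18195) (.leaf 0x18195))))) (.node 39401 (.node 39398 (.node 39397 (.leaf 0x18195) (.leaf 0x18195)) (.node 39399 (.leaf 0x18195) (.node 39400 (.leaf 0x18195) (.leaf 0x18195)))) (.node 39403 (.node 39402 (.leaf 0x18195) (.leaf 0x18195)) (.node 39404 (.leaf 0x18195) (.node 39405 (.leaf 0x18195) (.leaf 0x18195))))))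

def candS_1947 : Store := (.node 39416 (.node 39411 (.node 39408 (.node 39407 (.leaf 0x18195) (.leaf 0x18195)) (.node 39409 (.leaf 0x18195) (.node 39410 (.leaf 0x18195) (.leaf 0x18195)))) (.node 39413 (.node 39412 (.leaf 0x18195) (.leaf 0x18195)) (.node 39414 (.leaf 0x18195) (.node 39415 (.leaf 0x18195) (.leaf 0x18195))))) (.node 39421 (.node 39418 (.node 39417 (.leaf 0x18195) (.leaf 0x18195)) (.node 39419 (.leaf 0x18195) (.node 39420 (.leaf 0x18195) (.leaf 0x18195)))) (.node 39423 (.node 39422 (.leaf 0x18195) (.leaf 0x18195)) (.node 39424 (.leaf 0x18195) (.node 39425 (.leaf 0x18195) (.leaf 0x18195))))))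

def candS_1948 : Store := (.node 39436 (.node 39431 (.node 39428 (.node 39427 (.leaf 0x18195) (.leaf 0x18195)) (.node 39429 (.leaf 0x18195) (.node 39430 (.leaf 0x18195) (.leaf 0x18195)))) (.node 39433 (.node 39432 (.leaf 0x18195) (.leaf 0x18195)) (.node 39434 (.leaf 0x18195) (.node 39435 (.leaf 0x18195) (.leaf 0x18195))))) (.node 39441 (.node 39438 (.node 39437 (.leaf 0x18195) (.leaf 0x18195)) (.node 39439 (.leaf 0x18195) (.node 39440 (.leaf 0x18195) (.leaf 0x18195)))) (.node 39444 (.node 39442 (.leaf 0x18195) (.node 39443 (.leaf 0x18195) (.leaf 0x18195))) (.node 39445 (.leaf 0x18195) (.node 39446 (.leaf 0x18195) (.leaf 0x18195))))))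

def candS_1949 : Store := (.node 39457 (.node 39452 (.node 39449 (.node 39448 (.leaf 0x18195) (.leaf 0x18195)) (.node 39450 (.leaf 0x18195) (.node 39451 (.leaf 0x18195) (.leaf 0x18195)))) (.node 39454 (.node 39453 (.leaf 0x18195) (.leaf 0x18195)) (.node 39455 (.leaf 0x18195) (.node 39456 (.leaf 0x18195) (.leaf 0x18195))))) (.node 39462 (.node 39459 (.node 39458 (.leaf 0x18195) (.leaf 0x18195)) (.node 39460 (.leaf 0x18195) (.node 39461 (.leaf 0x18195) (.leaf 0x18195)))) (.node 39464 (.node 39463 (.leaf 0x18195) (.leaf 0x18195)) (.node 39465 (.leaf 0x18195) (.node 39466 (.leaf 0x18195) (.leaf 0x18195))))))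

def candS_1950 : Store := (.node 39477 (.node 39472 (.node 39469 (.node 39468 (.leaf 0x18195) (.leaf 0x18195)) (.node 39470 (.leaf 0x18195) (.node 39471 (.leaf 0x18195) (.leaf 0x18195)))) (.node 39474 (.node 39473 (.leaf 0x18195) (.leaf 0x18195)) (.node 39475 (.leaf 0x18195) (.node 39476 (.leaf 0x18195) (.leaf 0x18195))))) (.node 39482 (.node 39479 (.node 39478 (.leaf 0x18195) (.leaf 0x18195)) (.node 39480 (.leaf 0x18195) (.node 39481 (.leaf 0x18195) (.leaf 0x18195)))) (.node 39484 (.node 39483 (.leaf 0x18195) (.leaf 0x18195)) (.node 39485 (.leaf 0x18195) (.node 39486 (.leaf 0x18195) (.leaf 0x18195))))))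

def candS_1951 : Store := (.node 39497 (.node 39492 (.node 39489 (.node 39488 (.leaf 0x18195) (.leaf 0x18195)) (.node 39490 (.leaf 0x18195) (.node 39491 (.leaf 0x18195) (.leaf 0x18195)))) (.node 39494 (.node 39493 (.leaf 0x18195) (.leaf 0x18195)) (.node 39495 (.leaf 0x18195) (.node 39496 (.leaf 0x18195) (.leaf 0x18195))))) (.node 39502 (.node 39499 (.node 39498 (.leaf 0x18195) (.leaf 0x18195)) (.node 39500 (.leaf 0x18195) (.node 39501 (.leaf 0x18195) (.leaf 0x18195)))) (.node 39504 (.node 39503 (.leaf 0x18195) (.leaf 0x18195)) (.node 39505 (.leaf 0x18195) (.node 39506 (.leaf 0x18195) (.leaf 0x18195))))))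

def candS_1952 : Store := (.node 39517 (.node 39512 (.node 39509 (.node 39508 (.leaf 0x18195) (.leaf 0x18195)) (.node 39510 (.leaf 0x18195) (.node 39511 (.leaf 0x18195) (.leaf 0x18195)))) (.node 39514 (.node 39513 (.leaf 0x18195) (.leaf 0x18195)) (.node 39515 (.leaf 0x18195) (.node 39516 (.leaf 0x18195) (.leaf 0x18195))))) (.node 39522 (.node 39519 (.node 39518 (.leaf 0x18195) (.leaf 0x18195)) (.node 39520 (.leaf 0x18195) (.node 39521 (.leaf 0x18195) (.leaf 0x18195)))) (.node 39525 (.node 39523 (.leaf 0x18195) (.node 39524 (.leaf 0x18195) (.leaf 0x18195))) (.node 39526 (.leaf 0x18195) (.node 39527 (.leaf 0x18195) (.leaf 0x18195))))))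

def candS_1953 : Store := (.node 39538 (.node 39533 (.node 39530 (.node 39529 (.leaf 0x18195) (.leaf 0x18195)) (.node 39531 (.leaf 0x18195) (.node 39532 (.leaf 0x18195) (.leaf 0x18195)))) (.node 39535 (.node 39534 (.leaf 0x18195) (.leaf 0x18195)) (.node 39536 (.leaf 0x18195) (.node 39537 (.leaf 0x18195) (.leaf 0x18195))))) (.node 39543 (.node 39540 (.node 39539 (.leaf 0x18195) (.leaf 0x18195)) (.node 39541 (.leaf 0x18195) (.node 39542 (.leaf 0x18195) (.leaf 0x18195)))) (.node 39545 (.node 39544 (.leaf 0x18195) (.leaf 0x18195)) (.node 39546 (.leaf 0x18195) (.node 39547 (.leaf 0x18195) (.leaf 0x18195))))))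

def candS_1954 : Store := (.node 39558 (.node 39553 (.node 39550 (.node 39549 (.leaf 0x18195) (.leaf 0x18195)) (.node 39551 (.leaf 0x18195) (.node 39552 (.leaf 0x18195) (.leaf 0x18195)))) (.node 39555 (.node 39554 (.leaf 0x18195) (.leaf 0x18195)) (.node 39556 (.leaf 0x18195) (.node 39557 (.leaf 0x18195) (.leaf 0x18195))))) (.node 39563 (.node 39560 (.node 39559 (.leaf 0x18195) (.leaf 0x18195)) (.node 39561 (.leaf 0x18195) (.node 39562 (.leaf 0x18195) (.leaf 0x18195)))) (.node 39565 (.node 39564 (.leaf 0x18195) (.leaf 0x18195)) (.node 39566 (.leaf 0x18195) (.node 39567 (.leaf 0x18195) (.leaf 0x18195))))))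

def candS_1955 : Store := (.node 39578 (.node 39573 (.node 39570 (.node 39569 (.leaf 0x18195) (.leaf 0x18195)) (.node 39571 (.leaf 0x18195) (.node 39572 (.leaf 0x18195) (.leaf 0x18195)))) (.node 39575 (.node 39574 (.leaf 0x18195) (.leaf 0x18195)) (.node 39576 (.leaf 0x18195) (.node 39577 (.leaf 0x18195) (.leaf 0x18195))))) (.node 39583 (.node 39580 (.node 39579 (.leaf 0x18195) (.leaf 0x18195)) (.node 39581 (.leaf 0x18195) (.node 39582 (.leaf 0x18195) (.leaf 0x18195)))) (.node 39585 (.node 39584 (.leaf 0x18195) (.leaf 0x18195)) (.node 39586 (.leaf 0x18195) (.node 39587 (.leaf 0x18195) (.leaf 0x18195))))))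

def candS_1956 : Store := (.node 39598 (.node 39593 (.node 39590 (.node 39589 (.leaf 0x18195) (.leaf 0x18195)) (.node 39591 (.leaf 0x18195) (.node 39592 (.leaf 0x18195) (.leaf 0x18195)))) (.node 39595 (.node 39594 (.leaf 0x18195) (.leaf 0x18195)) (.node 39596 (.leaf 0x18195) (.node 39597 (.leaf 0x18195) (.leaf 0x18195))))) (.node 39603 (.node 39600 (.node 39599 (.leaf 0x18195) (.leaf 0x18195)) (.node 39601 (.leaf 0x18195) (.node 39602 (.leaf 0x18195) (.leaf 0x18195)))) (.node 39606 (.node 39604 (.leaf 0x18195) (.node 39605 (.leaf 0x18195) (.leaf 0x18195))) (.node 39607 (.leaf 0x18195) (.node 39608 (.leaf 0x18195) (.leaf 0x18195))))))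

def candS_1957 : Store := (.node 39619 (.node 39614 (.node 39611 (.node 39610 (.leaf 0x18195) (.leaf 0x18195)) (.node 39612 (.leaf 0x18195) (.node 39613 (.leaf 0x18195) (.leaf 0x18195)))) (.node 39616 (.node 39615 (.leaf 0x18195) (.leaf 0x18195)) (.node 39617 (.leaf 0x18195) (.node 39618 (.leaf 0x18195) (.leaf 0x18195))))) (.node 39624 (.node 39621 (.node 39620 (.leaf 0x18195) (.leaf 0x18195)) (.node 39622 (.leaf 0x18195) (.node 39623 (.leaf 0x18195) (.leaf 0x18195)))) (.node 39626 (.node 39625 (.leaf 0x18195) (.leaf 0x18195)) (.node 39627 (.leaf 0x18195) (.node 39628 (.leaf 0x18195) (.leaf 0x18195))))))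

def candS_1958 : Store := (.node 39639 (.node 39634 (.node 39631 (.node 39630 (.leaf 0x18195) (.leaf 0x18195)) (.node 39632 (.leaf 0x18195) (.node 39633 (.leaf 0x18195) (.leaf 0x18195)))) (.node 39636 (.node 39635 (.leaf 0x18195) (.leaf 0x18195)) (.node 39637 (.leaf 0x18195) (.node 39638 (.leaf 0x18195) (.leaf 0x18195))))) (.node 39644 (.node 39641 (.node 39640 (.leaf 0x18195) (.leaf 0x18195)) (.node 39642 (.leaf 0x18195) (.node 39643 (.leaf 0x18195) (.leaf 0x18195)))) (.node 39646 (.node 39645 (.leaf 0x18195) (.leaf 0x18195)) (.node 39647 (.leaf 0x18195) (.node 39648 (.leaf 0x18195) (.leaf 0x18195))))))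

def candS_1959 : Store := (.node 39659 (.node 39654 (.node 39651 (.node 39650 (.leaf 0x18195) (.leaf 0x18195)) (.node 39652 (.leaf 0x18195) (.node 39653 (.leaf 0x18195) (.leaf 0x18195)))) (.node 39656 (.node 39655 (.leaf 0x18195) (.leaf 0x18195)) (.node 39657 (.leaf 0x18195) (.node 39658 (.leaf 0x18195) (.leaf 0x18195))))) (.node 39664 (.node 39661 (.node 39660 (.leaf 0x18195) (.leaf 0x18195)) (.node 39662 (.leaf 0x18195) (.node 39663 (.leaf 0x18195) (.leaf 0x18195)))) (.node 39666 (.node 39665 (.leaf 0x18195) (.leaf 0x18195)) (.node 39667 (.leaf 0x18195) (.node 39668 (.leaf 0x18195) (.leaf 0x18195))))))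

def candS_1960 : Store := (.node 39679 (.node 39674 (.node 39671 (.node 39670 (.leaf 0x18195) (.leaf 0x18195)) (.node 39672 (.leaf 0x18195) (.node 39673 (.leaf 0x18195) (.leaf 0x18195)))) (.node 39676 (.node 39675 (.leaf 0x18195) (.leaf 0x18195)) (.node 39677 (.leaf 0x18195) (.node 39678 (.leaf 0x18195) (.leaf 0x18195))))) (.node 39684 (.node 39681 (.node 39680 (.leaf 0x18195) (.leaf 0x18195)) (.node 39682 (.leaf 0x18195) (.node 39683 (.leaf 0x18195) (.leaf 0x18195)))) (.node 39687 (.node 39685 (.leaf 0x18195) (.node 39686 (.leaf 0x18195) (.leaf 0x18195))) (.node 39688 (.leaf 0x18195) (.node 39689 (.leaf 0x18195) (.leaf 0x18195))))))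

def candS_1961 : Store := (.node 39700 (.node 39695 (.node 39692 (.node 39691 (.leaf 0x18195) (.leaf 0x18195)) (.node 39693 (.leaf 0x18195) (.node 39694 (.leaf 0x18195) (.leaf 0x18195)))) (.node 39697 (.node 39696 (.leaf 0x18195) (.leaf 0x18195)) (.node 39698 (.leaf 0x18195) (.node 39699 (.leaf 0x18195) (.leaf 0x18195))))) (.node 39705 (.node 39702 (.node 39701 (.leaf 0x18195) (.leaf 0x18195)) (.node 39703 (.leaf 0x18195) (.node 39704 (.leaf 0x18195) (.leaf 0x18195)))) (.node 39707 (.node 39706 (.leaf 0x18195) (.leaf 0x18195)) (.node 39708 (.leaf 0x18195) (.node 39709 (.leaf 0x18195) (.leaf 0x18195))))))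

def candS_1962 : Store := (.node 39720 (.node 39715 (.node 39712 (.node 39711 (.leaf 0x18195) (.leaf 0x18195)) (.node 39713 (.leaf 0x18195) (.node 39714 (.leaf 0x18195) (.leaf 0x18195)))) (.node 39717 (.node 39716 (.leaf 0x18195) (.leaf 0x18195)) (.node 39718 (.leaf 0x18195) (.node 39719 (.leaf 0x18195) (.leaf 0x18195))))) (.node 39725 (.node 39722 (.node 39721 (.leaf 0x18195) (.leaf 0x18195)) (.node 39723 (.leaf 0x18195) (.node 39724 (.leaf 0x18195) (.leaf 0x18195)))) (.node 39727 (.node 39726 (.leaf 0x18195) (.leaf 0x18195)) (.node 39728 (.leaf 0x18195) (.node 39729 (.leaf 0x18195) (.leaf 0x18195))))))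

def candS_1963 : Store := (.node 39740 (.node 39735 (.node 39732 (.node 39731 (.leaf 0x18195) (.leaf 0x18195)) (.node 39733 (.leaf 0x18195) (.node 39734 (.leaf 0x18195) (.leaf 0x18195)))) (.node 39737 (.node 39736 (.leaf 0x18195) (.leaf 0x18195)) (.node 39738 (.leaf 0x18195) (.node 39739 (.leaf 0x18195) (.leaf 0x18195))))) (.node 39745 (.node 39742 (.node 39741 (.leaf 0x18195) (.leaf 0x18195)) (.node 39743 (.leaf 0x18195) (.node 39744 (.leaf 0x18195) (.leaf 0x3d0cf)))) (.node 39747 (.node 39746 (.leaf 0x3d0cf) (.leaf 0x3d0cf)) (.node 39748 (.leaf 0x3d0cf) (.node 39749 (.leaf 0x3d0cf) (.leaf 0x3d0cf))))))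

def candS_1964 : Store := (.node 39760 (.node 39755 (.node 39752 (.node 39751 (.leaf 0x3d0cf) (.leaf 0x3d0cf)) (.node 39753 (.leaf 0x3d0cf) (.node 39754 (.leaf 0x3d0cf) (.leaf 0x3d0cf)))) (.node 39757 (.node 39756 (.leaf 0x3d0cf) (.leaf 0x3d0cf)) (.node 39758 (.leaf 0x3d0cf) (.node 39759 (.leaf 0x3d0cf) (.leaf 0x3d0cf))))) (.node 39765 (.node 39762 (.node 39761 (.leaf 0x3d0cf) (.leaf 0x3d0cf)) (.node 39763 (.leaf 0x3d0cf) (.node 39764 (.leaf 0x3d0cf) (.leaf 0x3d0cf)))) (.node 39768 (.node 39766 (.leaf 0x3d0cf) (.node 39767 (.leaf 0x3d0cf) (.leaf 0x3d0cf))) (.node 39769 (.leaf 0x3d0cf) (.node 39770 (.leaf 0x3d0cf) (.leaf 0x3d0cf))))))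

def candS_1965 : Store := (.node 39781 (.node 39776 (.node 39773 (.node 39772 (.leaf 0x3d0cf) (.leaf 0x3d0cf)) (.node 39774 (.leaf 0x3d0cf) (.node 39775 (.leaf 0x3d0cf) (.leaf 0x3d0cf)))) (.node 39778 (.node 39777 (.leaf 0x3d0cf) (.leaf 0x3d0cf)) (.node 39779 (.leaf 0x3d0cf) (.node 39780 (.leaf 0x3d0cf) (.leaf 0x3d0cf))))) (.node 39786 (.node 39783 (.node 39782 (.leaf 0x3d0cf) (.leaf 0x3d0cf)) (.node 39784 (.leaf 0x3d0cf) (.node 39785 (.leaf 0x3d0cf) (.leaf 0x3d0cf)))) (.node 39788 (.node 39787 (.leaf 0x3d0cf) (.leaf 0x3d0cf)) (.node 39789 (.leaf 0x3d0cf) (.node 39790 (.leaf 0x3d0cf) (.leaf 0x3d0cf))))))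

def candS_1966 : Store := (.node 39801 (.node 39796 (.node 39793 (.node 39792 (.leaf 0x3d0cf) (.leaf 0x3d0cf)) (.node 39794 (.leaf 0x3d0cf) (.node 39795 (.leaf 0x3d0cf) (.leaf 0x3d0cf)))) (.node 39798 (.node 39797 (.leaf 0x3d0cf) (.leaf 0x3d0cf)) (.node 39799 (.leaf 0x3d0cf) (.node 39800 (.leaf 0x3d0cf) (.leaf 0x3d0cf))))) (.node 39806 (.node 39803 (.node 39802 (.leaf 0x3d0cf) (.leaf 0x3d0cf)) (.node 39804 (.leaf 0x3d0cf) (.node 39805 (.leaf 0x3d0cf) (.leaf 0x3d0cf)))) (.node 39808 (.node 39807 (.leaf 0x3d0cf) (.leaf 0x3d0cf)) (.node 39809 (.leaf 0x3d0cf) (.node 39810 (.leaf 0x3d0cf) (.leaf 0x3d0cf))))))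

def candS_1967 : Store := (.node 39821 (.node 39816 (.node 39813 (.node 39812 (.leaf 0x3d0cf) (.leaf 0x3d0cf)) (.node 39814 (.leaf 0x3d0cf) (.node 39815 (.leaf 0x3d0cf) (.leaf 0x3d0cf)))) (.node 39818 (.node 39817 (.leaf 0x3d0cf) (.leaf 0x3d0cf)) (.node 39819 (.leaf 0x3d0cf) (.node 39820 (.leaf 0x3d0cf) (.leaf 0x3d0cf))))) (.node 39826 (.node 39823 (.node 39822 (.leaf 0x3d0cf) (.leaf 0x3d0cf)) (.node 39824 (.leaf 0x3d0cf) (.node 39825 (.leaf 0x3d0cf) (.leaf 0x3d0cf)))) (.node 39828 (.node 39827 (.leaf 0x3d0cf) (.leaf 0x3d0cf)) (.node 39829 (.leaf 0x3d0cf) (.node 39830 (.leaf 0x3d0cf) (.leaf 0x3d0cf))))))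

def candS_1968 : Store := (.node 39841 (.node 39836 (.node 39833 (.node 39832 (.leaf 0x3d0cf) (.leaf 0x3d0cf)) (.node 39834 (.leaf 0x3d0cf) (.node 39835 (.leaf 0x3d0cf) (.leaf 0x3d0cf)))) (.node 39838 (.node 39837 (.leaf 0x3d0cf) (.leaf 0x3d0cf)) (.node 39839 (.leaf 0x3d0cf) (.node 39840 (.leaf 0x3d0cf) (.leaf 0x3d0cf))))) (.node 39846 (.node 39843 (.node 39842 (.leaf 0x3d0cf) (.leaf 0x3d0cf)) (.node 39844 (.leaf 0x3d0cf) (.node 39845 (.leaf 0x3d0cf) (.leaf 0x3d0cf)))) (.node 39849 (.node 39847 (.leaf 0x3d0cf) (.node 39848 (.leaf 0x3d0cf) (.leaf 0x3d0cf))) (.node 39850 (.leaf 0x3d0cf) (.node 39851 (.leaf 0x3d0cf) (.leaf 0x3d0cf))))))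

def candS_1969 : Store := (.node 39862 (.node 39857 (.node 39854 (.node 39853 (.leaf 0x3d0cf) (.leaf 0x3d0cf)) (.node 39855 (.leaf 0x3d0cf) (.node 39856 (.leaf 0x3d0cf) (.leaf 0x3d0cf)))) (.node 39859 (.node 39858 (.leaf 0x3d0cf) (.leaf 0x3d0cf)) (.node 39860 (.leaf 0x3d0cf) (.node 39861 (.leaf 0x3d0cf) (.leaf 0x3d0cf))))) (.node 39867 (.node 39864 (.node 39863 (.leaf 0x3d0cf) (.leaf 0x3d0cf)) (.node 39865 (.leaf 0x3d0cf) (.node 39866 (.leaf 0x3d0cf) (.leaf 0x3d0cf)))) (.node 39869 (.node 39868 (.leaf 0x3d0cf) (.leaf 0x3d0cf)) (.node 39870 (.leaf 0x3d0cf) (.node 39871 (.leaf 0x3d0cf) (.leaf 0x3d0cf))))))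

def candS_1970 : Store := (.node 39882 (.node 39877 (.node 39874 (.node 39873 (.leaf 0x3d0cf) (.leaf 0x3d0cf)) (.node 39875 (.leaf 0x3d0cf) (.node 39876 (.leaf 0x3d0cf) (.leaf 0x3d0cf)))) (.node 39879 (.node 39878 (.leaf 0x3d0cf) (.leaf 0x3d0cf)) (.node 39880 (.leaf 0x3d0cf) (.node 39881 (.leaf 0x3d0cf) (.leaf 0x3d0cf))))) (.node 39887 (.node 39884 (.node 39883 (.leaf 0x3d0cf) (.leaf 0x3d0cf)) (.node 39885 (.leaf 0x3d0cf) (.node 39886 (.leaf 0x3d0cf) (.leaf 0x3d0cf)))) (.node 39889 (.node 39888 (.leaf 0x3d0cf) (.leaf 0x3d0cf)) (.node 39890 (.leaf 0x3d0cf) (.node 39891 (.leaf 0x3d0cf) (.leaf 0x3d0cf))))))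

def candS_1971 : Store := (.node 39902 (.node 39897 (.node 39894 (.node 39893 (.leaf 0x3d0cf) (.leaf 0x3d0cf)) (.node 39895 (.leaf 0x3d0cf) (.node 39896 (.leaf 0x3d0cf) (.leaf 0x3d0cf)))) (.node 39899 (.node 39898 (.leaf 0x3d0cf) (.leaf 0x3d0cf)) (.node 39900 (.leaf 0x3d0cf) (.node 39901 (.leaf 0x3d0cf) (.leaf 0x3d0cf))))) (.node 39907 (.node 39904 (.node 39903 (.leaf 0x3d0cf) (.leaf 0x3d0cf)) (.node 39905 (.leaf 0x3d0cf) (.node 39906 (.leaf 0x3d0cf) (.leaf 0x3d0cf)))) (.node 39909 (.node 39908 (.leaf 0x3d0cf) (.leaf 0x3d0cf)) (.node 39910 (.leaf 0x3d0cf) (.node 39911 (.leaf 0x3d0cf) (.leaf 0x3d0cf))))))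

def candS_1972 : Store := (.node 39922 (.node 39917 (.node 39914 (.node 39913 (.leaf 0x3d0cf) (.leaf 0x3d0cf)) (.node 39915 (.leaf 0x3d0cf) (.node 39916 (.leaf 0x3d0cf) (.leaf 0x3d0cf)))) (.node 39919 (.node 39918 (.leaf 0x3d0cf) (.leaf 0x3d0cf)) (.node 39920 (.leaf 0x3d0cf) (.node 39921 (.leaf 0x3d0cf) (.leaf 0x3d0cf))))) (.node 39927 (.node 39924 (.node 39923 (.leaf 0x3d0cf) (.leaf 0x3d0cf)) (.node 39925 (.leaf 0x3d0cf) (.node 39926 (.leaf 0x3d0cf) (.leaf 0x3d0cf)))) (.node 39930 (.node 39928 (.leaf 0x3d0cf) (.node 39929 (.leaf 0x3d0cf) (.leaf 0x3d0cf))) (.node 39931 (.leaf 0x3d0cf) (.node 39932 (.leaf 0x3d0cf) (.leaf 0x3d0cf))))))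

def candS_1973 : Store := (.node 39943 (.node 39938 (.node 39935 (.node 39934 (.leaf 0x3d0cf) (.leaf 0x3d0cf)) (.node 39936 (.leaf 0x3d0cf) (.node 39937 (.leaf 0x3d0cf) (.leaf 0x3d0cf)))) (.node 39940 (.node 39939 (.leaf 0x3d0cf) (.leaf 0x3d0cf)) (.node 39941 (.leaf 0x3d0cf) (.node 39942 (.leaf 0x3d0cf) (.leaf 0x3d0cf))))) (.node 39948 (.node 39945 (.node 39944 (.leaf 0x3d0cf) (.leaf 0x3d0cf)) (.node 39946 (.leaf 0x3d0cf) (.node 39947 (.leaf 0x3d0cf) (.leaf 0x3d0cf)))) (.node 39950 (.node 39949 (.leaf 0x3d0cf) (.leaf 0x3d0cf)) (.node 39951 (.leaf 0x3d0cf) (.node 39952 (.leaf 0x3d0cf) (.leaf 0x3d0cf))))))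

def candS_1974 : Store := (.node 39963 (.node 39958 (.node 39955 (.node 39954 (.leaf 0x3d0cf) (.leaf 0x3d0cf)) (.node 39956 (.leaf 0x3d0cf) (.node 39957 (.leaf 0x3d0cf) (.leaf 0x3d0cf)))) (.node 39960 (.node 39959 (.leaf 0x3d0cf) (.leaf 0x3d0cf)) (.node 39961 (.leaf 0x3d0cf) (.node 39962 (.leaf 0x3d0cf) (.leaf 0x3d0cf))))) (.node 39968 (.node 39965 (.node 39964 (.leaf 0x3d0cf) (.leaf 0x3d0cf)) (.node 39966 (.leaf 0x3d0cf) (.node 39967 (.leaf 0x3d0cf) (.leaf 0x3d0cf)))) (.node 39970 (.node 39969 (.leaf 0x3d0cf) (.leaf 0x3d0cf)) (.node 39971 (.leaf 0x3d0cf) (.node 39972 (.leaf 0x3d0cf) (.leaf 0x3d0cf))))))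

def candS_1975 : Store := (.node 39983 (.node 39978 (.node 39975 (.node 39974 (.leaf 0x3d0cf) (.leaf 0x3d0cf)) (.node 39976 (.leaf 0x3d0cf) (.node 39977 (.leaf 0x3d0cf) (.leaf 0x3d0cf)))) (.node 39980 (.node 39979 (.leaf 0x3d0cf) (.leaf 0x3d0cf)) (.node 39981 (.leaf 0x3d0cf) (.node 39982 (.leaf 0x3d0cf) (.leaf 0x3d0cf))))) (.node 39988 (.node 39985 (.node 39984 (.leaf 0x3d0cf) (.leaf 0x3d0cf)) (.node 39986 (.leaf 0x3d0cf) (.node 39987 (.leaf 0x3d0cf) (.leaf 0x3d0cf)))) (.node 39990 (.node 39989 (.leaf 0x3d0cf) (.leaf 0x3d0cf)) (.node 39991 (.leaf 0x3d0cf) (.node 39992 (.leaf 0x3d0cf) (.leaf 0x3d0cf))))))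

def candS_1976 : Store := (.node 40003 (.node 39998 (.node 39995 (.node 39994 (.leaf 0x3d0cf) (.leaf 0x3d0cf)) (.node 39996 (.leaf 0x3d0cf) (.node 39997 (.leaf 0x3d0cf) (.leaf 0x3d0cf)))) (.node 40000 (.node 39999 (.leaf 0x3d0cf) (.leaf 0x3d0cf)) (.node 40001 (.leaf 0x3d0cf) (.node 40002 (.leaf 0x3d0cf) (.leaf 0x3d0cf))))) (.node 40008 (.node 40005 (.node 40004 (.leaf 0x3d0cf) (.leaf 0x3d0cf)) (.node 40006 (.leaf 0x3d0cf) (.node 40007 (.leaf 0x3d0cf) (.leaf 0x3d0cf)))) (.node 40011 (.node 40009 (.leaf 0x3d0cf) (.node 40010 (.leaf 0x3d0cf) (.leaf 0x3d0cf))) (.node 40012 (.leaf 0x3d0cf) (.node 40013 (.leaf 0x3d0cf) (.leaf 0x3d0cf))))))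

def candS_1977 : Store := (.node 40024 (.node 40019 (.node 40016 (.node 40015 (.leaf 0x3d0cf) (.leaf 0x3d0cf)) (.node 40017 (.leaf 0x3d0cf) (.node 40018 (.leaf 0x3d0cf) (.leaf 0x3d0cf)))) (.node 40021 (.node 40020 (.leaf 0x3d0cf) (.leaf 0x3d0cf)) (.node 40022 (.leaf 0x3d0cf) (.node 40023 (.leaf 0x3d0cf) (.leaf 0x3d0cf))))) (.node 40029 (.node 40026 (.node 40025 (.leaf 0x3d0cf) (.leaf 0x3d0cf)) (.node 40027 (.leaf 0x3d0cf) (.node 40028 (.leaf 0x3d0cf) (.leaf 0x3d0cf)))) (.node 40031 (.node 40030 (.leaf 0x3d0cf) (.leaf 0x3d0cf)) (.node 40032 (.leaf 0x3d0cf) (.node 40033 (.leaf 0x3d0cf) (.leaf 0x3d0cf))))))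

def candS_1978 : Store := (.node 40044 (.node 40039 (.node 40036 (.node 40035 (.leaf 0x3d0cf) (.leaf 0x3d0cf)) (.node 40037 (.leaf 0x3d0cf) (.node 40038 (.leaf 0x3d0cf) (.leaf 0x3d0cf)))) (.node 40041 (.node 40040 (.leaf 0x3d0cf) (.leaf 0x3d0cf)) (.node 40042 (.leaf 0x3d0cf) (.node 40043 (.leaf 0x3d0cf) (.leaf 0x3d0cf))))) (.node 40049 (.node 40046 (.node 40045 (.leaf 0x3d0cf) (.leaf 0x3d0cf)) (.node 40047 (.leaf 0x3d0cf) (.node 40048 (.leaf 0x3d0cf) (.leaf 0x3d0cf)))) (.node 40051 (.node 40050 (.leaf 0x3d0cf) (.leaf 0x3d0cf)) (.node 40052 (.leaf 0x3d0cf) (.node 40053 (.leaf 0x3d0cf) (.leaf 0x3d0cf))))))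

def candS_1979 : Store := (.node 40064 (.node 40059 (.node 40056 (.node 40055 (.leaf 0x3d0cf) (.leaf 0x3d0cf)) (.node 40057 (.leaf 0x3d0cf) (.node 40058 (.leaf 0x3d0cf) (.leaf 0x3d0cf)))) (.node 40061 (.node 40060 (.leaf 0x3d0cf) (.leaf 0x3d0cf)) (.node 40062 (.leaf 0x3d0cf) (.node 40063 (.leaf 0x3d0cf) (.leaf 0x3d0cf))))) (.node 40069 (.node 40066 (.node 40065 (.leaf 0x3d0cf) (.leaf 0x3d0cf)) (.node 40067 (.leaf 0x3d0cf) (.node 40068 (.leaf 0x3d0cf) (.leaf 0x3d0cf)))) (.node 40071 (.node 40070 (.leaf 0x3d0cf) (.leaf 0x3d0cf)) (.node 40072 (.leaf 0x3d0cf) (.node 40073 (.leaf 0x3d0cf) (.leaf 0x3d0cf))))))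

def candS_1980 : Store := (.node 40084 (.node 40079 (.node 40076 (.node 40075 (.leaf 0x3d0cf) (.leaf 0x3d0cf)) (.node 40077 (.leaf 0x3d0cf) (.node 40078 (.leaf 0x3d0cf) (.leaf 0x3d0cf)))) (.node 40081 (.node 40080 (.leaf 0x3d0cf) (.leaf 0x3d0cf)) (.node 40082 (.leaf 0x3d0cf) (.node 40083 (.leaf 0x3d0cf) (.leaf 0x3d0cf))))) (.node 40089 (.node 40086 (.node 40085 (.leaf 0x3d0cf) (.leaf 0x3d0cf)) (.node 40087 (.leaf 0x3d0cf) (.node 40088 (.leaf 0x3d0cf) (.leaf 0x3d0cf)))) (.node 40092 (.node 40090 (.leaf 0x3d0cf) (.node 40091 (.leaf 0x3d0cf) (.leaf 0x3d0cf))) (.node 40093 (.leaf 0x3d0cf) (.node 40094 (.leaf 0x3d0cf) (.leaf 0x3d0cf))))))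

def candS_1981 : Store := (.node 40105 (.node 40100 (.node 40097 (.node 40096 (.leaf 0x3d0cf) (.leaf 0x3d0cf)) (.node 40098 (.leaf 0x3d0cf) (.node 40099 (.leaf 0x3d0cf) (.leaf 0x3d0cf)))) (.node 40102 (.node 40101 (.leaf 0x3d0cf) (.leaf 0x3d0cf)) (.node 40103 (.leaf 0x3d0cf) (.node 40104 (.leaf 0x3d0cf) (.leaf 0x3d0cf))))) (.node 40110 (.node 40107 (.node 40106 (.leaf 0x3d0cf) (.leaf 0x3d0cf)) (.node 40108 (.leaf 0x3d0cf) (.node 40109 (.leaf 0x3d0cf) (.leaf 0x3d0cf)))) (.node 40112 (.node 40111 (.leaf 0x3d0cf) (.leaf 0x3d0cf)) (.node 40113 (.leaf 0x3d0cf) (.node 40114 (.leaf 0x3d0cf) (.leaf 0x3d0cf))))))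

def candS_1982 : Store := (.node 40125 (.node 40120 (.node 40117 (.node 40116 (.leaf 0x3d0cf) (.leaf 0x3d0cf)) (.node 40118 (.leaf 0x3d0cf) (.node 40119 (.leaf 0x3d0cf) (.leaf 0x3d0cf)))) (.node 40122 (.node 40121 (.leaf 0x3d0cf) (.leaf 0x3d0cf)) (.node 40123 (.leaf 0x3d0cf) (.node 40124 (.leaf 0x3d0cf) (.leaf 0x3d0cf))))) (.node 40130 (.node 40127 (.node 40126 (.leaf 0x3d0cf) (.leaf 0x3d0cf)) (.node 40128 (.leaf 0x3d0cf) (.node 40129 (.leaf 0x3d0cf) (.leaf 0x3d0cf)))) (.node 40132 (.node 40131 (.leaf 0x3d0cf) (.leaf 0x3d0cf)) (.node 40133 (.leaf 0x3d0cf) (.node 40134 (.leaf 0x3d0cf) (.leaf 0x3d0cf))))))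

def candS_1983 : Store := (.node 40145 (.node 40140 (.node 40137 (.node 40136 (.leaf 0x3d0cf) (.leaf 0x3d0cf)) (.node 40138 (.leaf 0x3d0cf) (.node 40139 (.leaf 0x3d0cf) (.leaf 0x3d0cf)))) (.node 40142 (.node 40141 (.leaf 0x3d0cf) (.leaf 0x3d0cf)) (.node 40143 (.leaf 0x3d0cf) (.node 40144 (.leaf 0x3d0cf) (.leaf 0x3d0cf))))) (.node 40150 (.node 40147 (.node 40146 (.leaf 0x3d0cf) (.leaf 0x3d0cf)) (.node 40148 (.leaf 0x3d0cf) (.node 40149 (.leaf 0x3d0cf) (.leaf 0x3d0cf)))) (.node 40152 (.node 40151 (.leaf 0x3d0cf) (.leaf 0x3d0cf)) (.node 40153 (.leaf 0x3d0cf) (.node 40154 (.leaf 0x3d0cf) (.leaf 0x3d0cf))))))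

def candS_1984 : Store := (.node 40165 (.node 40160 (.node 40157 (.node 40156 (.leaf 0x3d0cf) (.leaf 0x3d0cf)) (.node 40158 (.leaf 0x3d0cf) (.node 40159 (.leaf 0x3d0cf) (.leaf 0x3d0cf)))) (.node 40162 (.node 40161 (.leaf 0x3d0cf) (.leaf 0x3d0cf)) (.node 40163 (.leaf 0x3d0cf) (.node 40164 (.leaf 0x3d0cf) (.leaf 0x3d0cf))))) (.node 40170 (.node 40167 (.node 40166 (.leaf 0x3d0cf) (.leaf 0x3d0cf)) (.node 40168 (.leaf 0x3d0cf) (.node 40169 (.leaf 0x3d0cf) (.leaf 0x3d0cf)))) (.node 40173 (.node 40171 (.leaf 0x3d0cf) (.node 40172 (.leaf 0x3d0cf) (.leaf 0x3d0cf))) (.node 40174 (.leaf 0x3d0cf) (.node 40175 (.leaf 0x3d0cf) (.leaf 0x3d0cf))))))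

def candS_1985 : Store := (.node 40186 (.node 40181 (.node 40178 (.node 40177 (.leaf 0x3d0cf) (.leaf 0x3d0cf)) (.node 40179 (.leaf 0x3d0cf) (.node 40180 (.leaf 0x3d0cf) (.leaf 0x3d0cf)))) (.node 40183 (.node 40182 (.leaf 0x3d0cf) (.leaf 0x3d0cf)) (.node 40184 (.leaf 0x3d0cf) (.node 40185 (.leaf 0x3d0cf) (.leaf 0x3d0cf))))) (.node 40191 (.node 40188 (.node 40187 (.leaf 0x3d0cf) (.leaf 0x3d0cf)) (.node 40189 (.leaf 0x3d0cf) (.node 40190 (.leaf 0x3d0cf) (.leaf 0x3d0cf)))) (.node 40193 (.node 40192 (.leaf 0x3d0cf) (.leaf 0x3d0cf)) (.node 40194 (.leaf 0x3d0cf) (.node 40195 (.leaf 0x3d0cf) (.leaf 0x3d0cf))))))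

def candS_1986 : Store := (.node 40206 (.node 40201 (.node 40198 (.node 40197 (.leaf 0x3d0cf) (.leaf 0x3d0cf)) (.node 40199 (.leaf 0x3d0cf) (.node 40200 (.leaf 0x3d0cf) (.leaf 0x3d0cf)))) (.node 40203 (.node 40202 (.leaf 0x3d0cf) (.leaf 0x3d0cf)) (.node 40204 (.leaf 0x3d0cf) (.node 40205 (.leaf 0x3d0cf) (.leaf 0x3d0cf))))) (.node 40211 (.node 40208 (.node 40207 (.leaf 0x3d0cf) (.leaf 0x3d0cf)) (.node 40209 (.leaf 0x3d0cf) (.node 40210 (.leaf 0x3d0cf) (.leaf 0x3d0cf)))) (.node 40213 (.node 40212 (.leaf 0x3d0cf) (.leaf 0x3d0cf)) (.node 40214 (.leaf 0x3d0cf) (.node 40215 (.leaf 0x3d0cf) (.leaf 0x3d0cf))))))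

def candS_1987 : Store := (.node 40226 (.node 40221 (.node 40218 (.node 40217 (.leaf 0x3d0cf) (.leaf 0x3d0cf)) (.node 40219 (.leaf 0x3d0cf) (.node 40220 (.leaf 0x3d0cf) (.leaf 0x3d0cf)))) (.node 40223 (.node 40222 (.leaf 0x3d0cf) (.leaf 0x3d0cf)) (.node 40224 (.leaf 0x3d0cf) (.node 40225 (.leaf 0x3d0cf) (.leaf 0x3d0cf))))) (.node 40231 (.node 40228 (.node 40227 (.leaf 0x3d0cf) (.leaf 0x3d0cf)) (.node 40229 (.leaf 0x3d0cf) (.node 40230 (.leaf 0x3d0cf) (.leaf 0x3d0cf)))) (.node 40233 (.node 40232 (.leaf 0x3d0cf) (.leaf 0x3d0cf)) (.node 40234 (.leaf 0x3d0cf) (.node 40235 (.leaf 0x3d0cf) (.leaf 0x3d0cf))))))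

def candS_1988 : Store := (.node 40246 (.node 40241 (.node 40238 (.node 40237 (.leaf 0x3d0cf) (.leaf 0x3d0cf)) (.node 40239 (.leaf 0x3d0cf) (.node 40240 (.leaf 0x3d0cf) (.leaf 0x3d0cf)))) (.node 40243 (.node 40242 (.leaf 0x3d0cf) (.leaf 0x3d0cf)) (.node 40244 (.leaf 0x3d0cf) (.node 40245 (.leaf 0x3d0cf) (.leaf 0x3d0cf))))) (.node 40251 (.node 40248 (.node 40247 (.leaf 0x3d0cf) (.leaf 0x3d0cf)) (.node 40249 (.leaf 0x3d0cf) (.node 40250 (.leaf 0x3d0cf) (.leaf 0x3d0cf)))) (.node 40254 (.node 40252 (.leaf 0x3d0cf) (.node 40253 (.leaf 0x3d0cf) (.leaf 0x3d0cf))) (.node 40255 (.leaf 0x3d0cf) (.node 40256 (.leaf 0x3d0cf) (.leaf 0x3d0cf))))))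

def candS_1989 : Store := (.node 40267 (.node 40262 (.node 40259 (.node 40258 (.leaf 0x3d0cf) (.leaf 0x3d0cf)) (.node 40260 (.leaf 0x3d0cf) (.node 40261 (.leaf 0x3d0cf) (.leaf 0x3d0cf)))) (.node 40264 (.node 40263 (.leaf 0x3d0cf) (.leaf 0x3d0cf)) (.node 40265 (.leaf 0x3d0cf) (.node 40266 (.leaf 0x3d0cf) (.leaf 0x3d0cf))))) (.node 40272 (.node 40269 (.node 40268 (.leaf 0x3d0cf) (.leaf 0x3d0cf)) (.node 40270 (.leaf 0x3d0cf) (.node 40271 (.leaf 0x3d0cf) (.leaf 0x3d0cf)))) (.node 40274 (.node 40273 (.leaf 0x3d0cf) (.leaf 0x3d0cf)) (.node 40275 (.leaf 0x3d0cf) (.node 40276 (.leaf 0x3d0cf) (.leaf 0x3d0cf))))))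

def candS_1990 : Store := (.node 40287 (.node 40282 (.node 40279 (.node 40278 (.leaf 0x3d0cf) (.leaf 0x3d0cf)) (.node 40280 (.leaf 0x3d0cf) (.node 40281 (.leaf 0x3d0cf) (.leaf 0x3d0cf)))) (.node 40284 (.node 40283 (.leaf 0x3d0cf) (.leaf 0x3d0cf)) (.node 40285 (.leaf 0x3d0cf) (.node 40286 (.leaf 0x3d0cf) (.leaf 0x3d0cf))))) (.node 40292 (.node 40289 (.node 40288 (.leaf 0x3d0cf) (.leaf 0x3d0cf)) (.node 40290 (.leaf 0x3d0cf) (.node 40291 (.leaf 0x3d0cf) (.leaf 0x3d0cf)))) (.node 40294 (.node 40293 (.leaf 0x3d0cf) (.leaf 0x3d0cf)) (.node 40295 (.leaf 0x3d0cf) (.node 40296 (.leaf 0x3d0cf) (.leaf 0x3d0cf))))))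

def candS_1991 : Store := (.node 40307 (.node 40302 (.node 40299 (.node 40298 (.leaf 0x3d0cf) (.leaf 0x3d0cf)) (.node 40300 (.leaf 0x3d0cf) (.node 40301 (.leaf 0x3d0cf) (.leaf 0x3d0cf)))) (.node 40304 (.node 40303 (.leaf 0x3d0cf) (.leaf 0x3d0cf)) (.node 40305 (.leaf 0x3d0cf) (.node 40306 (.leaf 0x3d0cf) (.leaf 0x3d0cf))))) (.node 40312 (.node 40309 (.node 40308 (.leaf 0x3d0cf) (.leaf 0x3d0cf)) (.node 40310 (.leaf 0x3d0cf) (.node 40311 (.leaf 0x3d0cf) (.leaf 0x3d0cf)))) (.node 40314 (.node 40313 (.leaf 0x3d0cf) (.leaf 0x3d0cf)) (.node 40315 (.leaf 0x3d0cf) (.node 40316 (.leaf 0x3d0cf) (.leaf 0x3d0cf))))))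

def candS_1992 : Store := (.node 40327 (.node 40322 (.node 40319 (.node 40318 (.leaf 0x3d0cf) (.leaf 0x3d0cf)) (.node 40320 (.leaf 0x3d0cf) (.node 40321 (.leaf 0x3d0cf) (.leaf 0x3d0cf)))) (.node 40324 (.node 40323 (.leaf 0x3d0cf) (.leaf 0x3d0cf)) (.node 40325 (.leaf 0x3d0cf) (.node 40326 (.leaf 0x3d0cf) (.leaf 0x3d0cf))))) (.node 40332 (.node 40329 (.node 40328 (.leaf 0x3d0cf) (.leaf 0x3d0cf)) (.node 40330 (.leaf 0x3d0cf) (.node 40331 (.leaf 0x3d0cf) (.leaf 0x3d0cf)))) (.node 40335 (.node 40333 (.leaf 0x3d0cf) (.node 40334 (.leaf 0x3d0cf) (.leaf 0x3d0cf))) (.node 40336 (.leaf 0x3d0cf) (.node 40337 (.leaf 0x3d0cf) (.leaf 0x3d0cf))))))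

def candS_1993 : Store := (.node 40348 (.node 40343 (.node 40340 (.node 40339 (.leaf 0x3d0cf) (.leaf 0x3d0cf)) (.node 40341 (.leaf 0x3d0cf) (.node 40342 (.leaf 0x3d0cf) (.leaf 0x3d0cf)))) (.node 40345 (.node 40344 (.leaf 0x3d0cf) (.leaf 0x3d0cf)) (.node 40346 (.leaf 0x3d0cf) (.node 40347 (.leaf 0x3d0cf) (.leaf 0x3d0cf))))) (.node 40353 (.node 40350 (.node 40349 (.leaf 0x3d0cf) (.leaf 0x3d0cf)) (.node 40351 (.leaf 0x3d0cf) (.node 40352 (.leaf 0x3d0cf) (.leaf 0x3d0cf)))) (.node 40355 (.node 40354 (.leaf 0x3d0cf) (.leaf 0x3d0cf)) (.node 40356 (.leaf 0x3d0cf) (.node 40357 (.leaf 0x3d0cf) (.leaf 0x3d0cf))))))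

def candS_1994 : Store := (.node 40368 (.node 40363 (.node 40360 (.node 40359 (.leaf 0x3d0cf) (.leaf 0x3d0cf)) (.node 40361 (.leaf 0x3d0cf) (.node 40362 (.leaf 0x3d0cf) (.leaf 0x3d0cf)))) (.node 40365 (.node 40364 (.leaf 0x3d0cf) (.leaf 0x3d0cf)) (.node 40366 (.leaf 0x3d0cf) (.node 40367 (.leaf 0x3d0cf) (.leaf 0x3d0cf))))) (.node 40373 (.node 40370 (.node 40369 (.leaf 0x3d0cf) (.leaf 0x3d0cf)) (.node 40371 (.leaf 0x3d0cf) (.node 40372 (.leaf 0x3d0cf) (.leaf 0x3d0cf)))) (.node 40375 (.node 40374 (.leaf 0x3d0cf) (.leaf 0x3d0cf)) (.node 40376 (.leaf 0x3d0cf) (.node 40377 (.leaf 0x3d0cf) (.leaf 0x3d0cf))))))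

def candS_1995 : Store := (.node 40388 (.node 40383 (.node 40380 (.node 40379 (.leaf 0x3d0cf) (.leaf 0x3d0cf)) (.node 40381 (.leaf 0x3d0cf) (.node 40382 (.leaf 0x3d0cf) (.leaf 0x3d0cf)))) (.node 40385 (.node 40384 (.leaf 0x3d0cf) (.leaf 0x3d0cf)) (.node 40386 (.leaf 0x3d0cf) (.node 40387 (.leaf 0x3d0cf) (.leaf 0x3d0cf))))) (.node 40393 (.node 40390 (.node 40389 (.leaf 0x3d0cf) (.leaf 0x3d0cf)) (.node 40391 (.leaf 0x3d0cf) (.node 40392 (.leaf 0x3d0cf) (.leaf 0x3d0cf)))) (.node 40395 (.node 40394 (.leaf 0x3d0cf) (.leaf 0x3d0cf)) (.node 40396 (.leaf 0x3d0cf) (.node 40397 (.leaf 0x3d0cf) (.leaf 0x3d0cf))))))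

def candS_1996 : Store := (.node 40408 (.node 40403 (.node 40400 (.node 40399 (.leaf 0x3d0cf) (.leaf 0x3d0cf)) (.node 40401 (.leaf 0x3d0cf) (.node 40402 (.leaf 0x3d0cf) (.leaf 0x3d0cf)))) (.node 40405 (.node 40404 (.leaf 0x3d0cf) (.leaf 0x3d0cf)) (.node 40406 (.leaf 0x3d0cf) (.node 40407 (.leaf 0x3d0cf) (.leaf 0x3d0cf))))) (.node 40413 (.node 40410 (.node 40409 (.leaf 0x3d0cf) (.leaf 0x3d0cf)) (.node 40411 (.leaf 0x3d0cf) (.node 40412 (.leaf 0x3d0cf) (.leaf 0x3d0cf)))) (.node 40416 (.node 40414 (.leaf 0x3d0cf) (.node 40415 (.leaf 0x3d0cf) (.leaf 0x3d0cf))) (.node 40417 (.leaf 0x3d0cf) (.node 40418 (.leaf 0x3d0cf) (.leaf 0x3d0cf))))))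

def candS_1997 : Store := (.node 40429 (.node 40424 (.node 40421 (.node 40420 (.leaf 0x3d0cf) (.leaf 0x3d0cf)) (.node 40422 (.leaf 0x3d0cf) (.node 40423 (.leaf 0x3d0cf) (.leaf 0x3d0cf)))) (.node 40426 (.node 40425 (.leaf 0x3d0cf) (.leaf 0x3d0cf)) (.node 40427 (.leaf 0x3d0cf) (.node 40428 (.leaf 0x3d0cf) (.leaf 0x3d0cf))))) (.node 40434 (.node 40431 (.node 40430 (.leaf 0x3d0cf) (.leaf 0x3d0cf)) (.node 40432 (.leaf 0x3d0cf) (.node 40433 (.leaf 0x3d0cf) (.leaf 0x3d0cf)))) (.node 40436 (.node 40435 (.leaf 0x3d0cf) (.leaf 0x3d0cf)) (.node 40437 (.leaf 0x3d0cf) (.node 40438 (.leaf 0x3d0cf) (.leaf 0x3d0cf))))))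

def candS_1998 : Store := (.node 40449 (.node 40444 (.node 40441 (.node 40440 (.leaf 0x3d0cf) (.leaf 0x3d0cf)) (.node 40442 (.leaf 0x3d0cf) (.node 40443 (.leaf 0x3d0cf) (.leaf 0x3d0cf)))) (.node 40446 (.node 40445 (.leaf 0x3d0cf) (.leaf 0x3d0cf)) (.node 40447 (.leaf 0x3d0cf) (.node 40448 (.leaf 0x3d0cf) (.leaf 0x3d0cf))))) (.node 40454 (.node 40451 (.node 40450 (.leaf 0x3d0cf) (.leaf 0x3d0cf)) (.node 40452 (.leaf 0x3d0cf) (.node 40453 (.leaf 0x3d0cf) (.leaf 0x3d0cf)))) (.node 40456 (.node 40455 (.leaf 0x3d0cf) (.leaf 0x3d0cf)) (.node 40457 (.leaf 0x3d0cf) (.node 40458 (.leaf 0x3d0cf) (.leaf 0x3d0cf))))))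

def candS_1999 : Store := (.node 40469 (.node 40464 (.node 40461 (.node 40460 (.leaf 0x3d0cf) (.leaf 0x3d0cf)) (.node 40462 (.leaf 0x3d0cf) (.node 40463 (.leaf 0x3d0cf) (.leaf 0x3d0cf)))) (.node 40466 (.node 40465 (.leaf 0x3d0cf) (.leaf 0x3d0cf)) (.node 40467 (.leaf 0x3d0cf) (.node 40468 (.leaf 0x3d0cf) (.leaf 0x3d0cf))))) (.node 40474 (.node 40471 (.node 40470 (.leaf 0x3d0cf) (.leaf 0x3d0cf)) (.node 40472 (.leaf 0x3d0cf) (.node 40473 (.leaf 0x3d0cf) (.leaf 0x3d0cf)))) (.node 40476 (.node 40475 (.leaf 0x3d0cf) (.leaf 0x3d0cf)) (.node 40477 (.leaf 0x3d0cf) (.node 40478 (.leaf 0x3d0cf) (.leaf 0x3d0cf))))))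

def candS_2000 : Store := (.node 40489 (.node 40484 (.node 40481 (.node 40480 (.leaf 0x3d0cf) (.leaf 0x3d0cf)) (.node 40482 (.leaf 0x3d0cf) (.node 40483 (.leaf 0x3d0cf) (.leaf 0x3d0cf)))) (.node 40486 (.node 40485 (.leaf 0x3d0cf) (.leaf 0x3d0cf)) (.node 40487 (.leaf 0x3d0cf) (.node 40488 (.leaf 0x3d0cf) (.leaf 0x3d0cf))))) (.node 40494 (.node 40491 (.node 40490 (.leaf 0x3d0cf) (.leaf 0x3d0cf)) (.node 40492 (.leaf 0x3d0cf) (.node 40493 (.leaf 0x3d0cf) (.leaf 0x3d0cf)))) (.node 40497 (.node 40495 (.leaf 0x3d0cf) (.node 40496 (.leaf 0x3d0cf) (.leaf 0x3d0cf))) (.node 40498 (.leaf 0x3d0cf) (.node 40499 (.leaf 0x3d0cf) (.leaf 0x3d0cf))))))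

def candS_2001 : Store := (.node 40510 (.node 40505 (.node 40502 (.node 40501 (.leaf 0x3d0cf) (.leaf 0x3d0cf)) (.node 40503 (.leaf 0x3d0cf) (.node 40504 (.leaf 0x3d0cf) (.leaf 0x3d0cf)))) (.node 40507 (.node 40506 (.leaf 0x3d0cf) (.leaf 0x3d0cf)) (.node 40508 (.leaf 0x3d0cf) (.node 40509 (.leaf 0x3d0cf) (.leaf 0x3d0cf))))) (.node 40515 (.node 40512 (.node 40511 (.leaf 0x3d0cf) (.leaf 0x3d0cf)) (.node 40513 (.leaf 0x3d0cf) (.node 40514 (.leaf 0x3d0cf) (.leaf 0x3d0cf)))) (.node 40517 (.node 40516 (.leaf 0x3d0cf) (.leaf 0x3d0cf)) (.node 40518 (.leaf 0x3d0cf) (.node 40519 (.leaf 0x3d0cf) (.leaf 0x3d0cf))))))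

def candS_2002 : Store := (.node 40530 (.node 40525 (.node 40522 (.node 40521 (.leaf 0x3d0cf) (.leaf 0x3d0cf)) (.node 40523 (.leaf 0x3d0cf) (.node 40524 (.leaf 0x3d0cf) (.leaf 0x3d0cf)))) (.node 40527 (.node 40526 (.leaf 0x3d0cf) (.leaf 0x3d0cf)) (.node 40528 (.leaf 0x3d0cf) (.node 40529 (.leaf 0x3d0cf) (.leaf 0x3d0cf))))) (.node 40535 (.node 40532 (.node 40531 (.leaf 0x3d0cf) (.leaf 0x3d0cf)) (.node 40533 (.leaf 0x3d0cf) (.node 40534 (.leaf 0x3d0cf) (.leaf 0x3d0cf)))) (.node 40537 (.node 40536 (.leaf 0x3d0cf) (.leaf 0x3d0cf)) (.node 40538 (.leaf 0x3d0cf) (.node 40539 (.leaf 0x3d0cf) (.leaf 0x3d0cf))))))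

def candS_2003 : Store := (.node 40550 (.node 40545 (.node 40542 (.node 40541 (.leaf 0x3d0cf) (.leaf 0x3d0cf)) (.node 40543 (.leaf 0x3d0cf) (.node 40544 (.leaf 0x3d0cf) (.leaf 0x3d0cf)))) (.node 40547 (.node 40546 (.leaf 0x3d0cf) (.leaf 0x3d0cf)) (.node 40548 (.leaf 0x3d0cf) (.node 40549 (.leaf 0x3d0cf) (.leaf 0x3d0cf))))) (.node 40555 (.node 40552 (.node 40551 (.leaf 0x3d0cf) (.leaf 0x3d0cf)) (.node 40553 (.leaf 0x3d0cf) (.node 40554 (.leaf 0x3d0cf) (.leaf 0x3d0cf)))) (.node 40557 (.node 40556 (.leaf 0x3d0cf) (.leaf 0x3d0cf)) (.node 40558 (.leaf 0x3d0cf) (.node 40559 (.leaf 0x3d0cf) (.leaf 0x3d0cf))))))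

def candS_2004 : Store := (.node 40570 (.node 40565 (.node 40562 (.node 40561 (.leaf 0x3d0cf) (.leaf 0x3d0cf)) (.node 40563 (.leaf 0x3d0cf) (.node 40564 (.leaf 0x3d0cf) (.leaf 0x3d0cf)))) (.node 40567 (.node 40566 (.leaf 0x3d0cf) (.leaf 0x3d0cf)) (.node 40568 (.leaf 0x3d0cf) (.node 40569 (.leaf 0x3d0cf) (.leaf 0x3d0cf))))) (.node 40575 (.node 40572 (.node 40571 (.leaf 0x3d0cf) (.leaf 0x3d0cf)) (.node 40573 (.leaf 0x3d0cf) (.node 40574 (.leaf 0x3d0cf) (.leaf 0x3d0cf)))) (.node 40578 (.node 40576 (.leaf 0x3d0cf) (.node 40577 (.leaf 0x3d0cf) (.leaf 0x3d0cf))) (.node 40579 (.leaf 0x3d0cf) (.node 40580 (.leaf 0x3d0cf) (.leaf 0x3d0cf))))))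

def candS_2005 : Store := (.node 40591 (.node 40586 (.node 40583 (.node 40582 (.leaf 0x3d0cf) (.leaf 0x3d0cf)) (.node 40584 (.leaf 0x3d0cf) (.node 40585 (.leaf 0x3d0cf) (.leaf 0x3d0cf)))) (.node 40588 (.node 40587 (.leaf 0x3d0cf) (.leaf 0x3d0cf)) (.node 40589 (.leaf 0x3d0cf) (.node 40590 (.leaf 0x3d0cf) (.leaf 0x3d0cf))))) (.node 40596 (.node 40593 (.node 40592 (.leaf 0x3d0cf) (.leaf 0x3d0cf)) (.node 40594 (.leaf 0x3d0cf) (.node 40595 (.leaf 0x3d0cf) (.leaf 0x3d0cf)))) (.node 40598 (.node 40597 (.leaf 0x3d0cf) (.leaf 0x3d0cf)) (.node 40599 (.leaf 0x3d0cf) (.node 40600 (.leaf 0x3d0cf) (.leaf 0x3d0cf))))))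

def candS_2006 : Store := (.node 40611 (.node 40606 (.node 40603 (.node 40602 (.leaf 0x3d0cf) (.leaf 0x3d0cf)) (.node 40604 (.leaf 0x3d0cf) (.node 40605 (.leaf 0x3d0cf) (.leaf 0x3d0cf)))) (.node 40608 (.node 40607 (.leaf 0x3d0cf) (.leaf 0x3d0cf)) (.node 40609 (.leaf 0x3d0cf) (.node 40610 (.leaf 0x3d0cf) (.leaf 0x3d0cf))))) (.node 40616 (.node 40613 (.node 40612 (.leaf 0x3d0cf) (.leaf 0x3d0cf)) (.node 40614 (.leaf 0x3d0cf) (.node 40615 (.leaf 0x3d0cf) (.leaf 0x3d0cf)))) (.node 40618 (.node 40617 (.leaf 0x3d0cf) (.leaf 0x3d0cf)) (.node 40619 (.leaf 0x3d0cf) (.node 40620 (.leaf 0x3d0cf) (.leaf 0x3d0cf))))))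

def candS_2007 : Store := (.node 40631 (.node 40626 (.node 40623 (.node 40622 (.leaf 0x3d0cf) (.leaf 0x3d0cf)) (.node 40624 (.leaf 0x3d0cf) (.node 40625 (.leaf 0x3d0cf) (.leaf 0x3d0cf)))) (.node 40628 (.node 40627 (.leaf 0x3d0cf) (.leaf 0x3d0cf)) (.node 40629 (.leaf 0x3d0cf) (.node 40630 (.leaf 0x3d0cf) (.leaf 0x3d0cf))))) (.node 40636 (.node 40633 (.node 40632 (.leaf 0x3d0cf) (.leaf 0x3d0cf)) (.node 40634 (.leaf 0x3d0cf) (.node 40635 (.leaf 0x3d0cf) (.leaf 0x3d0cf)))) (.node 40638 (.node 40637 (.leaf 0x3d0cf) (.leaf 0x3d0cf)) (.node 40639 (.leaf 0x3d0cf) (.node 40640 (.leaf 0x3d0cf) (.leaf 0x3d0cf))))))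

def candS_2008 : Store := (.node 40651 (.node 40646 (.node 40643 (.node 40642 (.leaf 0x3d0cf) (.leaf 0x3d0cf)) (.node 40644 (.leaf 0x3d0cf) (.node 40645 (.leaf 0x3d0cf) (.leaf 0x3d0cf)))) (.node 40648 (.node 40647 (.leaf 0x3d0cf) (.leaf 0x3d0cf)) (.node 40649 (.leaf 0x3d0cf) (.node 40650 (.leaf 0x3d0cf) (.leaf 0x3d0cf))))) (.node 40656 (.node 40653 (.node 40652 (.leaf 0x3d0cf) (.leaf 0x3d0cf)) (.node 40654 (.leaf 0x3d0cf) (.node 40655 (.leaf 0x3d0cf) (.leaf 0x3d0cf)))) (.node 40659 (.node 40657 (.leaf 0x3d0cf) (.node 40658 (.leaf 0x3d0cf) (.leaf 0x3d0cf))) (.node 40660 (.leaf 0x3d0cf) (.node 40661 (.leaf 0x3d0cf) (.leaf 0x3d0cf))))))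

def candS_2009 : Store := (.node 40672 (.node 40667 (.node 40664 (.node 40663 (.leaf 0x3d0cf) (.leaf 0x3d0cf)) (.node 40665 (.leaf 0x3d0cf) (.node 40666 (.leaf 0x3d0cf) (.leaf 0x3d0cf)))) (.node 40669 (.node 40668 (.leaf 0x3d0cf) (.leaf 0x3d0cf)) (.node 40670 (.leaf 0x3d0cf) (.node 40671 (.leaf 0x3d0cf) (.leaf 0x3d0cf))))) (.node 40677 (.node 40674 (.node 40673 (.leaf 0x3d0cf) (.leaf 0x3d0cf)) (.node 40675 (.leaf 0x3d0cf) (.node 40676 (.leaf 0x3d0cf) (.leaf 0x3d0cf)))) (.node 40679 (.node 40678 (.leaf 0x3d0cf) (.leaf 0x3d0cf)) (.node 40680 (.leaf 0x3d0cf) (.node 40681 (.leaf 0x3d0cf) (.leaf 0x3d0cf))))))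

def candS_2010 : Store := (.node 40692 (.node 40687 (.node 40684 (.node 40683 (.leaf 0x3d0cf) (.leaf 0x3d0cf)) (.node 40685 (.leaf 0x3d0cf) (.node 40686 (.leaf 0x3d0cf) (.leaf 0x3d0cf)))) (.node 40689 (.node 40688 (.leaf 0x3d0cf) (.leaf 0x3d0cf)) (.node 40690 (.leaf 0x3d0cf) (.node 40691 (.leaf 0x3d0cf) (.leaf 0x3d0cf))))) (.node 40697 (.node 40694 (.node 40693 (.leaf 0x3d0cf) (.leaf 0x3d0cf)) (.node 40695 (.leaf 0x3d0cf) (.node 40696 (.leaf 0x3d0cf) (.leaf 0x3d0cf)))) (.node 40699 (.node 40698 (.leaf 0x3d0cf) (.leaf 0x3d0cf)) (.node 40700 (.leaf 0x3d0cf) (.node 40701 (.leaf 0x3d0cf) (.leaf 0x3d0cf))))))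

def candS_2011 : Store := (.node 40712 (.node 40707 (.node 40704 (.node 40703 (.leaf 0x3d0cf) (.leaf 0x3d0cf)) (.node 40705 (.leaf 0x3d0cf) (.node 40706 (.leaf 0x3d0cf) (.leaf 0x3d0cf)))) (.node 40709 (.node 40708 (.leaf 0x3d0cf) (.leaf 0x3d0cf)) (.node 40710 (.leaf 0x3d0cf) (.node 40711 (.leaf 0x3d0cf) (.leaf 0x3d0cf))))) (.node 40717 (.node 40714 (.node 40713 (.leaf 0x3d0cf) (.leaf 0x3d0cf)) (.node 40715 (.leaf 0x3d0cf) (.node 40716 (.leaf 0x3d0cf) (.leaf 0x3d0cf)))) (.node 40719 (.node 40718 (.leaf 0x3d0cf) (.leaf 0x3d0cf)) (.node 40720 (.leaf 0x3d0cf) (.node 40721 (.leaf 0x3d0cf) (.leaf 0x3d0cf))))))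

def candS_2012 : Store := (.node 40732 (.node 40727 (.node 40724 (.node 40723 (.leaf 0x3d0cf) (.leaf 0x3d0cf)) (.node 40725 (.leaf 0x3d0cf) (.node 40726 (.leaf 0x3d0cf) (.leaf 0x3d0cf)))) (.node 40729 (.node 40728 (.leaf 0x3d0cf) (.leaf 0x3d0cf)) (.node 40730 (.leaf 0x3d0cf) (.node 40731 (.leaf 0x3d0cf) (.leaf 0x3d0cf))))) (.node 40737 (.node 40734 (.node 40733 (.leaf 0x3d0cf) (.leaf 0x3d0cf)) (.node 40735 (.leaf 0x3d0cf) (.node 40736 (.leaf 0x3d0cf) (.leaf 0x3d0cf)))) (.node 40740 (.node 40738 (.leaf 0x3d0cf) (.node 40739 (.leaf 0x3d0cf) (.leaf 0x3d0cf))) (.node 40741 (.leaf 0x3d0cf) (.node 40742 (.leaf 0x3d0cf) (.leaf 0x3d0cf))))))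

def candS_2013 : Store := (.node 40753 (.node 40748 (.node 40745 (.node 40744 (.leaf 0x3d0cf) (.leaf 0x3d0cf)) (.node 40746 (.leaf 0x3d0cf) (.node 40747 (.leaf 0x3d0cf) (.leaf 0x3d0cf)))) (.node 40750 (.node 40749 (.leaf 0x3d0cf) (.leaf 0x3d0cf)) (.node 40751 (.leaf 0x3d0cf) (.node 40752 (.leaf 0x3d0cf) (.leaf 0x3d0cf))))) (.node 40758 (.node 40755 (.node 40754 (.leaf 0x3d0cf) (.leaf 0x3d0cf)) (.node 40756 (.leaf 0x3d0cf) (.node 40757 (.leaf 0x3d0cf) (.leaf 0x3d0cf)))) (.node 40760 (.node 40759 (.leaf 0x3d0cf) (.leaf 0x3d0cf)) (.node 40761 (.leaf 0x3d0cf) (.node 40762 (.leaf 0x3d0cf) (.leaf 0x3d0cf))))))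

def candS_2014 : Store := (.node 40773 (.node 40768 (.node 40765 (.node 40764 (.leaf 0x3d0cf) (.leaf 0x3d0cf)) (.node 40766 (.leaf 0x3d0cf) (.node 40767 (.leaf 0x3d0cf) (.leaf 0x3d0cf)))) (.node 40770 (.node 40769 (.leaf 0x3d0cf) (.leaf 0x3d0cf)) (.node 40771 (.leaf 0x3d0cf) (.node 40772 (.leaf 0x3d0cf) (.leaf 0x3d0cf))))) (.node 40778 (.node 40775 (.node 40774 (.leaf 0x3d0cf) (.leaf 0x3d0cf)) (.node 40776 (.leaf 0x3d0cf) (.node 40777 (.leaf 0x3d0cf) (.leaf 0x3d0cf)))) (.node 40780 (.node 40779 (.leaf 0x3d0cf) (.leaf 0x3d0cf)) (.node 40781 (.leaf 0x3d0cf) (.node 40782 (.leaf 0x3d0cf) (.leaf 0x3d0cf))))))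

def candS_2015 : Store := (.node 40793 (.node 40788 (.node 40785 (.node 40784 (.leaf 0x3d0cf) (.leaf 0x3d0cf)) (.node 40786 (.leaf 0x3d0cf) (.node 40787 (.leaf 0x3d0cf) (.leaf 0x3d0cf)))) (.node 40790 (.node 40789 (.leaf 0x3d0cf) (.leaf 0x3d0cf)) (.node 40791 (.leaf 0x3d0cf) (.node 40792 (.leaf 0x3d0cf) (.leaf 0x3d0cf))))) (.node 40798 (.node 40795 (.node 40794 (.leaf 0x3d0cf) (.leaf 0x3d0cf)) (.node 40796 (.leaf 0x3d0cf) (.node 40797 (.leaf 0x3d0cf) (.leaf 0x3d0cf)))) (.node 40800 (.node 40799 (.leaf 0x3d0cf) (.leaf 0x3d0cf)) (.node 40801 (.leaf 0x3d0cf) (.node 40802 (.leaf 0x3d0cf) (.leaf 0x3d0cf))))))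

def candS_2016 : Store := (.node 40813 (.node 40808 (.node 40805 (.node 40804 (.leaf 0x3d0cf) (.leaf 0x3d0cf)) (.node 40806 (.leaf 0x3d0cf) (.node 40807 (.leaf 0x3d0cf) (.leaf 0x3d0cf)))) (.node 40810 (.node 40809 (.leaf 0x3d0cf) (.leaf 0x3d0cf)) (.node 40811 (.leaf 0x3d0cf) (.node 40812 (.leaf 0x3d0cf) (.leaf 0x3d0cf))))) (.node 40818 (.node 40815 (.node 40814 (.leaf 0x3d0cf) (.leaf 0x3d0cf)) (.node 40816 (.leaf 0x3d0cf) (.node 40817 (.leaf 0x3d0cf) (.leaf 0x3d0cf)))) (.node 40821 (.node 40819 (.leaf 0x3d0cf) (.node 40820 (.leaf 0x3d0cf) (.leaf 0x3d0cf))) (.node 40822 (.leaf 0x3d0cf) (.node 40823 (.leaf 0x3d0cf) (.leaf 0x3d0cf))))))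

def candS_2017 : Store := (.node 40834 (.node 40829 (.node 40826 (.node 40825 (.leaf 0x3d0cf) (.leaf 0x3d0cf)) (.node 40827 (.leaf 0x3d0cf) (.node 40828 (.leaf 0x3d0cf) (.leaf 0x3d0cf)))) (.node 40831 (.node 40830 (.leaf 0x3d0cf) (.leaf 0x3d0cf)) (.node 40832 (.leaf 0x3d0cf) (.node 40833 (.leaf 0x3d0cf) (.leaf 0x3d0cf))))) (.node 40839 (.node 40836 (.node 40835 (.leaf 0x3d0cf) (.leaf 0x3d0cf)) (.node 40837 (.leaf 0x3d0cf) (.node 40838 (.leaf 0x3d0cf) (.leaf 0x3d0cf)))) (.node 40841 (.node 40840 (.leaf 0x3d0cf) (.leaf 0x3d0cf)) (.node 40842 (.leaf 0x3d0cf) (.node 40843 (.leaf 0x3d0cf) (.leaf 0x3d0cf))))))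

def candS_2018 : Store := (.node 40854 (.node 40849 (.node 40846 (.node 40845 (.leaf 0x3d0cf) (.leaf 0x3d0cf)) (.node 40847 (.leaf 0x3d0cf) (.node 40848 (.leaf 0x3d0cf) (.leaf 0x3d0cf)))) (.node 40851 (.node 40850 (.leaf 0x3d0cf) (.leaf 0x3d0cf)) (.node 40852 (.leaf 0x3d0cf) (.node 40853 (.leaf 0x3d0cf) (.leaf 0x3d0cf))))) (.node 40859 (.node 40856 (.node 40855 (.leaf 0x3d0cf) (.leaf 0x3d0cf)) (.node 40857 (.leaf 0x3d0cf) (.node 40858 (.leaf 0x3d0cf) (.leaf 0x3d0cf)))) (.node 40861 (.node 40860 (.leaf 0x3d0cf) (.leaf 0x3d0cf)) (.node 40862 (.leaf 0x3d0cf) (.node 40863 (.leaf 0x3d0cf) (.leaf 0x3d0cf))))))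

def candS_2019 : Store := (.node 40874 (.node 40869 (.node 40866 (.node 40865 (.leaf 0x3d0cf) (.leaf 0x3d0cf)) (.node 40867 (.leaf 0x3d0cf) (.node 40868 (.leaf 0x3d0cf) (.leaf 0x3d0cf)))) (.node 40871 (.node 40870 (.leaf 0x3d0cf) (.leaf 0x3d0cf)) (.node 40872 (.leaf 0x3d0cf) (.node 40873 (.leaf 0x3d0cf) (.leaf 0x3d0cf))))) (.node 40879 (.node 40876 (.node 40875 (.leaf 0x3d0cf) (.leaf 0x3d0cf)) (.node 40877 (.leaf 0x3d0cf) (.node 40878 (.leaf 0x3d0cf) (.leaf 0x3d0cf)))) (.node 40881 (.node 40880 (.leaf 0x3d0cf) (.leaf 0x3d0cf)) (.node 40882 (.leaf 0x3d0cf) (.node 40883 (.leaf 0x3d0cf) (.leaf 0x3d0cf))))))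

def candS_2020 : Store := (.node 40894 (.node 40889 (.node 40886 (.node 40885 (.leaf 0x3d0cf) (.leaf 0x3d0cf)) (.node 40887 (.leaf 0x3d0cf) (.node 40888 (.leaf 0x3d0cf) (.leaf 0x3d0cf)))) (.node 40891 (.node 40890 (.leaf 0x3d0cf) (.leaf 0x3d0cf)) (.node 40892 (.leaf 0x3d0cf) (.node 40893 (.leaf 0x3d0cf) (.leaf 0x3d0cf))))) (.node 40899 (.node 40896 (.node 40895 (.leaf 0x3d0cf) (.leaf 0x3d0cf)) (.node 40897 (.leaf 0x3d0cf) (.node 40898 (.leaf 0x3d0cf) (.leaf 0x3d0cf)))) (.node 40902 (.node 40900 (.leaf 0x3d0cf) (.node 40901 (.leaf 0x3d0cf) (.leaf 0x3d0cf))) (.node 40903 (.leaf 0x3d0cf) (.node 40904 (.leaf 0x3d0cf) (.leaf 0x3d0cf))))))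

def candS_2021 : Store := (.node 40915 (.node 40910 (.node 40907 (.node 40906 (.leaf 0x3d0cf) (.leaf 0x3d0cf)) (.node 40908 (.leaf 0x3d0cf) (.node 40909 (.leaf 0x3d0cf) (.leaf 0x3d0cf)))) (.node 40912 (.node 40911 (.leaf 0x3d0cf) (.leaf 0x3d0cf)) (.node 40913 (.leaf 0x3d0cf) (.node 40914 (.leaf 0x3d0cf) (.leaf 0x3d0cf))))) (.node 40920 (.node 40917 (.node 40916 (.leaf 0x3d0cf) (.leaf 0x3d0cf)) (.node 40918 (.leaf 0x3d0cf) (.node 40919 (.leaf 0x3d0cf) (.leaf 0x3d0cf)))) (.node 40922 (.node 40921 (.leaf 0x3d0cf) (.leaf 0x3d0cf)) (.node 40923 (.leaf 0x3d0cf) (.node 40924 (.leaf 0x3d0cf) (.leaf 0x3d0cf))))))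

def candS_2022 : Store := (.node 40935 (.node 40930 (.node 40927 (.node 40926 (.leaf 0x3d0cf) (.leaf 0x3d0cf)) (.node 40928 (.leaf 0x3d0cf) (.node 40929 (.leaf 0x3d0cf) (.leaf 0x3d0cf)))) (.node 40932 (.node 40931 (.leaf 0x3d0cf) (.leaf 0x3d0cf)) (.node 40933 (.leaf 0x3d0cf) (.node 40934 (.leaf 0x3d0cf) (.leaf 0x3d0cf))))) (.node 40940 (.node 40937 (.node 40936 (.leaf 0x3d0cf) (.leaf 0x3d0cf)) (.node 40938 (.leaf 0x3d0cf) (.node 40939 (.leaf 0x3d0cf) (.leaf 0x3d0cf)))) (.node 40942 (.node 40941 (.leaf 0x3d0cf) (.leaf 0x3d0cf)) (.node 40943 (.leaf 0x3d0cf) (.node 40944 (.leaf 0x3d0cf) (.leaf 0x3d0cf))))))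

def candS_2023 : Store := (.node 40955 (.node 40950 (.node 40947 (.node 40946 (.leaf 0x3d0cf) (.leaf 0x3d0cf)) (.node 40948 (.leaf 0x3d0cf) (.node 40949 (.leaf 0x3d0cf) (.leaf 0x3d0cf)))) (.node 40952 (.node 40951 (.leaf 0x3d0cf) (.leaf 0x3d0cf)) (.node 40953 (.leaf 0x3d0cf) (.node 40954 (.leaf 0x3d0cf) (.leaf 0x3d0cf))))) (.node 40960 (.node 40957 (.node 40956 (.leaf 0x3d0cf) (.leaf 0x3d0cf)) (.node 40958 (.leaf 0x3d0cf) (.node 40959 (.leaf 0x3d0cf) (.leaf 0x3d0cf)))) (.node 40962 (.node 40961 (.leaf 0x3d0cf) (.leaf 0x3d0cf)) (.node 40963 (.leaf 0x3d0cf) (.node 40964 (.leaf 0x3d0cf) (.leaf 0x3d0cf))))))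

def candS_2024 : Store := (.node 40975 (.node 40970 (.node 40967 (.node 40966 (.leaf 0x3d0cf) (.leaf 0x3d0cf)) (.node 40968 (.leaf 0x3d0cf) (.node 40969 (.leaf 0x3d0cf) (.leaf 0x3d0cf)))) (.node 40972 (.node 40971 (.leaf 0x3d0cf) (.leaf 0x3d0cf)) (.node 40973 (.leaf 0x3d0cf) (.node 40974 (.leaf 0x3d0cf) (.leaf 0x3d0cf))))) (.node 40980 (.node 40977 (.node 40976 (.leaf 0x3d0cf) (.leaf 0x3d0cf)) (.node 40978 (.leaf 0x3d0cf) (.node 40979 (.leaf 0x3d0cf) (.leaf 0x3d0cf)))) (.node 40983 (.node 40981 (.leaf 0x3d0cf) (.node 40982 (.leaf 0x3d0cf) (.leaf 0x3d0cf))) (.node 40984 (.leaf 0x3d0cf) (.node 40985 (.leaf 0x3d0cf) (.leaf 0x3d0cf))))))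

def candS_2025 : Store := (.node 40996 (.node 40991 (.node 40988 (.node 40987 (.leaf 0x3d0cf) (.leaf 0x3d0cf)) (.node 40989 (.leaf 0x3d0cf) (.node 40990 (.leaf 0x3d0cf) (.leaf 0x3d0cf)))) (.node 40993 (.node 40992 (.leaf 0x3d0cf) (.leaf 0x3d0cf)) (.node 40994 (.leaf 0x3d0cf) (.node 40995 (.leaf 0x3d0cf) (.leaf 0x3d0cf))))) (.node 41001 (.node 40998 (.node 40997 (.leaf 0x3d0cf) (.leaf 0x3d0cf)) (.node 40999 (.leaf 0x3d0cf) (.node 41000 (.leaf 0x3d0cf) (.leaf 0x3d0cf)))) (.node 41003 (.node 41002 (.leaf 0x3d0cf) (.leaf 0x3d0cf)) (.node 41004 (.leaf 0x3d0cf) (.node 41005 (.leaf 0x3d0cf) (.leaf 0x3d0cf))))))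

def candS_2026 : Store := (.node 41016 (.node 41011 (.node 41008 (.node 41007 (.leaf 0x3d0cf) (.leaf 0x3d0cf)) (.node 41009 (.leaf 0x3d0cf) (.node 41010 (.leaf 0x3d0cf) (.leaf 0x3d0cf)))) (.node 41013 (.node 41012 (.leaf 0x3d0cf) (.leaf 0x3d0cf)) (.node 41014 (.leaf 0x3d0cf) (.node 41015 (.leaf 0x3d0cf) (.leaf 0x3d0cf))))) (.node 41021 (.node 41018 (.node 41017 (.leaf 0x3d0cf) (.leaf 0x3d0cf)) (.node 41019 (.leaf 0x3d0cf) (.node 41020 (.leaf 0x3d0cf) (.leaf 0x3d0cf)))) (.node 41023 (.node 41022 (.leaf 0x3d0cf) (.leaf 0x3d0cf)) (.node 41024 (.leaf 0x3d0cf) (.node 41025 (.leaf 0x3d0cf) (.leaf 0x3d0cf))))))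

def candS_2027 : Store := (.node 41036 (.node 41031 (.node 41028 (.node 41027 (.leaf 0x3d0cf) (.leaf 0x3d0cf)) (.node 41029 (.leaf 0x3d0cf) (.node 41030 (.leaf 0x3d0cf) (.leaf 0x3d0cf)))) (.node 41033 (.node 41032 (.leaf 0x3d0cf) (.leaf 0x3d0cf)) (.node 41034 (.leaf 0x3d0cf) (.node 41035 (.leaf 0x3d0cf) (.leaf 0x3d0cf))))) (.node 41041 (.node 41038 (.node 41037 (.leaf 0x3d0cf) (.leaf 0x3d0cf)) (.node 41039 (.leaf 0x3d0cf) (.node 41040 (.leaf 0x3d0cf) (.leaf 0x3d0cf)))) (.node 41043 (.node 41042 (.leaf 0x3d0cf) (.leaf 0x3d0cf)) (.node 41044 (.leaf 0x3d0cf) (.node 41045 (.leaf 0x3d0cf) (.leaf 0x3d0cf))))))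

def candS_2028 : Store := (.node 41056 (.node 41051 (.node 41048 (.node 41047 (.leaf 0x3d0cf) (.leaf 0x3d0cf)) (.node 41049 (.leaf 0x3d0cf) (.node 41050 (.leaf 0x3d0cf) (.leaf 0x3d0cf)))) (.node 41053 (.node 41052 (.leaf 0x3d0cf) (.leaf 0x3d0cf)) (.node 41054 (.leaf 0x3d0cf) (.node 41055 (.leaf 0x3d0cf) (.leaf 0x3d0cf))))) (.node 41061 (.node 41058 (.node 41057 (.leaf 0x3d0cf) (.leaf 0x3d0cf)) (.node 41059 (.leaf 0x3d0cf) (.node 41060 (.leaf 0x3d0cf) (.leaf 0x3d0cf)))) (.node 41064 (.node 41062 (.leaf 0x3d0cf) (.node 41063 (.leaf 0x3d0cf) (.leaf 0x3d0cf))) (.node 41065 (.leaf 0x3d0cf) (.node 41066 (.leaf 0x3d0cf) (.leaf 0x3d0cf))))))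

def candS_2029 : Store := (.node 41077 (.node 41072 (.node 41069 (.node 41068 (.leaf 0x3d0cf) (.leaf 0x3d0cf)) (.node 41070 (.leaf 0x3d0cf) (.node 41071 (.leaf 0x3d0cf) (.leaf 0x3d0cf)))) (.node 41074 (.node 41073 (.leaf 0x3d0cf) (.leaf 0x3d0cf)) (.node 41075 (.leaf 0x3d0cf) (.node 41076 (.leaf 0x3d0cf) (.leaf 0x3d0cf))))) (.node 41082 (.node 41079 (.node 41078 (.leaf 0x3d0cf) (.leaf 0x3d0cf)) (.node 41080 (.leaf 0x3d0cf) (.node 41081 (.leaf 0x3d0cf) (.leaf 0x3d0cf)))) (.node 41084 (.node 41083 (.leaf 0x3d0cf) (.leaf 0x3d0cf)) (.node 41085 (.leaf 0x3d0cf) (.node 41086 (.leaf 0x3d0cf) (.leaf 0x3d0cf))))))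

def candS_2030 : Store := (.node 41097 (.node 41092 (.node 41089 (.node 41088 (.leaf 0x3d0cf) (.leaf 0x3d0cf)) (.node 41090 (.leaf 0x3d0cf) (.node 41091 (.leaf 0x3d0cf) (.leaf 0x3d0cf)))) (.node 41094 (.node 41093 (.leaf 0x3d0cf) (.leaf 0x3d0cf)) (.node 41095 (.leaf 0x3d0cf) (.node 41096 (.leaf 0x3d0cf) (.leaf 0x3d0cf))))) (.node 41102 (.node 41099 (.node 41098 (.leaf 0x3d0cf) (.leaf 0x3d0cf)) (.node 41100 (.leaf 0x3d0cf) (.node 41101 (.leaf 0x3d0cf) (.leaf 0x3d0cf)))) (.node 41104 (.node 41103 (.leaf 0x3d0cf) (.leaf 0x3d0cf)) (.node 41105 (.leaf 0x3d0cf) (.node 41106 (.leaf 0x3d0cf) (.leaf 0x3d0cf))))))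

def candS_2031 : Store := (.node 41117 (.node 41112 (.node 41109 (.node 41108 (.leaf 0x3d0cf) (.leaf 0x3d0cf)) (.node 41110 (.leaf 0x3d0cf) (.node 41111 (.leaf 0x3d0cf) (.leaf 0x3d0cf)))) (.node 41114 (.node 41113 (.leaf 0x3d0cf) (.leaf 0x3d0cf)) (.node 41115 (.leaf 0x3d0cf) (.node 41116 (.leaf 0x3d0cf) (.leaf 0x3d0cf))))) (.node 41122 (.node 41119 (.node 41118 (.leaf 0x3d0cf) (.leaf 0x3d0cf)) (.node 41120 (.leaf 0x3d0cf) (.node 41121 (.leaf 0x3d0cf) (.leaf 0x3d0cf)))) (.node 41124 (.node 41123 (.leaf 0x3d0cf) (.leaf 0x3d0cf)) (.node 41125 (.leaf 0x3d0cf) (.node 41126 (.leaf 0x3d0cf) (.leaf 0x3d0cf))))))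

def candS_2032 : Store := (.node 41137 (.node 41132 (.node 41129 (.node 41128 (.leaf 0x3d0cf) (.leaf 0x3d0cf)) (.node 41130 (.leaf 0x3d0cf) (.node 41131 (.leaf 0x3d0cf) (.leaf 0x3d0cf)))) (.node 41134 (.node 41133 (.leaf 0x3d0cf) (.leaf 0x3d0cf)) (.node 41135 (.leaf 0x3d0cf) (.node 41136 (.leaf 0x3d0cf) (.leaf 0x3d0cf))))) (.node 41142 (.node 41139 (.node 41138 (.leaf 0x3d0cf) (.leaf 0x3d0cf)) (.node 41140 (.leaf 0x3d0cf) (.node 41141 (.leaf 0x3d0cf) (.leaf 0x3d0cf)))) (.node 41145 (.node 41143 (.leaf 0x3d0cf) (.node 41144 (.leaf 0x3d0cf) (.leaf 0x3d0cf))) (.node 41146 (.leaf 0x3d0cf) (.node 41147 (.leaf 0x3d0cf) (.leaf 0x3d0cf))))))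

def candS_2033 : Store := (.node 41158 (.node 41153 (.node 41150 (.node 41149 (.leaf 0x3d0cf) (.leaf 0x3d0cf)) (.node 41151 (.leaf 0x3d0cf) (.node 41152 (.leaf 0x3d0cf) (.leaf 0x3d0cf)))) (.node 41155 (.node 41154 (.leaf 0x3d0cf) (.leaf 0x3d0cf)) (.node 41156 (.leaf 0x3d0cf) (.node 41157 (.leaf 0x3d0cf) (.leaf 0x3d0cf))))) (.node 41163 (.node 41160 (.node 41159 (.leaf 0x3d0cf) (.leaf 0x3d0cf)) (.node 41161 (.leaf 0x3d0cf) (.node 41162 (.leaf 0x3d0cf) (.leaf 0x3d0cf)))) (.node 41165 (.node 41164 (.leaf 0x3d0cf) (.leaf 0x3d0cf)) (.node 41166 (.leaf 0x3d0cf) (.node 41167 (.leaf 0x3d0cf) (.leaf 0x3d0cf))))))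

def candS_2034 : Store := (.node 41178 (.node 41173 (.node 41170 (.node 41169 (.leaf 0x3d0cf) (.leaf 0x3d0cf)) (.node 41171 (.leaf 0x3d0cf) (.node 41172 (.leaf 0x3d0cf) (.leaf 0x3d0cf)))) (.node 41175 (.node 41174 (.leaf 0x3d0cf) (.leaf 0x3d0cf)) (.node 41176 (.leaf 0x3d0cf) (.node 41177 (.leaf 0x3d0cf) (.leaf 0x3d0cf))))) (.node 41183 (.node 41180 (.node 41179 (.leaf 0x3d0cf) (.leaf 0x3d0cf)) (.node 41181 (.leaf 0x3d0cf) (.node 41182 (.leaf 0x3d0cf) (.leaf 0x3d0cf)))) (.node 41185 (.node 41184 (.leaf 0x3d0cf) (.leaf 0x3d0cf)) (.node 41186 (.leaf 0x3d0cf) (.node 41187 (.leaf 0x3d0cf) (.leaf 0x3d0cf))))))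

def candS_2035 : Store := (.node 41198 (.node 41193 (.node 41190 (.node 41189 (.leaf 0x3d0cf) (.leaf 0x3d0cf)) (.node 41191 (.leaf 0x3d0cf) (.node 41192 (.leaf 0x3d0cf) (.leaf 0x3d0cf)))) (.node 41195 (.node 41194 (.leaf 0x3d0cf) (.leaf 0x3d0cf)) (.node 41196 (.leaf 0x3d0cf) (.node 41197 (.leaf 0x3d0cf) (.leaf 0x3d0cf))))) (.node 41203 (.node 41200 (.node 41199 (.leaf 0x3d0cf) (.leaf 0x3d0cf)) (.node 41201 (.leaf 0x3d0cf) (.node 41202 (.leaf 0x3d0cf) (.leaf 0x3d0cf)))) (.node 41205 (.node 41204 (.leaf 0x3d0cf) (.leaf 0x3d0cf)) (.node 41206 (.leaf 0x3d0cf) (.node 41207 (.leaf 0x3d0cf) (.leaf 0x3d0cf))))))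

def candS_2036 : Store := (.node 41218 (.node 41213 (.node 41210 (.node 41209 (.leaf 0x3d0cf) (.leaf 0x3d0cf)) (.node 41211 (.leaf 0x3d0cf) (.node 41212 (.leaf 0x3d0cf) (.leaf 0x3d0cf)))) (.node 41215 (.node 41214 (.leaf 0x3d0cf) (.leaf 0x3d0cf)) (.node 41216 (.leaf 0x3d0cf) (.node 41217 (.leaf 0x3d0cf) (.leaf 0x3d0cf))))) (.node 41223 (.node 41220 (.node 41219 (.leaf 0x3d0cf) (.leaf 0x3d0cf)) (.node 41221 (.leaf 0x3d0cf) (.node 41222 (.leaf 0x3d0cf) (.leaf 0x3d0cf)))) (.node 41226 (.node 41224 (.leaf 0x3d0cf) (.node 41225 (.leaf 0x3d0cf) (.leaf 0x3d0cf))) (.node 41227 (.leaf 0x3d0cf) (.node 41228 (.leaf 0x3d0cf) (.leaf 0x3d0cf))))))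

def candS_2037 : Store := (.node 41239 (.node 41234 (.node 41231 (.node 41230 (.leaf 0x3d0cf) (.leaf 0x3d0cf)) (.node 41232 (.leaf 0x3d0cf) (.node 41233 (.leaf 0x3d0cf) (.leaf 0x3d0cf)))) (.node 41236 (.node 41235 (.leaf 0x3d0cf) (.leaf 0x3d0cf)) (.node 41237 (.leaf 0x3d0cf) (.node 41238 (.leaf 0x3d0cf) (.leaf 0x3d0cf))))) (.node 41244 (.node 41241 (.node 41240 (.leaf 0x3d0cf) (.leaf 0x3d0cf)) (.node 41242 (.leaf 0x3d0cf) (.node 41243 (.leaf 0x3d0cf) (.leaf 0x3d0cf)))) (.node 41246 (.node 41245 (.leaf 0x3d0cf) (.leaf 0x3d0cf)) (.node 41247 (.leaf 0x3d0cf) (.node 41248 (.leaf 0x3d0cf) (.leaf 0x3d0cf))))))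

def candS_2038 : Store := (.node 41259 (.node 41254 (.node 41251 (.node 41250 (.leaf 0x3d0cf) (.leaf 0x3d0cf)) (.node 41252 (.leaf 0x3d0cf) (.node 41253 (.leaf 0x3d0cf) (.leaf 0x3d0cf)))) (.node 41256 (.node 41255 (.leaf 0x3d0cf) (.leaf 0x3d0cf)) (.node 41257 (.leaf 0x3d0cf) (.node 41258 (.leaf 0x3d0cf) (.leaf 0x3d0cf))))) (.node 41264 (.node 41261 (.node 41260 (.leaf 0x3d0cf) (.leaf 0x3d0cf)) (.node 41262 (.leaf 0x3d0cf) (.node 41263 (.leaf 0x3d0cf) (.leaf 0x3d0cf)))) (.node 41266 (.node 41265 (.leaf 0x3d0cf) (.leaf 0x3d0cf)) (.node 41267 (.leaf 0x3d0cf) (.node 41268 (.leaf 0x3d0cf) (.leaf 0x3d0cf))))))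

def candS_2039 : Store := (.node 41279 (.node 41274 (.node 41271 (.node 41270 (.leaf 0x3d0cf) (.leaf 0x3d0cf)) (.node 41272 (.leaf 0x3d0cf) (.node 41273 (.leaf 0x3d0cf) (.leaf 0x3d0cf)))) (.node 41276 (.node 41275 (.leaf 0x3d0cf) (.leaf 0x3d0cf)) (.node 41277 (.leaf 0x3d0cf) (.node 41278 (.leaf 0x3d0cf) (.leaf 0x3d0cf))))) (.node 41284 (.node 41281 (.node 41280 (.leaf 0x3d0cf) (.leaf 0x3d0cf)) (.node 41282 (.leaf 0x3d0cf) (.node 41283 (.leaf 0x3d0cf) (.leaf 0x3d0cf)))) (.node 41286 (.node 41285 (.leaf 0x3d0cf) (.leaf 0x3d0cf)) (.node 41287 (.leaf 0x3d0cf) (.node 41288 (.leaf 0x3d0cf) (.leaf 0x3d0cf))))))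

def candS_2040 : Store := (.node 41299 (.node 41294 (.node 41291 (.node 41290 (.leaf 0x3d0cf) (.leaf 0x3d0cf)) (.node 41292 (.leaf 0x3d0cf) (.node 41293 (.leaf 0x3d0cf) (.leaf 0x3d0cf)))) (.node 41296 (.node 41295 (.leaf 0x3d0cf) (.leaf 0x3d0cf)) (.node 41297 (.leaf 0x3d0cf) (.node 41298 (.leaf 0x3d0cf) (.leaf 0x3d0cf))))) (.node 41304 (.node 41301 (.node 41300 (.leaf 0x3d0cf) (.leaf 0x3d0cf)) (.node 41302 (.leaf 0x3d0cf) (.node 41303 (.leaf 0x3d0cf) (.leaf 0x3d0cf)))) (.node 41307 (.node 41305 (.leaf 0x3d0cf) (.node 41306 (.leaf 0x3d0cf) (.leaf 0x3d0cf))) (.node 41308 (.leaf 0x3d0cf) (.node 41309 (.leaf 0x3d0cf) (.leaf 0x3d0cf))))))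

def candS_2041 : Store := (.node 41320 (.node 41315 (.node 41312 (.node 41311 (.leaf 0x3d0cf) (.leaf 0x3d0cf)) (.node 41313 (.leaf 0x3d0cf) (.node 41314 (.leaf 0x3d0cf) (.leaf 0x3d0cf)))) (.node 41317 (.node 41316 (.leaf 0x3d0cf) (.leaf 0x3d0cf)) (.node 41318 (.leaf 0x3d0cf) (.node 41319 (.leaf 0x3d0cf) (.leaf 0x3d0cf))))) (.node 41325 (.node 41322 (.node 41321 (.leaf 0x3d0cf) (.leaf 0x3d0cf)) (.node 41323 (.leaf 0x3d0cf) (.node 41324 (.leaf 0x3d0cf) (.leaf 0x3d0cf)))) (.node 41327 (.node 41326 (.leaf 0x3d0cf) (.leaf 0x3d0cf)) (.node 41328 (.leaf 0x3d0cf) (.node 41329 (.leaf 0x3d0cf) (.leaf 0x3d0cf))))))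

def candS_2042 : Store := (.node 41340 (.node 41335 (.node 41332 (.node 41331 (.leaf 0x3d0cf) (.leaf 0x3d0cf)) (.node 41333 (.leaf 0x3d0cf) (.node 41334 (.leaf 0x3d0cf) (.leaf 0x3d0cf)))) (.node 41337 (.node 41336 (.leaf 0x3d0cf) (.leaf 0x3d0cf)) (.node 41338 (.leaf 0x3d0cf) (.node 41339 (.leaf 0x3d0cf) (.leaf 0x3d0cf))))) (.node 41345 (.node 41342 (.node 41341 (.leaf 0x3d0cf) (.leaf 0x3d0cf)) (.node 41343 (.leaf 0x3d0cf) (.node 41344 (.leaf 0x3d0cf) (.leaf 0x3d0cf)))) (.node 41347 (.node 41346 (.leaf 0x3d0cf) (.leaf 0x3d0cf)) (.node 41348 (.leaf 0x3d0cf) (.node 41349 (.leaf 0x3d0cf) (.leaf 0x3d0cf))))))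

def candS_2043 : Store := (.node 41360 (.node 41355 (.node 41352 (.node 41351 (.leaf 0x3d0cf) (.leaf 0x3d0cf)) (.node 41353 (.leaf 0x3d0cf) (.node 41354 (.leaf 0x3d0cf) (.leaf 0x3d0cf)))) (.node 41357 (.node 41356 (.leaf 0x3d0cf) (.leaf 0x3d0cf)) (.node 41358 (.leaf 0x3d0cf) (.node 41359 (.leaf 0x3d0cf) (.leaf 0x3d0cf))))) (.node 41365 (.node 41362 (.node 41361 (.leaf 0x3d0cf) (.leaf 0x3d0cf)) (.node 41363 (.leaf 0x3d0cf) (.node 41364 (.leaf 0x3d0cf) (.leaf 0x3d0cf)))) (.node 41367 (.node 41366 (.leaf 0x3d0cf) (.leaf 0x3d0cf)) (.node 41368 (.leaf 0x3d0cf) (.node 41369 (.leaf 0x3d0cf) (.leaf 0x3d0cf))))))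

def candS_2044 : Store := (.node 41380 (.node 41375 (.node 41372 (.node 41371 (.leaf 0x3d0cf) (.leaf 0x3d0cf)) (.node 41373 (.leaf 0x3d0cf) (.node 41374 (.leaf 0x3d0cf) (.leaf 0x3d0cf)))) (.node 41377 (.node 41376 (.leaf 0x3d0cf) (.leaf 0x3d0cf)) (.node 41378 (.leaf 0x3d0cf) (.node 41379 (.leaf 0x3d0cf) (.leaf 0x3d0cf))))) (.node 41385 (.node 41382 (.node 41381 (.leaf 0x3d0cf) (.leaf 0x3d0cf)) (.node 41383 (.leaf 0x3d0cf) (.node 41384 (.leaf 0x3d0cf) (.leaf 0x3d0cf)))) (.node 41388 (.node 41386 (.leaf 0x3d0cf) (.node 41387 (.leaf 0x3d0cf) (.leaf 0x3d0cf))) (.node 41389 (.leaf 0x3d0cf) (.node 41390 (.leaf 0x3d0cf) (.leaf 0x3d0cf))))))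

def candS_2045 : Store := (.node 41401 (.node 41396 (.node 41393 (.node 41392 (.leaf 0x3d0cf) (.leaf 0x3d0cf)) (.node 41394 (.leaf 0x3d0cf) (.node 41395 (.leaf 0x3d0cf) (.leaf 0x3d0cf)))) (.node 41398 (.node 41397 (.leaf 0x3d0cf) (.leaf 0x3d0cf)) (.node 41399 (.leaf 0x3d0cf) (.node 41400 (.leaf 0x3d0cf) (.leaf 0x3d0cf))))) (.node 41406 (.node 41403 (.node 41402 (.leaf 0x3d0cf) (.leaf 0x3d0cf)) (.node 41404 (.leaf 0x3d0cf) (.node 41405 (.leaf 0x3d0cf) (.leaf 0x3d0cf)))) (.node 41408 (.node 41407 (.leaf 0x3d0cf) (.leaf 0x3d0cf)) (.node 41409 (.leaf 0x3d0cf) (.node 41410 (.leaf 0x3d0cf) (.leaf 0x3d0cf))))))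

def candS_2046 : Store := (.node 41421 (.node 41416 (.node 41413 (.node 41412 (.leaf 0x3d0cf) (.leaf 0x3d0cf)) (.node 41414 (.leaf 0x3d0cf) (.node 41415 (.leaf 0x3d0cf) (.leaf 0x3d0cf)))) (.node 41418 (.node 41417 (.leaf 0x3d0cf) (.leaf 0x3d0cf)) (.node 41419 (.leaf 0x3d0cf) (.node 41420 (.leaf 0x3d0cf) (.leaf 0x3d0cf))))) (.node 41426 (.node 41423 (.node 41422 (.leaf 0x3d0cf) (.leaf 0x3d0cf)) (.node 41424 (.leaf 0x3d0cf) (.node 41425 (.leaf 0x3d0cf) (.leaf 0x3d0cf)))) (.node 41428 (.node 41427 (.leaf 0x3d0cf) (.leaf 0x3d0cf)) (.node 41429 (.leaf 0x3d0cf) (.node 41430 (.leaf 0x3d0cf) (.leaf 0x3d0cf))))))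

def candS_2047 : Store := (.node 41441 (.node 41436 (.node 41433 (.node 41432 (.leaf 0x3d0cf) (.leaf 0x3d0cf)) (.node 41434 (.leaf 0x3d0cf) (.node 41435 (.leaf 0x3d0cf) (.leaf 0x3d0cf)))) (.node 41438 (.node 41437 (.leaf 0x3d0cf) (.leaf 0x3d0cf)) (.node 41439 (.leaf 0x3d0cf) (.node 41440 (.leaf 0x3d0cf) (.leaf 0x3d0cf))))) (.node 41446 (.node 41443 (.node 41442 (.leaf 0x3d0cf) (.leaf 0x3d0cf)) (.node 41444 (.leaf 0x3d0cf) (.node 41445 (.leaf 0x3d0cf) (.leaf 0x3d0cf)))) (.node 41448 (.node 41447 (.leaf 0x3d0cf) (.leaf 0x3d0cf)) (.node 41449 (.leaf 0x3d0cf) (.node 41450 (.leaf 0x3d0cf) (.leaf 0x3d0cf))))))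

def candS_2048 : Store := (.node 41461 (.node 41456 (.node 41453 (.node 41452 (.leaf 0x3d0cf) (.leaf 0x3d0cf)) (.node 41454 (.leaf 0x3d0cf) (.node 41455 (.leaf 0x3d0cf) (.leaf 0x3d0cf)))) (.node 41458 (.node 41457 (.leaf 0x3d0cf) (.leaf 0x3d0cf)) (.node 41459 (.leaf 0x3d0cf) (.node 41460 (.leaf 0x3d0cf) (.leaf 0x3d0cf))))) (.node 41466 (.node 41463 (.node 41462 (.leaf 0x3d0cf) (.leaf 0x3d0cf)) (.node 41464 (.leaf 0x3d0cf) (.node 41465 (.leaf 0x3d0cf) (.leaf 0x3d0cf)))) (.node 41469 (.node 41467 (.leaf 0x3d0cf) (.node 41468 (.leaf 0x3d0cf) (.leaf 0x3d0cf))) (.node 41470 (.leaf 0x3d0cf) (.node 41471 (.leaf 0x3d0cf) (.leaf 0x3d0cf))))))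

/-- data -/
def candS : Store := (.node 20736 (.node 10368 (.node 5184 (.node 2592 (.node 1296 (.node 648 (.node 324 (.node 162 (.node 81 (.node 40 (.node 20 candS_1 candS_2) (.node 60 candS_3 candS_4)) (.node 121 (.node 101 candS_5 candS_6) (.node 141 candS_7 candS_8))) (.node 243 (.node 202 (.node 182 candS_9 candS_10) (.node 222 candS_11 candS_12)) (.node 283 (.node 263 candS_13 candS_14) (.node 303 candS_15 candS_16)))) (.node 486 (.node 405 (.node 364 (.node 344 candS_17 candS_18) (.node 384 candS_19 candS_20)) (.node 445 (.node 425 candS_21 candS_22) (.node 465 candS_23 candS_24))) (.node 567 (.node 526 (.node 506 candS_25 candS_26) (.node 546 candS_27 candS_28)) (.node 607 (.node 587 candS_29 candS_30) (.node 627 candS_31 candS_32))))) (.node 972 (.node 810 (.node 729 (.node 688 (.node 668 candS_33 candS_34) (.node 708 candS_35 candS_36)) (.node 769 (.node 749 candS_37 candS_38) (.node 789 candS_39 candS_40)))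 (.node 891 (.node 850 (.node 830 candS_41 candS_42) (.node 870 candS_43 candS_44)) (.node 931 (.node 911 candS_45 candS_46) (.node 951 candS_47 candS_48)))) (.node 1134 (.node 1053 (.node 1012 (.node 992 candS_49 candS_50) (.node 1032 candS_51 candS_52)) (.node 1093 (.node 1073 candS_53 candS_54) (.node 1113 candS_55 candS_56))) (.node 1215 (.node 1174 (.node 1154 candS_57 candS_58) (.node 1194 candS_59 candS_60)) (.node 1255 (.node 1235 candS_61 candS_62) (.node 1275 candS_63 candS_64)))))) (.node 1944 (.node 1620 (.node 1458 (.node 1377 (.node 1336 (.node 1316 candS_65 candS_66) (.node 1356 candS_67 candS_68)) (.node 1417 (.node 1397 candS_69 candS_70) (.node 1437 candS_71 candS_72))) (.node 1539 (.node 1498 (.node 1478 candS_73 candS_74) (.node 1518 candS_75 candS_76)) (.node 1579 (.node 1559 candS_77 candS_78) (.node 1599 candS_79 candS_80)))) (.node 1782 (.node 1701 (.node 1660 (.node 1640 candS_81 candS_82) (.node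 1680 candS_83 candS_84)) (.node 1741 (.node 1721 candS_85 candS_86) (.node 1761 candS_87 candS_88))) (.node 1863 (.node 1822 (.node 1802 candS_89 candS_90) (.node 1842 candS_91 candS_92)) (.node 1903 (.node 1883 candS_93 candS_94) (.node 1923 candS_95 candS_96))))) (.node 2268 (.node 2106 (.node 2025 (.node 1984 (.node 1964 candS_97 candS_98) (.node 2004 candS_99 candS_100)) (.node 2065 (.node 2045 candS_101 candS_102) (.node 2085 candS_103 candS_104))) (.node 2187 (.node 2146 (.node 2126 candS_105 candS_106) (.node 2166 candS_107 candS_108)) (.node 2227 (.node 2207 candS_109 candS_110) (.node 2247 candS_111 candS_112)))) (.node 2430 (.node 2349 (.node 2308 (.node 2288 candS_113 candS_114) (.node 2328 candS_115 candS_116)) (.node 2389 (.node 2369 candS_117 candS_118) (.node 2409 candS_119 candS_120))) (.node 2511 (.node 2470 (.node 2450 candS_121 candS_122) (.node 2490 candS_123 candS_124)) (.node 2551 (.node 2531 candS_125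 candS_126) (.node 2571 candS_127 candS_128))))))) (.node 3888 (.node 3240 (.node 2916 (.node 2754 (.node 2673 (.node 2632 (.node 2612 candS_129 candS_130) (.node 2652 candS_131 candS_132)) (.node 2713 (.node 2693 candS_133 candS_134) (.node 2733 candS_135 candS_136))) (.node 2835 (.node 2794 (.node 2774 candS_137 candS_138) (.node 2814 candS_139 candS_140)) (.node 2875 (.node 2855 candS_141 candS_142) (.node 2895 candS_143 candS_144)))) (.node 3078 (.node 2997 (.node 2956 (.node 2936 candS_145 candS_146) (.node 2976 candS_147 candS_148)) (.node 3037 (.node 3017 candS_149 candS_150) (.node 3057 candS_151 candS_152))) (.node 3159 (.node 3118 (.node 3098 candS_153 candS_154) (.node 3138 candS_155 candS_156)) (.node 3199 (.node 3179 candS_157 candS_158) (.node 3219 candS_159 candS_160))))) (.node 3564 (.node 3402 (.node 3321 (.node 3280 (.node 3260 candS_161 candS_162) (.node 3300 candS_163 candS_164)) (.node 3361 (.node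 3341 candS_165 candS_166) (.node 3381 candS_167 candS_168))) (.node 3483 (.node 3442 (.node 3422 candS_169 candS_170) (.node 3462 candS_171 candS_172)) (.node 3523 (.node 3503 candS_173 candS_174) (.node 3543 candS_175 candS_176)))) (.node 3726 (.node 3645 (.node 3604 (.node 3584 candS_177 candS_178) (.node 3624 candS_179 candS_180)) (.node 3685 (.node 3665 candS_181 candS_182) (.node 3705 candS_183 candS_184))) (.node 3807 (.node 3766 (.node 3746 candS_185 candS_186) (.node 3786 candS_187 candS_188)) (.node 3847 (.node 3827 candS_189 candS_190) (.node 3867 candS_191 candS_192)))))) (.node 4536 (.node 4212 (.node 4050 (.node 3969 (.node 3928 (.node 3908 candS_193 candS_194) (.node 3948 candS_195 candS_196)) (.node 4009 (.node 3989 candS_197 candS_198) (.node 4029 candS_199 candS_200))) (.node 4131 (.node 4090 (.node 4070 candS_201 candS_202) (.node 4110 candS_203 candS_204)) (.node 4171 (.node 4151 candS_205 candS_206)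 (.node 4191 candS_207 candS_208)))) (.node 4374 (.node 4293 (.node 4252 (.node 4232 candS_209 candS_210) (.node 4272 candS_211 candS_212)) (.node 4333 (.node 4313 candS_213 candS_214) (.node 4353 candS_215 candS_216))) (.node 4455 (.node 4414 (.node 4394 candS_217 candS_218) (.node 4434 candS_219 candS_220)) (.node 4495 (.node 4475 candS_221 candS_222) (.node 4515 candS_223 candS_224))))) (.node 4860 (.node 4698 (.node 4617 (.node 4576 (.node 4556 candS_225 candS_226) (.node 4596 candS_227 candS_228)) (.node 4657 (.node 4637 candS_229 candS_230) (.node 4677 candS_231 candS_232))) (.node 4779 (.node 4738 (.node 4718 candS_233 candS_234) (.node 4758 candS_235 candS_236)) (.node 4819 (.node 4799 candS_237 candS_238) (.node 4839 candS_239 candS_240)))) (.node 5022 (.node 4941 (.node 4900 (.node 4880 candS_241 candS_242) (.node 4920 candS_243 candS_244)) (.node 4981 (.node 4961 candS_245 candS_246) (.node 5001 candS_247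 candS_248))) (.node 5103 (.node 5062 (.node 5042 candS_249 candS_250) (.node 5082 candS_251 candS_252)) (.node 5143 (.node 5123 candS_253 candS_254) (.node 5163 candS_255 candS_256)))))))) (.node 7776 (.node 6480 (.node 5832 (.node 5508 (.node 5346 (.node 5265 (.node 5224 (.node 5204 candS_257 candS_258) (.node 5244 candS_259 candS_260)) (.node 5305 (.node 5285 candS_261 candS_262) (.node 5325 candS_263 candS_264))) (.node 5427 (.node 5386 (.node 5366 candS_265 candS_266) (.node 5406 candS_267 candS_268)) (.node 5467 (.node 5447 candS_269 candS_270) (.node 5487 candS_271 candS_272)))) (.node 5670 (.node 5589 (.node 5548 (.node 5528 candS_273 candS_274) (.node 5568 candS_275 candS_276)) (.node 5629 (.node 5609 candS_277 candS_278) (.node 5649 candS_279 candS_280))) (.node 5751 (.node 5710 (.node 5690 candS_281 candS_282) (.node 5730 candS_283 candS_284)) (.node 5791 (.node 5771 candS_285 candS_286) (.node 5811 candS_287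 candS_288))))) (.node 6156 (.node 5994 (.node 5913 (.node 5872 (.node 5852 candS_289 candS_290) (.node 5892 candS_291 candS_292)) (.node 5953 (.node 5933 candS_293 candS_294) (.node 5973 candS_295 candS_296))) (.node 6075 (.node 6034 (.node 6014 candS_297 candS_298) (.node 6054 candS_299 candS_300)) (.node 6115 (.node 6095 candS_301 candS_302) (.node 6135 candS_303 candS_304)))) (.node 6318 (.node 6237 (.node 6196 (.node 6176 candS_305 candS_306) (.node 6216 candS_307 candS_308)) (.node 6277 (.node 6257 candS_309 candS_310) (.node 6297 candS_311 candS_312))) (.node 6399 (.node 6358 (.node 6338 candS_313 candS_314) (.node 6378 candS_315 candS_316)) (.node 6439 (.node 6419 candS_317 candS_318) (.node 6459 candS_319 candS_320)))))) (.node 7128 (.node 6804 (.node 6642 (.node 6561 (.node 6520 (.node 6500 candS_321 candS_322) (.node 6540 candS_323 candS_324)) (.node 6601 (.node 6581 candS_325 candS_326) (.node 6621 candS_327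 candS_328))) (.node 6723 (.node 6682 (.node 6662 candS_329 candS_330) (.node 6702 candS_331 candS_332)) (.node 6763 (.node 6743 candS_333 candS_334) (.node 6783 candS_335 candS_336)))) (.node 6966 (.node 6885 (.node 6844 (.node 6824 candS_337 candS_338) (.node 6864 candS_339 candS_340)) (.node 6925 (.node 6905 candS_341 candS_342) (.node 6945 candS_343 candS_344))) (.node 7047 (.node 7006 (.node 6986 candS_345 candS_346) (.node 7026 candS_347 candS_348)) (.node 7087 (.node 7067 candS_349 candS_350) (.node 7107 candS_351 candS_352))))) (.node 7452 (.node 7290 (.node 7209 (.node 7168 (.node 7148 candS_353 candS_354) (.node 7188 candS_355 candS_356)) (.node 7249 (.node 7229 candS_357 candS_358) (.node 7269 candS_359 candS_360))) (.node 7371 (.node 7330 (.node 7310 candS_361 candS_362) (.node 7350 candS_363 candS_364)) (.node 7411 (.node 7391 candS_365 candS_366) (.node 7431 candS_367 candS_368)))) (.node 7614 (.node 7533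 (.node 7492 (.node 7472 candS_369 candS_370) (.node 7512 candS_371 candS_372)) (.node 7573 (.node 7553 candS_373 candS_374) (.node 7593 candS_375 candS_376))) (.node 7695 (.node 7654 (.node 7634 candS_377 candS_378) (.node 7674 candS_379 candS_380)) (.node 7735 (.node 7715 candS_381 candS_382) (.node 7755 candS_383 candS_384))))))) (.node 9072 (.node 8424 (.node 8100 (.node 7938 (.node 7857 (.node 7816 (.node 7796 candS_385 candS_386) (.node 7836 candS_387 candS_388)) (.node 7897 (.node 7877 candS_389 candS_390) (.node 7917 candS_391 candS_392))) (.node 8019 (.node 7978 (.node 7958 candS_393 candS_394) (.node 7998 candS_395 candS_396)) (.node 8059 (.node 8039 candS_397 candS_398) (.node 8079 candS_399 candS_400)))) (.node 8262 (.node 8181 (.node 8140 (.node 8120 candS_401 candS_402) (.node 8160 candS_403 candS_404)) (.node 8221 (.node 8201 candS_405 candS_406) (.node 8241 candS_407 candS_408))) (.node 8343 (.node 8302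 (.node 8282 candS_409 candS_410) (.node 8322 candS_411 candS_412)) (.node 8383 (.node 8363 candS_413 candS_414) (.node 8403 candS_415 candS_416))))) (.node 8748 (.node 8586 (.node 8505 (.node 8464 (.node 8444 candS_417 candS_418) (.node 8484 candS_419 candS_420)) (.node 8545 (.node 8525 candS_421 candS_422) (.node 8565 candS_423 candS_424))) (.node 8667 (.node 8626 (.node 8606 candS_425 candS_426) (.node 8646 candS_427 candS_428)) (.node 8707 (.node 8687 candS_429 candS_430) (.node 8727 candS_431 candS_432)))) (.node 8910 (.node 8829 (.node 8788 (.node 8768 candS_433 candS_434) (.node 8808 candS_435 candS_436)) (.node 8869 (.node 8849 candS_437 candS_438) (.node 8889 candS_439 candS_440))) (.node 8991 (.node 8950 (.node 8930 candS_441 candS_442) (.node 8970 candS_443 candS_444)) (.node 9031 (.node 9011 candS_445 candS_446) (.node 9051 candS_447 candS_448)))))) (.node 9720 (.node 9396 (.node 9234 (.node 9153 (.node 9112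 (.node 9092 candS_449 candS_450) (.node 9132 candS_451 candS_452)) (.node 9193 (.node 9173 candS_453 candS_454) (.node 9213 candS_455 candS_456))) (.node 9315 (.node 9274 (.node 9254 candS_457 candS_458) (.node 9294 candS_459 candS_460)) (.node 9355 (.node 9335 candS_461 candS_462) (.node 9375 candS_463 candS_464)))) (.node 9558 (.node 9477 (.node 9436 (.node 9416 candS_465 candS_466) (.node 9456 candS_467 candS_468)) (.node 9517 (.node 9497 candS_469 candS_470) (.node 9537 candS_471 candS_472))) (.node 9639 (.node 9598 (.node 9578 candS_473 candS_474) (.node 9618 candS_475 candS_476)) (.node 9679 (.node 9659 candS_477 candS_478) (.node 9699 candS_479 candS_480))))) (.node 10044 (.node 9882 (.node 9801 (.node 9760 (.node 9740 candS_481 candS_482) (.node 9780 candS_483 candS_484)) (.node 9841 (.node 9821 candS_485 candS_486) (.node 9861 candS_487 candS_488))) (.node 9963 (.node 9922 (.node 9902 candS_489 candS_490) (.node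 9942 candS_491 candS_492)) (.node 10003 (.node 9983 candS_493 candS_494) (.node 10023 candS_495 candS_496)))) (.node 10206 (.node 10125 (.node 10084 (.node 10064 candS_497 candS_498) (.node 10104 candS_499 candS_500)) (.node 10165 (.node 10145 candS_501 candS_502) (.node 10185 candS_503 candS_504))) (.node 10287 (.node 10246 (.node 10226 candS_505 candS_506) (.node 10266 candS_507 candS_508)) (.node 10327 (.node 10307 candS_509 candS_510) (.node 10347 candS_511 candS_512))))))))) (.node 15552 (.node 12960 (.node 11664 (.node 11016 (.node 10692 (.node 10530 (.node 10449 (.node 10408 (.node 10388 candS_513 candS_514) (.node 10428 candS_515 candS_516)) (.node 10489 (.node 10469 candS_517 candS_518) (.node 10509 candS_519 candS_520))) (.node 10611 (.node 10570 (.node 10550 candS_521 candS_522) (.node 10590 candS_523 candS_524)) (.node 10651 (.node 10631 candS_525 candS_526) (.node 10671 candS_527 candS_528)))) (.node 10854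 (.node 10773 (.node 10732 (.node 10712 candS_529 candS_530) (.node 10752 candS_531 candS_532)) (.node 10813 (.node 10793 candS_533 candS_534) (.node 10833 candS_535 candS_536))) (.node 10935 (.node 10894 (.node 10874 candS_537 candS_538) (.node 10914 candS_539 candS_540)) (.node 10975 (.node 10955 candS_541 candS_542) (.node 10995 candS_543 candS_544))))) (.node 11340 (.node 11178 (.node 11097 (.node 11056 (.node 11036 candS_545 candS_546) (.node 11076 candS_547 candS_548)) (.node 11137 (.node 11117 candS_549 candS_550) (.node 11157 candS_551 candS_552))) (.node 11259 (.node 11218 (.node 11198 candS_553 candS_554) (.node 11238 candS_555 candS_556)) (.node 11299 (.node 11279 candS_557 candS_558) (.node 11319 candS_559 candS_560)))) (.node 11502 (.node 11421 (.node 11380 (.node 11360 candS_561 candS_562) (.node 11400 candS_563 candS_564)) (.node 11461 (.node 11441 candS_565 candS_566) (.node 11481 candS_567 candS_568)))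 (.node 11583 (.node 11542 (.node 11522 candS_569 candS_570) (.node 11562 candS_571 candS_572)) (.node 11623 (.node 11603 candS_573 candS_574) (.node 11643 candS_575 candS_576)))))) (.node 12312 (.node 11988 (.node 11826 (.node 11745 (.node 11704 (.node 11684 candS_577 candS_578) (.node 11724 candS_579 candS_580)) (.node 11785 (.node 11765 candS_581 candS_582) (.node 11805 candS_583 candS_584))) (.node 11907 (.node 11866 (.node 11846 candS_585 candS_586) (.node 11886 candS_587 candS_588)) (.node 11947 (.node 11927 candS_589 candS_590) (.node 11967 candS_591 candS_592)))) (.node 12150 (.node 12069 (.node 12028 (.node 12008 candS_593 candS_594) (.node 12048 candS_595 candS_596)) (.node 12109 (.node 12089 candS_597 candS_598) (.node 12129 candS_599 candS_600))) (.node 12231 (.node 12190 (.node 12170 candS_601 candS_602) (.node 12210 candS_603 candS_604)) (.node 12271 (.node 12251 candS_605 candS_606) (.node 12291 candS_607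 candS_608))))) (.node 12636 (.node 12474 (.node 12393 (.node 12352 (.node 12332 candS_609 candS_610) (.node 12372 candS_611 candS_612)) (.node 12433 (.node 12413 candS_613 candS_614) (.node 12453 candS_615 candS_616))) (.node 12555 (.node 12514 (.node 12494 candS_617 candS_618) (.node 12534 candS_619 candS_620)) (.node 12595 (.node 12575 candS_621 candS_622) (.node 12615 candS_623 candS_624)))) (.node 12798 (.node 12717 (.node 12676 (.node 12656 candS_625 candS_626) (.node 12696 candS_627 candS_628)) (.node 12757 (.node 12737 candS_629 candS_630) (.node 12777 candS_631 candS_632))) (.node 12879 (.node 12838 (.node 12818 candS_633 candS_634) (.node 12858 candS_635 candS_636)) (.node 12919 (.node 12899 candS_637 candS_638) (.node 12939 candS_639 candS_640))))))) (.node 14256 (.node 13608 (.node 13284 (.node 13122 (.node 13041 (.node 13000 (.node 12980 candS_641 candS_642) (.node 13020 candS_643 candS_644)) (.node 13081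 (.node 13061 candS_645 candS_646) (.node 13101 candS_647 candS_648))) (.node 13203 (.node 13162 (.node 13142 candS_649 candS_650) (.node 13182 candS_651 candS_652)) (.node 13243 (.node 13223 candS_653 candS_654) (.node 13263 candS_655 candS_656)))) (.node 13446 (.node 13365 (.node 13324 (.node 13304 candS_657 candS_658) (.node 13344 candS_659 candS_660)) (.node 13405 (.node 13385 candS_661 candS_662) (.node 13425 candS_663 candS_664))) (.node 13527 (.node 13486 (.node 13466 candS_665 candS_666) (.node 13506 candS_667 candS_668)) (.node 13567 (.node 13547 candS_669 candS_670) (.node 13587 candS_671 candS_672))))) (.node 13932 (.node 13770 (.node 13689 (.node 13648 (.node 13628 candS_673 candS_674) (.node 13668 candS_675 candS_676)) (.node 13729 (.node 13709 candS_677 candS_678) (.node 13749 candS_679 candS_680))) (.node 13851 (.node 13810 (.node 13790 candS_681 candS_682) (.node 13830 candS_683 candS_684)) (.node 13891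 (.node 13871 candS_685 candS_686) (.node 13911 candS_687 candS_688)))) (.node 14094 (.node 14013 (.node 13972 (.node 13952 candS_689 candS_690) (.node 13992 candS_691 candS_692)) (.node 14053 (.node 14033 candS_693 candS_694) (.node 14073 candS_695 candS_696))) (.node 14175 (.node 14134 (.node 14114 candS_697 candS_698) (.node 14154 candS_699 candS_700)) (.node 14215 (.node 14195 candS_701 candS_702) (.node 14235 candS_703 candS_704)))))) (.node 14904 (.node 14580 (.node 14418 (.node 14337 (.node 14296 (.node 14276 candS_705 candS_706) (.node 14316 candS_707 candS_708)) (.node 14377 (.node 14357 candS_709 candS_710) (.node 14397 candS_711 candS_712))) (.node 14499 (.node 14458 (.node 14438 candS_713 candS_714) (.node 14478 candS_715 candS_716)) (.node 14539 (.node 14519 candS_717 candS_718) (.node 14559 candS_719 candS_720)))) (.node 14742 (.node 14661 (.node 14620 (.node 14600 candS_721 candS_722) (.node 14640 candS_723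 candS_724)) (.node 14701 (.node 14681 candS_725 candS_726) (.node 14721 candS_727 candS_728))) (.node 14823 (.node 14782 (.node 14762 candS_729 candS_730) (.node 14802 candS_731 candS_732)) (.node 14863 (.node 14843 candS_733 candS_734) (.node 14883 candS_735 candS_736))))) (.node 15228 (.node 15066 (.node 14985 (.node 14944 (.node 14924 candS_737 candS_738) (.node 14964 candS_739 candS_740)) (.node 15025 (.node 15005 candS_741 candS_742) (.node 15045 candS_743 candS_744))) (.node 15147 (.node 15106 (.node 15086 candS_745 candS_746) (.node 15126 candS_747 candS_748)) (.node 15187 (.node 15167 candS_749 candS_750) (.node 15207 candS_751 candS_752)))) (.node 15390 (.node 15309 (.node 15268 (.node 15248 candS_753 candS_754) (.node 15288 candS_755 candS_756)) (.node 15349 (.node 15329 candS_757 candS_758) (.node 15369 candS_759 candS_760))) (.node 15471 (.node 15430 (.node 15410 candS_761 candS_762) (.node 15450 candS_763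 candS_764)) (.node 15511 (.node 15491 candS_765 candS_766) (.node 15531 candS_767 candS_768)))))))) (.node 18144 (.node 16848 (.node 16200 (.node 15876 (.node 15714 (.node 15633 (.node 15592 (.node 15572 candS_769 candS_770) (.node 15612 candS_771 candS_772)) (.node 15673 (.node 15653 candS_773 candS_774) (.node 15693 candS_775 candS_776))) (.node 15795 (.node 15754 (.node 15734 candS_777 candS_778) (.node 15774 candS_779 candS_780)) (.node 15835 (.node 15815 candS_781 candS_782) (.node 15855 candS_783 candS_784)))) (.node 16038 (.node 15957 (.node 15916 (.node 15896 candS_785 candS_786) (.node 15936 candS_787 candS_788)) (.node 15997 (.node 15977 candS_789 candS_790) (.node 16017 candS_791 candS_792))) (.node 16119 (.node 16078 (.node 16058 candS_793 candS_794) (.node 16098 candS_795 candS_796)) (.node 16159 (.node 16139 candS_797 candS_798) (.node 16179 candS_799 candS_800))))) (.node 16524 (.node 16362 (.node 16281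 (.node 16240 (.node 16220 candS_801 candS_802) (.node 16260 candS_803 candS_804)) (.node 16321 (.node 16301 candS_805 candS_806) (.node 16341 candS_807 candS_808))) (.node 16443 (.node 16402 (.node 16382 candS_809 candS_810) (.node 16422 candS_811 candS_812)) (.node 16483 (.node 16463 candS_813 candS_814) (.node 16503 candS_815 candS_816)))) (.node 16686 (.node 16605 (.node 16564 (.node 16544 candS_817 candS_818) (.node 16584 candS_819 candS_820)) (.node 16645 (.node 16625 candS_821 candS_822) (.node 16665 candS_823 candS_824))) (.node 16767 (.node 16726 (.node 16706 candS_825 candS_826) (.node 16746 candS_827 candS_828)) (.node 16807 (.node 16787 candS_829 candS_830) (.node 16827 candS_831 candS_832)))))) (.node 17496 (.node 17172 (.node 17010 (.node 16929 (.node 16888 (.node 16868 candS_833 candS_834) (.node 16908 candS_835 candS_836)) (.node 16969 (.node 16949 candS_837 candS_838) (.node 16989 candS_839 candS_840)))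 (.node 17091 (.node 17050 (.node 17030 candS_841 candS_842) (.node 17070 candS_843 candS_844)) (.node 17131 (.node 17111 candS_845 candS_846) (.node 17151 candS_847 candS_848)))) (.node 17334 (.node 17253 (.node 17212 (.node 17192 candS_849 candS_850) (.node 17232 candS_851 candS_852)) (.node 17293 (.node 17273 candS_853 candS_854) (.node 17313 candS_855 candS_856))) (.node 17415 (.node 17374 (.node 17354 candS_857 candS_858) (.node 17394 candS_859 candS_860)) (.node 17455 (.node 17435 candS_861 candS_862) (.node 17475 candS_863 candS_864))))) (.node 17820 (.node 17658 (.node 17577 (.node 17536 (.node 17516 candS_865 candS_866) (.node 17556 candS_867 candS_868)) (.node 17617 (.node 17597 candS_869 candS_870) (.node 17637 candS_871 candS_872))) (.node 17739 (.node 17698 (.node 17678 candS_873 candS_874) (.node 17718 candS_875 candS_876)) (.node 17779 (.node 17759 candS_877 candS_878) (.node 17799 candS_879 candS_880))))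 (.node 17982 (.node 17901 (.node 17860 (.node 17840 candS_881 candS_882) (.node 17880 candS_883 candS_884)) (.node 17941 (.node 17921 candS_885 candS_886) (.node 17961 candS_887 candS_888))) (.node 18063 (.node 18022 (.node 18002 candS_889 candS_890) (.node 18042 candS_891 candS_892)) (.node 18103 (.node 18083 candS_893 candS_894) (.node 18123 candS_895 candS_896))))))) (.node 19440 (.node 18792 (.node 18468 (.node 18306 (.node 18225 (.node 18184 (.node 18164 candS_897 candS_898) (.node 18204 candS_899 candS_900)) (.node 18265 (.node 18245 candS_901 candS_902) (.node 18285 candS_903 candS_904))) (.node 18387 (.node 18346 (.node 18326 candS_905 candS_906) (.node 18366 candS_907 candS_908)) (.node 18427 (.node 18407 candS_909 candS_910) (.node 18447 candS_911 candS_912)))) (.node 18630 (.node 18549 (.node 18508 (.node 18488 candS_913 candS_914) (.node 18528 candS_915 candS_916)) (.node 18589 (.node 18569 candS_917 candS_918)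 (.node 18609 candS_919 candS_920))) (.node 18711 (.node 18670 (.node 18650 candS_921 candS_922) (.node 18690 candS_923 candS_924)) (.node 18751 (.node 18731 candS_925 candS_926) (.node 18771 candS_927 candS_928))))) (.node 19116 (.node 18954 (.node 18873 (.node 18832 (.node 18812 candS_929 candS_930) (.node 18852 candS_931 candS_932)) (.node 18913 (.node 18893 candS_933 candS_934) (.node 18933 candS_935 candS_936))) (.node 19035 (.node 18994 (.node 18974 candS_937 candS_938) (.node 19014 candS_939 candS_940)) (.node 19075 (.node 19055 candS_941 candS_942) (.node 19095 candS_943 candS_944)))) (.node 19278 (.node 19197 (.node 19156 (.node 19136 candS_945 candS_946) (.node 19176 candS_947 candS_948)) (.node 19237 (.node 19217 candS_949 candS_950) (.node 19257 candS_951 candS_952))) (.node 19359 (.node 19318 (.node 19298 candS_953 candS_954) (.node 19338 candS_955 candS_956)) (.node 19399 (.node 19379 candS_957 candS_958)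 (.node 19419 candS_959 candS_960)))))) (.node 20088 (.node 19764 (.node 19602 (.node 19521 (.node 19480 (.node 19460 candS_961 candS_962) (.node 19500 candS_963 candS_964)) (.node 19561 (.node 19541 candS_965 candS_966) (.node 19581 candS_967 candS_968))) (.node 19683 (.node 19642 (.node 19622 candS_969 candS_970) (.node 19662 candS_971 candS_972)) (.node 19723 (.node 19703 candS_973 candS_974) (.node 19743 candS_975 candS_976)))) (.node 19926 (.node 19845 (.node 19804 (.node 19784 candS_977 candS_978) (.node 19824 candS_979 candS_980)) (.node 19885 (.node 19865 candS_981 candS_982) (.node 19905 candS_983 candS_984))) (.node 20007 (.node 19966 (.node 19946 candS_985 candS_986) (.node 19986 candS_987 candS_988)) (.node 20047 (.node 20027 candS_989 candS_990) (.node 20067 candS_991 candS_992))))) (.node 20412 (.node 20250 (.node 20169 (.node 20128 (.node 20108 candS_993 candS_994) (.node 20148 candS_995 candS_996)) (.node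 20209 (.node 20189 candS_997 candS_998) (.node 20229 candS_999 candS_1000))) (.node 20331 (.node 20290 (.node 20270 candS_1001 candS_1002) (.node 20310 candS_1003 candS_1004)) (.node 20371 (.node 20351 candS_1005 candS_1006) (.node 20391 candS_1007 candS_1008)))) (.node 20574 (.node 20493 (.node 20452 (.node 20432 candS_1009 candS_1010) (.node 20472 candS_1011 candS_1012)) (.node 20533 (.node 20513 candS_1013 candS_1014) (.node 20553 candS_1015 candS_1016))) (.node 20655 (.node 20614 (.node 20594 candS_1017 candS_1018) (.node 20634 candS_1019 candS_1020)) (.node 20695 (.node 20675 candS_1021 candS_1022) (.node 20715 candS_1023 candS_1024)))))))))) (.node 31104 (.node 25920 (.node 23328 (.node 22032 (.node 21384 (.node 21060 (.node 20898 (.node 20817 (.node 20776 (.node 20756 candS_1025 candS_1026) (.node 20796 candS_1027 candS_1028)) (.node 20857 (.node 20837 candS_1029 candS_1030) (.node 20877 candS_1031 candS_1032)))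 (.node 20979 (.node 20938 (.node 20918 candS_1033 candS_1034) (.node 20958 candS_1035 candS_1036)) (.node 21019 (.node 20999 candS_1037 candS_1038) (.node 21039 candS_1039 candS_1040)))) (.node 21222 (.node 21141 (.node 21100 (.node 21080 candS_1041 candS_1042) (.node 21120 candS_1043 candS_1044)) (.node 21181 (.node 21161 candS_1045 candS_1046) (.node 21201 candS_1047 candS_1048))) (.node 21303 (.node 21262 (.node 21242 candS_1049 candS_1050) (.node 21282 candS_1051 candS_1052)) (.node 21343 (.node 21323 candS_1053 candS_1054) (.node 21363 candS_1055 candS_1056))))) (.node 21708 (.node 21546 (.node 21465 (.node 21424 (.node 21404 candS_1057 candS_1058) (.node 21444 candS_1059 candS_1060)) (.node 21505 (.node 21485 candS_1061 candS_1062) (.node 21525 candS_1063 candS_1064))) (.node 21627 (.node 21586 (.node 21566 candS_1065 candS_1066) (.node 21606 candS_1067 candS_1068)) (.node 21667 (.node 21647 candS_1069 candS_1070)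 (.node 21687 candS_1071 candS_1072)))) (.node 21870 (.node 21789 (.node 21748 (.node 21728 candS_1073 candS_1074) (.node 21768 candS_1075 candS_1076)) (.node 21829 (.node 21809 candS_1077 candS_1078) (.node 21849 candS_1079 candS_1080))) (.node 21951 (.node 21910 (.node 21890 candS_1081 candS_1082) (.node 21930 candS_1083 candS_1084)) (.node 21991 (.node 21971 candS_1085 candS_1086) (.node 22011 candS_1087 candS_1088)))))) (.node 22680 (.node 22356 (.node 22194 (.node 22113 (.node 22072 (.node 22052 candS_1089 candS_1090) (.node 22092 candS_1091 candS_1092)) (.node 22153 (.node 22133 candS_1093 candS_1094) (.node 22173 candS_1095 candS_1096))) (.node 22275 (.node 22234 (.node 22214 candS_1097 candS_1098) (.node 22254 candS_1099 candS_1100)) (.node 22315 (.node 22295 candS_1101 candS_1102) (.node 22335 candS_1103 candS_1104)))) (.node 22518 (.node 22437 (.node 22396 (.node 22376 candS_1105 candS_1106) (.node 22416 candS_1107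 candS_1108)) (.node 22477 (.node 22457 candS_1109 candS_1110) (.node 22497 candS_1111 candS_1112))) (.node 22599 (.node 22558 (.node 22538 candS_1113 candS_1114) (.node 22578 candS_1115 candS_1116)) (.node 22639 (.node 22619 candS_1117 candS_1118) (.node 22659 candS_1119 candS_1120))))) (.node 23004 (.node 22842 (.node 22761 (.node 22720 (.node 22700 candS_1121 candS_1122) (.node 22740 candS_1123 candS_1124)) (.node 22801 (.node 22781 candS_1125 candS_1126) (.node 22821 candS_1127 candS_1128))) (.node 22923 (.node 22882 (.node 22862 candS_1129 candS_1130) (.node 22902 candS_1131 candS_1132)) (.node 22963 (.node 22943 candS_1133 candS_1134) (.node 22983 candS_1135 candS_1136)))) (.node 23166 (.node 23085 (.node 23044 (.node 23024 candS_1137 candS_1138) (.node 23064 candS_1139 candS_1140)) (.node 23125 (.node 23105 candS_1141 candS_1142) (.node 23145 candS_1143 candS_1144))) (.node 23247 (.node 23206 (.node 23186 candS_1145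 candS_1146) (.node 23226 candS_1147 candS_1148)) (.node 23287 (.node 23267 candS_1149 candS_1150) (.node 23307 candS_1151 candS_1152))))))) (.node 24624 (.node 23976 (.node 23652 (.node 23490 (.node 23409 (.node 23368 (.node 23348 candS_1153 candS_1154) (.node 23388 candS_1155 candS_1156)) (.node 23449 (.node 23429 candS_1157 candS_1158) (.node 23469 candS_1159 candS_1160))) (.node 23571 (.node 23530 (.node 23510 candS_1161 candS_1162) (.node 23550 candS_1163 candS_1164)) (.node 23611 (.node 23591 candS_1165 candS_1166) (.node 23631 candS_1167 candS_1168)))) (.node 23814 (.node 23733 (.node 23692 (.node 23672 candS_1169 candS_1170) (.node 23712 candS_1171 candS_1172)) (.node 23773 (.node 23753 candS_1173 candS_1174) (.node 23793 candS_1175 candS_1176))) (.node 23895 (.node 23854 (.node 23834 candS_1177 candS_1178) (.node 23874 candS_1179 candS_1180)) (.node 23935 (.node 23915 candS_1181 candS_1182) (.node 23955 candS_1183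 candS_1184))))) (.node 24300 (.node 24138 (.node 24057 (.node 24016 (.node 23996 candS_1185 candS_1186) (.node 24036 candS_1187 candS_1188)) (.node 24097 (.node 24077 candS_1189 candS_1190) (.node 24117 candS_1191 candS_1192))) (.node 24219 (.node 24178 (.node 24158 candS_1193 candS_1194) (.node 24198 candS_1195 candS_1196)) (.node 24259 (.node 24239 candS_1197 candS_1198) (.node 24279 candS_1199 candS_1200)))) (.node 24462 (.node 24381 (.node 24340 (.node 24320 candS_1201 candS_1202) (.node 24360 candS_1203 candS_1204)) (.node 24421 (.node 24401 candS_1205 candS_1206) (.node 24441 candS_1207 candS_1208))) (.node 24543 (.node 24502 (.node 24482 candS_1209 candS_1210) (.node 24522 candS_1211 candS_1212)) (.node 24583 (.node 24563 candS_1213 candS_1214) (.node 24603 candS_1215 candS_1216)))))) (.node 25272 (.node 24948 (.node 24786 (.node 24705 (.node 24664 (.node 24644 candS_1217 candS_1218) (.node 24684 candS_1219 candS_1220))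 (.node 24745 (.node 24725 candS_1221 candS_1222) (.node 24765 candS_1223 candS_1224))) (.node 24867 (.node 24826 (.node 24806 candS_1225 candS_1226) (.node 24846 candS_1227 candS_1228)) (.node 24907 (.node 24887 candS_1229 candS_1230) (.node 24927 candS_1231 candS_1232)))) (.node 25110 (.node 25029 (.node 24988 (.node 24968 candS_1233 candS_1234) (.node 25008 candS_1235 candS_1236)) (.node 25069 (.node 25049 candS_1237 candS_1238) (.node 25089 candS_1239 candS_1240))) (.node 25191 (.node 25150 (.node 25130 candS_1241 candS_1242) (.node 25170 candS_1243 candS_1244)) (.node 25231 (.node 25211 candS_1245 candS_1246) (.node 25251 candS_1247 candS_1248))))) (.node 25596 (.node 25434 (.node 25353 (.node 25312 (.node 25292 candS_1249 candS_1250) (.node 25332 candS_1251 candS_1252)) (.node 25393 (.node 25373 candS_1253 candS_1254) (.node 25413 candS_1255 candS_1256))) (.node 25515 (.node 25474 (.node 25454 candS_1257 candS_1258)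 (.node 25494 candS_1259 candS_1260)) (.node 25555 (.node 25535 candS_1261 candS_1262) (.node 25575 candS_1263 candS_1264)))) (.node 25758 (.node 25677 (.node 25636 (.node 25616 candS_1265 candS_1266) (.node 25656 candS_1267 candS_1268)) (.node 25717 (.node 25697 candS_1269 candS_1270) (.node 25737 candS_1271 candS_1272))) (.node 25839 (.node 25798 (.node 25778 candS_1273 candS_1274) (.node 25818 candS_1275 candS_1276)) (.node 25879 (.node 25859 candS_1277 candS_1278) (.node 25899 candS_1279 candS_1280)))))))) (.node 28512 (.node 27216 (.node 26568 (.node 26244 (.node 26082 (.node 26001 (.node 25960 (.node 25940 candS_1281 candS_1282) (.node 25980 candS_1283 candS_1284)) (.node 26041 (.node 26021 candS_1285 candS_1286) (.node 26061 candS_1287 candS_1288))) (.node 26163 (.node 26122 (.node 26102 candS_1289 candS_1290) (.node 26142 candS_1291 candS_1292)) (.node 26203 (.node 26183 candS_1293 candS_1294) (.node 26223 candS_1295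 candS_1296)))) (.node 26406 (.node 26325 (.node 26284 (.node 26264 candS_1297 candS_1298) (.node 26304 candS_1299 candS_1300)) (.node 26365 (.node 26345 candS_1301 candS_1302) (.node 26385 candS_1303 candS_1304))) (.node 26487 (.node 26446 (.node 26426 candS_1305 candS_1306) (.node 26466 candS_1307 candS_1308)) (.node 26527 (.node 26507 candS_1309 candS_1310) (.node 26547 candS_1311 candS_1312))))) (.node 26892 (.node 26730 (.node 26649 (.node 26608 (.node 26588 candS_1313 candS_1314) (.node 26628 candS_1315 candS_1316)) (.node 26689 (.node 26669 candS_1317 candS_1318) (.node 26709 candS_1319 candS_1320))) (.node 26811 (.node 26770 (.node 26750 candS_1321 candS_1322) (.node 26790 candS_1323 candS_1324)) (.node 26851 (.node 26831 candS_1325 candS_1326) (.node 26871 candS_1327 candS_1328)))) (.node 27054 (.node 26973 (.node 26932 (.node 26912 candS_1329 candS_1330) (.node 26952 candS_1331 candS_1332)) (.node 27013 (.node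 26993 candS_1333 candS_1334) (.node 27033 candS_1335 candS_1336))) (.node 27135 (.node 27094 (.node 27074 candS_1337 candS_1338) (.node 27114 candS_1339 candS_1340)) (.node 27175 (.node 27155 candS_1341 candS_1342) (.node 27195 candS_1343 candS_1344)))))) (.node 27864 (.node 27540 (.node 27378 (.node 27297 (.node 27256 (.node 27236 candS_1345 candS_1346) (.node 27276 candS_1347 candS_1348)) (.node 27337 (.node 27317 candS_1349 candS_1350) (.node 27357 candS_1351 candS_1352))) (.node 27459 (.node 27418 (.node 27398 candS_1353 candS_1354) (.node 27438 candS_1355 candS_1356)) (.node 27499 (.node 27479 candS_1357 candS_1358) (.node 27519 candS_1359 candS_1360)))) (.node 27702 (.node 27621 (.node 27580 (.node 27560 candS_1361 candS_1362) (.node 27600 candS_1363 candS_1364)) (.node 27661 (.node 27641 candS_1365 candS_1366) (.node 27681 candS_1367 candS_1368))) (.node 27783 (.node 27742 (.node 27722 candS_1369 candS_1370)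 (.node 27762 candS_1371 candS_1372)) (.node 27823 (.node 27803 candS_1373 candS_1374) (.node 27843 candS_1375 candS_1376))))) (.node 28188 (.node 28026 (.node 27945 (.node 27904 (.node 27884 candS_1377 candS_1378) (.node 27924 candS_1379 candS_1380)) (.node 27985 (.node 27965 candS_1381 candS_1382) (.node 28005 candS_1383 candS_1384))) (.node 28107 (.node 28066 (.node 28046 candS_1385 candS_1386) (.node 28086 candS_1387 candS_1388)) (.node 28147 (.node 28127 candS_1389 candS_1390) (.node 28167 candS_1391 candS_1392)))) (.node 28350 (.node 28269 (.node 28228 (.node 28208 candS_1393 candS_1394) (.node 28248 candS_1395 candS_1396)) (.node 28309 (.node 28289 candS_1397 candS_1398) (.node 28329 candS_1399 candS_1400))) (.node 28431 (.node 28390 (.node 28370 candS_1401 candS_1402) (.node 28410 candS_1403 candS_1404)) (.node 28471 (.node 28451 candS_1405 candS_1406) (.node 28491 candS_1407 candS_1408))))))) (.node 29808 (.node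 29160 (.node 28836 (.node 28674 (.node 28593 (.node 28552 (.node 28532 candS_1409 candS_1410) (.node 28572 candS_1411 candS_1412)) (.node 28633 (.node 28613 candS_1413 candS_1414) (.node 28653 candS_1415 candS_1416))) (.node 28755 (.node 28714 (.node 28694 candS_1417 candS_1418) (.node 28734 candS_1419 candS_1420)) (.node 28795 (.node 28775 candS_1421 candS_1422) (.node 28815 candS_1423 candS_1424)))) (.node 28998 (.node 28917 (.node 28876 (.node 28856 candS_1425 candS_1426) (.node 28896 candS_1427 candS_1428)) (.node 28957 (.node 28937 candS_1429 candS_1430) (.node 28977 candS_1431 candS_1432))) (.node 29079 (.node 29038 (.node 29018 candS_1433 candS_1434) (.node 29058 candS_1435 candS_1436)) (.node 29119 (.node 29099 candS_1437 candS_1438) (.node 29139 candS_1439 candS_1440))))) (.node 29484 (.node 29322 (.node 29241 (.node 29200 (.node 29180 candS_1441 candS_1442) (.node 29220 candS_1443 candS_1444)) (.node 29281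 (.node 29261 candS_1445 candS_1446) (.node 29301 candS_1447 candS_1448))) (.node 29403 (.node 29362 (.node 29342 candS_1449 candS_1450) (.node 29382 candS_1451 candS_1452)) (.node 29443 (.node 29423 candS_1453 candS_1454) (.node 29463 candS_1455 candS_1456)))) (.node 29646 (.node 29565 (.node 29524 (.node 29504 candS_1457 candS_1458) (.node 29544 candS_1459 candS_1460)) (.node 29605 (.node 29585 candS_1461 candS_1462) (.node 29625 candS_1463 candS_1464))) (.node 29727 (.node 29686 (.node 29666 candS_1465 candS_1466) (.node 29706 candS_1467 candS_1468)) (.node 29767 (.node 29747 candS_1469 candS_1470) (.node 29787 candS_1471 candS_1472)))))) (.node 30456 (.node 30132 (.node 29970 (.node 29889 (.node 29848 (.node 29828 candS_1473 candS_1474) (.node 29868 candS_1475 candS_1476)) (.node 29929 (.node 29909 candS_1477 candS_1478) (.node 29949 candS_1479 candS_1480))) (.node 30051 (.node 30010 (.node 29990 candS_1481 candS_1482)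 (.node 30030 candS_1483 candS_1484)) (.node 30091 (.node 30071 candS_1485 candS_1486) (.node 30111 candS_1487 candS_1488)))) (.node 30294 (.node 30213 (.node 30172 (.node 30152 candS_1489 candS_1490) (.node 30192 candS_1491 candS_1492)) (.node 30253 (.node 30233 candS_1493 candS_1494) (.node 30273 candS_1495 candS_1496))) (.node 30375 (.node 30334 (.node 30314 candS_1497 candS_1498) (.node 30354 candS_1499 candS_1500)) (.node 30415 (.node 30395 candS_1501 candS_1502) (.node 30435 candS_1503 candS_1504))))) (.node 30780 (.node 30618 (.node 30537 (.node 30496 (.node 30476 candS_1505 candS_1506) (.node 30516 candS_1507 candS_1508)) (.node 30577 (.node 30557 candS_1509 candS_1510) (.node 30597 candS_1511 candS_1512))) (.node 30699 (.node 30658 (.node 30638 candS_1513 candS_1514) (.node 30678 candS_1515 candS_1516)) (.node 30739 (.node 30719 candS_1517 candS_1518) (.node 30759 candS_1519 candS_1520)))) (.node 30942 (.node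 30861 (.node 30820 (.node 30800 candS_1521 candS_1522) (.node 30840 candS_1523 candS_1524)) (.node 30901 (.node 30881 candS_1525 candS_1526) (.node 30921 candS_1527 candS_1528))) (.node 31023 (.node 30982 (.node 30962 candS_1529 candS_1530) (.node 31002 candS_1531 candS_1532)) (.node 31063 (.node 31043 candS_1533 candS_1534) (.node 31083 candS_1535 candS_1536))))))))) (.node 36288 (.node 33696 (.node 32400 (.node 31752 (.node 31428 (.node 31266 (.node 31185 (.node 31144 (.node 31124 candS_1537 candS_1538) (.node 31164 candS_1539 candS_1540)) (.node 31225 (.node 31205 candS_1541 candS_1542) (.node 31245 candS_1543 candS_1544))) (.node 31347 (.node 31306 (.node 31286 candS_1545 candS_1546) (.node 31326 candS_1547 candS_1548)) (.node 31387 (.node 31367 candS_1549 candS_1550) (.node 31407 candS_1551 candS_1552)))) (.node 31590 (.node 31509 (.node 31468 (.node 31448 candS_1553 candS_1554) (.node 31488 candS_1555 candS_1556))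 (.node 31549 (.node 31529 candS_1557 candS_1558) (.node 31569 candS_1559 candS_1560))) (.node 31671 (.node 31630 (.node 31610 candS_1561 candS_1562) (.node 31650 candS_1563 candS_1564)) (.node 31711 (.node 31691 candS_1565 candS_1566) (.node 31731 candS_1567 candS_1568))))) (.node 32076 (.node 31914 (.node 31833 (.node 31792 (.node 31772 candS_1569 candS_1570) (.node 31812 candS_1571 candS_1572)) (.node 31873 (.node 31853 candS_1573 candS_1574) (.node 31893 candS_1575 candS_1576))) (.node 31995 (.node 31954 (.node 31934 candS_1577 candS_1578) (.node 31974 candS_1579 candS_1580)) (.node 32035 (.node 32015 candS_1581 candS_1582) (.node 32055 candS_1583 candS_1584)))) (.node 32238 (.node 32157 (.node 32116 (.node 32096 candS_1585 candS_1586) (.node 32136 candS_1587 candS_1588)) (.node 32197 (.node 32177 candS_1589 candS_1590) (.node 32217 candS_1591 candS_1592))) (.node 32319 (.node 32278 (.node 32258 candS_1593 candS_1594)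 (.node 32298 candS_1595 candS_1596)) (.node 32359 (.node 32339 candS_1597 candS_1598) (.node 32379 candS_1599 candS_1600)))))) (.node 33048 (.node 32724 (.node 32562 (.node 32481 (.node 32440 (.node 32420 candS_1601 candS_1602) (.node 32460 candS_1603 candS_1604)) (.node 32521 (.node 32501 candS_1605 candS_1606) (.node 32541 candS_1607 candS_1608))) (.node 32643 (.node 32602 (.node 32582 candS_1609 candS_1610) (.node 32622 candS_1611 candS_1612)) (.node 32683 (.node 32663 candS_1613 candS_1614) (.node 32703 candS_1615 candS_1616)))) (.node 32886 (.node 32805 (.node 32764 (.node 32744 candS_1617 candS_1618) (.node 32784 candS_1619 candS_1620)) (.node 32845 (.node 32825 candS_1621 candS_1622) (.node 32865 candS_1623 candS_1624))) (.node 32967 (.node 32926 (.node 32906 candS_1625 candS_1626) (.node 32946 candS_1627 candS_1628)) (.node 33007 (.node 32987 candS_1629 candS_1630) (.node 33027 candS_1631 candS_1632))))) (.node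 33372 (.node 33210 (.node 33129 (.node 33088 (.node 33068 candS_1633 candS_1634) (.node 33108 candS_1635 candS_1636)) (.node 33169 (.node 33149 candS_1637 candS_1638) (.node 33189 candS_1639 candS_1640))) (.node 33291 (.node 33250 (.node 33230 candS_1641 candS_1642) (.node 33270 candS_1643 candS_1644)) (.node 33331 (.node 33311 candS_1645 candS_1646) (.node 33351 candS_1647 candS_1648)))) (.node 33534 (.node 33453 (.node 33412 (.node 33392 candS_1649 candS_1650) (.node 33432 candS_1651 candS_1652)) (.node 33493 (.node 33473 candS_1653 candS_1654) (.node 33513 candS_1655 candS_1656))) (.node 33615 (.node 33574 (.node 33554 candS_1657 candS_1658) (.node 33594 candS_1659 candS_1660)) (.node 33655 (.node 33635 candS_1661 candS_1662) (.node 33675 candS_1663 candS_1664))))))) (.node 34992 (.node 34344 (.node 34020 (.node 33858 (.node 33777 (.node 33736 (.node 33716 candS_1665 candS_1666) (.node 33756 candS_1667 candS_1668))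 (.node 33817 (.node 33797 candS_1669 candS_1670) (.node 33837 candS_1671 candS_1672))) (.node 33939 (.node 33898 (.node 33878 candS_1673 candS_1674) (.node 33918 candS_1675 candS_1676)) (.node 33979 (.node 33959 candS_1677 candS_1678) (.node 33999 candS_1679 candS_1680)))) (.node 34182 (.node 34101 (.node 34060 (.node 34040 candS_1681 candS_1682) (.node 34080 candS_1683 candS_1684)) (.node 34141 (.node 34121 candS_1685 candS_1686) (.node 34161 candS_1687 candS_1688))) (.node 34263 (.node 34222 (.node 34202 candS_1689 candS_1690) (.node 34242 candS_1691 candS_1692)) (.node 34303 (.node 34283 candS_1693 candS_1694) (.node 34323 candS_1695 candS_1696))))) (.node 34668 (.node 34506 (.node 34425 (.node 34384 (.node 34364 candS_1697 candS_1698) (.node 34404 candS_1699 candS_1700)) (.node 34465 (.node 34445 candS_1701 candS_1702) (.node 34485 candS_1703 candS_1704))) (.node 34587 (.node 34546 (.node 34526 candS_1705 candS_1706)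 (.node 34566 candS_1707 candS_1708)) (.node 34627 (.node 34607 candS_1709 candS_1710) (.node 34647 candS_1711 candS_1712)))) (.node 34830 (.node 34749 (.node 34708 (.node 34688 candS_1713 candS_1714) (.node 34728 candS_1715 candS_1716)) (.node 34789 (.node 34769 candS_1717 candS_1718) (.node 34809 candS_1719 candS_1720))) (.node 34911 (.node 34870 (.node 34850 candS_1721 candS_1722) (.node 34890 candS_1723 candS_1724)) (.node 34951 (.node 34931 candS_1725 candS_1726) (.node 34971 candS_1727 candS_1728)))))) (.node 35640 (.node 35316 (.node 35154 (.node 35073 (.node 35032 (.node 35012 candS_1729 candS_1730) (.node 35052 candS_1731 candS_1732)) (.node 35113 (.node 35093 candS_1733 candS_1734) (.node 35133 candS_1735 candS_1736))) (.node 35235 (.node 35194 (.node 35174 candS_1737 candS_1738) (.node 35214 candS_1739 candS_1740)) (.node 35275 (.node 35255 candS_1741 candS_1742) (.node 35295 candS_1743 candS_1744)))) (.node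 35478 (.node 35397 (.node 35356 (.node 35336 candS_1745 candS_1746) (.node 35376 candS_1747 candS_1748)) (.node 35437 (.node 35417 candS_1749 candS_1750) (.node 35457 candS_1751 candS_1752))) (.node 35559 (.node 35518 (.node 35498 candS_1753 candS_1754) (.node 35538 candS_1755 candS_1756)) (.node 35599 (.node 35579 candS_1757 candS_1758) (.node 35619 candS_1759 candS_1760))))) (.node 35964 (.node 35802 (.node 35721 (.node 35680 (.node 35660 candS_1761 candS_1762) (.node 35700 candS_1763 candS_1764)) (.node 35761 (.node 35741 candS_1765 candS_1766) (.node 35781 candS_1767 candS_1768))) (.node 35883 (.node 35842 (.node 35822 candS_1769 candS_1770) (.node 35862 candS_1771 candS_1772)) (.node 35923 (.node 35903 candS_1773 candS_1774) (.node 35943 candS_1775 candS_1776)))) (.node 36126 (.node 36045 (.node 36004 (.node 35984 candS_1777 candS_1778) (.node 36024 candS_1779 candS_1780)) (.node 36085 (.node 36065 candS_1781 candS_1782)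 (.node 36105 candS_1783 candS_1784))) (.node 36207 (.node 36166 (.node 36146 candS_1785 candS_1786) (.node 36186 candS_1787 candS_1788)) (.node 36247 (.node 36227 candS_1789 candS_1790) (.node 36267 candS_1791 candS_1792)))))))) (.node 38880 (.node 37584 (.node 36936 (.node 36612 (.node 36450 (.node 36369 (.node 36328 (.node 36308 candS_1793 candS_1794) (.node 36348 candS_1795 candS_1796)) (.node 36409 (.node 36389 candS_1797 candS_1798) (.node 36429 candS_1799 candS_1800))) (.node 36531 (.node 36490 (.node 36470 candS_1801 candS_1802) (.node 36510 candS_1803 candS_1804)) (.node 36571 (.node 36551 candS_1805 candS_1806) (.node 36591 candS_1807 candS_1808)))) (.node 36774 (.node 36693 (.node 36652 (.node 36632 candS_1809 candS_1810) (.node 36672 candS_1811 candS_1812)) (.node 36733 (.node 36713 candS_1813 candS_1814) (.node 36753 candS_1815 candS_1816))) (.node 36855 (.node 36814 (.node 36794 candS_1817 candS_1818) (.node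 36834 candS_1819 candS_1820)) (.node 36895 (.node 36875 candS_1821 candS_1822) (.node 36915 candS_1823 candS_1824))))) (.node 37260 (.node 37098 (.node 37017 (.node 36976 (.node 36956 candS_1825 candS_1826) (.node 36996 candS_1827 candS_1828)) (.node 37057 (.node 37037 candS_1829 candS_1830) (.node 37077 candS_1831 candS_1832))) (.node 37179 (.node 37138 (.node 37118 candS_1833 candS_1834) (.node 37158 candS_1835 candS_1836)) (.node 37219 (.node 37199 candS_1837 candS_1838) (.node 37239 candS_1839 candS_1840)))) (.node 37422 (.node 37341 (.node 37300 (.node 37280 candS_1841 candS_1842) (.node 37320 candS_1843 candS_1844)) (.node 37381 (.node 37361 candS_1845 candS_1846) (.node 37401 candS_1847 candS_1848))) (.node 37503 (.node 37462 (.node 37442 candS_1849 candS_1850) (.node 37482 candS_1851 candS_1852)) (.node 37543 (.node 37523 candS_1853 candS_1854) (.node 37563 candS_1855 candS_1856)))))) (.node 38232 (.node 37908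 (.node 37746 (.node 37665 (.node 37624 (.node 37604 candS_1857 candS_1858) (.node 37644 candS_1859 candS_1860)) (.node 37705 (.node 37685 candS_1861 candS_1862) (.node 37725 candS_1863 candS_1864))) (.node 37827 (.node 37786 (.node 37766 candS_1865 candS_1866) (.node 37806 candS_1867 candS_1868)) (.node 37867 (.node 37847 candS_1869 candS_1870) (.node 37887 candS_1871 candS_1872)))) (.node 38070 (.node 37989 (.node 37948 (.node 37928 candS_1873 candS_1874) (.node 37968 candS_1875 candS_1876)) (.node 38029 (.node 38009 candS_1877 candS_1878) (.node 38049 candS_1879 candS_1880))) (.node 38151 (.node 38110 (.node 38090 candS_1881 candS_1882) (.node 38130 candS_1883 candS_1884)) (.node 38191 (.node 38171 candS_1885 candS_1886) (.node 38211 candS_1887 candS_1888))))) (.node 38556 (.node 38394 (.node 38313 (.node 38272 (.node 38252 candS_1889 candS_1890) (.node 38292 candS_1891 candS_1892)) (.node 38353 (.node 38333 candS_1893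 candS_1894) (.node 38373 candS_1895 candS_1896))) (.node 38475 (.node 38434 (.node 38414 candS_1897 candS_1898) (.node 38454 candS_1899 candS_1900)) (.node 38515 (.node 38495 candS_1901 candS_1902) (.node 38535 candS_1903 candS_1904)))) (.node 38718 (.node 38637 (.node 38596 (.node 38576 candS_1905 candS_1906) (.node 38616 candS_1907 candS_1908)) (.node 38677 (.node 38657 candS_1909 candS_1910) (.node 38697 candS_1911 candS_1912))) (.node 38799 (.node 38758 (.node 38738 candS_1913 candS_1914) (.node 38778 candS_1915 candS_1916)) (.node 38839 (.node 38819 candS_1917 candS_1918) (.node 38859 candS_1919 candS_1920))))))) (.node 40176 (.node 39528 (.node 39204 (.node 39042 (.node 38961 (.node 38920 (.node 38900 candS_1921 candS_1922) (.node 38940 candS_1923 candS_1924)) (.node 39001 (.node 38981 candS_1925 candS_1926) (.node 39021 candS_1927 candS_1928))) (.node 39123 (.node 39082 (.node 39062 candS_1929 candS_1930) (.node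 39102 candS_1931 candS_1932)) (.node 39163 (.node 39143 candS_1933 candS_1934) (.node 39183 candS_1935 candS_1936)))) (.node 39366 (.node 39285 (.node 39244 (.node 39224 candS_1937 candS_1938) (.node 39264 candS_1939 candS_1940)) (.node 39325 (.node 39305 candS_1941 candS_1942) (.node 39345 candS_1943 candS_1944))) (.node 39447 (.node 39406 (.node 39386 candS_1945 candS_1946) (.node 39426 candS_1947 candS_1948)) (.node 39487 (.node 39467 candS_1949 candS_1950) (.node 39507 candS_1951 candS_1952))))) (.node 39852 (.node 39690 (.node 39609 (.node 39568 (.node 39548 candS_1953 candS_1954) (.node 39588 candS_1955 candS_1956)) (.node 39649 (.node 39629 candS_1957 candS_1958) (.node 39669 candS_1959 candS_1960))) (.node 39771 (.node 39730 (.node 39710 candS_1961 candS_1962) (.node 39750 candS_1963 candS_1964)) (.node 39811 (.node 39791 candS_1965 candS_1966) (.node 39831 candS_1967 candS_1968)))) (.node 40014 (.node 39933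 (.node 39892 (.node 39872 candS_1969 candS_1970) (.node 39912 candS_1971 candS_1972)) (.node 39973 (.node 39953 candS_1973 candS_1974) (.node 39993 candS_1975 candS_1976))) (.node 40095 (.node 40054 (.node 40034 candS_1977 candS_1978) (.node 40074 candS_1979 candS_1980)) (.node 40135 (.node 40115 candS_1981 candS_1982) (.node 40155 candS_1983 candS_1984)))))) (.node 40824 (.node 40500 (.node 40338 (.node 40257 (.node 40216 (.node 40196 candS_1985 candS_1986) (.node 40236 candS_1987 candS_1988)) (.node 40297 (.node 40277 candS_1989 candS_1990) (.node 40317 candS_1991 candS_1992))) (.node 40419 (.node 40378 (.node 40358 candS_1993 candS_1994) (.node 40398 candS_1995 candS_1996)) (.node 40459 (.node 40439 candS_1997 candS_1998) (.node 40479 candS_1999 candS_2000)))) (.node 40662 (.node 40581 (.node 40540 (.node 40520 candS_2001 candS_2002) (.node 40560 candS_2003 candS_2004)) (.node 40621 (.node 40601 candS_2005 candS_2006)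 (.node 40641 candS_2007 candS_2008))) (.node 40743 (.node 40702 (.node 40682 candS_2009 candS_2010) (.node 40722 candS_2011 candS_2012)) (.node 40783 (.node 40763 candS_2013 candS_2014) (.node 40803 candS_2015 candS_2016))))) (.node 41148 (.node 40986 (.node 40905 (.node 40864 (.node 40844 candS_2017 candS_2018) (.node 40884 candS_2019 candS_2020)) (.node 40945 (.node 40925 candS_2021 candS_2022) (.node 40965 candS_2023 candS_2024))) (.node 41067 (.node 41026 (.node 41006 candS_2025 candS_2026) (.node 41046 candS_2027 candS_2028)) (.node 41107 (.node 41087 candS_2029 candS_2030) (.node 41127 candS_2031 candS_2032)))) (.node 41310 (.node 41229 (.node 41188 (.node 41168 candS_2033 candS_2034) (.node 41208 candS_2035 candS_2036)) (.node 41269 (.node 41249 candS_2037 candS_2038) (.node 41289 candS_2039 candS_2040))) (.node 41391 (.node 41350 (.node 41330 candS_2041 candS_2042) (.node 41370 candS_2043 candS_2044)) (.node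 41431 (.node 41411 candS_2045 candS_2046) (.node 41451 candS_2047 candS_2048)))))))))))

end Cfsg.Agent.Co3Rec.Data
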