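import Cfsg.Agent.DCoset.Emit

/-! Data of the certificates for the third Conway group (generated). -/

set_option autoImplicit false
set_option maxRecDepth 100000
set_option linter.all false

namespace Cfsg.Agent.Co3Rec.Data

open Cfsg.Agent.CosetCert

/-- data -/
def eGens : List ℕ := [3, 4, 11, 12]

/-- data -/
def eEls : Store := (.node 8 (.node 4 (.node 2 (.node 1 (.leaf 0x0) (.leaf 0x30001)) (.node 3 (.leaf 0x40001) (.leaf 0xb0001))) (.node 6 (.node 5 (.leaf 0xc0001) (.leaf 0x3040002)) (.node 7 (.leaf 0x30b0002) (.leaf 0x30c0002)))) (.node 12 (.node 10 (.node 9 (.leaf 0x40b0002) (.leaf 0x40c0002)) (.node 11 (.leaf 0xb0c0002) (.leaf 0x3040b0003))) (.node 14 (.node 13 (.leaf 0x3040c0003) (.leaf 0x30b0c0003)) (.node 15 (.leaf 0x40b0c0003) (.leaf 0x3040b0c0004)))))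

/-- data -/
def eStepS : Store := (.leaf 0xb000800060005000f00030002000e0001000d000c0000000a000900070004000c00090007000f00050004000e0002000d0001000b000a0000000800060003000d000a000f00070006000e00040003000c000b000100090008000000050002000e000f000a00090008000d000c000b00040003000200070006000500000001)

/-- data -/
noncomputable def eStep : ℕ → ℕ := DCoset.get16 eStepS

/-- data -/
def eOrdS : Store := (.leaf 0x600030000000e00080004000d0002000f000b0009000c000100050007000a)

/-- data -/
noncomputable def eOrd : ℕ → ℕ := DCoset.get16 eOrdS

/-- size -/
def eN : ℕ := 16

/-- data -/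
def eMulS : Store := (.node 1 (.leaf 0x8000b00030002000e00060005000f0000000a00090001000d000c000400070009000c0004000e00020007000f0005000a00000008000d0001000b00030006000a000d000e00040003000f00070006000900080000000c000b000100020005000b000800060005000f00030002000e0001000d000c0000000a000900070004000c00090007000f00050004000e0002000d0001000b000a0000000800060003000d000a000f00070006000e00040003000c000b000100090008000000050002000e000f000a00090008000d000c000b00040003000200070006000500000001000f000e000d000c000b000a0009000800070006000500040003000200010000) (.leaf 0x100020003000400050006000700080009000a000b000c000d000e000f00010000000500060007000200030004000b000c000d00080009000a000f000e000200050000000800090001000b000c00030004000e00060007000f000a000d0003000600080000000a000b0001000d0002000e00040005000f00070009000c000400070009000a0000000c000d0001000e00020003000f000500060008000b000500020001000b000c00000008000900060007000f00030004000e000d000a00060003000b0001000d00080000000a0005000f00070002000e0004000c000900070004000c000d00010009000a0000000f00050006000e00020003000b0008))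

/-- data -/
noncomputable def eMul : ℕ → ℕ := DCoset.get16 eMulS

/-- data -/
def eTypeS : Store := (.leaf 0x2000200020002000200020002000200020002000200020002000200010000)

/-- data -/
noncomputable def eType : ℕ → ℕ := DCoset.get16 eTypeS

/-- data -/
def eConj : Store := (.node 8 (.node 4 (.node 2 (.node 1 (.leaf 0x0) (.leaf 0x0)) (.node 3 (.leaf 0x0) (.leaf 0x200010001010001000009))) (.node 6 (.node 5 (.leaf 0x1000100010005) (.leaf 0x10002020200010008)) (.node 7 (.leaf 0x10100010001010007) (.leaf 0x20200020002020007)))) (.node 12 (.node 10 (.node 9 (.leaf 0x2000202000202000008) (.leaf 0x2020001000100010009)) (.node 11 (.leaf 0x1010100020202000009) (.leaf 0x1000101000202020008))) (.node 14 (.node 13 (.leaf 0x2020001010001000008) (.leaf 0x10100010100010008)) (.node 15 (.leaf 0x101000200020200020009) (.leaf 0x10002000202000007)))))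

end Cfsg.Agent.Co3Rec.Data
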