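import Cfsg.Agent.DCoset.Emit

/-! Data of the certificates for the third Conway group (generated). -/

set_option autoImplicit false
set_option maxRecDepth 100000
set_option linter.all false

namespace Cfsg.Agent.Co3Rec.Data

open Cfsg.Agent.CosetCert

/-- data -/
def tWords : List (List ℕ) := [[2,0,2,0,2,0,1,0,1,0,1,0,1,1,1,1,0,2,0,2,0,2,2,0,2,2,0,1,0,1,0,2,2,2,0,2,2,0,2,2,0,1,1,0,2,2,2,0,2,0,2,0,2,0,1,0,1,1,0,1,1,1,0,1,0,1,1,1,0,1,0,1],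
  [1,1,0,1,1,0,1,1,1,0,2,0,2,0,1,0,2,0,2,2,0,1,1,0,1,0,2,2,0,2,2,0,2,0,1,1,0,2,0,2,0,1,1,0,2,2,0,1,1,0,1,0,2,0,1,0,2,2,2,0,1,0,1,0,2,2,2,0,2,2,0,1,0],
  [2,0,2,0,2,0,1,0,1,0,1,0,1,1,1,1,0,2,0,2,0,2,2,0,2,2,2,0,2,2,0,2,0,1,1,0,2,0,2,0,1,1,0,2,2,0,1,0,2,0,2,2,0,1,0,1,1,1,1,0,1],
  [2,0,2,0,2,0,1,0,1,0,1,0,1,1,1,1,0,2,0,2,0,2,2,0,2,0,1,0,2,2,2,0,1,1,0,1,0,1,1,0,2,2,0,1,0,2,2,2,2,2,0,2,2,2,0,1,1,0,1,1,0,2,2,2,2,2],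
  [2,0,2,0,2,0,1,0,1,0,1,0,1,1,1,1,0,2,0,2,0,2,2,0,1,0,2,2,2,0,1,0,2,0,2,0,2,0,1,1,1,1,0,2,0,1,1,0,1,0,2,2,2,2,0,2,2,2,0,1],
  [2,2,2,0,2,0,1,0,1,0,2,0,1,0,2,0,1,0,1,1,1,0,2,2,0,2,0,2,2,0,1,0,1,0,1,0,1,0,2,0,2,0,1,0,1,0,2,0],
  [1,1,0,1,1,0,1,1,1,0,2,0,2,0,1,0,2,0,2,2,0,1,1,0,1,1,1,0,1,0,1,1,1,0,1,0,2,0,2,0,1,0,1,0,1,0,1,1,0,1,1,0,2,0,2,0,2,0],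
  [2,0,2,0,2,0,1,0,1,0,1,0,1,1,1,1,0,2,0,2,0,2,2,0,2,2,0,2,0,1,1,1,0,2,0,2,2,2,2,0,2,0,2,0,2,2,0,1,0,1,0,1,1,0,1,1,0,2,2,0,2,0,1,1,1,0,2,0,1,0,1,0,1],
  [2,2,2,0,2,0,1,0,1,0,2,0,1,0,2,0,1,0,1,1,1,0,2,2,0,2,2,0,2,0,1,1,0,2,0,2,0,1,1,0,2,2,0,1,1,0,1,1,0,2,0,1,1,0,1,1,1,0,1,0,1,0,1,1,0,2],
  [1,1,0,1,1,0,1,1,1,0,2,0,2,0,1,0,2,0,2,2,0,1,1,0,1,0,2,0,2,2,0,1,1,1,0,2,0,1,1,1,0,2,0,2,2,0,2,2,0,2,0,2,0,2,0,2,0,2,2,0,2,2,0,2,0,2,2,2,2,2,2,0],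
  [1,1,0,1,1,0,1,1,1,0,2,0,2,0,1,0,2,0,2,2,0,1,1,0,1,0,2,0,2,0,1,1,1,0,2,0,2,2,2,2,0,2,0,2,0,2,2,0,1,0,1,0,1,1,1,0,2,2,2],
  [1,1,0,1,1,0,1,1,1,0,2,0,2,0,1,0,2,0,2,2,0,1,1,0,1,0,2,0,2,2,0,1,1,1,0,2,0,1,1,1,0,2,0,2,2,0,2,2,0,2,0,2,2,0,1,0,1,0,1],
  [2,2,2,0,2,0,1,0,1,0,2,0,1,0,2,0,1,0,1,1,0,2,2,2,0,1,0,1,1,1,1,1,0,1,0,1],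
  [2,0,2,0,2,0,1,0,1,0,1,0,1,1,1,1,0,2,0,2,0,2,2,0,2,2,2,2,2,0,2,2,2,0,2,2,2,2,0,2,2,2,2,2,0,2,0,2,2,0,2,2,0,1,0,1,0,2,0,2],
  [2,2,2,0,2,0,1,0,1,0,2,0,1,0,2,0,1,0,1,1,1,0,1,0,2,2,0,2,2,2,0,2,2,2,0,1,1,1,0,1,0,1,0,2,0,2,0,2,0,1,1,1],
  [1,0,2,2,0,2,2,2,0,2,2,2,0,1,0,2,0,1,0,1,0,1,1,0,2,0,2,0,2,0,1,0,2],
  [2,2,2,0,2,0,1,0,1,0,2,0,1,0,2,0,1,0,1,1,1,0,2,0,2,2,0,1,1,1,0,2,0,1,1,1,0,2,0,2,2,0,2,2,2,0,2,0,1,0,2,0],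
  [1,1,0,1,1,0,1,1,1,0,2,0,2,0,1,0,2,0,2,2,0,1,1,0,1,0,1,1,1,1,0,2,0,1,0,2,0,1,0,2,0,2,0,1,0,1,1,1,0,1,1,0,2,0,1,1,1],
  [1,1,0,1,1,0,1,1,1,0,2,0,2,0,1,0,2,0,2,2,0,1,1,0,1,0,1,0,2,0,2,0,2,0,1,0,2,0,1,0,1,1,1,0,2,0,1,1,1,0,1,0,1,0,1,1,0,1,1,0,2,2,2,0,2,0,1,0,2,2,0],
  [2,0,2,0,1,1,1,0,2,0,2,2,2,2,0,2,0,2,0,2,2,0,1,0,1,1,0,1,1,0,1,0,2,2,0,2,2,0,2,0,2,0,2,0],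
  [2,2,2,0,2,0,1,0,1,0,2,0,1,0,2,0,1,0,1,1,1,1,1,0,1,1,0,2,0,2,0,2,0,1,0,2,2,0,1,0,2,2,0,2,0,1,0,2,2,2,0,2,0,1,0,2,0,1,1,0,1,1],
  [2,0,2,0,2,0,1,0,1,0,1,0,1,1,1,1,0,2,0,2,0,2,2,2,2,0,2,2,2,0,2,2,2,0,1,0,2,2,2,0,1,0,1,1,1,0,1,1,1,0,2,0,2,0,1],
  [2,2,2,0,2,0,1,0,1,0,2,0,1,0,2,0,1,0,1,1,1,0,1,1,0,2,2,2,0,1,0,2,0,2,0,2,0,1,0,1,1,0,1,0,2,0,2,2,2,2,0,2,2,0,1],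
  [2,2,2,0,2,0,1,0,1,0,2,0,1,0,2,0,1,0,1,1,1,1,1,1,0,2,2,2,0,1,1,1,0,2,2,2,0,1,0,1,0,1,1,0,2,0,2,2,2,0,2,0,2],
  [2,2,2,0,2,0,1,0,1,0,2,0,1,0,2,0,1,0,1,1,1,0,2,0,2,0,1,1,1,0,2,0,2,2,2,2,0,2,0,2,0,2,2,0,1,0,1,0,1,1,0,1,0,2,0,1,0,2,2,2,0,2,0,1,1,0,2,2,0,2,0,1,1,0,2],
  [1,0,2,2,0,2,2,0,2,2,0,2,2,0,1,1,1,1,0,2,0,1,0,1,1,0,1,1,1,0,2,0,1,1,0,2,0,1,0,2,2,0,1,1],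
  [1,1,0,1,1,0,1,1,1,0,2,0,2,0,1,0,2,0,2,2,0,1,1,0,1,1,1,0,2,0,1,0,2,2,0,2,0,2,0,2,0,1,0,1,0,2,0,1,1,0,1,1,1,0,2,0,1,1,0,1,0,1,0,1,0,2,0,1,0,1],
  [2,2,2,0,2,0,1,0,1,0,2,0,1,0,2,0,1,0,1,1,1,0,1,1,1,1,0,2,0,1,0,2,0,1,0,2,0,2,0,1,0,1,1,1,0,2,2,0,2,0,1,1,1,0,1,0,1,0,1,1,1,0],
  [2,2,2,0,2,0,1,0,1,0,2,0,1,0,2,0,1,0,1,1,1,0,2,0,1,0,2,2,0,2,2,0,2,2,0,2,0,1,0,2,0,2,0,1,0,2,0,2,0,2,2,0,2,0,2],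
  [2,0,2,0,2,0,1,0,1,0,1,0,1,1,1,1,0,2,0,2,0,2,2,0,2,0,1,0,2,0,2,0,1,1,1,0,2,0,2,0,2,2,0,2,2,2,0,1,1,1,0,1,0,1,0,1,0,2,2,2,0,1],
  [2,0,2,0,2,0,1,0,1,0,1,0,1,1,1,1,0,2,0,2,0,2,2,0,2,2,0,1,0,1,0,1,0,2,0,2,0,2,2,2,0,1,1,0,2,2,0,1,1,0,2,0,1,1,0,2,2,2,2,2],
  [2,0,2,0,2,0,1,0,1,0,1,0,1,1,1,1,0,2,0,2,0,2,2,0,2,0,1,1,1,0,2,2,2,0,1,1,1,0,2,2,2,0,2,0,1,0,1,0,1,1,1,0,1,1,0,2,0,2,2,2],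
  [2,0,2,0,2,0,1,0,1,0,1,0,1,1,1,1,0,2,0,2,0,2,2,0,2,2,2,0,2,0,2,2,0,1,0,1,0,1,0,1,0,2,0,1,1,1,1,0,2,0,1,0,1,0,2,0,1,1,1,1,0,2,0,1,0],
  [2,0,2,0,2,0,1,0,1,0,1,0,1,1,1,1,0,2,0,2,0,2,2,0,2,0,1,0,2,2,2,0,1,1,0,1,0,1,1,0,2,2,0,1,0,2,2,2,2,0,1,1,0,1,0,2,0,1,1,1,0,2,0,1,0,1,1],
  [2,2,2,0,2,0,1,0,1,0,2,0,1,0,2,0,1,0,1,1,1,0,1,0,2,0,2,0,2,0,1,0,2,0,1,0,1,1,1,0,2,0,1,1,0,2,2,0,1,0,1,1,1,0,2,0,2,2,0,1,1,1,0,1,1,0],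
  [2,0,2,0,2,0,1,0,1,0,1,0,1,1,1,1,0,2,0,2,0,2,2,0,2,2,2,0,2,2,0,2,0,1,1,0,2,0,2,0,1,1,0,2,2,0,1,1,1,1,0,1,0,1,1,1,0,2,0,1,1,0,2,0,1,1],
  [2,2,2,0,2,0,1,0,1,0,2,0,1,0,2,0,1,0,1,1,1,0,1,1,0,2,2,2,0,1,0,2,0,2,0,2,0,1,1,1,0,1,0,2,0,1,0,2,0,1,1,1,0,2,2,0,1,0,1,0,2,0],
  [2,0,2,0,2,0,1,0,1,0,1,0,1,1,1,1,0,2,0,2,0,2,2,0,2,2,2,2,2,0,2,2,2,0,2,2,2,2,0,2,2,2,0,1,0,1,1,1,0,1,0,1,0,2,2,0,2,2,0,2,2,2,0,1,1],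
  [1,1,0,1,1,0,1,1,1,0,2,0,2,0,1,0,2,0,2,2,0,1,1,0,1,0,2,2,2,0,2,0,2,2,0,2,0,2,0,1,1,0,2,2,0,1,0,2,0,1,1,1,0,2,2,0,1,1,1,1,1,0,1,1,1],
  [2,2,2,0,2,0,1,0,1,0,2,0,1,0,2,0,1,0,1,1,1,1,1,0,2,0,1,0,2,2,0,2,0,2,0,2,0,1,0,1,0,2,0,2,0,2,0,1,0,1,0,2,0,1,0,1,1,0,2,2,0,1,0,2,0],
  [2,0,2,0,2,0,1,0,1,0,1,0,1,1,1,1,0,2,0,2,0,2,2,0,2,2,2,0,2,2,0,2,0,1,1,0,2,0,2,0,1,1,0,2,2,0,1,0,2,0,2,2,0,1,0,1,0,1,1,0,2,2,0,1],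
  [2,2,2,0,2,0,1,0,1,0,2,0,1,0,2,0,1,0,1,1,1,1,1,0,1,0,1,1,1,0,1,0,2,0,2,0,1,0,1,0,1,1,1,1,0,1,0,1,1,0,1,1,1,1,0,1,0,1],
  [2,2,2,0,2,0,1,0,1,0,2,0,1,0,2,0,1,0,1,1,1,1,0,2,2,2,0,1,1,0,1,0,1,1,0,2,2,0,1,0,2,2,2,2,2,2,0,1,1,1,0,1,0,1,1,0,2,2,0,1,0,1,0,2,2],
  [2,2,2,0,2,0,1,0,1,0,2,0,1,0,2,0,1,0,1,1,1,1,1,0,1,1,0,2,0,2,0,2,0,1,0,2,2,0,1,0,2,2,2,2,0,2,2,0,2,0,2,2,0,2,0,2,2,0,1,1,1,0,1,0],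
  [2,0,1,0,2,2,0,2,2,0,2,2,0,2,0,1,0,2,0,2,2,0,1,0,1,0,1,1,0,1,1,0,1,0,2,0],
  [2,2,2,0,2,0,1,0,1,0,2,0,1,0,2,0,1,0,1,1,1,0,2,0,2,2,0,1,1,1,0,2,0,1,1,1,0,2,0,2,2,0,2,2,0,2,0,2,0,2,0,2,0,2,2,2,0,2,0,2,0,2,2,0,2],
  [2,0,2,0,2,0,1,0,1,0,1,0,1,1,1,1,0,2,0,2,0,2,2,0,2,0,1,0,2,2,2,0,1,1,0,1,0,1,1,0,2,2,0,1,0,2,2,2,0,2,0,1,0,2,2,0,1,0,2,2,0,1,1,0,2,0,2],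
  [1,1,0,1,1,0,1,1,1,0,2,0,2,0,1,0,2,0,2,2,0,1,1,0,1,1,1,0,1,0,1,1,1,0,1,0,2,0,2,0,1,0,1,0,1,1,1,0,1,0,2,0,1,0,1,1,0,1,1,0,1,1,1,0,1,0,2,0,2],
  [1,1,0,1,1,0,1,1,1,0,2,0,2,0,1,0,2,0,2,2,0,1,1,0,1,0,2,0,2,2,0,1,1,1,0,2,0,1,1,1,0,2,0,2,2,2,0,2,0,2,2,0,1,1,1],
  [1,1,0,1,1,0,1,1,1,0,2,0,2,0,1,0,2,0,2,2,0,1,1,0,1,0,2,2,2,0,1,1,0,1,0,1,1,0,1,0,2,0,2,0,2,0,1,1,1,0,2,0,2,2,0,1,0,1,1,0,2,0,2,2,0,1,1],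
  [2,0,2,0,2,0,1,0,1,0,1,0,1,1,1,1,0,2,0,2,0,2,2,0,2,0,1,1,0,2,0,1,0,2,2,0,2,0,2,0,2,0,1,0,1,0,2,0,2,0,2,2,0,2,0,1,0,1,0,2,0,1,1,0],
  [2,2,0,1,1,0,1,0,2,0,1,1,0,1,0,2,0,2,0,1,0,1,0,2,0,2,0,1,0,2,0,1,1,0,1,0,1,0,2,2],
  [1,1,0,1,1,0,1,1,1,0,2,0,2,0,1,0,2,0,2,2,0,1,1,0,1,0,2,2,2,0,1,1,0,1,0,1,1,0,1,0,2,0,2,0,2,0,2,0,1,0,2,2,2,0,2,0,1,1,0,1,0,1,0],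
  [2,2,2,0,2,0,1,0,1,0,2,0,1,0,2,0,1,0,1,1,1,1,1,0,2,0,1,0,2,2,0,2,0,2,0,2,0,1,0,1,0,2,2,0,1,0,2,2,2,2,0,2,0,1,0,2,2,0,1],
  [1,0,2,0,1,1,1,0,1,1,1,0,1,0,2,0,2,0,2,0,1,0,2,0,1,1],
  [1,1,0,1,1,0,1,1,1,0,2,0,2,0,1,0,2,0,2,2,0,1,1,0,1,1,0,2,0,2,0,1,1,1,0,2,0,2,0,2,2,0,2,2,0,2,0,2,0,2,0,1,0,1,0,1,0,1,1],
  [2,0,2,0,2,0,1,0,1,0,1,0,1,1,1,1,0,2,0,2,0,2,2,2,0,2,2,0,2,0,1,0,2,0,1,1,1,0,2,0,2,2,0,1,1,0,1,0,2,2,2,0,1,0,1,0,1,0,2,0],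
  [2,2,2,0,2,0,1,0,1,0,2,0,1,0,2,0,1,0,1,1,1,0,1,0,2,0,2,2,0,2,0,1,0,2,0,1,1,1,0,2,0,2,2,0,2,0,2,2,0,2,2,0,2,0,2,0,1,1,0,2,2,0],
  [1,1,0,1,1,0,1,1,1,0,2,0,2,0,1,0,2,0,2,2,0,1,1,0,1,0,1,0,2,2,0,2,2,0,2,2,0,2,2,0,1,1,1,1,0,2,0,1,1,1,1,0,2,2,0,2,2,0,1,1,1,0,1,1,0,1,1,0,1,1,0,2,2],
  [2,2,2,0,2,0,1,0,1,0,2,0,1,0,2,0,1,0,1,1,1,0,2,2,2,0,1,1,0,1,0,1,1,0,1,0,2,0,2,0,1,0,2,2,0,1,0,1,1,0,1,0,2,2,0,1,0,1,0,2],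
  [0,1,1,0,1,1,0,2,0,2,0,2,0,1,0,2,2,0,1,0,2,2,2,2,0,1,0,2,2,2,2,0,2,0,1,0,2,0,2,2,2,0,1,1,1,0,1],
  [2,0,2,0,2,0,1,0,1,0,1,0,1,1,1,1,0,2,0,2,0,2,2,2,0,2,0,2,0,1,0,2,0,1,0,1,1,1,0,2,0,1,1,1,1,0,2,0,1,0,1,1,0,1,0,2,2,0,2,0,2,2],
  [2,0,2,0,2,0,1,0,1,0,1,0,1,1,1,1,0,2,0,2,0,2,2,0,2,0,1,1,0,2,2,0,2,2,0,2,2,0,1,1,1,0,2,2,2,0,2,2,0]]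

/-- data -/
def tRow : List ℕ := [36, 1, 38, 12, 39, 14, 41, 43, 8, 45, 10, 32, 3, 34, 5, 17, 54, 15, 52, 30, 57, 28, 55, 61, 26, 59, 24, 50, 21, 48, 19, 40, 11, 42, 13, 35, 0, 37, 2, 4, 31, 6, 33, 7, 44, 9, 46, 58, 29, 56, 27, 53, 18, 51, 16, 22, 49, 20, 47, 25, 62, 23, 60, 48, 27, 44, 26, 41, 6, 53, 2, 49, 30, 45, 23, 40, 3, 52, 58, 9, 38, 21, 31, 16, 59, 12, 55, 8, 35, 20, 34, 17, 62, 13, 37, 22, 57, 10, 60, 11, 32, 15, 36, 19, 56, 7, 61, 14, 33, 18, 28, 43, 0, 47, 5, 54, 25, 42, 29, 46, 1, 50, 4, 51, 24, 39, 49, 57, 7, 13, 59, 51, 5, 42, 24, 16, 34, 36, 22, 30, 44, 38, 20, 28, 46, 40, 26, 18, 32, 11, 61, 53, 3, 1, 47, 55,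 9, 19, 37, 45, 27, 25, 39, 31, 17, 62, 12, 4, 54, 48, 2, 10, 56, 50, 0, 8, 58, 60, 14, 6, 52, 23, 41, 33, 15, 21, 35, 43, 29]

/-- data -/
def tTwist : List ℕ := [1, 1, 0, 0, 0, 0, 0, 0, 1, 0, 0, 1, 0, 0, 0, 0, 0, 0, 1, 0, 0, 0, 0, 0, 0, 1, 0, 1, 0, 0, 0, 1, 1, 0, 0, 1, 1, 0, 0, 0, 1, 0, 0, 0, 1, 0, 0, 0, 0, 0, 1, 0, 1, 0, 0, 0, 0, 0, 0, 1, 0, 0, 0, 0, 0, 0, 0, 0, 1, 0, 0, 0, 0, 0, 0, 0, 0, 0, 1, 0, 0, 0, 0, 0, 0, 0, 0, 0, 0, 0, 0, 0, 0, 0, 0, 0, 0, 0, 0, 0, 0, 0, 0, 0, 0, 0, 0, 0, 0, 0, 0, 0, 0, 0, 0, 0, 1, 0, 0, 0, 0, 1, 0, 0, 0, 0, 0, 0, 0, 0, 0, 0, 1, 0, 0, 0, 0, 0, 0, 0, 0, 0, 0, 0, 0, 0, 0, 0, 0, 0, 0, 1, 0, 0, 0, 0, 0,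 0, 0, 0, 0, 0, 0, 0, 0, 0, 0, 0, 0, 0, 0, 0, 0, 0, 0, 0, 1, 0, 0, 0, 0, 0, 0, 0, 1, 0, 0, 0, 0]

/-- data -/
def inS : List (List ℕ) := [[2,0,1,2,0,1,2,0,1,0,1,0,2,5,3,1,5,2,4,2,4,5,3,5,2],
  [1,4,3,2,1,5,1,0,5,1,4,2,4,1,4,5,0,4,2,1,3,1,5,2,3,2,5,1,5,1],
  [1,4,2,1,0,4,5,1,5,0,1,0,2,5,3,1,5,2,5,2,3,1,4,3,0,2]]

/-- data -/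
def fromS : List (List ℕ) := [[1,0,2,0,2,0,2,0,2,0,2,0,1,0,1,0,1,0,2,0,2,0,2,0,1,0,1,1,1,0,2,0,1,0,2,0,1,1,0,1,0,1,1,0,1,1,1,1,0,1,0,2,0,1,0,2,2,0,1,1,0,2,0,1,0,2,2,2,2,0,1,1,1,0,1],
  [1,0,2,0,2,0,2,0,2,0,2,0,1,0,1,0,1,0,2,0,2,0,2,0,1,1,1,1,0,1,1,0,2,2,2,0,2,0,2,0,1,1,1,1,0,1,1,0,1,0,2,0,2,2,0,1,1,0,1,1,1,1,1,0,1,1,0,2,2,0,1,0,2,2,0,2,2,0,1,0],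
  [0,2,2,0,2,0,2,2,0,2,0,1,1,0,1,0,2,2,0,2,2,0,2,0,2,0,2,2,2,0,1,1,0,2,2,0,2,2,0,2,2,2,2,0,1,1,1,0,1,0,1,0,2],
  [1,0,2,0,2,0,2,0,2,0,2,0,1,0,1,0,1,0,2,0,2,0,2,0,1,0,2,0,2,0,2,2,0,2,0,1,1,0,1,0,2,2,0,2,2,2,0,1,0,1,0,2,0,1,0,2,2,0,1,0,2,0,1,1,1,1,1,0,1,1,0,2,2,0,1,1,1,0,2,0],
  [1,0,2,0,2,0,2,0,2,0,2,0,1,0,1,0,1,0,2,0,2,0,2,0,1,0,2,0,2,0,2,2,0,2,0,1,1,0,1,0,2,2,0,2,2,2,0,1,0,1,0,2,0,1,0,2,0,2,2,2,0,2,2,2,2,0,1,1,1,0,1],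
  [0,2,2,0,2,0,2,2,0,2,0,1,1,0,1,0,2,2,0,2,2,2,2,0,1,1,0,2,2,0,2,2,2,2,0,1,1,0,1,0,1,1,0,1,1,1,0,1,0]]

/-- data -/
def xComm : List (List ℕ) := [[1,1,0,1,1,0,1,1,1,0,2,0,2,0,1,0,2,0,2,2,0,1,1,0,1,0,1,0,2,0,1,1,1,0,1,1,1,0,1,1,0,2,2,2,0,2,0,1,1,1,0,1,0,2,0,2,0,2],
  [1,0,2,0,1,1,1,0,1,1,1,0,1,1,0,2,0,2,0,1,0,1,1,1,0,2,0,1,0,2,0,2,0,2,0,2,0,1]]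

/-- data -/
def yComm : List (List ℕ) := [[1,1,0,1,1,0,1,1,1,0,2,0,2,0,1,0,2,0,2,2,0,1,1,0,1,1,0,2,2,2,0,1,1,0,1,0,1,1,0,2,2,0,1,0,2,2,0,2,0,2,0,2,0,2,0,1,0,1,0,2,2,2],
  [2,0,2,0,2,0,1,0,1,0,1,0,1,1,1,1,0,2,0,2,0,2,2,2,0,1,1,1,0,1,1,1,0,1,1,0,2,2,0,1,1,0,1,0,1,1,1,0,2,0,1,1,0,2,2,0,1,1]]

end Cfsg.Agent.Co3Rec.Data
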