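import Cfsg.Agent.DCoset.Emit

/-! Data of the certificates for the third Conway group (generated). -/

set_option autoImplicit false
set_option maxRecDepth 100000
set_option linter.all false

namespace Cfsg.Agent.Co3Rec.Data

open Cfsg.Agent.CosetCert

/-- data -/
def tKeys : List ℕ := [3552334903703293952, 1030308989409963520, 2675248760109674134, 4395764564704491008, 21502681312705614, 4705244910811360850, 3568544324199656960, 111579974664324608, 363776246133566976, 4381163059691663068, 4612495261325641289, 994280188083462210, 1913015136694316597, 4470883551971651072, 495225074376248832, 886200076537731072, 4077141704368579249, 4435043777216267264, 1499287209196976364, 561934629929545261, 1305380429081218048, 1552726576520577282, 2109941466938349056, 941127810665212060, 919935637348429581, 2512493023721246380, 4884581046766546596, 3143904608026132480, 1626943127763037696, 3540045432855321088, 4597861681462783488, 1642810775387254279, 543182813424791040, 2614977928643766784, 1444640170388259888, 3801039671728050787, 3444240524383729664, 3065936034123230720, 4004479171703877379, 2362211704375619072, 848546519588578304, 3264094429387725918, 2219254780932927227, 273717031698246656, 2867777636723863040, 1538969469969509992, 92647285849587735, 3046024847307845120, 1228480358535671533, 3161608329418255872, 2525517393927614016, 2201245096125220864,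 726820157968701607, 4308926859571501568, 2800543812773820532, 3696439381855317771, 2039115337882797216, 4633199967766589190, 1102366601012599415, 2185238970358159484, 4873357215456833058, 222235981168075505, 1807215135511031372, 1606779870549168128, 147603465537596928, 1900629620846767766, 1945806358289446400, 4164814356212661326, 3912611402329894482, 4685437031920446976, 2435437396211402240, 3588353586355777024, 2273478439384657628, 4324264898701346377, 4146799951967707202, 3786512602107489845, 1426450196577398272, 4800666317239619072, 1822948774984325120, 3987069697021567665, 1750898410859021312, 2634194314528880876, 4507087926003297837, 638847680071470080, 2921820836655874306, 2560301426294265344, 3030798054656370844, 3658124196869058317, 458851567319469740, 4758480237192031908, 3648307755992776704, 2851922208202436096, 3954376621524900352, 40218848930835968, 3678437825310633479, 3281371373293547008, 3173424277419223552, 4417015925039203376, 234188788063572579, 3083952559818389504, 4921419063263243776, 1068132208700305155, 830987813168098816, 4451426221308027904, 4056727941933997150, 4200838616258981627, 201659455866219520, 4489073526993333760, 692292756299066984, 3407296588088344599, 433937050990554624, 1120393983387250413, 1774499640452328960, 1462667894980095552, 2165216305649108992, 1933784856224159911, 3516293310635186688,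 2728486240883652724, 291718044815994635, 3840555161948390560, 2453457741799501574, 3372180797648820855, 3716462862072141948, 3900579709207981602, 1987647043022709489, 4185115707925081676]

/-- data -/
def genInT : List (List ℕ) := [[7,19,27,27,27,11,24,57,57,57,3,9,9,9,0,60,60,60],[11,45,57,3,3,3,10,17,49,1,1,1,3,15,27,10,10,10]]

end Cfsg.Agent.Co3Rec.Data
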